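import Mathlib
import Cfsg.Prelude.Def_GeometricClasses
import Cfsg.Agent.Aschbacher.Basic

/-!
# Maximality of geometric stabilisers: common vocabulary
-/

set_option autoImplicit false
set_option linter.unusedSectionVars false

namespace Cfsg.Agent.Forms.Max

open Matrix

/-- A criterion for being maximal inside `K`. -/
theorem isMaximalIn_of {G : Type*} [Group G] {K H : Subgroup G} (hle : H ≤ K) (hne : ¬ K ≤ H)
    (h : ∀ M : Subgroup G, H ≤ M → M ≤ K → ∀ g ∈ M, g ∉ H → K ≤ M) :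
    Cfsg.Geo.IsMaximalIn K H := by
  refine ⟨lt_of_le_not_ge hle hne, fun M hHM hMK => ?_⟩
  by_cases hg : ∃ g ∈ M, g ∉ H
  · obtain ⟨g, hgM, hgH⟩ := hg
    exact Or.inr (le_antisymm hMK (h M hHM hMK g hgM hgH))
  · push Not at hg
    exact Or.inl (le_antisymm hg hHM)

/-- Witnesses that a subgroup is not maximal. -/
theorem exists_between {G : Type*} [Group G] {P K T : Subgroup G} (hPK : P ≤ K)
    (hk : ∃ k ∈ K, k ∉ P) (hKT : K ≤ T) (hg : ∃ g ∈ T, g ∉ K) :
    ∃ K : Subgroup G, P < K ∧ K < T := by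
  obtain ⟨k, hk, hkP⟩ := hk
  obtain ⟨g, hg, hgK⟩ := hg
  exact ⟨K, lt_of_le_not_ge hPK fun h => hkP (h hk), lt_of_le_not_ge hKT fun h => hgK (h hg)⟩

variable {ι : Type} [Fintype ι] [DecidableEq ι] {F : Type*} [Field F]

theorem mulVec_mul_GL (g h : GL ι F) (x : ι → F) :
    ((g * h : GL ι F) : Matrix ι ι F) *ᵥ x = (g : Matrix ι ι F) *ᵥ ((h : Matrix ι ι F) *ᵥ x) := by
  rw [Units.val_mul, mulVec_mulVec]

theorem mulVec_inv_cancel (g : GL ι F) (x : ι → F) :
    (g : Matrix ι ι F) *ᵥ (((g⁻¹ : GL ι F) : Matrix ι ι F) *ᵥ x) = x := by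
  rw [← mulVec_mul_GL, mul_inv_cancel, Units.val_one, one_mulVec]

theorem inv_mulVec_cancel (g : GL ι F) (x : ι → F) :
    ((g⁻¹ : GL ι F) : Matrix ι ι F) *ᵥ ((g : Matrix ι ι F) *ᵥ x) = x := by
  rw [← mulVec_mul_GL, inv_mul_cancel, Units.val_one, one_mulVec]

theorem mulVec_inj (g : GL ι F) {x y : ι → F}
    (h : (g : Matrix ι ι F) *ᵥ x = (g : Matrix ι ι F) *ᵥ y) : x = y := by
  rw [← inv_mulVec_cancel g x, h, inv_mulVec_cancel]

theorem mulVec_ne_zero (g : GL ι F) {x : ι → F} (hx : x ≠ 0) : (g : Matrix ι ι F) *ᵥ x ≠ 0 :=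
  fun h => hx (mulVec_inj g (h.trans (mulVec_zero _).symm))

theorem gl_ext {g h : GL ι F}
    (H : ∀ x, (g : Matrix ι ι F) *ᵥ x = (h : Matrix ι ι F) *ᵥ x) : g = h :=
  Units.ext (Matrix.ext_iff_mulVec.2 H)

/-- the image of a subspace -/
abbrev img (g : GL ι F) (W : Submodule F (ι → F)) : Submodule F (ι → F) :=
  W.map (Matrix.toLin' (g : Matrix ι ι F))

theorem mem_img {g : GL ι F} {W : Submodule F (ι → F)} {v : ι → F} :
    v ∈ img g W ↔ ∃ w ∈ W, (g : Matrix ι ι F) *ᵥ w = v := by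
  simp [img, Submodule.mem_map, Matrix.toLin'_apply]

theorem mulVec_mem_img {g : GL ι F} {W : Submodule F (ι → F)} {w : ι → F} (hw : w ∈ W) :
    (g : Matrix ι ι F) *ᵥ w ∈ img g W :=
  mem_img.2 ⟨w, hw, rfl⟩

theorem finrank_img (g : GL ι F) (W : Submodule F (ι → F)) :
    Module.finrank F (img g W) = Module.finrank F W :=
  (Submodule.equivMapOfInjective _
    (fun x y h => mulVec_inj g (by simpa [Matrix.toLin'_apply] using h)) W).finrank_eq.symm

theorem stab_of_forall {W : Submodule F (ι → F)} {g : GL ι F}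
    (h : ∀ v ∈ W, (g : Matrix ι ι F) *ᵥ v ∈ W) : g ∈ Cfsg.Geo.subspaceStabilizer W :=
  Aschbacher.mem_subspaceStabilizer_of_forall h

theorem map_of_stab {W : Submodule F (ι → F)} {g : GL ι F}
    (h : g ∈ Cfsg.Geo.subspaceStabilizer W) {v : ι → F} (hv : v ∈ W) :
    (g : Matrix ι ι F) *ᵥ v ∈ W :=
  (h v).1 hv

theorem exists_moved {W : Submodule F (ι → F)} {g : GL ι F}
    (h : g ∉ Cfsg.Geo.subspaceStabilizer W) : ∃ w ∈ W, (g : Matrix ι ι F) *ᵥ w ∉ W := by
  by_contra hc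
  push Not at hc
  exact h (stab_of_forall hc)

theorem img_ne_of_not_stab {W : Submodule F (ι → F)} {g : GL ι F}
    (h : g ∉ Cfsg.Geo.subspaceStabilizer W) : ¬ img g W ≤ W := by
  obtain ⟨w, hw, hgw⟩ := exists_moved h
  exact fun hle => hgw (hle (mulVec_mem_img hw))

/-- a functional as a row vector -/
theorem exists_row (f : (ι → F) →ₗ[F] F) : ∃ φ : ι → F, ∀ x, φ ⬝ᵥ x = f x := by
  refine ⟨fun i => f (Pi.single i 1), fun x => ?_⟩
  conv_rhs => rw [pi_eq_sum_univ' x]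
  simp only [map_sum, map_smul, smul_eq_mul, dotProduct]
  exact Finset.sum_congr rfl fun i _ => mul_comm _ _

/-- a row vector killing a subspace and taking the value one at a given vector outside it -/
theorem exists_row_of_not_mem {S : Submodule F (ι → F)} {v : ι → F} (h : v ∉ S) :
    ∃ φ : ι → F, (∀ x ∈ S, φ ⬝ᵥ x = 0) ∧ φ ⬝ᵥ v = 1 := by
  obtain ⟨f, hfv, hf⟩ := Submodule.exists_dual_map_eq_bot_of_notMem h inferInstance
  obtain ⟨φ, hφ⟩ := exists_row ((f v)⁻¹ • f)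
  refine ⟨φ, fun x hx => ?_, by rw [hφ]; simp [hfv]⟩
  have h1 : f x ∈ S.map f := Submodule.mem_map_of_mem hx
  rw [hf, Submodule.mem_bot] at h1
  rw [hφ]; simp [h1]

end Cfsg.Agent.Forms.Max

namespace Cfsg.Agent.Forms.Max

open LinearMap (BilinForm)

variable {F V : Type*} [Field F] [AddCommGroup V] [Module F V] [FiniteDimensional F V]

/-- a subspace inside the union of two lies in one of them -/
theorem le_or_le_of_forall {S W U : Submodule F V} (h : ∀ v ∈ S, v ∈ W ∨ v ∈ U) : S ≤ W ∨ S ≤ U := by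
  by_contra hc
  rw [not_or, SetLike.not_le_iff_exists, SetLike.not_le_iff_exists] at hc
  obtain ⟨⟨x, hx, hxW⟩, y, hy, hyU⟩ := hc
  have hxU := (h x hx).resolve_left hxW
  have hyW := (h y hy).resolve_right hyU
  rcases h _ (S.add_mem hx hy) with h1 | h1
  · exact hxW ((W.add_mem_iff_left hyW).1 h1)
  · exact hyU ((U.add_mem_iff_right hxU).1 h1)

/-- two linear functionals that are not proportional take the same non-zero value somewhere -/
theorem exists_equal_value (φ ψ : V →ₗ[F] F) (hφ : φ ≠ 0) (h : ∀ c : F, ψ ≠ c • φ) :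
    ∃ a, φ a ≠ 0 ∧ ψ a = φ a := by
  obtain ⟨a₀, ha₀⟩ : ∃ a, φ a ≠ 0 := by
    by_contra hc
    push Not at hc
    exact hφ (LinearMap.ext fun x => hc x)
  obtain ⟨a₁, ha₁⟩ : ∃ a, ψ a ≠ ψ a₀ / φ a₀ * φ a := by
    by_contra hc
    push Not at hc
    exact h (ψ a₀ / φ a₀) (LinearMap.ext fun x => by simpa using hc x)
  set b := a₁ - (φ a₁ / φ a₀) • a₀ with hb
  have hbφ : φ b = 0 := by simp [hb, ha₀]
  have hbψ : ψ b ≠ 0 := by
    intro h0
    apply ha₁
    simp only [hb, map_sub, map_smul, smul_eq_mul, sub_eq_zero] at h0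
    rw [h0]; ring
  refine ⟨a₀ + ((φ a₀ - ψ a₀) / ψ b) • b, by simpa [hbφ] using ha₀, ?_⟩
  simp only [map_add, map_smul, smul_eq_mul, hbφ, mul_zero, add_zero, div_mul_cancel₀ _ hbψ]
  ring

theorem restrict_nondeg {B : BilinForm F V} (hr : B.IsRefl) {W : Submodule F V}
    (hW : ∀ w ∈ W, w ≠ 0 → ∃ x ∈ W, B w x ≠ 0) : (B.restrict W).Nondegenerate := by
  refine (LinearMap.IsRefl.nondegenerate_iff_separatingLeft (B := B.restrict W) (fun x y h => hr (x : V) y h)).2 ?_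
  intro x hx
  by_contra h0
  obtain ⟨y, hy, hxy⟩ := hW x x.2 fun h => h0 (Subtype.ext h)
  exact hxy (hx ⟨y, hy⟩)

theorem isCompl_perp {B : BilinForm F V} (hr : B.IsRefl) {W : Submodule F V}
    (hW : ∀ w ∈ W, w ≠ 0 → ∃ x ∈ W, B w x ≠ 0) : IsCompl W (B.orthogonal W) :=
  BilinForm.isCompl_orthogonal_of_restrict_nondegenerate hr (restrict_nondeg hr hW)

theorem perp_nondeg {B : BilinForm F V} (hn : B.Nondegenerate) (hr : B.IsRefl) {W : Submodule F V}
    (hW : ∀ w ∈ W, w ≠ 0 → ∃ x ∈ W, B w x ≠ 0) :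
    ∀ u ∈ B.orthogonal W, u ≠ 0 → ∃ x ∈ B.orthogonal W, B u x ≠ 0 := by
  intro u hu hu0
  by_contra hc
  push Not at hc
  refine hu0 (hn.1 u fun y => ?_)
  obtain ⟨a, ha, b, hb, rfl⟩ := Submodule.mem_sup.1
    ((isCompl_perp hr hW).sup_eq_top ▸ Submodule.mem_top : y ∈ W ⊔ B.orthogonal W)
  rw [map_add, hc b hb, hr a u (BilinForm.mem_orthogonal_iff.1 hu a ha), add_zero]

theorem not_mem_perp {B : BilinForm F V} (hn : B.Nondegenerate) (hr : B.IsRefl) {W : Submodule F V}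
    {u : V} (h : u ∉ W) : ∃ y ∈ B.orthogonal W, B u y ≠ 0 := by
  by_contra hc
  push Not at hc
  refine h ?_
  rw [← BilinForm.orthogonal_orthogonal hn hr W]
  exact BilinForm.mem_orthogonal_iff.2 fun y hy => hr u y (hc y hy)

/-- a non-zero vector of a non-degenerate space meets two given ones -/
theorem exists_common (B : BilinForm F V) (S : Submodule F V) {a a' : V}
    (h : ∃ x ∈ S, B a x ≠ 0) (h' : ∃ x ∈ S, B a' x ≠ 0) :
    ∃ x ∈ S, B a x ≠ 0 ∧ B a' x ≠ 0 := by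
  obtain ⟨x, hx, hax⟩ := h
  obtain ⟨y, hy, hay⟩ := h'
  by_cases h1 : B a' x = 0
  · by_cases h2 : B a y = 0
    · exact ⟨x + y, S.add_mem hx hy, by simp [h2, hax], by simp [h1, hay]⟩
    · exact ⟨y, hy, h2, hay⟩
  · exact ⟨x, hx, hax, h1⟩

end Cfsg.Agent.Forms.Max
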