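import Mathlib
import Cfsg.Agent.Lib.Forms.Max.Core
import Cfsg.Agent.Lib.Classical.OrthEichler
import Cfsg.Agent.Lib.Classical.OrthSimple
import Cfsg.Agent.Lib.Classical.QuadClass

/-!
# Quadratic spaces for the maximality theorems
-/

set_option autoImplicit false
set_option linter.unusedSectionVars false

namespace Cfsg.Agent.Forms.Max.Orth

open Matrix Cfsg.Agent.Forms.QuadStd Cfsg.Agent.Forms.Reflections Cfsg.Agent.Classical.Orth

variable {F : Type*} [Field F] {ι : Type} [Fintype ι] [DecidableEq ι]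
variable {Q : QuadraticForm F (ι → F)}

local notation "Vec" => (ι → F)
local notation "B" => QuadraticMap.polar Q
set_option quotPrecheck false in
local notation "Iso" => Cfsg.isometryGroup F ⇑Q

/-- the orthogonal complement -/
noncomputable abbrev perp (Q : QuadraticForm F (ι → F)) (W : Submodule F (ι → F)) :
    Submodule F (ι → F) :=
  (polB Q).orthogonal W

theorem mem_perp {W : Submodule F Vec} {x : Vec} : x ∈ perp Q W ↔ ∀ w ∈ W, B w x = 0 := mem_orth

theorem perp_comm {W : Submodule F Vec} {x : Vec} (h : x ∈ perp Q W) {w : Vec} (hw : w ∈ W) :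
    B x w = 0 := by rw [QuadraticMap.polar_comm]; exact mem_perp.1 h w hw

/-- the kernel of a polar functional -/
noncomputable abbrev ker (Q : QuadraticForm F (ι → F)) (u : ι → F) : Submodule F (ι → F) :=
  LinearMap.ker (polB Q u)

theorem mem_ker' {u x : Vec} : x ∈ ker Q u ↔ B u x = 0 := Iff.rfl

/-- a non-zero vector of a subspace is not a multiple of one outside it -/
theorem not_mem_span {S : Submodule F Vec} {u w : Vec} (hw : w ∈ S) (hw0 : w ≠ 0) (hu : u ∉ S) :
    w ∉ Submodule.span F {u} := fun h => by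
  obtain ⟨c, hc⟩ := Submodule.mem_span_singleton.1 h
  rcases eq_or_ne c 0 with rfl | hc0
  · exact hw0 (by rw [← hc, zero_smul])
  · refine hu ?_
    have := S.smul_mem c⁻¹ (hc ▸ hw)
    rwa [smul_smul, inv_mul_cancel₀ hc0, one_smul] at this

theorem map_zero' : Q (0 : Vec) = 0 := QuadraticMap.map_zero Q

theorem polar_of_sing {S : Submodule F Vec} (hS : ∀ x ∈ S, Q x = 0) {x y : Vec} (hx : x ∈ S)
    (hy : y ∈ S) : B x y = 0 := by
  simp [QuadraticMap.polar, hS x hx, hS y hy, hS _ (S.add_mem hx hy)]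

theorem exists_partner_in {S : Submodule F Vec} {e y : Vec} (he : e ∈ S) (hy : y ∈ S)
    (hQe : Q e = 0) (hey : B e y ≠ 0) : ∃ f ∈ S, Q f = 0 ∧ B e f = 1 := by
  obtain ⟨y', hy', h1⟩ : ∃ y' ∈ S, B e y' = 1 := ⟨(B e y)⁻¹ • y, S.smul_mem _ hy, by
    rw [QuadraticMap.polar_smul_right, smul_eq_mul, inv_mul_cancel₀ hey]⟩
  refine ⟨y' + (-Q y') • e, S.add_mem hy' (S.smul_mem _ he), ?_, ?_⟩
  · rw [map_add', Classical.Orth.map_smul', QuadraticMap.polar_smul_right, QuadraticMap.polar_comm _ y' e, h1, hQe]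
    simp
  · rw [QuadraticMap.polar_add_right, QuadraticMap.polar_smul_right, h1, polar_self_zero hQe]
    simp

/-- singular vectors span a space containing a hyperbolic pair -/
theorem sing_span {S T : Submodule F Vec} {e f : Vec} (hp : IsPair Q e f) (he : e ∈ S) (hf : f ∈ S)
    (hT : ∀ v ∈ S, Q v = 0 → v ∈ T) : S ≤ T := by
  intro x hx
  set γ := proj Q e f x with hγ
  have hγS : γ ∈ S := proj_mem he hf hx
  have hperp := proj_perp hp x
  have h1 : γ + (-Q γ) • e + f ∈ T := by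
    refine hT _ (S.add_mem (S.add_mem hγS (S.smul_mem _ he)) hf) ?_
    simp only [map_add', Classical.Orth.map_smul', QuadraticMap.polar_add_left, QuadraticMap.polar_smul_left,
      QuadraticMap.polar_smul_right, hp.hu, hp.hv, hp.huv, hγ, hperp.1, hperp.2, smul_eq_mul]
    ring
  have e1 : x = (γ + (-Q γ) • e + f) + (B x f + Q γ) • e + (B x e - 1) • f := by
    conv_lhs => rw [proj_add (Q := Q) e f x, ← hγ]
    module
  rw [e1]
  exact T.add_mem (T.add_mem h1 (T.smul_mem _ (hT e he hp.hu))) (T.smul_mem _ (hT f hf hp.hv))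

/-- a quadratic form given as a function, bundled -/
theorem exists_form {Qf : (ι → F) → F} (h : Cfsg.Geo.IsNondegenerateQuadraticForm Qf) :
    ∃ R : QuadraticForm F (ι → F), ⇑R = Qf ∧ (QuadraticMap.polarBilin R).Nondegenerate := by
  refine ⟨QuadraticMap.ofPolar Qf (fun c v => by rw [h.smul, smul_eq_mul, sq])
    h.polar_bilinear.add_left (fun c x y => by rw [h.polar_bilinear.smul_left, smul_eq_mul]),
    rfl, ⟨fun x hx => ?_, fun y hy => ?_⟩⟩
  · by_contra h0
    obtain ⟨y, hy⟩ := (h.nondegenerate x h0).2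
    exact hy (hx y)
  · by_contra h0
    obtain ⟨x, hx⟩ := (h.nondegenerate y h0).1
    exact hx (hy x)

variable (hQ : (QuadraticMap.polarBilin Q).Nondegenerate)
include hQ

theorem nd : (polB Q).Nondegenerate := hQ

theorem finrank_inf_ker (S : Submodule F Vec) (u : Vec) :
    Module.finrank F S ≤ Module.finrank F ↥(S ⊓ ker Q u) + 1 :=
  finrank_inf_ker_ge hQ S u

theorem finrank_perp (W : Submodule F Vec) :
    Module.finrank F ↥(perp Q W) + Module.finrank F W = Fintype.card ι := by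
  have h := LinearMap.BilinForm.finrank_orthogonal (nd hQ) W
  rw [Module.finrank_fintype_fun_eq_card] at h
  have h2 := (Submodule.finrank_le W).trans (le_of_eq (Module.finrank_fintype_fun_eq_card F))
  have e : Module.finrank F ↥(perp Q W) = Fintype.card ι - Module.finrank F W := h
  omega

theorem perp_perp (W : Submodule F Vec) : perp Q (perp Q W) = W :=
  LinearMap.BilinForm.orthogonal_orthogonal (nd hQ) polB_refl W

theorem not_mem_perp {W : Submodule F Vec} {u : Vec} (h : u ∉ W) : ∃ y ∈ perp Q W, B u y ≠ 0 :=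
  Max.not_mem_perp (nd hQ) polB_refl h

theorem exists_perp_ne {u z : Vec} (h : z ∉ Submodule.span F {u}) :
    ∃ w, B u w = 0 ∧ B z w ≠ 0 := by
  obtain ⟨y, hy, hzy⟩ := not_mem_perp hQ h
  exact ⟨y, mem_perp.1 hy u (Submodule.mem_span_singleton_self u), hzy⟩

theorem exists_ne {u : Vec} (hu : u ≠ 0) : ∃ w, B u w ≠ 0 := by
  by_contra hc
  push Not at hc
  exact hu (hQ.1 u hc)

theorem finrank_sing_le {T : Submodule F Vec} (hT : ∀ x ∈ T, Q x = 0) :
    2 * Module.finrank F T ≤ Fintype.card ι := by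
  have h1 := Submodule.finrank_mono (show T ≤ perp Q T from
    fun x hx => mem_perp.2 fun w hw => polar_of_sing hT hw hx)
  have h2 := finrank_perp hQ T
  omega

variable [Fintype F]

theorem exists_sing {S : Submodule F Vec} (h : 3 ≤ Module.finrank F S) :
    ∃ x ∈ S, x ≠ 0 ∧ Q x = 0 := by
  by_cases hnd : ∀ r ∈ S, r ≠ 0 → ∃ s ∈ S, B r s ≠ 0
  · let Q' : QuadraticForm F S := Q.comp S.subtype
    have hQ' : (QuadraticMap.polarBilin Q').Nondegenerate := by
      have hr := @restrict_nondeg _ _ _ _ _ _ (polB Q) polB_refl _ hnd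
      have e : QuadraticMap.polarBilin Q' = (polB Q).restrict S := by
        refine LinearMap.ext fun x => LinearMap.ext fun y => ?_
        simp [Q', polB_apply, QuadraticMap.polar, LinearMap.domRestrict₁₂_apply]
      rw [e]; exact hr
    obtain ⟨⟨x, hx⟩, hx0, hQx⟩ := Classical.QuadClass.exists_singular Q' hQ' h
    exact ⟨x, hx, fun e => hx0 (Subtype.ext e), hQx⟩
  · push Not at hnd
    obtain ⟨r, hr, hr0, hrS⟩ := hnd
    by_cases hQr : Q r = 0
    · exact ⟨r, hr, hr0, hQr⟩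
    have h2 : (2 : F) = 0 := by
      have := hrS r hr
      rw [polar_self'] at this
      exact (mul_eq_zero.1 this).resolve_right hQr
    have : CharP F 2 := CharTwo.of_one_ne_zero_of_two_eq_zero one_ne_zero h2
    obtain ⟨x, hx, hxr⟩ : ∃ x ∈ S, x ∉ Submodule.span F {r} := SetLike.not_le_iff_exists.1 fun hle => by
      have := (Submodule.finrank_mono hle).trans (finrank_span_le_card _)
      simp at this
      omega
    obtain ⟨t, ht⟩ := (FiniteField.isSquare_of_char_two (ringChar.eq F 2) (Q x / Q r) :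
      IsSquare (Q x / Q r))
    refine ⟨x + t • r, S.add_mem hx (S.smul_mem _ hr), fun h0 => hxr ?_, ?_⟩
    · rw [eq_neg_of_add_eq_zero_left h0]
      exact neg_mem (Submodule.smul_mem _ _ (Submodule.mem_span_singleton_self r))
    · rw [map_add', Classical.Orth.map_smul', QuadraticMap.polar_smul_right, QuadraticMap.polar_comm _ x r,
        hrS x hx, smul_zero, add_zero, ← ht, div_mul_cancel₀ _ hQr]
      linear_combination (Q x) * h2

theorem exists_two_sing {S : Submodule F Vec} (h : 4 ≤ Module.finrank F S) :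
    ∃ x ∈ S, ∃ y ∈ S, x ≠ 0 ∧ Q x = 0 ∧ Q y = 0 ∧ y ∉ Submodule.span F {x} := by
  obtain ⟨x, hx, hx0, hQx⟩ := exists_sing hQ (S := S) (by omega)
  obtain ⟨φ, -, hφ⟩ := exists_row_of_not_mem (S := (⊥ : Submodule F Vec)) (v := x) (by simpa using hx0)
  obtain ⟨φl, hφl⟩ : ∃ l : Vec →ₗ[F] F, ∀ v, l v = φ ⬝ᵥ v :=
    ⟨{ toFun := fun v => φ ⬝ᵥ v, map_add' := dotProduct_add φ,
       map_smul' := fun c v => dotProduct_smul c φ v }, fun v => rfl⟩
  have h3 : 3 ≤ Module.finrank F ↥(S ⊓ LinearMap.ker φl) := by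
    have h1 := Submodule.finrank_sup_add_finrank_inf_eq S (LinearMap.ker φl)
    have h2 := LinearMap.finrank_range_add_finrank_ker φl
    have h4 := Submodule.finrank_le (LinearMap.range φl)
    rw [Module.finrank_self] at h4
    have h5 := Submodule.finrank_le (S ⊔ LinearMap.ker φl)
    omega
  obtain ⟨y, hy, hy0, hQy⟩ := exists_sing hQ h3
  refine ⟨x, hx, y, hy.1, hx0, hQx, hQy, fun hy' => hy0 ?_⟩
  obtain ⟨c, rfl⟩ := Submodule.mem_span_singleton.1 hy'
  have := LinearMap.mem_ker.1 hy.2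
  rw [hφl, dotProduct_smul, hφ, smul_eq_mul, mul_one] at this
  rw [this, zero_smul]

theorem exists_pair {S : Submodule F Vec} (hS : ∀ r ∈ S, r ≠ 0 → ∃ s ∈ S, B r s ≠ 0)
    (h : 3 ≤ Module.finrank F S) : ∃ e f, e ∈ S ∧ f ∈ S ∧ IsPair Q e f := by
  obtain ⟨e, he, he0, hQe⟩ := exists_sing hQ h
  obtain ⟨y, hy, hey⟩ := hS e he he0
  obtain ⟨f, hf, hQf, hef⟩ := exists_partner_in he hy hQe hey
  exact ⟨e, f, he, hf, hQe, hQf, hef⟩

theorem sing_span' {S T : Submodule F Vec} (hS : ∀ r ∈ S, r ≠ 0 → ∃ s ∈ S, B r s ≠ 0)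
    (h : 3 ≤ Module.finrank F S) (hT : ∀ v ∈ S, Q v = 0 → v ∈ T) : S ≤ T := by
  obtain ⟨e, f, he, hf, hp⟩ := exists_pair hQ hS h
  exact sing_span hp he hf hT

theorem exists_frame (hn : 5 ≤ Fintype.card ι) : Nonempty (Frame Q) := by
  have htop : ∀ r ∈ (⊤ : Submodule F Vec), r ≠ 0 → ∃ s ∈ (⊤ : Submodule F Vec), B r s ≠ 0 :=
    fun r _ hr => let ⟨s, hs⟩ := exists_ne hQ hr; ⟨s, trivial, hs⟩
  obtain ⟨u, v, -, -, hp⟩ := exists_pair hQ htop
    (by rw [finrank_top, Module.finrank_fintype_fun_eq_card]; omega)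
  set S := ker Q u ⊓ ker Q v with hS
  have hd : Fintype.card ι ≤ Module.finrank F S + 2 := by
    have h1 := finrank_inf_ker hQ ⊤ u
    rw [top_inf_eq, finrank_top, Module.finrank_fintype_fun_eq_card] at h1
    have h2 := finrank_inf_ker hQ (ker Q u) v
    rw [← hS] at h2
    omega
  have hSn : ∀ r ∈ S, r ≠ 0 → ∃ s ∈ S, B r s ≠ 0 := by
    intro r hr hr0
    obtain ⟨s, hs⟩ := exists_ne hQ hr0
    refine ⟨proj Q u v s, ⟨?_, ?_⟩, ?_⟩
    · rw [SetLike.mem_coe, mem_ker', QuadraticMap.polar_comm]; exact (proj_perp hp s).1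
    · rw [SetLike.mem_coe, mem_ker', QuadraticMap.polar_comm]; exact (proj_perp hp s).2
    · simp only [proj, QuadraticMap.polar_sub_right, QuadraticMap.polar_smul_right,
        QuadraticMap.polar_comm _ r u, QuadraticMap.polar_comm _ r v, mem_ker'.1 hr.1,
        mem_ker'.1 hr.2, smul_zero, sub_zero]
      exact hs
  obtain ⟨u', v', hu', hv', hp'⟩ := exists_pair hQ hSn (by omega)
  obtain ⟨x₀, hx₀, hx⟩ : ∃ x ∈ S ⊓ ker Q u' ⊓ ker Q v', Q x ≠ 0 := by
    by_contra hc
    push Not at hc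
    have h2 := finrank_inf_ker hQ S u'
    have h3 := finrank_inf_ker hQ (S ⊓ ker Q u') v'
    have h4 : (S ⊓ ker Q u' ⊓ ker Q v') ≠ ⊥ := fun h => by rw [h, finrank_bot] at h3; omega
    obtain ⟨r, hr, hr0⟩ := Submodule.exists_mem_ne_zero_of_ne_bot h4
    obtain ⟨s, hs⟩ := exists_ne hQ hr0
    refine hs ?_
    set s₁ := proj Q u v s with hs₁
    set s₂ := proj Q u' v' s₁ with hs₂
    have a1 : s₁ ∈ S := ⟨by rw [SetLike.mem_coe, mem_ker', QuadraticMap.polar_comm]; exact (proj_perp hp s).1,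
      by rw [SetLike.mem_coe, mem_ker', QuadraticMap.polar_comm]; exact (proj_perp hp s).2⟩
    have a2 : s₂ ∈ S ⊓ ker Q u' ⊓ ker Q v' := by
      refine ⟨⟨?_, ?_⟩, ?_⟩
      · simp only [hs₂, proj]
        exact S.sub_mem (S.sub_mem a1 (S.smul_mem _ hu')) (S.smul_mem _ hv')
      · rw [SetLike.mem_coe, mem_ker', QuadraticMap.polar_comm]; exact (proj_perp hp' s₁).1
      · rw [SetLike.mem_coe, mem_ker', QuadraticMap.polar_comm]; exact (proj_perp hp' s₁).2
    have e0 := polar_of_sing hc hr a2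
    rw [hs₂, hs₁] at e0
    simpa only [proj, QuadraticMap.polar_sub_right, QuadraticMap.polar_smul_right,
      QuadraticMap.polar_comm _ r u, QuadraticMap.polar_comm _ r v, QuadraticMap.polar_comm _ r u',
      QuadraticMap.polar_comm _ r v', mem_ker'.1 hr.1.1.1, mem_ker'.1 hr.1.1.2,
      mem_ker'.1 hr.1.2, mem_ker'.1 hr.2, smul_zero, sub_zero] using e0
  exact ⟨⟨u, v, u', v', x₀, hp, hp', hu'.1, hv'.1, hu'.2, hv'.2, hx₀.1.1.1, hx₀.1.1.2, hx₀.1.2,
    hx₀.2, hx⟩⟩

theorem eich_omega (hn : 5 ≤ Fintype.card ι) {u w : Vec} (hu : Q u = 0) (huw : B u w = 0) :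
    eich u w hu huw ∈ Cfsg.Omega F ⇑Q := by
  obtain ⟨f⟩ := exists_frame hQ hn
  rw [omega_eq_eGroup hQ f (by omega)]
  exact eich_mem _ _ trivial trivial

/-- the centres of root subgroups in a subgroup -/
def centres (M : Subgroup (Cfsg.isometryGroup F ⇑Q)) : Set (ι → F) :=
  {u | Q u = 0 ∧ ∀ (w : ι → F) (hu : Q u = 0) (huw : QuadraticMap.polar Q u w = 0),
    eich u w hu huw ∈ M}

omit hQ in
theorem centres_map {M : Subgroup Iso} {g : Iso} (hg : g ∈ M) {u : Vec} (hu : u ∈ centres M) :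
    act g u ∈ centres M := by
  refine ⟨by rw [act_map]; exact hu.1, fun w h h' => ?_⟩
  have hw : B u (act g⁻¹ w) = 0 := by
    rw [← act_polar g, act_cancel_inv]; exact h'
  have e := eich_conj g hu.1 hw
  simp only [act_cancel_inv] at e
  exact e ▸ mul_mem (mul_mem hg (hu.2 _ hu.1 hw)) (inv_mem hg)

omit hQ in
theorem centres_smul {M : Subgroup Iso} {u : Vec} (t : F) (hu : u ∈ centres M) :
    t • u ∈ centres M := by
  refine ⟨by rw [Classical.Orth.map_smul', hu.1, mul_zero], fun w h h' => ?_⟩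
  have hw : B u (t • w) = 0 := by
    rw [QuadraticMap.polar_smul_right]
    rwa [QuadraticMap.polar_smul_left] at h'
  exact eich_smul t h h' hu.1 hw ▸ hu.2 _ hu.1 hw

theorem omega_le_of_centres (hn : 5 ≤ Fintype.card ι) {M : Subgroup Iso}
    (h : ∀ u, u ≠ 0 → Q u = 0 → u ∈ centres M) : Cfsg.Omega F ⇑Q ≤ M := by
  obtain ⟨f⟩ := exists_frame hQ hn
  rw [omega_eq_eGroup hQ f (by omega)]
  refine (Subgroup.closure_le _).2 ?_
  rintro _ ⟨u, w, hu, huw, -, -, rfl⟩
  rcases eq_or_ne u 0 with rfl | h0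
  · rw [eich_zero_left]; exact one_mem M
  · exact (h u h0 hu).2 w hu huw

omit hQ in
/-- one Eichler transformation moves `u` to `v` around a singular vector pairing to one with both -/
theorem exists_eich_move {a u v : Vec} (ha : Q a = 0) (huv : Q u = Q v) (hua : B u a = 1)
    (hva : B v a = 1) : ∃ h : B a (v - u) = 0, act (eich a (v - u) ha h) u = v := by
  have h : B a (v - u) = 0 := by
    rw [QuadraticMap.polar_sub_right, QuadraticMap.polar_comm _ a v, QuadraticMap.polar_comm _ a u,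
      hua, hva, sub_self]
  refine ⟨h, ?_⟩
  have hd : Q (v - u) + B u (v - u) = 0 := by
    have := map_add' (Q := Q) u (v - u)
    rw [add_sub_cancel] at this
    linear_combination -this - huv
  rw [act_eich, hua, mul_one, one_smul]
  calc u + (v - u) - B u (v - u) • a - Q (v - u) • a
      = v - (Q (v - u) + B u (v - u)) • a := by module
    _ = v := by rw [hd, zero_smul, sub_zero]

omit hQ in
/-- transfer to the linear group -/
theorem isMaximalIn_omega (W : Submodule F Vec)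
    (hne : ∃ g ∈ Cfsg.Omega F ⇑Q, ∃ w ∈ W, act g w ∉ W)
    (h : ∀ M : Subgroup Iso, (∀ g ∈ Cfsg.Omega F ⇑Q, (∀ w ∈ W, act g w ∈ W) → g ∈ M) →
      M ≤ Cfsg.Omega F ⇑Q → ∀ g ∈ M, (∃ w ∈ W, act g w ∉ W) → Cfsg.Omega F ⇑Q ≤ M) :
    Cfsg.Geo.IsMaximalIn (Cfsg.Geo.omegaGL ⇑Q)
      (Cfsg.Geo.subspaceStabilizer W ⊓ Cfsg.Geo.omegaGL ⇑Q) := by
  refine Max.isMaximalIn_of inf_le_right (fun hle => ?_) fun M hM hMK g hgM hg => ?_
  · obtain ⟨g, hg, w, hw, hgw⟩ := hne
    refine hgw ?_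
    rw [act_apply]
    exact map_of_stab (hle (Subgroup.mem_map_of_mem _ hg)).1 hw
  · obtain ⟨g', hg', rfl⟩ := Subgroup.mem_map.1 (hMK hgM)
    obtain ⟨w, hw, hgw⟩ := exists_moved fun hs => hg ⟨hs, hMK hgM⟩
    have hle := h (M.comap (Cfsg.isometryGroup F ⇑Q).subtype ⊓ Cfsg.Omega F ⇑Q)
      (fun k hk hkW => ⟨hM ⟨stab_of_forall fun x hx => by
        have := hkW x hx
        rwa [act_apply] at this, Subgroup.mem_map_of_mem _ hk⟩, hk⟩)
      inf_le_right g' ⟨hgM, hg'⟩ ⟨w, hw, by rw [act_apply]; exact hgw⟩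
    intro x hx
    obtain ⟨x', hx', rfl⟩ := Subgroup.mem_map.1 hx
    exact (hle hx').1

end Cfsg.Agent.Forms.Max.Orth
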