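import Mathlib
import Cfsg.Agent.Lib.Forms.Max.OrthBase

/-!
# Orthogonal decompositions over very small fields: their stabilisers are not maximal
-/

set_option autoImplicit false
set_option linter.unusedSectionVars false

namespace Cfsg.Agent.Forms.Max.Orth

open Matrix Cfsg.Agent.Forms.QuadStd Cfsg.Agent.Forms.Reflections Cfsg.Agent.Classical.Orth

variable {F : Type*} [Field F] [Fintype F] {ι : Type} [Fintype ι] [DecidableEq ι]
variable {Q : QuadraticForm F (ι → F)}

local notation "Vec" => (ι → F)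
local notation "B" => QuadraticMap.polar Q
set_option quotPrecheck false in
local notation "Iso" => Cfsg.isometryGroup F ⇑Q

/-- a forward-invariant set is stabilised -/
theorem mem_setStab {S : Set Vec} {g : GL ι F}
    (h : ∀ v ∈ S, (g : Matrix ι ι F) *ᵥ v ∈ S) :
    g ∈ Cfsg.stabilizing (Cfsg.glToMat ι F) S := by
  have hb := ((Set.toFinite S).injOn_iff_bijOn_of_mapsTo h).1
    (fun a _ b _ e => Max.mulVec_inj g e)
  refine fun v => ⟨fun hv => h v hv, fun hv => ?_⟩
  obtain ⟨w, hw, e⟩ := hb.surjOn hv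
  exact Max.mulVec_inj g e ▸ hw

variable {t k : ℕ} {D : Fin t → Submodule F (ι → F)}
  (hD : Cfsg.Geo.IsNondegenerateMDecomposition (QuadraticMap.polar ⇑Q) k D)
include hD

theorem card_le_mul : Fintype.card ι ≤ t * k := by
  have h := Module.finrank_eq_card_basis
    ((DirectSum.isInternal_submodule_of_iSupIndep_of_iSup_eq_top hD.decomp.indep
      hD.decomp.iSup_eq_top).collectedBasis fun i =>
        Module.finBasisOfFinrankEq F (D i) (hD.decomp.finrank_eq i))
  rw [Module.finrank_fintype_fun_eq_card, Fintype.card_sigma] at h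
  simp at h
  omega

theorem orth_ne {i j : Fin t} (hij : i ≠ j) {x y : Vec} (hx : x ∈ D i) (hy : y ∈ D j) : B x y = 0 :=
  hD.orthogonal i j hij x hx y hy

theorem index_of_pair {i j : Fin t} {x y : Vec} (hx : x ∈ D i) (hy : y ∈ D j) (h : B x y ≠ 0) :
    i = j :=
  by_contra fun hij => h (orth_ne hD hij hx hy)

theorem index_of_mem {i j : Fin t} {x : Vec} (hx : x ∈ D i) (hy : x ∈ D j) (h0 : x ≠ 0) : i = j := by
  by_contra hij
  have : x ∈ D i ⊓ D j := ⟨hx, hy⟩
  rw [disjoint_iff.1 (hD.decomp.indep.pairwiseDisjoint hij), Submodule.mem_bot] at this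
  exact h0 this

theorem nd_on {i : Fin t} {x : Vec} (hx : x ∈ D i) (h0 : x ≠ 0) : ∃ y ∈ D i, B x y ≠ 0 :=
  (hD.nondegenerate i x hx h0).2

/-- the decomposition's stabiliser stabilises the vectors of a given value in the components -/
theorem level_pres (c : F) {x : GL ι F}
    (hx : x ∈ Cfsg.Geo.decompositionStabilizer D ⊓ Cfsg.Geo.omegaGL ⇑Q) {v : Vec}
    (hv : (∃ i, v ∈ D i) ∧ Q v = c) :
    (∃ i, (x : Matrix ι ι F) *ᵥ v ∈ D i) ∧ Q ((x : Matrix ι ι F) *ᵥ v) = c := by
  obtain ⟨⟨σ, hσ⟩, hx'⟩ := hx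
  obtain ⟨g, -, rfl⟩ := Subgroup.mem_map.1 hx'
  obtain ⟨⟨i, hi⟩, hQ⟩ := hv
  refine ⟨⟨σ i, (hσ i).le ⟨v, hi, ?_⟩⟩, ?_⟩
  · rw [Matrix.toLin'_apply]
  · rw [Subgroup.coe_subtype, ← act_apply, act_map, hQ]

variable (hQ : (QuadraticMap.polarBilin Q).Nondegenerate) (hn : 9 ≤ Fintype.card ι)
include hQ hn

/-- odd characteristic: every component has a frame vector -/
theorem frame_between (h2 : (2 : F) ≠ 0) (hk : 2 ≤ k) (ht : 5 ≤ t) {c : F} (hc : c ≠ 0)
    (hframe : ∀ i, ∃ e ∈ D i, Q e = c ∧ ∀ v ∈ D i, Q v = c → v = e ∨ v = -e ∨ B e v = 0) :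
    ∃ K : Subgroup (GL ι F),
      Cfsg.Geo.decompositionStabilizer D ⊓ Cfsg.Geo.omegaGL ⇑Q < K ∧ K < Cfsg.Geo.omegaGL ⇑Q := by
  choose e he hQe hfr using hframe
  obtain ⟨f⟩ := exists_frame hQ (by omega)
  have hΩ := omega_eq_eGroup hQ f (by omega)
  have hprod : ∀ v w : Vec, Q v ≠ 0 → Q w = Q v →
      reflect Q v * reflect Q w ∈ Cfsg.Omega F ⇑Q := by
    intro v w hv hw
    have h := (QuotientGroup.eq).1 (reflect_mk_eq hQ f (z := v) (z' := w) hv hw)
    rw [inv_eq_of_mul_eq_one_right (reflect_sq v)] at h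
    rwa [hΩ]
  set S : Set Vec := {v | (∃ i, v ∈ D i) ∧ Q v = c} with hS
  have he0 : ∀ i, e i ≠ 0 := fun i h => hc (by rw [← hQe i, h, map_zero'])
  have hee : ∀ i j, i ≠ j → B (e i) (e j) = 0 := fun i j h => orth_ne hD h (he i) (he j)
  have hQd : ∀ i j, i ≠ j → Q (e i - e j) = 2 * c := fun i j h => by
    rw [Classical.Orth.map_sub', hQe, hQe, hee i j h]; ring
  have hswap : ∀ i j, i ≠ j → act (reflect Q (e i - e j)) (e i) = e j := fun i j h => by
    have e1 : B (e i - e j) (e i) = 2 * c := by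
      rw [QuadraticMap.polar_sub_left, polar_self', hQe, hee j i h.symm, sub_zero]
    rw [act_reflect, e1, hQd i j h, inv_mul_cancel₀ (mul_ne_zero h2 hc), one_smul, sub_sub_cancel]
  have hfix : ∀ i j x, B (e i) x = 0 → B (e j) x = 0 →
      act (reflect Q (e i - e j)) x = x := fun i j x h h' => by
    rw [act_reflect, QuadraticMap.polar_sub_left, h, h']
    simp
  have hswap' : ∀ i j, i ≠ j → act (reflect Q (e i - e j)) (e j) = e i := fun i j h => by
    have e1 := congrArg (act (reflect Q (e i - e j))) (hswap i j h)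
    rw [← act_mul, reflect_sq, act_one] at e1
    exact e1.symm
  have hpres : ∀ i j, i ≠ j → ∀ v ∈ S, act (reflect Q (e i - e j)) v ∈ S := by
    rintro i j hij v ⟨⟨l, hl⟩, hQv⟩
    refine ⟨?_, by rw [act_map, hQv]⟩
    by_cases hli : l = i
    · subst hli
      rcases hfr l v hl hQv with rfl | rfl | h
      · exact ⟨j, by rw [hswap l j hij]; exact he j⟩
      · exact ⟨j, by rw [map_neg, hswap l j hij]; exact (D j).neg_mem (he j)⟩
      · exact ⟨l, by rw [hfix l j v h (orth_ne hD hij.symm (he j) hl)]; exact hl⟩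
    by_cases hlj : l = j
    · subst hlj
      rcases hfr l v hl hQv with rfl | rfl | h
      · exact ⟨i, by rw [hswap' i l hij]; exact he i⟩
      · exact ⟨i, by rw [map_neg, hswap' i l hij]; exact (D i).neg_mem (he i)⟩
      · exact ⟨l, by rw [hfix i l v (orth_ne hD hij (he i) hl) h]; exact hl⟩
    · exact ⟨l, by rw [hfix i j v (orth_ne hD (Ne.symm hli) (he i) hl)
        (orth_ne hD (Ne.symm hlj) (he j) hl)]; exact hl⟩
  set i0 : Fin t := ⟨0, by omega⟩
  set i1 : Fin t := ⟨1, by omega⟩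
  set i2 : Fin t := ⟨2, by omega⟩
  set i3 : Fin t := ⟨3, by omega⟩
  set i4 : Fin t := ⟨4, by omega⟩
  have h01 : i0 ≠ i1 := by simp [i0, i1]
  have h23 : i2 ≠ i3 := by simp [i2, i3]
  refine Max.exists_between
    (K := Cfsg.stabilizing (Cfsg.glToMat ι F) S ⊓ Cfsg.Geo.omegaGL ⇑Q) ?_ ?_ inf_le_right ?_
  · exact fun x hx => ⟨mem_setStab fun v hv => level_pres hD c hx hv, hx.2⟩
  · have hm := hprod (e i0 - e i1) (e i2 - e i3)
      (by rw [hQd _ _ h01]; exact mul_ne_zero h2 hc) (by rw [hQd _ _ h01, hQd _ _ h23])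
    refine ⟨_, ⟨mem_setStab fun v hv => ?_, Subgroup.mem_map_of_mem _ hm⟩, fun h => ?_⟩
    · rw [Subgroup.coe_subtype, ← act_apply, act_mul]
      exact hpres _ _ h01 _ (hpres _ _ h23 v hv)
    · obtain ⟨σ, hσ⟩ := h.1
      obtain ⟨y, ⟨hy, hye⟩, hy0⟩ : ∃ y ∈ D i0 ⊓ ker Q (e i0), y ≠ 0 := by
        refine Submodule.exists_mem_ne_zero_of_ne_bot fun h => ?_
        have d := finrank_inf_ker hQ (D i0) (e i0)
        rw [h, finrank_bot, hD.decomp.finrank_eq] at d
        omega
      have h21 : act (reflect Q (e i2 - e i3)) (e i0) = e i0 :=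
        hfix _ _ _ (hee i2 i0 (by simp [i0, i2])) (hee i3 i0 (by simp [i0, i3]))
      have h22 : act (reflect Q (e i2 - e i3)) y = y :=
        hfix _ _ _ (orth_ne hD (by simp [i0, i2]) (he i2) hy)
          (orth_ne hD (by simp [i0, i3]) (he i3) hy)
      have h11 : act (reflect Q (e i0 - e i1)) y = y :=
        hfix _ _ _ hye (orth_ne hD h01.symm (he i1) hy)
      have m1 : e i1 ∈ D (σ i0) := (hσ i0).le ⟨e i0, he i0, by
        rw [Matrix.toLin'_apply, Subgroup.coe_subtype, ← act_apply, act_mul, h21, hswap _ _ h01]⟩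
      have m2 : y ∈ D (σ i0) := (hσ i0).le ⟨y, hy, by
        rw [Matrix.toLin'_apply, Subgroup.coe_subtype, ← act_apply, act_mul, h22, h11]⟩
      exact h01 ((index_of_mem hD hy m2 hy0).trans (index_of_mem hD (he i1) m1 (he0 i1)).symm)
  · set v := e i0 + e i1 + e i2 + e i3 with hv
    have hQv : Q v = 4 * c := by
      simp only [hv, map_add', QuadraticMap.polar_add_left, hQe,
        hee i0 i1 h01, hee i0 i2 (by simp [i0, i2]), hee i0 i3 (by simp [i0, i3]),
        hee i1 i2 (by simp [i1, i2]), hee i1 i3 (by simp [i1, i3]), hee i2 i3 h23]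
      ring
    have h4 : (4 : F) ≠ 0 := by
      rw [show (4 : F) = 2 * 2 by norm_num]; exact mul_ne_zero h2 h2
    have hQv0 : Q v ≠ 0 := by rw [hQv]; exact mul_ne_zero h4 hc
    have hm := hprod v ((2 : F) • e i4) hQv0 (by
      rw [Classical.Orth.map_smul', hQe, hQv]; ring)
    refine ⟨_, Subgroup.mem_map_of_mem _ hm, fun h => ?_⟩
    have hmem := (h.1 (e i0)).1 ⟨⟨i0, he i0⟩, hQe i0⟩
    rw [Cfsg.glToMat] at hmem
    simp only [Units.coeHom_apply, Subgroup.coe_subtype, ← act_apply, act_mul] at hmem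
    have e1 : act (reflect Q ((2 : F) • e i4)) (e i0) = e i0 := by
      rw [act_reflect, QuadraticMap.polar_smul_left, hee i4 i0 (by simp [i0, i4])]
      simp
    have e2 : act (reflect Q v) (e i0) = e i0 - ((Q v)⁻¹ * (2 * c)) • v := by
      have : B v (e i0) = 2 * c := by
        rw [hv, QuadraticMap.polar_add_left, QuadraticMap.polar_add_left,
          QuadraticMap.polar_add_left, polar_self', hQe, hee i1 i0 h01.symm,
          hee i2 i0 (by simp [i0, i2]), hee i3 i0 (by simp [i0, i3])]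
        ring
      rw [act_reflect, this]
    rw [e1, e2] at hmem
    obtain ⟨⟨j, hj⟩, -⟩ := hmem
    have key : ∀ i, i ≠ i0 → B (e i) v = 2 * c → i = j := fun i hi hiv =>
      index_of_pair hD (he i) hj (by
        rw [QuadraticMap.polar_sub_right, QuadraticMap.polar_smul_right, hee i i0 hi, hiv,
          zero_sub, neg_ne_zero, smul_eq_mul]
        exact mul_ne_zero (mul_ne_zero (inv_ne_zero hQv0) (mul_ne_zero h2 hc)) (mul_ne_zero h2 hc))
    have k1 := key i1 h01.symm (by
      rw [hv, QuadraticMap.polar_add_right, QuadraticMap.polar_add_right,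
        QuadraticMap.polar_add_right, polar_self', hQe, hee i1 i0 h01.symm,
        hee i1 i2 (by simp [i1, i2]), hee i1 i3 (by simp [i1, i3])]
      ring)
    have k2 := key i2 (by simp [i0, i2]) (by
      rw [hv, QuadraticMap.polar_add_right, QuadraticMap.polar_add_right,
        QuadraticMap.polar_add_right, polar_self', hQe, hee i2 i0 (by simp [i0, i2]),
        hee i2 i1 (by simp [i1, i2]), hee i2 i3 h23]
      ring)
    simp [i1, i2, ← k2] at k1

/-- characteristic two: the additive span of the vectors of value one -/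
theorem lattice_between (h2 : (2 : F) = 0) (ht : 3 ≤ t) (R : AddSubgroup F)
    (hR : ∀ r ∈ R, r = 0 ∨ r = 1) (hRne : ∃ c : F, c ∉ R)
    (hbil : ∀ i, ∀ v ∈ D i, ∀ w ∈ D i, Q v = 1 → Q w = 1 → B v w ∈ R)
    (hcomp : ∀ i, ∃ e ∈ D i, Q e = 1 ∧ ∃ a ∈ D i, Q a = 0 ∧ B e a ≠ 0) :
    ∃ K : Subgroup (GL ι F),
      Cfsg.Geo.decompositionStabilizer D ⊓ Cfsg.Geo.omegaGL ⇑Q < K ∧ K < Cfsg.Geo.omegaGL ⇑Q := by
  choose e he hQe a ha hQa hea using hcomp
  obtain ⟨c₀, hc₀⟩ := hRne
  set S : Set Vec := {v | (∃ i, v ∈ D i) ∧ Q v = 1} with hS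
  set L := AddSubgroup.closure S with hL
  have hBL : ∀ x ∈ L, ∀ y ∈ L, B x y ∈ R := by
    intro x hx
    induction hx using AddSubgroup.closure_induction with
    | mem x hx =>
      intro y hy
      induction hy using AddSubgroup.closure_induction with
      | mem y hy =>
        obtain ⟨⟨i, hi⟩, hxQ⟩ := hx
        obtain ⟨⟨j, hj⟩, hyQ⟩ := hy
        by_cases hij : i = j
        · subst hij; exact hbil i x hi y hj hxQ hyQ
        · rw [orth_ne hD hij hi hj]; exact R.zero_mem
      | zero => rw [QuadraticMap.polar_zero_right]; exact R.zero_mem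
      | add y z _ _ h h' => rw [QuadraticMap.polar_add_right]; exact R.add_mem h h'
      | neg y _ h => rw [QuadraticMap.polar_neg_right]; exact R.neg_mem h
    | zero => intro y _; rw [QuadraticMap.polar_zero_left]; exact R.zero_mem
    | add x z _ _ h h' =>
      intro y hy; rw [QuadraticMap.polar_add_left]; exact R.add_mem (h y hy) (h' y hy)
    | neg x _ h => intro y hy; rw [QuadraticMap.polar_neg_left]; exact R.neg_mem (h y hy)
  have hmemL : ∀ i, e i ∈ L := fun i => AddSubgroup.subset_closure ⟨⟨i, he i⟩, hQe i⟩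
  have hee : ∀ i j, i ≠ j → B (e i) (e j) = 0 := fun i j h => orth_ne hD h (he i) (he j)
  set i0 : Fin t := ⟨0, by omega⟩
  set i1 : Fin t := ⟨1, by omega⟩
  set i2 : Fin t := ⟨2, by omega⟩
  have h01 : i0 ≠ i1 := by simp [i0, i1]
  have h02 : i0 ≠ i2 := by simp [i0, i2]
  have h12 : i1 ≠ i2 := by simp [i1, i2]
  refine Max.exists_between
    (K := Cfsg.stabilizing (Cfsg.glToMat ι F) (L : Set Vec) ⊓ Cfsg.Geo.omegaGL ⇑Q) ?_ ?_
    inf_le_right ?_
  · refine fun x hx => ⟨mem_setStab fun v hv => ?_, hx.2⟩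
    induction hv using AddSubgroup.closure_induction with
    | mem v hv => exact AddSubgroup.subset_closure (level_pres hD 1 hx hv)
    | zero => rw [mulVec_zero]; exact L.zero_mem
    | add v w _ _ h h' => rw [mulVec_add]; exact L.add_mem h h'
    | neg v _ h => rw [mulVec_neg]; exact L.neg_mem h
  · set u := e i0 + e i1 with hu
    have hQu : Q u = 0 := by rw [hu, map_add', hQe, hQe, hee _ _ h01]; linear_combination h2
    have huw : B u (e i2) = 0 := by
      rw [hu, QuadraticMap.polar_add_left, hee _ _ h02, hee _ _ h12, add_zero]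
    refine ⟨_, ⟨mem_setStab fun v hv => ?_,
      Subgroup.mem_map_of_mem _ (eich_omega hQ (by omega) hQu huw)⟩, fun h => ?_⟩
    · rw [Subgroup.coe_subtype, ← act_apply, act_eich, hQe, one_mul]
      have key : ∀ r ∈ R, ∀ z ∈ L, r • z ∈ L := fun r hr z hz => by
        rcases hR r hr with rfl | rfl
        · rw [zero_smul]; exact L.zero_mem
        · rwa [one_smul]
      have hu' : u ∈ L := L.add_mem (hmemL i0) (hmemL i1)
      exact L.sub_mem (L.sub_mem (L.add_mem hv (key _ (hBL v hv u hu') _ (hmemL i2)))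
        (key _ (hBL v hv _ (hmemL i2)) _ hu')) (key _ (hBL v hv u hu') _ hu')
    · obtain ⟨σ, hσ⟩ := h.1
      have hz := (hσ i0).le ⟨a i0, ha i0, rfl⟩
      rw [Matrix.toLin'_apply, Subgroup.coe_subtype, ← act_apply, act_eich, hQe, one_mul, hu,
        QuadraticMap.polar_add_right, QuadraticMap.polar_comm _ (a i0) (e i0),
        orth_ne hD h01 (ha i0) (he i1), orth_ne hD h02 (ha i0) (he i2)] at hz
      simp only [add_zero, zero_smul, sub_zero] at hz
      have k0 : i0 = σ i0 := index_of_pair hD (he i0) hz (by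
        simp only [QuadraticMap.polar_add_right, QuadraticMap.polar_sub_right,
          QuadraticMap.polar_smul_right, polar_self', hQe, h2, hee _ _ h01, hee _ _ h02, smul_zero,
          add_zero, zero_mul, sub_zero]
        exact hea i0)
      have k1 : i1 = σ i0 := index_of_pair hD (ha i1) hz (by
        simp only [QuadraticMap.polar_add_right, QuadraticMap.polar_sub_right,
          QuadraticMap.polar_smul_right, orth_ne hD h01.symm (ha i1) (ha i0),
          orth_ne hD h01.symm (ha i1) (he i0), orth_ne hD h12 (ha i1) (he i2), smul_zero,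
          zero_add, zero_sub, smul_eq_mul, mul_zero, neg_ne_zero,
          QuadraticMap.polar_comm _ (a i1) (e i1)]
        exact mul_ne_zero (hea i0) (hea i1))
      exact h01 (k0.trans k1.symm)
  · set β := B (e i0) (a i0) with hβ
    set γ := B (e i1) (a i1) with hγ
    set w := (c₀ / (β * γ)) • a i1 with hw
    have haw : B (a i0) w = 0 := by
      rw [hw, QuadraticMap.polar_smul_right, orth_ne hD h01 (ha i0) (ha i1), smul_zero]
    refine ⟨_, Subgroup.mem_map_of_mem _ (eich_omega hQ (by omega) (hQa i0) haw), fun h => hc₀ ?_⟩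
    have hmem := (h.1 (e i0)).1 (hmemL i0)
    rw [Cfsg.glToMat] at hmem
    simp only [Units.coeHom_apply, Subgroup.coe_subtype, ← act_apply] at hmem
    have := hBL _ (hmemL i1) _ hmem
    rw [act_eich, ← hβ] at this
    simp only [QuadraticMap.polar_add_right, QuadraticMap.polar_sub_right,
      QuadraticMap.polar_smul_right, hee _ _ h01.symm, orth_ne hD h01.symm (he i1) (ha i0),
      smul_zero, sub_zero, zero_add, hw, ← hγ, smul_eq_mul, mul_zero,
      orth_ne hD h01 (he i0) (ha i1)] at this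
    rwa [show β * (c₀ / (β * γ) * γ) = c₀ by
      have h1 : β ≠ 0 := hea i0
      have h2 : γ ≠ 0 := hea i1
      field_simp] at this

/-- the field of two elements: components of dimension four split canonically into two planes -/
theorem planes_between (h2 : (2 : F) = 0) (ht : 3 ≤ t)
    (hcomp : ∀ i, ∃ a ∈ D i, ∃ b ∈ D i, Q a = 1 ∧ Q b = 1 ∧ B a b = 1 ∧
      (∀ v ∈ D i, Q v = 1 → v ∈ Submodule.span F {a, b} ∨ (B a v = 0 ∧ B b v = 0)) ∧
      ∃ v ∈ D i, v ≠ 0 ∧ B a v = 0 ∧ B b v = 0) :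
    ∃ K : Subgroup (GL ι F),
      Cfsg.Geo.decompositionStabilizer D ⊓ Cfsg.Geo.omegaGL ⇑Q < K ∧ K < Cfsg.Geo.omegaGL ⇑Q := by
  choose a ha b hb hQa hQb hab hsplit y hy hy0 hya hyb using hcomp
  have hc2 : ∀ x : F, x + x = 0 := fun x => by linear_combination x * h2
  have hv2 : ∀ x : Vec, -x = x := fun x => by
    rw [neg_eq_iff_add_eq_zero]
    funext i
    exact hc2 (x i)
  set S : Set Vec := {v | (∃ i, v ∈ D i) ∧ Q v = 1} with hS
  set i0 : Fin t := ⟨0, by omega⟩
  set i1 : Fin t := ⟨1, by omega⟩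
  set i2 : Fin t := ⟨2, by omega⟩
  have h01 : i0 ≠ i1 := by simp [i0, i1]
  have h02 : i0 ≠ i2 := by simp [i0, i2]
  have h12 : i1 ≠ i2 := by simp [i1, i2]
  set u := a i0 + a i1 with hu
  have hQu : Q u = 0 := by
    rw [hu, map_add', hQa, hQa, orth_ne hD h01 (ha i0) (ha i1)]; linear_combination h2
  set w := b i0 + b i1 with hw
  have huw : B u w = 0 := by
    simp only [hu, hw, QuadraticMap.polar_add_left, QuadraticMap.polar_add_right, hab,
      orth_ne hD h01 (ha i0) (hb i1), orth_ne hD h01.symm (ha i1) (hb i0), add_zero, zero_add]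
    linear_combination h2
  have hQw : Q w = 0 := by
    rw [hw, map_add', hQb, hQb, orth_ne hD h01 (hb i0) (hb i1)]; linear_combination h2
  set g := eich u w hQu huw with hg
  have hfix : ∀ x, B (a i0) x = 0 → B (b i0) x = 0 → B (a i1) x = 0 → B (b i1) x = 0 →
      act g x = x := fun x p q r s => act_eich_fix hQu huw
    (by rw [QuadraticMap.polar_comm, hu, QuadraticMap.polar_add_left, p, r, add_zero])
    (by rw [QuadraticMap.polar_comm, hw, QuadraticMap.polar_add_left, q, s, add_zero])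
  have ga : act g (a i0) = a i1 := by
    rw [hg, act_eich, hQw, hu, hw]
    simp only [QuadraticMap.polar_add_right, polar_self', hQa, h2, zero_mul,
      orth_ne hD h01 (ha i0) (ha i1), orth_ne hD h01 (ha i0) (hb i1), hab, add_zero, zero_smul,
      sub_zero, one_smul, sub_add_cancel_left, hv2]
  have gb : act g (b i0) = b i1 := by
    rw [hg, act_eich, hQw, hu, hw]
    simp only [QuadraticMap.polar_add_right, polar_self', hQb, h2, zero_mul,
      orth_ne hD h01 (hb i0) (hb i1), orth_ne hD h01 (hb i0) (ha i1),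
      QuadraticMap.polar_comm _ (b i0) (a i0), hab, add_zero, zero_smul, sub_zero, one_smul]
    rw [← add_assoc, show b i0 + b i0 = 0 from funext fun i => hc2 _, zero_add]
  have gg : ∀ x, act g (act g x) = x := fun x => by
    rw [← act_mul, hg, eich_mul hQu huw huw]
    have : w + w = 0 := funext fun i => hc2 _
    rw [act_eich, this]
    simp
  have hpres : ∀ v ∈ S, act g v ∈ S := by
    rintro v ⟨⟨l, hl⟩, hQv⟩
    refine ⟨?_, by rw [act_map, hQv]⟩
    by_cases hl0 : l = i0
    · subst hl0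
      rcases hsplit i0 v hl hQv with h | ⟨p, q⟩
      · obtain ⟨r, s, rfl⟩ := Submodule.mem_span_pair.1 h
        exact ⟨i1, by
          rw [map_add, map_smul, map_smul, ga, gb]
          exact (D i1).add_mem ((D i1).smul_mem _ (ha i1)) ((D i1).smul_mem _ (hb i1))⟩
      · exact ⟨i0, by rw [hfix v p q (orth_ne hD h01.symm (ha i1) hl)
          (orth_ne hD h01.symm (hb i1) hl)]; exact hl⟩
    by_cases hl1 : l = i1
    · subst hl1
      rcases hsplit i1 v hl hQv with h | ⟨p, q⟩
      · obtain ⟨r, s, rfl⟩ := Submodule.mem_span_pair.1 h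
        exact ⟨i0, by
          rw [map_add, map_smul, map_smul, ← ga, ← gb, gg, gg]
          exact (D i0).add_mem ((D i0).smul_mem _ (ha i0)) ((D i0).smul_mem _ (hb i0))⟩
      · exact ⟨i1, by
          rw [hfix v (orth_ne hD h01 (ha i0) hl) (orth_ne hD h01 (hb i0) hl) p q]
          exact hl⟩
    · exact ⟨l, by rw [hfix v (orth_ne hD (Ne.symm hl0) (ha i0) hl)
        (orth_ne hD (Ne.symm hl0) (hb i0) hl) (orth_ne hD (Ne.symm hl1) (ha i1) hl)
        (orth_ne hD (Ne.symm hl1) (hb i1) hl)]; exact hl⟩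
  refine Max.exists_between
    (K := Cfsg.stabilizing (Cfsg.glToMat ι F) S ⊓ Cfsg.Geo.omegaGL ⇑Q) ?_ ?_ inf_le_right ?_
  · exact fun x hx => ⟨mem_setStab fun v hv => level_pres hD 1 hx hv, hx.2⟩
  · refine ⟨_, ⟨mem_setStab fun v hv => ?_,
      Subgroup.mem_map_of_mem _ (eich_omega hQ (by omega) hQu huw)⟩, fun h => ?_⟩
    · rw [Subgroup.coe_subtype, ← act_apply]; exact hpres v hv
    · obtain ⟨σ, hσ⟩ := h.1
      have m1 : a i1 ∈ D (σ i0) := (hσ i0).le ⟨a i0, ha i0, by
        rw [Matrix.toLin'_apply, Subgroup.coe_subtype, ← act_apply]; exact ga⟩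
      have m2 : y i0 ∈ D (σ i0) := (hσ i0).le ⟨y i0, hy i0, by
        rw [Matrix.toLin'_apply, Subgroup.coe_subtype, ← act_apply]
        exact hfix _ (hya i0) (hyb i0) (orth_ne hD h01.symm (ha i1) (hy i0))
          (orth_ne hD h01.symm (hb i1) (hy i0))⟩
      have hne : a i1 ≠ 0 := fun e => one_ne_zero (α := F) (by rw [← hQa i1, e, map_zero'])
      exact h01 ((index_of_mem hD (hy i0) m2 (hy0 i0)).trans
        (index_of_mem hD (ha i1) m1 hne).symm)
  · have huc : B u (a i2) = 0 := by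
      rw [hu, QuadraticMap.polar_add_left, orth_ne hD h02 (ha i0) (ha i2),
        orth_ne hD h12 (ha i1) (ha i2), add_zero]
    refine ⟨_, Subgroup.mem_map_of_mem _ (eich_omega hQ (by omega) hQu huc), fun h => ?_⟩
    have hmem := (h.1 (b i0)).1 ⟨⟨i0, hb i0⟩, hQb i0⟩
    rw [Cfsg.glToMat] at hmem
    simp only [Units.coeHom_apply, Subgroup.coe_subtype, ← act_apply] at hmem
    obtain ⟨⟨j, hj⟩, -⟩ := hmem
    rw [act_eich, hQa, one_mul, hu, QuadraticMap.polar_add_right,
      QuadraticMap.polar_comm _ (b i0) (a i0), hab, orth_ne hD h01 (hb i0) (ha i1),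
      orth_ne hD h02 (hb i0) (ha i2)] at hj
    simp only [add_zero, zero_smul, sub_zero, one_smul] at hj
    have k1 : i1 = j := index_of_pair hD (hb i1) hj (by
      simp [QuadraticMap.polar_add_right, QuadraticMap.polar_sub_right,
        orth_ne hD h01.symm (hb i1) (hb i0), orth_ne hD h01.symm (hb i1) (ha i0),
        orth_ne hD h12 (hb i1) (ha i2), QuadraticMap.polar_comm _ (b i1) (a i1), hab])
    have k2 : i2 = j := index_of_pair hD (hb i2) hj (by
      simp [QuadraticMap.polar_add_right, QuadraticMap.polar_sub_right,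
        orth_ne hD h02.symm (hb i2) (hb i0), orth_ne hD h02.symm (hb i2) (ha i0),
        orth_ne hD h12.symm (hb i2) (ha i1), QuadraticMap.polar_comm _ (b i2) (a i2), hab])
    exact h12 (k1.trans k2.symm)

end Cfsg.Agent.Forms.Max.Orth
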