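import Mathlib
import Cfsg.Agent.Lib.Forms.Max.OrthFrames

/-!
# Frames in the components over the fields of two to five elements
-/

set_option autoImplicit false
set_option linter.unusedSectionVars false

namespace Cfsg.Agent.Forms.Max.Orth

open Matrix Cfsg.Agent.Forms.QuadStd Cfsg.Agent.Forms.Reflections Cfsg.Agent.Classical.Orth

variable {F : Type*} [Field F] [Fintype F] {ι : Type} [Fintype ι] [DecidableEq ι]
variable {Q : QuadraticForm F (ι → F)}

local notation "Vec" => (ι → F)
local notation "B" => QuadraticMap.polar Q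

/-- frame property of a vector in a component -/
def IsFrameVec (Q : QuadraticForm F (ι → F)) (S : Submodule F (ι → F)) (c : F) (e : ι → F) : Prop :=
  e ∈ S ∧ Q e = c ∧ ∀ v ∈ S, Q v = c → v = e ∨ v = -e ∨ QuadraticMap.polar Q e v = 0

theorem frame_transport {S T : Submodule F Vec} (h : Cfsg.Geo.AreIsometricFor (⇑Q) T S) {c : F}
    {e : Vec} (he : IsFrameVec Q S c e) : ∃ e', IsFrameVec Q T c e' := by
  obtain ⟨θ, hθ⟩ := h
  obtain ⟨heS, hQe, hfr⟩ := he
  set e' : T := θ.symm ⟨e, heS⟩ with he'
  have hθe : θ e' = ⟨e, heS⟩ := by rw [he', θ.apply_symm_apply]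
  have hB : ∀ x y : T, B (θ x : Vec) (θ y : Vec) = B (x : Vec) (y : Vec) := fun x y => by
    simp only [QuadraticMap.polar]
    rw [← Submodule.coe_add, ← map_add θ, hθ, hθ, hθ, Submodule.coe_add]
  refine ⟨e', e'.2, by rw [← hθ, hθe]; exact hQe, fun v hv hQv => ?_⟩
  rcases hfr (θ ⟨v, hv⟩ : Vec) (θ _).2 (by rw [hθ]; exact hQv) with h | h | h
  · have h1 : θ ⟨v, hv⟩ = θ e' := by rw [hθe]; exact Subtype.ext h
    exact Or.inl (congrArg Subtype.val (θ.injective h1))
  · have h1 : θ ⟨v, hv⟩ = θ (-e') := by rw [map_neg, hθe]; exact Subtype.ext h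
    exact Or.inr (Or.inl (congrArg Subtype.val (θ.injective h1)))
  · refine Or.inr (Or.inr ?_)
    have h1 := hB e' ⟨v, hv⟩
    rw [hθe] at h1
    rw [← h1]; exact h

section odd
variable (hQ : (QuadraticMap.polarBilin Q).Nondegenerate) (h2 : (2 : F) ≠ 0)
include hQ h2

omit hQ in
theorem exists_aniso {S : Submodule F Vec} (hS : ∀ r ∈ S, r ≠ 0 → ∃ s ∈ S, B r s ≠ 0)
    (h0 : S ≠ ⊥) : ∃ e ∈ S, Q e ≠ 0 := by
  by_contra hc
  push Not at hc
  obtain ⟨r, hr, hr0⟩ := Submodule.exists_mem_ne_zero_of_ne_bot h0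
  obtain ⟨s, hs, hrs⟩ := hS r hr hr0
  exact hrs (polar_of_sing hc hr hs)

/-- splitting off an anisotropic vector -/
theorem split_off {S : Submodule F Vec} (hS : ∀ r ∈ S, r ≠ 0 → ∃ s ∈ S, B r s ≠ 0) {e : Vec}
    (he : e ∈ S) (hQe : Q e ≠ 0) :
    (∀ r ∈ S ⊓ ker Q e, r ≠ 0 → ∃ s ∈ S ⊓ ker Q e, B r s ≠ 0) ∧
      Module.finrank F S = Module.finrank F ↥(S ⊓ ker Q e) + 1 ∧
      ∀ v ∈ S, v - (B e v / (2 * Q e)) • e ∈ S ⊓ ker Q e := by
  have hproj : ∀ v ∈ S, v - (B e v / (2 * Q e)) • e ∈ S ⊓ ker Q e := fun v hv => by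
    refine ⟨S.sub_mem hv (S.smul_mem _ he), ?_⟩
    rw [SetLike.mem_coe, mem_ker', QuadraticMap.polar_sub_right, QuadraticMap.polar_smul_right,
      polar_self', smul_eq_mul, div_mul_cancel₀ _ (mul_ne_zero h2 hQe), sub_self]
  refine ⟨fun r hr hr0 => ?_, ?_, hproj⟩
  · obtain ⟨s, hs, hrs⟩ := hS r hr.1 hr0
    refine ⟨_, hproj s hs, ?_⟩
    rw [QuadraticMap.polar_sub_right, QuadraticMap.polar_smul_right, QuadraticMap.polar_comm _ r e,
      (show B e r = 0 from hr.2), smul_zero, sub_zero]
    exact hrs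
  · have h1 := finrank_inf_ker hQ S e
    have h3 : ¬ S ≤ S ⊓ ker Q e := fun h => by
      have := (h he).2
      rw [SetLike.mem_coe, mem_ker', polar_self'] at this
      exact mul_ne_zero h2 hQe this
    have := Submodule.finrank_lt_finrank_of_lt (lt_of_le_not_ge inf_le_left h3)
    omega

/-- the field of three elements: planes and three-dimensional components have frame vectors -/
theorem exists_frame_three (hq : Fintype.card F = 3) {S : Submodule F Vec}
    (hS : ∀ r ∈ S, r ≠ 0 → ∃ s ∈ S, B r s ≠ 0)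
    (hd : Module.finrank F S = 2 ∨ Module.finrank F S = 3) :
    ∃ e c, c ≠ 0 ∧ IsFrameVec Q S c e := by
  classical
  have hunit : ∀ a : F, a ≠ 0 → a = 1 ∨ a = -1 := fun a ha => by
    have h1 := FiniteField.pow_card_sub_one_eq_one a ha
    rw [hq] at h1
    exact mul_self_eq_one_iff.1 (by rw [← sq]; exact h1)
  have key : ∀ e ∈ S, Q e ≠ 0 → (∀ s ∈ S ⊓ ker Q e, Q s = 0 → s = 0) →
      ∃ e c, c ≠ 0 ∧ IsFrameVec Q S c e := by
    intro e he hQe han
    refine ⟨e, Q e, hQe, he, rfl, fun v hv hQv => ?_⟩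
    by_cases hB : B e v = 0
    · exact Or.inr (Or.inr hB)
    set l := B e v / (2 * Q e) with hl
    have hl0 : l ≠ 0 := div_ne_zero hB (mul_ne_zero h2 hQe)
    have hll : l * l = 1 := by rcases hunit l hl0 with h | h <;> rw [h] <;> ring
    have hmem := (split_off hQ h2 hS he hQe).2.2 v hv
    have h0 : v - l • e = 0 := han _ hmem (by
      have e1 : B e v = l * (2 * Q e) := by rw [hl, div_mul_cancel₀ _ (mul_ne_zero h2 hQe)]
      rw [Classical.Orth.map_sub', Classical.Orth.map_smul', hQv, QuadraticMap.polar_smul_right,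
        QuadraticMap.polar_comm _ v e, e1, smul_eq_mul]
      linear_combination (-Q e) * hll)
    rcases hunit l hl0 with h | h <;> rw [h] at h0
    · exact Or.inl (by rw [one_smul] at h0; exact sub_eq_zero.1 h0)
    · exact Or.inr (Or.inl (by rw [neg_one_smul] at h0; exact sub_eq_zero.1 h0))
  have hne : ∀ T : Submodule F Vec, 0 < Module.finrank F T → T ≠ ⊥ := fun T hT h => by
    rw [h, finrank_bot] at hT; omega
  obtain ⟨e₁, he₁, hQe₁⟩ := exists_aniso h2 hS (hne S (by omega))
  obtain ⟨hP, hdP, hprojP⟩ := split_off hQ h2 hS he₁ hQe₁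
  set P := S ⊓ ker Q e₁ with hPdef
  obtain ⟨e₂, he₂, hQe₂⟩ := exists_aniso h2 hP (hne P (by omega))
  obtain ⟨hL, hdL, hprojL⟩ := split_off hQ h2 hP he₂ hQe₂
  set L := P ⊓ ker Q e₂ with hLdef
  rcases hd with hd | hd
  · refine key e₁ he₁ hQe₁ fun s hs hQs => ?_
    have hL0 : L = ⊥ := Submodule.finrank_eq_zero.1 (by omega)
    have h1 := hprojL s hs
    rw [hL0, Submodule.mem_bot, sub_eq_zero] at h1
    rw [h1, Classical.Orth.map_smul', mul_eq_zero, mul_self_eq_zero] at hQs
    rw [h1, hQs.resolve_right hQe₂, zero_smul]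
  · obtain ⟨e₃, he₃, hQe₃⟩ := exists_aniso h2 hL (hne L (by omega))
    obtain ⟨-, hdK, hprojK⟩ := split_off hQ h2 hL he₃ hQe₃
    have hK0 : L ⊓ ker Q e₃ = ⊥ := Submodule.finrank_eq_zero.1 (by omega)
    have h12 : B e₁ e₂ = 0 := he₂.2
    have h13 : B e₁ e₃ = 0 := he₃.1.2
    have h23 : B e₂ e₃ = 0 := he₃.2
    have hcoord : ∀ v ∈ S, ∃ x y z : F, v = x • e₁ + y • e₂ + z • e₃ := by
      intro v hv
      have h1 := hprojL _ (hprojP v hv)
      have h2' := hprojK _ h1
      rw [hK0, Submodule.mem_bot] at h2'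
      refine ⟨B e₁ v / (2 * Q e₁), B e₂ (v - (B e₁ v / (2 * Q e₁)) • e₁) / (2 * Q e₂),
        B e₃ (v - (B e₁ v / (2 * Q e₁)) • e₁ -
          (B e₂ (v - (B e₁ v / (2 * Q e₁)) • e₁) / (2 * Q e₂)) • e₂) / (2 * Q e₃), ?_⟩
      rw [← sub_eq_zero, ← h2']
      module
    have hval : ∀ x y z : F, Q (x • e₁ + y • e₂ + z • e₃) =
        x * x * Q e₁ + y * y * Q e₂ + z * z * Q e₃ := fun x y z => by
      simp only [map_add', Classical.Orth.map_smul', QuadraticMap.polar_add_left,
        QuadraticMap.polar_smul_left, QuadraticMap.polar_smul_right, h12, h13, h23, smul_zero]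
      ring
    have hsq : ∀ x y : F, x * x + y * y = 0 → x = 0 ∧ y = 0 := by
      intro x y h
      by_cases hx : x = 0
      · subst hx; rw [mul_zero, zero_add, mul_self_eq_zero] at h; exact ⟨rfl, h⟩
      exfalso
      have hy : y ≠ 0 := by rintro rfl; rw [mul_zero, add_zero, mul_self_eq_zero] at h; exact hx h
      rcases hunit x hx with rfl | rfl <;> rcases hunit y hy with rfl | rfl <;>
        exact h2 (by linear_combination h)
    have hS₁ : e₁ ∈ S := he₁
    have hS₂ : e₂ ∈ S := he₂.1
    have hS₃ : e₃ ∈ S := he₃.1.1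
    rcases hunit _ hQe₁ with h1 | h1 <;> rcases hunit _ hQe₂ with h2' | h2' <;>
      rcases hunit _ hQe₃ with h3 | h3
    all_goals
      first
      | (have e12 : Q e₁ = Q e₂ := by rw [h1, h2']
         refine key e₃ hS₃ hQe₃ fun s hs hQs => ?_
         obtain ⟨x, y, z, rfl⟩ := hcoord s hs.1
         have hz : B e₃ (x • e₁ + y • e₂ + z • e₃) = 0 := hs.2
         simp only [QuadraticMap.polar_add_right, QuadraticMap.polar_smul_right, smul_eq_mul,
           QuadraticMap.polar_comm _ e₃ e₁, QuadraticMap.polar_comm _ e₃ e₂, h13, h23, mul_zero,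
           zero_add, polar_self', mul_eq_zero, h2, hQe₃, false_or, or_false] at hz
         rw [hval, hz, ← e12] at hQs
         have h0 : Q e₁ * (x * x + y * y) = 0 := by linear_combination hQs
         obtain ⟨rfl, rfl⟩ := hsq x y ((mul_eq_zero.1 h0).resolve_left hQe₁)
         rw [hz]; simp)
      | (have e13 : Q e₁ = Q e₃ := by rw [h1, h3]
         refine key e₂ hS₂ hQe₂ fun s hs hQs => ?_
         obtain ⟨x, y, z, rfl⟩ := hcoord s hs.1
         have hy : B e₂ (x • e₁ + y • e₂ + z • e₃) = 0 := hs.2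
         simp only [QuadraticMap.polar_add_right, QuadraticMap.polar_smul_right, smul_eq_mul,
           QuadraticMap.polar_comm _ e₂ e₁, h12, h23, mul_zero, add_zero,
           zero_add, polar_self', mul_eq_zero, h2, hQe₂, false_or, or_false] at hy
         rw [hval, hy, ← e13] at hQs
         have h0 : Q e₁ * (x * x + z * z) = 0 := by linear_combination hQs
         obtain ⟨rfl, rfl⟩ := hsq x z ((mul_eq_zero.1 h0).resolve_left hQe₁)
         rw [hy]; simp)
      | (have e23 : Q e₂ = Q e₃ := by rw [h2', h3]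
         refine key e₁ hS₁ hQe₁ fun s hs hQs => ?_
         obtain ⟨x, y, z, rfl⟩ := hcoord s hs.1
         have hx : B e₁ (x • e₁ + y • e₂ + z • e₃) = 0 := hs.2
         simp only [QuadraticMap.polar_add_right, QuadraticMap.polar_smul_right, smul_eq_mul,
           h12, h13, mul_zero, add_zero,
           polar_self', mul_eq_zero, h2, hQe₁, false_or, or_false] at hx
         rw [hval, hx, ← e23] at hQs
         have h0 : Q e₂ * (y * y + z * z) = 0 := by linear_combination hQs
         obtain ⟨rfl, rfl⟩ := hsq y z ((mul_eq_zero.1 h0).resolve_left hQe₂)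
         rw [hx]; simp)

end odd

/-- hyperbolic coordinates in a plane of plus type -/
theorem plane_pair {S : Submodule F Vec} (hdim : Module.finrank F S = 2)
    (hS : ∀ r ∈ S, r ≠ 0 → ∃ s ∈ S, B r s ≠ 0) (hplus : Cfsg.Geo.IsPlusTypeOn (⇑Q) S) :
    ∃ a b, a ∈ S ∧ b ∈ S ∧ IsPair Q a b ∧ ∀ v ∈ S, ∃ x y : F, v = x • a + y • b := by
  obtain ⟨T, hTW, hT, hdT⟩ := hplus
  have hT0 : T ≠ ⊥ := fun h => by rw [h, finrank_bot, hdim] at hdT; simp at hdT
  obtain ⟨e, heT, he0⟩ := Submodule.exists_mem_ne_zero_of_ne_bot hT0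
  obtain ⟨y, hy, hey⟩ := hS e (hTW heT) he0
  obtain ⟨f, hfW, hQf, hef⟩ := exists_partner_in (hTW heT) hy (hT e heT) hey
  refine ⟨e, f, hTW heT, hfW, ⟨hT e heT, hQf, hef⟩, fun v hv => ?_⟩
  have hspan : Submodule.span F {e} ⊔ Submodule.span F {f} = S := by
    refine Submodule.eq_of_le_of_finrank_le (sup_le ((Submodule.span_singleton_le_iff_mem _ _).2
      (hTW heT)) ((Submodule.span_singleton_le_iff_mem _ _).2 hfW)) ?_
    have hlt : Submodule.span F {e} < Submodule.span F {e} ⊔ Submodule.span F {f} := by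
      refine lt_of_le_not_ge le_sup_left fun h => ?_
      obtain ⟨c, hc⟩ := Submodule.mem_span_singleton.1
        (h (Submodule.mem_sup_right (Submodule.mem_span_singleton_self f)))
      rw [← hc, QuadraticMap.polar_smul_right, polar_self_zero (hT e heT), smul_zero] at hef
      exact zero_ne_one hef
    have := Submodule.finrank_lt_finrank_of_lt hlt
    rw [finrank_span_singleton he0] at this
    omega
  rw [← hspan] at hv
  obtain ⟨v₁, hv₁, v₂, hv₂, rfl⟩ := Submodule.mem_sup.1 hv
  obtain ⟨x, rfl⟩ := Submodule.mem_span_singleton.1 hv₁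
  obtain ⟨z, rfl⟩ := Submodule.mem_span_singleton.1 hv₂
  exact ⟨x, z, rfl⟩

theorem exists_frame_five (hq : Fintype.card F = 5) {S : Submodule F Vec}
    (hdim : Module.finrank F S = 2) (hS : ∀ r ∈ S, r ≠ 0 → ∃ s ∈ S, B r s ≠ 0)
    (hplus : Cfsg.Geo.IsPlusTypeOn (⇑Q) S) : ∃ e, IsFrameVec Q S 1 e := by
  obtain ⟨a, b, ha, hb, hp, hco⟩ := plane_pair hdim hS hplus
  refine ⟨a + b, S.add_mem ha hb, ?_, fun v hv hQv => ?_⟩
  · rw [map_add', hp.hu, hp.hv, hp.huv, zero_add, zero_add]
  obtain ⟨x, y, rfl⟩ := hco v hv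
  rw [pair_value hp] at hQv
  have hx : x ≠ 0 := left_ne_zero_of_mul_eq_one hQv
  have h4 := FiniteField.pow_card_sub_one_eq_one x hx
  rw [hq] at h4
  have h : (x - 1) * (x + 1) * (x * x + 1) = 0 := by linear_combination h4
  rcases mul_eq_zero.1 h with h | h
  rcases mul_eq_zero.1 h with h | h
  · rw [sub_eq_zero] at h; subst h
    rw [one_mul] at hQv; subst hQv
    exact Or.inl (by rw [one_smul, one_smul])
  · rw [add_eq_zero_iff_eq_neg] at h; subst h
    have : y = -1 := by linear_combination -hQv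
    subst this
    exact Or.inr (Or.inl (by rw [neg_one_smul, neg_one_smul, neg_add]))
  · refine Or.inr (Or.inr ?_)
    simp only [QuadraticMap.polar_add_left, QuadraticMap.polar_add_right,
      QuadraticMap.polar_smul_right, polar_self_zero hp.hu, polar_self_zero hp.hv, hp.huv, hp.hvu,
      smul_eq_mul, mul_zero, mul_one, zero_add, add_zero]
    refine (mul_eq_zero.1 ?_).resolve_left hx
    linear_combination h + hQv

theorem plane_bilinear {S : Submodule F Vec} (hdim : Module.finrank F S = 2)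
    (hS : ∀ r ∈ S, r ≠ 0 → ∃ s ∈ S, B r s ≠ 0) (hplus : Cfsg.Geo.IsPlusTypeOn (⇑Q) S) :
    (∃ e ∈ S, Q e = 1 ∧ ∃ a ∈ S, Q a = 0 ∧ B e a ≠ 0) ∧
      ∀ v ∈ S, ∀ w ∈ S, Q v = 1 → Q w = 1 → ∃ s : F, s ≠ 0 ∧ B v w = s + s⁻¹ := by
  obtain ⟨a, b, ha, hb, hp, hco⟩ := plane_pair hdim hS hplus
  refine ⟨⟨a + b, S.add_mem ha hb, ?_, a, ha, hp.hu, ?_⟩, fun v hv w hw hQv hQw => ?_⟩
  · rw [map_add', hp.hu, hp.hv, hp.huv, zero_add, zero_add]
  · simp [QuadraticMap.polar_add_left, polar_self_zero hp.hu, hp.hvu]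
  obtain ⟨x, y, rfl⟩ := hco v hv
  obtain ⟨x', y', rfl⟩ := hco w hw
  rw [pair_value hp] at hQv hQw
  refine ⟨x * y', mul_ne_zero (left_ne_zero_of_mul_eq_one hQv) (right_ne_zero_of_mul_eq_one hQw), ?_⟩
  rw [inv_eq_of_mul_eq_one_right (show x * y' * (y * x') = 1 by
    linear_combination (y' * x') * hQv + hQw)]
  simp only [QuadraticMap.polar_add_left, QuadraticMap.polar_add_right,
    QuadraticMap.polar_smul_left, QuadraticMap.polar_smul_right, polar_self_zero hp.hu,
    polar_self_zero hp.hv, hp.huv, hp.hvu, smul_eq_mul]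
  ring

theorem exists_planes (hQ : (QuadraticMap.polarBilin Q).Nondegenerate) (hq : Fintype.card F = 2)
    (h2 : (2 : F) = 0) {S : Submodule F Vec}
    (hdim : Module.finrank F S = 4) (hS : ∀ r ∈ S, r ≠ 0 → ∃ s ∈ S, B r s ≠ 0)
    (hplus : Cfsg.Geo.IsPlusTypeOn (⇑Q) S) :
    ∃ a ∈ S, ∃ b ∈ S, Q a = 1 ∧ Q b = 1 ∧ B a b = 1 ∧
      (∀ v ∈ S, Q v = 1 → v ∈ Submodule.span F {a, b} ∨ (B a v = 0 ∧ B b v = 0)) ∧
      ∃ v ∈ S, v ≠ 0 ∧ B a v = 0 ∧ B b v = 0 := by
  classical
  have h01 : ∀ x : F, x ≠ 0 → x = 1 := fun x hx => by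
    simpa [hq] using FiniteField.pow_card_sub_one_eq_one x hx
  obtain ⟨T, hTS, hT, hdT⟩ := hplus
  have hT0 : T ≠ ⊥ := fun h => by rw [h, finrank_bot, hdim] at hdT; simp at hdT
  obtain ⟨e, heT, he0⟩ := Submodule.exists_mem_ne_zero_of_ne_bot hT0
  obtain ⟨y, hy, hey⟩ := hS e (hTS heT) he0
  obtain ⟨f, hfS, hQf, hef⟩ := exists_partner_in (hTS heT) hy (hT e heT) hey
  have hp : IsPair Q e f := ⟨hT e heT, hQf, hef⟩
  have heS := hTS heT
  set P := S ⊓ ker Q e ⊓ ker Q f with hP
  obtain ⟨p, hpP, hQp⟩ : ∃ p ∈ P, Q p = 1 := by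
    by_contra hc
    push Not at hc
    have hsing : ∀ p ∈ P, Q p = 0 := fun p hp => by_contra fun h => hc p hp (h01 _ h)
    obtain ⟨r, hr, hr0⟩ := Submodule.exists_mem_ne_zero_of_ne_bot (p := P) fun h => by
      have d1 := finrank_inf_ker hQ S e
      have d2 := finrank_inf_ker hQ (S ⊓ ker Q e) f
      rw [← hP, h, finrank_bot] at d2
      omega
    obtain ⟨s, hs, hrs⟩ := hS r hr.1.1 hr0
    have hs' : proj Q e f s ∈ P := by
      refine ⟨⟨proj_mem heS hfS hs, ?_⟩, ?_⟩
      · rw [SetLike.mem_coe, mem_ker', QuadraticMap.polar_comm]; exact (proj_perp hp s).1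
      · rw [SetLike.mem_coe, mem_ker', QuadraticMap.polar_comm]; exact (proj_perp hp s).2
    have h0 := polar_of_sing hsing hr hs'
    simp only [proj, QuadraticMap.polar_sub_right, QuadraticMap.polar_smul_right,
      QuadraticMap.polar_comm _ r e, QuadraticMap.polar_comm _ r f,
      (show B e r = 0 from hr.1.2), (show B f r = 0 from hr.2), smul_zero, sub_zero] at h0
    exact hrs h0
  have hep : B e p = 0 := hpP.1.2
  have hfp : B f p = 0 := hpP.2
  set a := e + f with ha
  set b := e + p with hb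
  have haS : a ∈ S := S.add_mem heS hfS
  have hbS : b ∈ S := S.add_mem heS hpP.1.1
  have hQa : Q a = 1 := by rw [ha, map_add', hp.hu, hp.hv, hef, zero_add, zero_add]
  have hQb : Q b = 1 := by rw [hb, map_add', hp.hu, hQp, hep, zero_add, add_zero]
  have hab : B a b = 1 := by
    simp [ha, hb, QuadraticMap.polar_add_left, QuadraticMap.polar_add_right,
      polar_self_zero hp.hu, hp.hvu, hep, hfp]
  set P' := S ⊓ ker Q a ⊓ ker Q b with hP'
  have hsplit : ∀ v ∈ S, v + B b v • a + B a v • b ∈ P' := fun v hv => by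
    refine ⟨⟨S.add_mem (S.add_mem hv (S.smul_mem _ haS)) (S.smul_mem _ hbS), ?_⟩, ?_⟩
    · rw [SetLike.mem_coe, mem_ker', QuadraticMap.polar_add_right, QuadraticMap.polar_add_right,
        QuadraticMap.polar_smul_right, QuadraticMap.polar_smul_right, polar_self', h2, hab,
        smul_eq_mul, smul_eq_mul]
      linear_combination (B a v) * h2
    · rw [SetLike.mem_coe, mem_ker', QuadraticMap.polar_add_right, QuadraticMap.polar_add_right,
        QuadraticMap.polar_smul_right, QuadraticMap.polar_smul_right, polar_self', h2,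
        QuadraticMap.polar_comm _ b a, hab, smul_eq_mul, smul_eq_mul]
      linear_combination (B b v) * h2
  have hP'0 : P' ≠ ⊥ := fun h => by
    have d1 := finrank_inf_ker hQ S a
    have d2 := finrank_inf_ker hQ (S ⊓ ker Q a) b
    rw [← hP', h, finrank_bot] at d2
    omega
  have hE : ∀ x z : F, Q (x • a + z • b) = 0 → x = 0 ∧ z = 0 := by
    intro x z h
    rw [map_add', Classical.Orth.map_smul', Classical.Orth.map_smul', QuadraticMap.polar_smul_left,
      QuadraticMap.polar_smul_right, hQa, hQb, hab] at h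
    by_cases hx : x = 0
    · subst hx; simp at h; exact ⟨rfl, h⟩
    · by_cases hz : z = 0
      · subst hz; simp at h; exact absurd h hx
      · rw [h01 x hx, h01 z hz] at h
        simp at h
        exact absurd (show (1 : F) = 0 by linear_combination h - h2) one_ne_zero
  have haniso : ∀ s ∈ P', Q s = 0 → s = 0 := by
    intro s hs hQs
    by_contra hs0
    have has : B a s = 0 := hs.1.2
    have hbs : B b s = 0 := hs.2
    have hline : ∀ w ∈ T, B s w = 0 → w ∈ Submodule.span F {s} := by
      intro w hw hsw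
      have hq' := hsplit w (hTS hw)
      set q' := w + B b w • a + B a w • b with hq'def
      have hwe : w = B b w • a + B a w • b + q' := by
        rw [hq'def]
        funext i
        simp only [Pi.add_apply, Pi.smul_apply, smul_eq_mul]
        linear_combination -(B b w * a i + B a w * b i) * h2
      have hsq : B s q' = 0 := by
        rw [hq'def, QuadraticMap.polar_add_right, QuadraticMap.polar_add_right,
          QuadraticMap.polar_smul_right, QuadraticMap.polar_smul_right,
          QuadraticMap.polar_comm _ s a, has, QuadraticMap.polar_comm _ s b, hbs, hsw]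
        simp
      have hcross : B (B b w • a + B a w • b) q' = 0 := by
        rw [QuadraticMap.polar_add_left, QuadraticMap.polar_smul_left,
          QuadraticMap.polar_smul_left, (show B a q' = 0 from hq'.1.2), (show B b q' = 0 from hq'.2)]
        simp
      have hq'' : q' ∈ Submodule.span F {s} := by
        by_contra hne
        have hlt : Submodule.span F {s} < P' ⊓ ker Q s := by
          refine lt_of_le_not_ge ((Submodule.span_singleton_le_iff_mem _ _).2
            ⟨hs, polar_self_zero hQs⟩) fun h => hne (h ⟨hq', hsq⟩)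
        have d1 := Submodule.finrank_lt_finrank_of_lt hlt
        rw [finrank_span_singleton hs0] at d1
        obtain ⟨y, hy, hsy⟩ := hS s hs.1.1 hs0
        have hy' := hsplit y hy
        have hne' : ¬ P' ≤ P' ⊓ ker Q s := fun h => by
          have h3 : B s (y + B b y • a + B a y • b) = 0 := (h hy').2
          rw [QuadraticMap.polar_add_right, QuadraticMap.polar_add_right,
            QuadraticMap.polar_smul_right, QuadraticMap.polar_smul_right,
            QuadraticMap.polar_comm _ s a, has, QuadraticMap.polar_comm _ s b, hbs] at h3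
          simp at h3
          exact hsy h3
        have d2 := Submodule.finrank_lt_finrank_of_lt (lt_of_le_not_ge inf_le_left hne')
        have d3 : Module.finrank F P' ≤ 2 := by
          have hEle : Submodule.span F {a} ⊔ Submodule.span F {b} ≤ S :=
            sup_le ((Submodule.span_singleton_le_iff_mem _ _).2 haS)
              ((Submodule.span_singleton_le_iff_mem _ _).2 hbS)
          have hdis : (Submodule.span F {a} ⊔ Submodule.span F {b}) ⊓ P' = ⊥ := by
            rw [eq_bot_iff]
            rintro z ⟨hz, hzP⟩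
            obtain ⟨z₁, hz₁, z₂, hz₂, rfl⟩ := Submodule.mem_sup.1 hz
            obtain ⟨x₁, rfl⟩ := Submodule.mem_span_singleton.1 hz₁
            obtain ⟨x₂, rfl⟩ := Submodule.mem_span_singleton.1 hz₂
            have e1 : B a (x₁ • a + x₂ • b) = 0 := hzP.1.2
            have e2 : B b (x₁ • a + x₂ • b) = 0 := hzP.2
            simp [QuadraticMap.polar_add_right, QuadraticMap.polar_smul_right, polar_self', h2,
              hab, QuadraticMap.polar_comm _ b a] at e1 e2
            simp [e1, e2]
          have e1 := Submodule.finrank_sup_add_finrank_inf_eq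
            (Submodule.span F {a} ⊔ Submodule.span F {b}) P'
          rw [hdis, finrank_bot] at e1
          have hP'S : P' ≤ S := inf_le_left.trans inf_le_left
          have e2 := Submodule.finrank_mono (sup_le hEle hP'S)
          have e3 : Module.finrank F ↥(Submodule.span F {a} ⊔ Submodule.span F {b}) = 2 := by
            have f1 := Submodule.finrank_sup_add_finrank_inf_eq
              (Submodule.span F {a}) (Submodule.span F {b})
            have f2 : Submodule.span F {a} ⊓ Submodule.span F {b} = ⊥ := by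
              rw [eq_bot_iff]
              rintro z ⟨hz₁, hz₂⟩
              obtain ⟨x₁, rfl⟩ := Submodule.mem_span_singleton.1 hz₁
              obtain ⟨x₂, hx₂⟩ := Submodule.mem_span_singleton.1 hz₂
              have := (hE x₁ (-x₂) (by
                rw [neg_smul, hx₂, add_neg_cancel, map_zero'])).1
              simp [this]
            have ha0 : a ≠ 0 := fun h => one_ne_zero (α := F) (by rw [← hQa, h, map_zero'])
            have hb0 : b ≠ 0 := fun h => one_ne_zero (α := F) (by rw [← hQb, h, map_zero'])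
            rw [f2, finrank_bot, finrank_span_singleton ha0, finrank_span_singleton hb0] at f1
            omega
          omega
        omega
      obtain ⟨l, hl⟩ := Submodule.mem_span_singleton.1 hq''
      have hQw := hT w hw
      rw [hwe, map_add', hcross, ← hl, Classical.Orth.map_smul', hQs] at hQw
      simp only [mul_zero, add_zero] at hQw
      obtain ⟨h1, h2'⟩ := hE _ _ hQw
      rw [hwe, h1, h2', ← hl]
      simp only [zero_smul, add_zero, zero_add]
      exact Submodule.smul_mem _ _ (Submodule.mem_span_singleton_self s)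
    have d1 := finrank_inf_ker hQ T s
    obtain ⟨w, ⟨hwT, hsw⟩, hw0⟩ := Submodule.exists_mem_ne_zero_of_ne_bot (p := T ⊓ ker Q s)
      fun h => by rw [h, finrank_bot] at d1; omega
    obtain ⟨l, hl⟩ := Submodule.mem_span_singleton.1 (hline w hwT hsw)
    have hsT : s ∈ T := by
      have hl0 : l ≠ 0 := by rintro rfl; exact hw0 (by rw [← hl, zero_smul])
      have := T.smul_mem l⁻¹ hwT
      rwa [← hl, smul_smul, inv_mul_cancel₀ hl0, one_smul] at this
    have hle : T ≤ Submodule.span F {s} := fun z hz => hline z hz (polar_of_sing hT hsT hz)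
    have := Submodule.finrank_mono hle
    rw [finrank_span_singleton hs0] at this
    omega
  obtain ⟨v₀, hv₀, hv₀0⟩ := Submodule.exists_mem_ne_zero_of_ne_bot hP'0
  refine ⟨a, haS, b, hbS, hQa, hQb, hab, fun v hv hQv => ?_, v₀, hv₀.1.1, hv₀0, hv₀.1.2, hv₀.2⟩
  by_cases hcase : B a v = 0 ∧ B b v = 0
  · exact Or.inr hcase
  refine Or.inl ?_
  have hq' := hsplit v hv
  set q' := v + B b v • a + B a v • b with hq'def
  have hwe : v = B b v • a + B a v • b + q' := by
    rw [hq'def]
    funext i
    simp only [Pi.add_apply, Pi.smul_apply, smul_eq_mul]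
    linear_combination -(B b v * a i + B a v * b i) * h2
  have hcross : B (B b v • a + B a v • b) q' = 0 := by
    rw [QuadraticMap.polar_add_left, QuadraticMap.polar_smul_left,
      QuadraticMap.polar_smul_left, (show B a q' = 0 from hq'.1.2), (show B b q' = 0 from hq'.2)]
    simp
  have hQq : q' = 0 := by
    refine haniso q' hq' (by_contra fun h => hcase ?_)
    rw [hwe, map_add', hcross, h01 _ h, add_zero] at hQv
    obtain ⟨h1, h2'⟩ := hE _ _ (by linear_combination hQv)
    exact ⟨h2', h1⟩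
  rw [hwe, hQq, add_zero]
  exact Submodule.mem_span_pair.2 ⟨_, _, rfl⟩

/-- the stabilisers of orthogonal decompositions into small components are not maximal -/
theorem decomp_between (hQ : (QuadraticMap.polarBilin Q).Nondegenerate) (hn : 13 ≤ Fintype.card ι)
    {t k : ℕ} {D : Fin t → Submodule F Vec}
    (hD : Cfsg.Geo.IsOrthogonalMDecomposition (⇑Q) k D)
    (hcase : (k = 2 ∧ (Fintype.card F = 3 ∨ ((∀ i, Cfsg.Geo.IsPlusTypeOn (⇑Q) (D i)) ∧
      (Fintype.card F = 2 ∨ Fintype.card F = 4 ∨ Fintype.card F = 5)))) ∨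
      (k = 3 ∧ Fintype.card F = 3) ∨
      (k = 4 ∧ Fintype.card F = 2 ∧ ∀ i, Cfsg.Geo.IsPlusTypeOn (⇑Q) (D i))) :
    ∃ K : Subgroup (GL ι F),
      Cfsg.Geo.decompositionStabilizer D ⊓ Cfsg.Geo.omegaGL ⇑Q < K ∧ K < Cfsg.Geo.omegaGL ⇑Q := by
  have hd := hD.decomp
  have htk := card_le_mul hd
  have hnd : ∀ i, ∀ r ∈ D i, r ≠ 0 → ∃ s ∈ D i, B r s ≠ 0 := fun i r hr hr0 => nd_on hd hr hr0
  have hfr := hd.decomp.finrank_eq
  have ht0 : 0 < t := by have := hd.decomp.two_le; omega
  have odd_case : (2 : F) ≠ 0 → k = 2 ∨ k = 3 →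
      (∀ i, ∃ e c, c ≠ 0 ∧ IsFrameVec Q (D i) c e) → ∃ K : Subgroup (GL ι F),
      Cfsg.Geo.decompositionStabilizer D ⊓ Cfsg.Geo.omegaGL ⇑Q < K ∧
        K < Cfsg.Geo.omegaGL ⇑Q := by
    intro h2 hk h
    obtain ⟨e, c, hc, he⟩ := h ⟨0, ht0⟩
    have ht5 : 5 ≤ t := by rcases hk with rfl | rfl <;> omega
    refine frame_between hd hQ (by omega) h2 (by omega) ht5 hc fun i => ?_
    exact (frame_transport (hD.isometric i _) he).imp fun e' h => ⟨h.1, h.2⟩
  have h2of : Fintype.card F % 2 = 1 → (2 : F) ≠ 0 := fun h h2 => by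
    have : CharP F 2 := CharTwo.of_one_ne_zero_of_two_eq_zero one_ne_zero h2
    have := FiniteField.even_card_of_char_two (ringChar.eq F 2)
    omega
  have h20 : Fintype.card F = 2 ∨ Fintype.card F = 4 → (2 : F) = 0 := fun h => by
    by_contra h2
    have := FiniteField.odd_card_of_char_ne_two (F := F) fun hc => h2 (by
      have : CharP F 2 := (ringChar.eq_iff).1 hc
      exact CharTwo.two_eq_zero)
    omega
  rcases hcase with ⟨hk, hq | ⟨hplus, hq⟩⟩ | ⟨hk, hq⟩ | ⟨hk, hq, hplus⟩
  · exact odd_case (h2of (by omega)) (Or.inl hk) fun i =>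
      exists_frame_three hQ (h2of (by omega)) hq (hnd i) (Or.inl (by rw [hfr, hk]))
  · have hpl := fun i => plane_bilinear (by rw [hfr, hk]) (hnd i) (hplus i)
    have ht3 : 3 ≤ t := by subst hk; omega
    rcases hq with hq | hq | hq
    · refine lattice_between hd hQ (by omega) (h20 (Or.inl hq)) ht3 ⊥
        (fun r hr => Or.inl (AddSubgroup.mem_bot.1 hr))
        ⟨1, fun h => one_ne_zero (AddSubgroup.mem_bot.1 h)⟩ (fun i v hv w hw h1 h1' => ?_)
        fun i => (hpl i).1
      obtain ⟨s, hs, e⟩ := (hpl i).2 v hv w hw h1 h1'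
      have hs1 : s = 1 := by simpa [hq] using FiniteField.pow_card_sub_one_eq_one s hs
      rw [e, hs1, inv_one, AddSubgroup.mem_bot]
      linear_combination h20 (Or.inl hq)
    · have h2 := h20 (Or.inr hq)
      let R : AddSubgroup F :=
        { carrier := {r | r = 0 ∨ r = 1}
          zero_mem' := Or.inl rfl
          add_mem' := by
            rintro a b (rfl | rfl) (rfl | rfl) <;> simp
            linear_combination h2
          neg_mem' := by
            rintro a (rfl | rfl) <;> simp
            linear_combination -h2 }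
      refine lattice_between hd hQ (by omega) h2 ht3 R (fun r hr => hr) ?_
        (fun i v hv w hw h1 h1' => ?_) fun i => (hpl i).1
      · by_contra hc
        push Not at hc
        classical
        have := Finset.card_le_card (s := (Finset.univ : Finset F)) (t := {0, 1}) fun x _ => by
          rcases hc x with h | h <;> simp [h]
        rw [Finset.card_univ, hq] at this
        have := this.trans Finset.card_le_two
        omega
      obtain ⟨s, hs, e⟩ := (hpl i).2 v hv w hw h1 h1'
      have hs3 := FiniteField.pow_card_sub_one_eq_one s hs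
      rw [hq] at hs3
      have h : (s - 1) * (s * s + s + 1) = 0 := by linear_combination hs3
      rcases mul_eq_zero.1 h with h | h
      · rw [sub_eq_zero] at h; subst h
        exact Or.inl (by rw [e, inv_one]; linear_combination h2)
      · refine Or.inr ?_
        rw [e]
        field_simp
        linear_combination h - s * h2
    · exact odd_case (h2of (by omega)) (Or.inl hk) fun i =>
        let ⟨e, he⟩ := exists_frame_five hq (by rw [hfr, hk]) (hnd i) (hplus i)
        ⟨e, 1, one_ne_zero, he⟩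
  · exact odd_case (h2of (by omega)) (Or.inr hk) fun i =>
      exists_frame_three hQ (h2of (by omega)) hq (hnd i) (Or.inr (by rw [hfr, hk]))
  · exact planes_between hd hQ (by omega) (h20 (Or.inl hq)) (by subst hk; omega) fun i =>
      exists_planes hQ hq (h20 (Or.inl hq)) (by rw [hfr, hk]) (hnd i) (hplus i)

end Cfsg.Agent.Forms.Max.Orth
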