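import Mathlib
import Cfsg.Agent.Lib.Forms.Max.OrthBase

/-!
# The two families of maximal totally singular subspaces
-/

set_option autoImplicit false
set_option linter.unusedSectionVars false

namespace Cfsg.Agent.Forms.Max.Orth

open Matrix Cfsg.Agent.Forms.QuadStd Cfsg.Agent.Forms.Reflections Cfsg.Agent.Classical.Orth

variable {F : Type*} [Field F] [Fintype F] {ι : Type} [Fintype ι] [DecidableEq ι]
variable {Q : QuadraticForm F (ι → F)}

local notation "Vec" => (ι → F)
local notation "B" => QuadraticMap.polar Q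
set_option quotPrecheck false in
local notation "Iso" => Cfsg.isometryGroup F ⇑Q

variable (hQ : (QuadraticMap.polarBilin Q).Nondegenerate)
include hQ

theorem perp_eq_self {T : Submodule F Vec} (hT : ∀ x ∈ T, Q x = 0)
    (hd : 2 * Module.finrank F T = Fintype.card ι) : perp Q T = T := by
  refine (Submodule.eq_of_le_of_finrank_le (fun x hx => mem_perp.2 fun w hw =>
    polar_of_sing hT hw hx) ?_).symm
  have := finrank_perp hQ T
  omega

/-- a reflection changes the dimension of the intersection by one -/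
theorem inter_reflect {T S : Submodule F Vec} (hT : ∀ x ∈ T, Q x = 0)
    (hdT : 2 * Module.finrank F T = Fintype.card ι) (hS : ∀ x ∈ S, Q x = 0)
    (hdS : 2 * Module.finrank F S = Fintype.card ι) {v : Vec} (hv : Q v ≠ 0) :
    ((-1) ^ Module.finrank F ↥(T ⊓ S.map (act (reflect Q v))) : ℤˣ) =
      -(-1) ^ Module.finrank F ↥(T ⊓ S) := by
  set r := reflect Q v with hr
  set S' := S.map (act r) with hS'
  set E := T ⊓ S ⊓ ker Q v with hE
  have hE' : E = T ⊓ S' ⊓ ker Q v := by
    ext x
    constructor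
    · rintro ⟨⟨h1, h2⟩, h3⟩
      refine ⟨⟨h1, x, h2, ?_⟩, h3⟩
      rw [hr, act_reflect, (show B v x = 0 from h3)]
      simp
    · rintro ⟨⟨h1, y, h2, rfl⟩, h3⟩
      have h3' : B v (act r y) = 0 := h3
      have e : act r (act r y) = act r y := by
        conv_lhs => rw [hr, act_reflect, ← hr, h3']
        simp
      rw [← act_mul, hr, reflect_sq, act_one, ← hr] at e
      exact ⟨⟨h1, e ▸ h2⟩, h3⟩
  have key : ∀ X : Submodule F Vec, (¬ X ≤ ker Q v →
      Module.finrank F X = Module.finrank F ↥(X ⊓ ker Q v) + 1) := by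
    intro X hX
    have h1 := finrank_inf_ker hQ X v
    have h2 := Submodule.finrank_lt_finrank_of_lt
      (lt_of_le_not_ge inf_le_left fun h => hX (h.trans inf_le_right) : X ⊓ ker Q v < X)
    omega
  have key' : ∀ X : Submodule F Vec, X ≤ ker Q v → X ⊓ ker Q v = X := fun X h => inf_eq_left.2 h
  by_cases h1 : T ⊓ S ≤ ker Q v
  · have h2 : ¬ T ⊓ S' ≤ ker Q v := by
      intro h2
      obtain ⟨t, ht, s, hs, hts⟩ : ∃ t ∈ T, ∃ s ∈ S, t + s = v := by
        have e : T ⊔ S = perp Q (T ⊓ S) := by
          refine Submodule.eq_of_le_of_finrank_le (sup_le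
            (fun x hx => mem_perp.2 fun w hw => polar_of_sing hT hw.1 hx)
            (fun x hx => mem_perp.2 fun w hw => polar_of_sing hS hw.2 hx)) ?_
          have d1 := Submodule.finrank_sup_add_finrank_inf_eq T S
          have d2 := finrank_perp hQ (T ⊓ S)
          omega
        exact Submodule.mem_sup.1 (e.symm ▸ mem_perp.2 fun w hw => by
          rw [QuadraticMap.polar_comm]; exact h1 hw)
      have hBts : B t s = Q v := by rw [← hts, map_add', hT t ht, hS s hs, zero_add, zero_add]
      have hvs : B v s = Q v := by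
        rw [← hts, QuadraticMap.polar_add_left, polar_self_zero (hS s hs), hts, hBts, add_zero]
      have hmem : -t ∈ T ⊓ S' := ⟨T.neg_mem ht, s, hs, by
        rw [hr, act_reflect, hvs, inv_mul_cancel₀ hv, one_smul, ← hts]
        abel⟩
      have h3 : B v (-t) = 0 := h2 hmem
      rw [QuadraticMap.polar_neg_right, neg_eq_zero, ← hts, QuadraticMap.polar_add_left,
        polar_self_zero (hT t ht), zero_add, QuadraticMap.polar_comm _ s t, hBts] at h3
      exact hv h3
    have e : Module.finrank F ↥(T ⊓ S') = Module.finrank F ↥(T ⊓ S) + 1 := by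
      rw [key _ h2, ← hE', hE, key' _ h1]
    rw [e, pow_succ, mul_neg_one]
  · have h2 : T ⊓ S' ≤ ker Q v := by
      rintro x ⟨hxT, y, hy, rfl⟩
      by_contra hx
      obtain ⟨s, hs, hsv⟩ := SetLike.not_le_iff_exists.1 h1
      have e := polar_of_sing hT hs.1 hxT
      rw [hr, act_reflect, QuadraticMap.polar_sub_right, QuadraticMap.polar_smul_right,
        polar_of_sing hS hs.2 hy, zero_sub, neg_eq_zero, smul_eq_mul, mul_eq_zero, mul_eq_zero,
        inv_eq_zero, QuadraticMap.polar_comm _ s v] at e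
      rcases e with (h | h) | h
      · exact hv h
      · refine hx ?_
        show B v (act r y) = 0
        rw [hr, act_reflect, QuadraticMap.polar_sub_right, QuadraticMap.polar_smul_right, h]
        simp
      · exact hsv h
    have e : Module.finrank F ↥(T ⊓ S) = Module.finrank F ↥(T ⊓ S') + 1 := by
      rw [key _ h1, ← hE, hE', key' _ h2]
    rw [e, pow_succ, mul_neg_one, neg_neg]

/-- the parity of an isometry is read off from any maximal totally singular subspace -/
theorem par_eq_inter {U : Submodule F Vec} (hU : ∀ x ∈ U, Q x = 0) {m : ℕ}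
    (hm : Module.finrank F U = m) (hcard : Fintype.card ι = 2 * m) (g : Iso)
    (hg : g ∈ refGroup Q) :
    par g * (-1) ^ m = (-1) ^ Module.finrank F ↥(U ⊓ U.map (act g)) := by
  have himg : ∀ k : Iso, (∀ x ∈ U.map (act k), Q x = 0) ∧
      2 * Module.finrank F ↥(U.map (act k)) = Fintype.card ι := fun k => ⟨by
    rintro _ ⟨y, hy, rfl⟩; rw [act_map]; exact hU y hy, by
    rw [← (Submodule.equivMapOfInjective _ (act_injective k) U).finrank_eq, hm, hcard]⟩
  have step : ∀ (v : Vec) (k : Iso), Q v ≠ 0 →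
      par k * (-1) ^ m = (-1) ^ Module.finrank F ↥(U ⊓ U.map (act k)) →
      par (reflect Q v * k) * (-1) ^ m =
        (-1) ^ Module.finrank F ↥(U ⊓ U.map (act (reflect Q v * k))) := by
    intro v k hv ih
    have e : U.map (act (reflect Q v * k)) = (U.map (act k)).map (act (reflect Q v)) := by
      rw [← Submodule.map_comp]
      congr 1
      exact LinearMap.ext fun x => act_mul _ _ x
    rw [par_reflect_mul hQ hv, e, inter_reflect hQ hU (by rw [hm, hcard]) (himg k).1 (himg k).2 hv,
      neg_mul, ih]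
  induction hg using Subgroup.closure_induction_left with
  | one =>
    have e : U.map (act (1 : Iso)) = U := by
      rw [show act (1 : Iso) = LinearMap.id from LinearMap.ext act_one, Submodule.map_id]
    rw [par_one, e, inf_idem, hm, one_mul]
  | mul_left x hx y _ ih =>
    obtain ⟨v, hv, rfl⟩ := hx
    exact step v y hv ih
  | inv_mul_cancel x hx y _ ih =>
    obtain ⟨v, hv, rfl⟩ := hx
    rw [inv_eq_of_mul_eq_one_right (reflect_sq v)]
    exact step v y hv ih

theorem par_omega (hn : 9 ≤ Fintype.card ι) {g : Iso} (hg : g ∈ Cfsg.Omega F ⇑Q) : par g = 1 := by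
  let φ : Iso →* ℤˣ :=
    { toFun := par
      map_one' := par_one
      map_mul' := fun a b => par_mul_all hQ (Or.inr (by omega)) a b }
  exact Abelianization.commutator_subset_ker φ hg

/-- `Ω` keeps maximal totally singular subspaces at even codimension -/
theorem omega_inter (hn : 9 ≤ Fintype.card ι) {U : Submodule F Vec} (hU : ∀ x ∈ U, Q x = 0) {m : ℕ}
    (hm : Module.finrank F U = m) (hcard : Fintype.card ι = 2 * m) {g : Iso}
    (hg : g ∈ Cfsg.Omega F ⇑Q) :
    ((-1) ^ Module.finrank F ↥(U ⊓ U.map (act g)) : ℤˣ) = (-1) ^ m := by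
  rw [← par_eq_inter hQ hU hm hcard g
    (refGroup_eq_top hQ (Or.inr (by omega)) ▸ Subgroup.mem_top g), par_omega hQ hn hg, one_mul]

/-- the stabiliser of a totally singular subspace of codimension one in a maximal one -/
theorem singular_between (hn : 9 ≤ Fintype.card ι) {W T : Submodule F Vec}
    (hW : ∀ x ∈ W, Q x = 0) (hT : ∀ x ∈ T, Q x = 0)
    (hdT : 2 * Module.finrank F T = Fintype.card ι)
    (hdim : 2 * (Module.finrank F W + 1) = Fintype.card ι) :
    ∃ K : Subgroup (GL ι F),
      Cfsg.Geo.subspaceStabilizer W ⊓ Cfsg.Geo.omegaGL ⇑Q < K ∧ K < Cfsg.Geo.omegaGL ⇑Q := by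
  set k := Module.finrank F W with hk
  obtain ⟨x, ⟨hxT, hxP⟩, hxW⟩ : ∃ x ∈ T ⊓ perp Q W, x ∉ W := by
    refine SetLike.not_le_iff_exists.1 fun hle => ?_
    have e : T ⊓ perp Q W = perp Q (T ⊔ W) := by
      conv_lhs => rw [← perp_eq_self hQ hT hdT]
      refine le_antisymm (fun y hy => mem_perp.2 fun s hs => ?_)
        (le_inf (LinearMap.BilinForm.orthogonal_le le_sup_left)
          (LinearMap.BilinForm.orthogonal_le le_sup_right))
      obtain ⟨t, ht, w, hw, rfl⟩ := Submodule.mem_sup.1 hs
      rw [QuadraticMap.polar_add_left, mem_perp.1 hy.1 t ht, mem_perp.1 hy.2 w hw, add_zero]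
    have h0 : T ⊓ perp Q W ≤ T ⊓ W := le_inf inf_le_left hle
    have d1 := Submodule.finrank_mono h0
    have d2 := finrank_perp hQ (T ⊔ W)
    have d3 := Submodule.finrank_sup_add_finrank_inf_eq T W
    rw [e] at d1
    omega
  set U := W ⊔ Submodule.span F {x} with hU'
  have hU : ∀ y ∈ U, Q y = 0 := by
    intro y hy
    obtain ⟨w, hw, c, hc, rfl⟩ := Submodule.mem_sup.1 hy
    obtain ⟨c, rfl⟩ := Submodule.mem_span_singleton.1 hc
    rw [map_add', Classical.Orth.map_smul', hW w hw, hT x hxT, QuadraticMap.polar_smul_right,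
      mem_perp.1 hxP w hw]
    simp
  have hxU : x ∈ U := Submodule.mem_sup_right (Submodule.mem_span_singleton_self x)
  have hWU : W ≤ U := le_sup_left
  have hdU : Module.finrank F U = k + 1 := by
    have d1 := Submodule.finrank_lt_finrank_of_lt
      (lt_of_le_not_ge hWU fun h => hxW (h hxU))
    have d2 := finrank_sing_le hQ hU
    omega
  have hW0 : W ≠ ⊥ := fun h => by rw [hk, h, finrank_bot] at hdim; omega
  obtain ⟨w₀, hw₀, hw₀0⟩ := Submodule.exists_mem_ne_zero_of_ne_bot hW0
  refine Max.exists_between (K := Cfsg.Geo.subspaceStabilizer U ⊓ Cfsg.Geo.omegaGL ⇑Q) ?_ ?_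
    inf_le_right ?_
  · rintro _ ⟨hgW, hgK⟩
    obtain ⟨g, hg, rfl⟩ := Subgroup.mem_map.1 hgK
    refine ⟨?_, Subgroup.mem_map_of_mem _ hg⟩
    have hWg : W ≤ U ⊓ U.map (act g) := by
      refine le_inf hWU fun w hw => ?_
      have hmap : W.map (act g) = W := Submodule.eq_of_le_of_finrank_eq
        (Submodule.map_le_iff_le_comap.2 fun y hy => by
          rw [Submodule.mem_comap, act_apply]; exact map_of_stab hgW hy)
        (Submodule.equivMapOfInjective _ (act_injective g) W).finrank_eq.symm
      exact Submodule.map_mono hWU (hmap.symm ▸ hw)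
    have d1 := Submodule.finrank_mono hWg
    have d2 := Submodule.finrank_mono (inf_le_left : U ⊓ U.map (act g) ≤ U)
    have e := omega_inter hQ hn hU hdU hdim.symm hg
    have d3 : Module.finrank F ↥(U ⊓ U.map (act g)) = k + 1 := by
      by_contra hne
      rw [show Module.finrank F ↥(U ⊓ U.map (act g)) = k by omega, pow_succ, mul_neg_one] at e
      rcases Nat.even_or_odd k with h | h
      · rw [h.neg_one_pow] at e; exact absurd e (by decide)
      · rw [h.neg_one_pow] at e; exact absurd e (by decide)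
    have hle : U ≤ U.map (act g) :=
      inf_eq_left.1 (Submodule.eq_of_le_of_finrank_eq inf_le_left (by omega))
    have heq : U.map (act g) = U := (Submodule.eq_of_le_of_finrank_eq hle
      (Submodule.equivMapOfInjective _ (act_injective g) U).finrank_eq).symm
    refine stab_of_forall fun y hy => ?_
    rw [Subgroup.coe_subtype, ← act_apply]
    exact heq.le (Submodule.mem_map_of_mem hy)
  · obtain ⟨b, hxb, hwb⟩ := exists_perp_ne hQ (u := x) (z := w₀) (not_mem_span hw₀ hw₀0 hxW)
    have hQx : Q x = 0 := hT x hxT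
    refine ⟨_, ⟨stab_of_forall fun y hy => ?_,
      Subgroup.mem_map_of_mem _ (eich_omega hQ (by omega) hQx hxb)⟩, fun h => hxW ?_⟩
    · rw [Subgroup.coe_subtype, ← act_apply, act_eich, polar_of_sing hU hy hxU]
      simp only [zero_smul, add_zero, mul_zero, sub_zero]
      exact U.sub_mem hy (U.smul_mem _ hxU)
    · have hmem := map_of_stab h.1 hw₀
      rw [Subgroup.coe_subtype, ← act_apply, act_eich, mem_perp.1 hxP w₀ hw₀] at hmem
      simp only [zero_smul, add_zero, mul_zero, sub_zero] at hmem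
      rw [W.sub_mem_iff_right hw₀] at hmem
      have := W.smul_mem (B w₀ b)⁻¹ hmem
      rwa [smul_smul, inv_mul_cancel₀ hwb, one_smul] at this
  · obtain ⟨y₀, hy₀⟩ := exists_ne hQ hw₀0
    obtain ⟨y, -, hQy, hwy⟩ := exists_partner_in (S := ⊤) (e := w₀) (Submodule.mem_top)
      (Submodule.mem_top (x := y₀)) (hW _ hw₀) hy₀
    obtain ⟨z, hz, hQz⟩ : ∃ z ∈ ker Q w₀ ⊓ ker Q y, Q z ≠ 0 := by
      by_contra hc
      push Not at hc
      have d1 := finrank_sing_le hQ hc
      have d2 := finrank_inf_ker hQ ⊤ w₀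
      have d3 := finrank_inf_ker hQ (ker Q w₀) y
      rw [top_inf_eq, finrank_top, Module.finrank_fintype_fun_eq_card] at d2
      omega
    have hzy : B y z = 0 := hz.2
    refine ⟨_, Subgroup.mem_map_of_mem _ (eich_omega hQ (by omega) hQy hzy), fun h => hQz ?_⟩
    have e := polar_of_sing hU (hWU hw₀) (map_of_stab h.1 (hWU hw₀))
    rw [Subgroup.coe_subtype, ← act_apply, act_eich, hwy] at e
    simpa [QuadraticMap.polar_add_right, QuadraticMap.polar_sub_right,
      QuadraticMap.polar_smul_right, polar_self_zero (hW _ hw₀), (show B w₀ z = 0 from hz.1),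
      hwy] using e

/-- the stabiliser of a pair of complementary maximal totally singular subspaces of odd dimension -/
theorem pair_between (hn : 9 ≤ Fintype.card ι) {k : ℕ} (hk : Fintype.card ι = 2 * k) (hko : Odd k)
    {D : Fin 2 → Submodule F Vec} (hD : Cfsg.Geo.IsMDecomposition k D)
    (hts : ∀ i, ∀ x ∈ D i, Q x = 0) :
    ∃ K : Subgroup (GL ι F),
      Cfsg.Geo.decompositionStabilizer D ⊓ Cfsg.Geo.omegaGL ⇑Q < K ∧ K < Cfsg.Geo.omegaGL ⇑Q := by
  have hdisj : D 0 ⊓ D 1 = ⊥ :=
    disjoint_iff.1 (hD.indep.pairwiseDisjoint (by decide : (0 : Fin 2) ≠ 1))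
  have hmove : ∀ i j : Fin 2, D i ⊓ D j = ⊥ →
      ∃ (a b : Vec) (ha : Q a = 0) (hab : B a b = 0),
        (∀ y ∈ D i, act (eich a b ha hab) y ∈ D i) ∧ ∃ z ∈ D j, act (eich a b ha hab) z ∉ D j := by
    intro i j hij
    have hDj : perp Q (D j) = D j := perp_eq_self hQ (hts j) (by rw [hD.finrank_eq, hk])
    have hi0 : D i ≠ ⊥ := fun h => by
      have := hD.finrank_eq i
      rw [h, finrank_bot] at this
      have := hD.pos
      omega
    obtain ⟨a, ha, ha0⟩ := Submodule.exists_mem_ne_zero_of_ne_bot hi0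
    obtain ⟨b, hb, hba⟩ : ∃ b ∈ D i, b ∉ Submodule.span F {a} :=
      SetLike.not_le_iff_exists.1 fun hle => by
        have := Submodule.finrank_mono hle
        rw [finrank_span_singleton ha0, hD.finrank_eq] at this
        omega
    obtain ⟨z, hz, hza⟩ : ∃ z ∈ D j, B z a ≠ 0 := by
      by_contra hc
      push Not at hc
      refine ha0 ?_
      have : a ∈ D i ⊓ D j := ⟨ha, hDj ▸ mem_perp.2 hc⟩
      rwa [hij, Submodule.mem_bot] at this
    refine ⟨a, b, hts i a ha, polar_of_sing (hts i) ha hb, fun y hy => ?_, z, hz, fun hmem => ?_⟩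
    · rw [act_eich, polar_of_sing (hts i) hy ha]
      simp only [zero_smul, add_zero, mul_zero, sub_zero]
      exact (D i).sub_mem hy ((D i).smul_mem _ ha)
    · rw [act_eich, hts i b hb] at hmem
      simp only [zero_mul, zero_smul, sub_zero, add_sub_assoc, (D j).add_mem_iff_right hz] at hmem
      have h0 : B z a • b - B z b • a = 0 := by
        have : B z a • b - B z b • a ∈ D i ⊓ D j :=
          ⟨(D i).sub_mem ((D i).smul_mem _ hb) ((D i).smul_mem _ ha), hmem⟩
        rwa [hij, Submodule.mem_bot] at this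
      refine hba (Submodule.mem_span_singleton.2 ⟨(B z a)⁻¹ * B z b, ?_⟩)
      rw [mul_smul, ← sub_eq_zero.1 h0, smul_smul, inv_mul_cancel₀ hza, one_smul]
  refine Max.exists_between (K := Cfsg.Geo.subspaceStabilizer (D 0) ⊓ Cfsg.Geo.omegaGL ⇑Q) ?_ ?_
    inf_le_right ?_
  · rintro _ ⟨⟨σ, hσ⟩, hgK⟩
    obtain ⟨g, hg, rfl⟩ := Subgroup.mem_map.1 hgK
    refine ⟨?_, Subgroup.mem_map_of_mem _ hg⟩
    have e0 : (D 0).map (act g) = D (σ 0) := by
      rw [← hσ 0]
      congr 1
    have hσ0 : σ 0 = 0 := by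
      by_contra hne
      have h1 : σ 0 = 1 := by omega
      have e := omega_inter hQ hn (hts 0) (hD.finrank_eq 0) hk hg
      rw [e0, h1, hdisj, finrank_bot, pow_zero, hko.neg_one_pow] at e
      exact absurd e (by decide)
    refine stab_of_forall fun y hy => ?_
    rw [Subgroup.coe_subtype, ← act_apply]
    rw [hσ0] at e0
    exact e0.le (Submodule.mem_map_of_mem hy)
  · obtain ⟨a, b, ha, hab, hfix, z, hz, hmv⟩ := hmove 0 1 hdisj
    refine ⟨_, ⟨stab_of_forall fun y hy => ?_,
      Subgroup.mem_map_of_mem _ (eich_omega hQ (by omega) ha hab)⟩, fun h => ?_⟩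
    · rw [Subgroup.coe_subtype, ← act_apply]; exact hfix y hy
    · obtain ⟨σ, hσ⟩ := h.1
      have h0 : σ 0 = 0 := by
        by_contra hne
        have h1 : σ 0 = 1 := by omega
        have hy0 : D 0 ≠ ⊥ := fun h' => by
          have := hD.finrank_eq 0
          rw [h', finrank_bot] at this
          have := hD.pos
          omega
        obtain ⟨y, hy, hy0⟩ := Submodule.exists_mem_ne_zero_of_ne_bot hy0
        have hy1 : act (eich a b ha hab) y ∈ D 1 := by
          rw [← h1, ← hσ 0]
          exact ⟨y, hy, (act_apply _ y).symm⟩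
        have : act (eich a b ha hab) y ∈ D 0 ⊓ D 1 := ⟨hfix y hy, hy1⟩
        rw [hdisj, Submodule.mem_bot] at this
        exact act_ne_zero _ hy0 this
      have h1 : σ 1 = 1 := by
        by_contra hne
        exact absurd (σ.injective (h0.trans (show (0 : Fin 2) = σ 1 by omega))) (by decide)
      refine hmv ?_
      rw [← h1, ← hσ 1]
      exact ⟨z, hz, (act_apply _ z).symm⟩
  · obtain ⟨a, b, ha, hab, -, z, hz, hmv⟩ := hmove 1 0 (inf_comm (D 1) (D 0) ▸ hdisj)
    refine ⟨_, Subgroup.mem_map_of_mem _ (eich_omega hQ (by omega) ha hab), fun h => hmv ?_⟩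
    rw [act_apply]
    exact map_of_stab h.1 hz

end Cfsg.Agent.Forms.Max.Orth
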