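import Mathlib
import Cfsg.Agent.Lib.Forms.Max.Core
import Cfsg.Agent.Lib.Forms.SympStd
import Cfsg.Agent.Aschbacher.Sp.Lists.Proper

/-!
# Stabilisers of subspaces in the symplectic group
-/

set_option autoImplicit false
set_option linter.unusedSectionVars false

namespace Cfsg.Agent.Forms.Max.Symp

open Matrix Cfsg.Agent.Aschbacher Cfsg.Agent.Forms.SympStd

variable {F : Type*} [Field F] {m : ℕ}

local notation "Vec" => (Fin m ⊕ Fin m → F)
local notation "GLm" => GL (Fin m ⊕ Fin m) F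
local notation "B" => sympB m F

theorem spTrv_apply (v : Vec) (a : F) (x : Vec) :
    ((spTrv v a : GLm) : Matrix _ _ F) *ᵥ x = x + (a * B x v) • v := by
  rw [spTrv_mulVec, sympB_apply]
  rfl

theorem mem_spGL_iff {g : GLm} : g ∈ Cfsg.spGL m F ↔
    ∀ u v, B ((g : Matrix _ _ F) *ᵥ u) ((g : Matrix _ _ F) *ᵥ v) = B u v := by
  simp only [sympB_apply]
  exact Iff.rfl

theorem isRefl : (B).IsRefl := (sympB_isAlt (m := m) (F := F)).isRefl

theorem nondeg : (B).Nondegenerate := sympB_nondegenerate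

theorem B_self (v : Vec) : B v v = 0 := by rw [sympB_apply, sympForm_self]

theorem B_swap (u v : Vec) : B v u = - B u v := by rw [sympB_apply, sympB_apply, sympForm_swap]

theorem phi_apply (v x : Vec) : spPhi v 1 ⬝ᵥ x = B x v := by
  rw [spPhi_dot, one_mul, sympB_apply]
  rfl

/-- the Siegel element `x ↦ x + f(x, a) b + f(x, b) a` attached to two orthogonal vectors -/
theorem exists_siegel (a b : Vec) (h : B a b = 0) :
    ∃ g ∈ Cfsg.spGL m F, ∀ x, (g : Matrix _ _ F) *ᵥ x = x + B x a • b + B x b • a := by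
  have h1 : spPhi b (1 : F) ⬝ᵥ a = 0 := by rw [phi_apply, h]
  have h2 : spPhi a (1 : F) ⬝ᵥ b = 0 := by rw [phi_apply, B_swap, h, neg_zero]
  have key : ∀ x, ((trv a _ h1 * trv b _ h2 : GLm) : Matrix _ _ F) *ᵥ x = x + B x a • b + B x b • a := by
    intro x
    rw [mulVec_mul_GL, trv_mulVec, trv_mulVec, phi_apply, phi_apply, map_add, map_smul]
    simp [B_self]
  refine ⟨_, mem_spGL_iff.2 fun x y => ?_, key⟩
  rw [key, key]
  simp only [map_add, map_smul, LinearMap.add_apply, LinearMap.smul_apply, smul_eq_mul, B_self, h,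
    B_swap a b, B_swap y a, B_swap y b]
  ring

/-- the transvection centres of a subgroup -/
def centres (M : Subgroup GLm) : Set Vec := {v | ∀ c : F, spTrv v c ∈ M}

theorem centres_map {M : Subgroup GLm} {g : GLm} (hgs : g ∈ Cfsg.spGL m F) (hg : g ∈ M) {v : Vec}
    (hv : v ∈ centres M) : (g : Matrix _ _ F) *ᵥ v ∈ centres M := by
  intro c
  have e : g * spTrv v c * g⁻¹ = spTrv ((g : Matrix _ _ F) *ᵥ v) c := by
    rw [mul_inv_eq_iff_eq_mul]
    refine gl_ext fun x => ?_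
    rw [mulVec_mul_GL, mulVec_mul_GL, spTrv_apply, spTrv_apply, mulVec_add, mulVec_smul,
      mem_spGL_iff.1 hgs]
  exact e ▸ mul_mem (mul_mem hg (hv c)) (inv_mem hg)

theorem centres_smul {M : Subgroup GLm} {v : Vec} (t : F) (hv : v ∈ centres M) :
    t • v ∈ centres M := by
  intro c
  have e : spTrv (t • v) c = spTrv v (c * t * t) := gl_ext fun x => by
    rw [spTrv_apply, spTrv_apply, map_smul, smul_smul, smul_eq_mul]
    congr 2
    ring
  exact e ▸ hv _

theorem spGL_le_of_centres {M : Subgroup GLm} (h : ∀ v, v ∈ centres M) : Cfsg.spGL m F ≤ M := by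
  intro g hg
  let T : Subgroup (symplecticGroup (Fin m) F) :=
    { carrier := {A | ∃ k ∈ M, ∀ x : Vec, (k : Matrix (Fin m ⊕ Fin m) (Fin m ⊕ Fin m) F) *ᵥ x =
        (A : Matrix (Fin m ⊕ Fin m) (Fin m ⊕ Fin m) F) *ᵥ x}
      one_mem' := ⟨1, one_mem M, fun x => rfl⟩
      mul_mem' := fun {A A'} hA hA' => by
        obtain ⟨k, hk, e⟩ := hA
        obtain ⟨k', hk', e'⟩ := hA'
        exact ⟨k * k', mul_mem hk hk', fun x => by rw [mulVec_mul_GL, mul_mulVec_sp, e', e]⟩
      inv_mem' := fun {A} hA => by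
        obtain ⟨k, hk, e⟩ := hA
        refine ⟨k⁻¹, inv_mem hk, fun x => (inv_mulVec_of_eq ?_).symm⟩
        rw [← e, mulVec_inv_cancel] }
  have hle : Subgroup.closure (tvSet (F := F) (m := m) ∅) ≤ T := by
    refine (Subgroup.closure_le _).2 ?_
    rintro A ⟨w, c, -, hA⟩
    refine ⟨spTrv w c, h w c, fun x => ?_⟩
    rw [hA, SympStd.transvection_mulVec, spTrv_apply, sympB_apply]
  let A : symplecticGroup (Fin m) F :=
    ⟨(g : Matrix (Fin m ⊕ Fin m) (Fin m ⊕ Fin m) F), mem_sp_iff.2 fun u v => hg u v⟩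
  obtain ⟨k, hk, e⟩ := hle (closure_tvSet_eq_top (F := F) (m := m) ▸ Subgroup.mem_top A)
  have : k = g := gl_ext e
  exact this ▸ hk

theorem inf_stab {W : Submodule F Vec} {M : Subgroup GLm}
    (hM : Cfsg.Geo.subspaceStabilizer W ⊓ Cfsg.spGL m F ≤ M) {g : GLm}
    (hg : g ∈ Cfsg.spGL m F) (h : ∀ w ∈ W, (g : Matrix _ _ F) *ᵥ w ∈ W) : g ∈ M :=
  hM ⟨stab_of_forall h, hg⟩

theorem singular_maximal (W : Submodule F Vec) (hW0 : W ≠ ⊥)
    (hW : ∀ u ∈ W, ∀ v ∈ W, B u v = 0) (hW1 : W ≠ ⊤) :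
    Cfsg.Geo.IsMaximalIn (Cfsg.spGL m F) (Cfsg.Geo.subspaceStabilizer W ⊓ Cfsg.spGL m F) := by
  refine isMaximalIn_of inf_le_right
    (fun h => not_spGL_le_subspace hW0 hW1 (h.trans inf_le_left)) fun M hM hMK g hgM hg => ?_
  have hgW : g ∉ Cfsg.Geo.subspaceStabilizer W := fun h => hg ⟨h, hMK hgM⟩
  obtain ⟨w₀, hw₀, hgw₀⟩ := exists_moved hgW
  -- centres in `W^⊥`
  have hperp : ∀ v ∈ (B).orthogonal W, v ∈ centres M := fun v hv c =>
    inf_stab hM (spTrv_mem v c) fun w hw => by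
      rw [spTrv_apply, LinearMap.BilinForm.mem_orthogonal_iff.1 hv w hw, mul_zero, zero_smul,
        add_zero]
      exact hw
  have hWperp : W ≤ (B).orthogonal W := fun w hw =>
    LinearMap.BilinForm.mem_orthogonal_iff.2 fun x hx => hW x hx w hw
  -- some centre outside `W^⊥`
  obtain ⟨u, hu, hu'⟩ : ∃ u ∈ centres M, u ∉ (B).orthogonal W := by
    obtain ⟨y, hy, hgy⟩ := not_mem_perp nondeg isRefl hgw₀
    set z := ((g⁻¹ : GLm) : Matrix (Fin m ⊕ Fin m) (Fin m ⊕ Fin m) F) *ᵥ w₀ with hz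
    by_cases hzW : z ∈ W
    swap
    · obtain ⟨y', hy', hzy⟩ := not_mem_perp nondeg isRefl hzW
      refine ⟨_, centres_map (hMK hgM) hgM (hperp y' hy'), fun h => hzy ?_⟩
      have := LinearMap.BilinForm.mem_orthogonal_iff.1 h w₀ hw₀
      rwa [← mulVec_inv_cancel g w₀, mem_spGL_iff.1 (hMK hgM)] at this
    · refine ⟨_, centres_map (inv_mem (hMK hgM)) (inv_mem hgM) (hperp y hy), fun h => hgy ?_⟩
      have := LinearMap.BilinForm.mem_orthogonal_iff.1 h w₀ hw₀
      rw [← inv_mulVec_cancel g w₀, mem_spGL_iff.1 (inv_mem (hMK hgM))] at this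
      exact this
  obtain ⟨w₁, hw₁, hw₁u⟩ : ∃ w ∈ W, B w u ≠ 0 := by
    by_contra hc
    push Not at hc
    exact hu' (LinearMap.BilinForm.mem_orthogonal_iff.2 hc)
  refine spGL_le_of_centres fun u' => ?_
  by_cases hu'' : u' ∈ (B).orthogonal W
  · exact hperp _ hu''
  -- moving with the functional fixed
  have move : ∀ v : Vec, v ∈ centres M → ∀ v' : Vec, (∀ w ∈ W, B w v' = B w v) →
      ∀ w ∈ W, B w v ≠ 0 → v' ∈ centres M := by
    intro v hv v' hvv' w hw hwv
    set d := v' - v with hd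
    have hdW : ∀ x ∈ W, B x d = 0 := fun x hx => by rw [hd, map_sub, hvv' x hx, sub_self]
    set w₂ := (B v w)⁻¹ • w
    have hvw : B v w ≠ 0 := by rw [B_swap, neg_ne_zero]; exact hwv
    have hv2 : B v w₂ = 1 := by rw [map_smul, smul_eq_mul, inv_mul_cancel₀ hvw]
    obtain ⟨s, hs⟩ : ∃ s : F, B v d + s ≠ 0 := ⟨1 - B v d, by simp⟩
    have hd2 : d + s • w₂ ∈ (B).orthogonal W :=
      LinearMap.BilinForm.mem_orthogonal_iff.2 fun x hx => by
        show B x (d + s • w₂) = 0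
        rw [map_add, map_smul, hdW x hx, hW x hx _ (W.smul_mem _ hw), smul_zero, add_zero]
    have h1 := centres_map (spTrv_mem _ _) (hperp _ hd2 (B v d + s)⁻¹) hv
    have h2 := centres_map (spTrv_mem _ _) (hperp w₂ (hWperp (W.smul_mem (B v w)⁻¹ hw)) (-s)) h1
    rw [spTrv_apply, spTrv_apply, map_add (B v), map_smul, smul_eq_mul, hv2, mul_one,
      inv_mul_cancel₀ hs, one_smul] at h2
    have hdw : B d w₂ = 0 := by rw [B_swap, hdW _ (W.smul_mem _ hw), neg_zero]
    have e : B (v + (d + s • w₂)) w₂ = 1 := by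
      rw [map_add (B), LinearMap.add_apply, map_add (B), LinearMap.add_apply, map_smul (B),
        LinearMap.smul_apply, B_self, hdw, hv2]
      simp
    rw [e, mul_one] at h2
    rw [show v' = v + (d + s • w₂) + -s • w₂ by rw [hd]; module]
    exact h2
  let φ : W →ₗ[F] F := ((B).flip u).domRestrict W
  let ψ : W →ₗ[F] F := ((B).flip u').domRestrict W
  by_cases hc : ∃ c : F, ψ = c • φ
  · obtain ⟨c, hc⟩ := hc
    have hc' : ∀ w ∈ W, B w u' = c * B w u := fun w hw => LinearMap.congr_fun hc ⟨w, hw⟩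
    refine move (c • u) (centres_smul c hu) u' (fun w hw => by rw [map_smul, smul_eq_mul, hc' w hw])
      w₁ hw₁ ?_
    rw [map_smul, smul_eq_mul]
    refine mul_ne_zero (fun h0 => hu'' ?_) hw₁u
    exact LinearMap.BilinForm.mem_orthogonal_iff.2 fun w hw => (hc' w hw).trans (by rw [h0, zero_mul])
  push Not at hc
  obtain ⟨⟨a, ha⟩, hau, hau'⟩ := exists_equal_value φ ψ
    (fun h => hw₁u (LinearMap.congr_fun h ⟨w₁, hw₁⟩)) hc
  change B a u ≠ 0 at hau
  change B a u' = B a u at hau'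
  have hua : B u a ≠ 0 := by rw [B_swap, neg_ne_zero]; exact hau
  set b := (B u a)⁻¹ • (u' - u) with hb
  have hab : B a b = 0 := by rw [hb, map_smul, map_sub, hau', sub_self, smul_zero]
  obtain ⟨T, hT, hTx⟩ := exists_siegel a b hab
  have hTM : T ∈ M := inf_stab hM hT fun w hw => by
    rw [hTx, hW w hw a ha, zero_smul, add_zero]
    exact W.add_mem hw (W.smul_mem _ ha)
  refine move _ (centres_map hT hTM hu) u' (fun w hw => ?_) a ha ?_
  · rw [hTx]
    simp only [map_add, map_smul, map_sub, smul_eq_mul, hW w hw a ha, hb]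
    field_simp
    ring
  · rw [hTx]
    simp only [map_add, map_smul, smul_eq_mul, hab, B_self]
    simpa using hau

theorem move_in (S : Submodule F Vec) (hS : ∀ a ∈ S, a ≠ 0 → ∃ x ∈ S, B a x ≠ 0)
    {W : Submodule F Vec} (hSW : ∀ w ∈ W, ∀ v ∈ S, ∀ t : F, w + (t * B w v) • v ∈ W)
    {M : Subgroup GLm} (hM : Cfsg.Geo.subspaceStabilizer W ⊓ Cfsg.spGL m F ≤ M)
    {a a' b : Vec} (ha : a ∈ S) (ha' : a' ∈ S) (ha0 : a ≠ 0) (ha0' : a' ≠ 0)
    (hb : ∀ v ∈ S, B b v = 0) (h : a + b ∈ centres M) : a' + b ∈ centres M := by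
  have step : ∀ x ∈ S, ∀ y ∈ S, B x y ≠ 0 → x + b ∈ centres M → y + b ∈ centres M := by
    intro x hx y hy hxy hxb
    have hd := S.sub_mem hy hx
    have h1 : spTrv (y - x) (B x y)⁻¹ ∈ M := inf_stab hM (spTrv_mem _ _) fun w hw => by
      rw [spTrv_apply]; exact hSW w hw _ hd _
    have := centres_map (spTrv_mem _ _) h1 hxb
    rw [spTrv_apply, map_add (B), LinearMap.add_apply, hb _ hd, add_zero, map_sub, B_self,
      sub_zero, inv_mul_cancel₀ hxy, one_smul] at this
    rwa [show x + b + (y - x) = y + b by abel] at this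
  obtain ⟨c, hc, h1, h2⟩ := exists_common B S (hS a ha ha0) (hS a' ha' ha0')
  exact step c hc a' ha' (by rw [B_swap, neg_ne_zero]; exact h2) (step a ha c hc h1 h)

theorem nondeg_maximal (W : Submodule F Vec) (hW0 : W ≠ ⊥)
    (hW : ∀ w ∈ W, w ≠ 0 → ∃ x ∈ W, B w x ≠ 0) (hdim : Module.finrank F W < m) :
    Cfsg.Geo.IsMaximalIn (Cfsg.spGL m F) (Cfsg.Geo.subspaceStabilizer W ⊓ Cfsg.spGL m F) := by
  have hW1 : W ≠ ⊤ := fun h => by
    rw [h, finrank_top, SympStd.finrank_vec] at hdim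
    omega
  refine isMaximalIn_of inf_le_right
    (fun h => not_spGL_le_subspace hW0 hW1 (h.trans inf_le_left)) fun M hM hMK g hgM hg => ?_
  have hgW : g ∉ Cfsg.Geo.subspaceStabilizer W := fun h => hg ⟨h, hMK hgM⟩
  set U := (B).orthogonal W with hU
  have hC := isCompl_perp isRefl hW
  have hUn := perp_nondeg nondeg isRefl hW
  have hUW : ∀ w ∈ W, ∀ v ∈ U, B w v = 0 := fun w hw v hv =>
    LinearMap.BilinForm.mem_orthogonal_iff.1 hv w hw
  have hSW : ∀ w ∈ W, ∀ v ∈ W, ∀ t : F, w + (t * B w v) • v ∈ W := fun w hw v hv t =>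
    W.add_mem hw (W.smul_mem _ hv)
  have hSU : ∀ w ∈ W, ∀ v ∈ U, ∀ t : F, w + (t * B w v) • v ∈ W := fun w hw v hv t => by
    rw [hUW w hw v hv, mul_zero, zero_smul, add_zero]; exact hw
  have hpure : ∀ v, v ∈ W ∨ v ∈ U → v ∈ centres M := fun v hv c =>
    inf_stab hM (spTrv_mem v c) fun w hw => by
      rw [spTrv_apply]
      rcases hv with hv | hv
      exacts [hSW w hw v hv c, hSU w hw v hv c]
  -- a mixed centre
  obtain ⟨a, ha, b, hb, ha0, hb0, hab⟩ :
      ∃ a ∈ W, ∃ b ∈ U, a ≠ 0 ∧ b ≠ 0 ∧ a + b ∈ centres M := by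
    by_contra hc
    push Not at hc
    have hin : ∀ v ∈ img g U, v ∈ W ∨ v ∈ U := by
      intro v hv
      obtain ⟨x, hx, rfl⟩ := mem_img.1 hv
      obtain ⟨a, ha, b, hb, e⟩ := Submodule.mem_sup.1
        (hC.sup_eq_top ▸ Submodule.mem_top : (g : Matrix _ _ F) *ᵥ x ∈ W ⊔ U)
      by_cases ha0 : a = 0
      · right; rw [← e, ha0, zero_add]; exact hb
      by_cases hb0 : b = 0
      · left; rw [← e, hb0, add_zero]; exact ha
      exact absurd (e ▸ centres_map (hMK hgM) hgM (hpure x (Or.inr hx))) (hc a ha b hb ha0 hb0)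
    have hfin := Submodule.finrank_add_eq_of_isCompl hC
    rw [SympStd.finrank_vec] at hfin
    have hgU : img g U ≤ U := by
      rcases le_or_le_of_forall hin with h | h
      · have := Submodule.finrank_mono h
        rw [finrank_img] at this
        have : Module.finrank F U = Module.finrank F ↥((B).orthogonal W) := rfl
        omega
      · exact h
    refine hgW (stab_of_forall fun w hw => ?_)
    have heq : img g U = U := Submodule.eq_of_le_of_finrank_eq hgU (finrank_img g U)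
    rw [← LinearMap.BilinForm.orthogonal_orthogonal nondeg isRefl W, ← hU]
    refine LinearMap.BilinForm.mem_orthogonal_iff.2 fun y hy => ?_
    rw [← heq] at hy
    obtain ⟨x, hx, rfl⟩ := mem_img.1 hy
    show B ((g : Matrix _ _ F) *ᵥ x) ((g : Matrix _ _ F) *ᵥ w) = 0
    rw [mem_spGL_iff.1 (hMK hgM), B_swap, hUW w hw x hx, neg_zero]
  refine spGL_le_of_centres fun v => ?_
  obtain ⟨a', ha', b', hb', rfl⟩ := Submodule.mem_sup.1
    (hC.sup_eq_top ▸ Submodule.mem_top : v ∈ W ⊔ U)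
  by_cases ha0' : a' = 0
  · exact hpure _ (Or.inr (by rwa [ha0', zero_add]))
  by_cases hb0' : b' = 0
  · exact hpure _ (Or.inl (by rwa [hb0', add_zero]))
  have h1 := move_in W hW hSW hM ha ha' ha0 ha0'
    (fun v hv => by rw [B_swap, hUW v hv b hb, neg_zero]) hab
  rw [add_comm] at h1 ⊢
  exact move_in U hUn hSU hM hb hb' hb0 hb0' (fun v hv => hUW a' ha' v hv) h1

end Cfsg.Agent.Forms.Max.Symp
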