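import Mathlib
import Cfsg.Agent.Lib.Forms.Max.Core
import Cfsg.Agent.Aschbacher.Lists.Proper
import Cfsg.Agent.Lib.Classical.UnitaryGen
import Cfsg.Agent.Lib.Forms.Bases

/-!
# The standard hermitian space: orthogonal complements and elementary isometries
-/

set_option autoImplicit false
set_option linter.unusedSectionVars false

namespace Cfsg.Agent.Forms.Max.Unitary

open Matrix Cfsg.Agent.Classical.Unitary
open Cfsg.Agent.Aschbacher (trv trv_mulVec trv_mem_SL)

variable {F : Type*} [Field F] [Fintype F] {q n : ℕ}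

local notation "Vec" => (Fin n → F)
local notation "GLn" => GL (Fin n) F
local notation "H" => Cfsg.hermForm n F q
local notation "SUn" => (Cfsg.GU n F q ⊓ Cfsg.Geo.specialLinear (Fin n) F)

/-- the orthogonal complement -/
def perp (q : ℕ) (W : Submodule F (Fin n → F)) : Submodule F (Fin n → F) :=
  ⨅ w ∈ W, LinearMap.ker (hlin q w)

theorem mem_perp {W : Submodule F Vec} {v : Vec} : v ∈ perp q W ↔ ∀ w ∈ W, H v w = 0 := by
  simp [perp, Submodule.mem_iInf]

variable (hF : Fintype.card F = q ^ 2)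
include hF

theorem perp_symm {W : Submodule F Vec} {v : Vec} (h : v ∈ perp q W) {w : Vec} (hw : w ∈ W) :
    H w v = 0 :=
  (H_eq_zero_comm hF).1 (mem_perp.1 h w hw)

theorem finrank_perp (W : Submodule F Vec) :
    Module.finrank F (perp q W) + Module.finrank F W = n := by
  set k := Module.finrank F W
  let b : Module.Basis (Fin k) F W := Module.finBasis F W
  let L : Vec →ₗ[F] (Fin k → F) := LinearMap.pi fun i => hlin q (b i : Vec)
  have hker : LinearMap.ker L = perp q W := by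
    ext v
    rw [LinearMap.mem_ker, mem_perp]
    constructor
    · intro h w hw
      have e : w = ((∑ i, (b.repr ⟨w, hw⟩) i • b i : W) : Vec) := by rw [b.sum_repr]
      rw [e, Submodule.coe_sum, H_sum_right hF]
      refine Finset.sum_eq_zero fun i _ => ?_
      rw [Submodule.coe_smul, H_smul_right, show H v (b i : Vec) = 0 from congrFun h i, mul_zero]
    · exact fun h => funext fun i => h _ (b i).2
  have hsurj : LinearMap.range L = ⊤ := by
    by_contra hne
    obtain ⟨x, -, hx⟩ := SetLike.exists_of_lt (lt_top_iff_ne_top.2 hne)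
    obtain ⟨ψ, hψx, hψ⟩ := Submodule.exists_dual_map_eq_bot_of_notMem hx inferInstance
    set c : Fin k → F := fun i => ψ (Pi.single i 1) with hc
    have hψc : ∀ y, ψ y = ∑ i, y i * c i := fun y => by
      conv_lhs => rw [pi_eq_sum_univ' y]
      simp [hc]
    set z : W := ∑ i, (c i ^ q) • b i with hz
    have hzero : (z : Vec) = 0 := by
      refine eq_zero_of_H hF fun v => (H_eq_zero_comm hF).1 ?_
      rw [hz, Submodule.coe_sum, H_sum_right hF]
      have h0 : ψ (L v) ∈ (LinearMap.range L).map ψ :=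
        Submodule.mem_map_of_mem (LinearMap.mem_range_self L v)
      rw [hψ, Submodule.mem_bot, hψc] at h0
      refine Eq.trans (Finset.sum_congr rfl fun i _ => ?_) h0
      rw [Submodule.coe_smul, H_smul_right, pow_qq hF, mul_comm]
      rfl
    have hall : ∀ i, c i = 0 := fun i => by
      have := Fintype.linearIndependent_iff.1 b.linearIndependent (fun i => c i ^ q)
        (by rw [← hz]; exact Subtype.ext hzero) i
      exact eq_zero_of_pow_eq_zero this
    exact hψx (by rw [hψc]; simp [hall])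
  have h := LinearMap.finrank_range_add_finrank_ker L
  rw [hsurj, hker, finrank_top, Module.finrank_fintype_fun_eq_card, Fintype.card_fin,
    Module.finrank_fintype_fun_eq_card, Fintype.card_fin] at h
  omega

theorem perp_perp (W : Submodule F Vec) : perp q (perp q W) = W := by
  refine (Submodule.eq_of_le_of_finrank_eq (fun w hw => mem_perp.2 fun v hv =>
    perp_symm hF hv hw) ?_).symm
  have h1 := finrank_perp hF W
  have h2 := finrank_perp hF (perp q W)
  omega

theorem not_mem_perp {W : Submodule F Vec} {u : Vec} (h : u ∉ W) :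
    ∃ y ∈ perp q W, H u y ≠ 0 := by
  by_contra hc
  push Not at hc
  exact h (perp_perp hF W ▸ mem_perp.2 hc)

theorem isCompl_perp {W : Submodule F Vec} (hW : ∀ w ∈ W, w ≠ 0 → ∃ x ∈ W, H w x ≠ 0) :
    IsCompl W (perp q W) := by
  have hd : Disjoint W (perp q W) := Submodule.disjoint_def.2 fun w hw hw' => by
    by_contra h0
    obtain ⟨x, hx, hwx⟩ := hW w hw h0
    exact hwx (mem_perp.1 hw' x hx)
  refine ⟨hd, codisjoint_iff.2 (Submodule.eq_top_of_finrank_eq ?_)⟩
  have h1 := finrank_perp hF W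
  have h2 := Submodule.finrank_sup_add_finrank_inf_eq W (perp q W)
  rw [hd.eq_bot, finrank_bot] at h2
  rw [Module.finrank_fintype_fun_eq_card, Fintype.card_fin]
  omega

theorem perp_nondeg {W : Submodule F Vec} (hW : ∀ w ∈ W, w ≠ 0 → ∃ x ∈ W, H w x ≠ 0) :
    ∀ u ∈ perp q W, u ≠ 0 → ∃ x ∈ perp q W, H u x ≠ 0 := by
  intro u hu hu0
  by_contra hc
  push Not at hc
  refine hu0 (eq_zero_of_H hF fun y => ?_)
  obtain ⟨a, ha, b, hb, rfl⟩ := Submodule.mem_sup.1
    ((isCompl_perp hF hW).sup_eq_top ▸ Submodule.mem_top : y ∈ W ⊔ perp q W)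
  rw [H_add_right hF, hc b hb, mem_perp.1 hu a ha, add_zero]

theorem H_self_pow (x : Vec) : (H x x) ^ q = H x x := H_conj hF x x

theorem exists_trace_add (x : Vec) : ∃ β : F, β + β ^ q + H x x = 0 := by
  obtain ⟨β, hβ⟩ := exists_trace_eq hF (c := - H x x) (by
    rw [← HermStd.qHom_apply hF, map_neg, HermStd.qHom_apply, H_self_pow hF])
  exact ⟨β, by rw [hβ]; ring⟩

theorem exists_norm {d : F} (hd : d ^ q = d) : ∃ c : F, c ^ q * c = d :=
  Bases.exists_norm_eq (HermStd.qHom hF) (HermStd.qHom_ne_id hF) (HermStd.qHom_qHom hF) d hd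

theorem exists_trace_ne : ∃ a : F, a + a ^ q ≠ 0 :=
  Witt.exists_trace_ne_zero (HermStd.qHom hF) (HermStd.qHom_ne_id hF)

omit hF in
theorem mem_SUn {g : GLn} : g ∈ SUn ↔
    (∀ u v, H ((g : Matrix (Fin n) (Fin n) F) *ᵥ u) ((g : Matrix (Fin n) (Fin n) F) *ᵥ v) = H u v) ∧
      (g : Matrix (Fin n) (Fin n) F).det = 1 :=
  and_congr Iff.rfl Aschbacher.mem_specialLinear

theorem exists_tv {v : Vec} (hv : H v v = 0) {c : F} (hc : c + c ^ q = 0) :
    ∃ g ∈ SUn, ∀ x, (g : Matrix (Fin n) (Fin n) F) *ᵥ x = x + (c * H x v) • v :=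
  ⟨Matrix.SpecialLinearGroup.toGL (tvu hF hv hc : Matrix.SpecialLinearGroup (Fin n) F),
    mem_SUn.2 ⟨transvection_preserves hF hv hc, det_transvection hF hv c⟩,
    fun x => tvu_mulVec hF hv hc x⟩

/-- the unitary Siegel element -/
theorem exists_siegel {a b : Vec} (haa : H a a = 0) (hab : H a b = 0) {β : F}
    (hβ : β + β ^ q + H b b = 0) :
    ∃ g ∈ SUn, ∀ x, (g : Matrix (Fin n) (Fin n) F) *ᵥ x =
      x + H x a • b + (- H x b + β * H x a) • a := by
  have hba : H b a = 0 := (H_eq_zero_comm hF).1 hab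
  obtain ⟨φ₁, hφ₁⟩ := exists_row (hlin q a)
  obtain ⟨φ₂, hφ₂⟩ := exists_row (-hlin q b + (β + H b b) • hlin q a)
  have h1 : φ₁ ⬝ᵥ b = 0 := by rw [hφ₁, hlin_apply, hba]
  have h2 : φ₂ ⬝ᵥ a = 0 := by simp [hφ₂, hab, haa]
  have key : ∀ x, ((trv a φ₂ h2 * trv b φ₁ h1 : GLn) : Matrix (Fin n) (Fin n) F) *ᵥ x =
      x + H x a • b + (- H x b + β * H x a) • a := by
    intro x
    rw [mulVec_mul_GL, trv_mulVec, trv_mulVec, hφ₁, hlin_apply]
    congr 2
    simp only [hφ₂, LinearMap.add_apply, LinearMap.neg_apply, LinearMap.smul_apply, hlin_apply,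
      H_add_left, H_smul_left, hba, smul_eq_mul]
    ring
  refine ⟨_, mem_SUn.2 ⟨fun x y => ?_, Aschbacher.mem_specialLinear.1
    (mul_mem (trv_mem_SL _ _ _) (trv_mem_SL _ _ _))⟩, key⟩
  rw [key, key]
  simp only [H_add_left, H_add_right hF, H_smul_left, H_smul_right, haa, hab, hba, mul_zero,
    add_zero, zero_add]
  have hc : (- H y b + β * H y a) ^ q = - H b y + β ^ q * H a y := by
    rw [← HermStd.qHom_apply hF, map_add, map_neg, map_mul, HermStd.qHom_apply,
      HermStd.qHom_apply, HermStd.qHom_apply, H_conj hF, H_conj hF]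
  rw [hc, H_conj hF]
  linear_combination (H x a * H a y) * hβ

/-- a quasi-reflection with prescribed determinant -/
theorem exists_quasi {z : Vec} (hz : H z z ≠ 0) {δ : F} (hδ : δ ^ (q + 1) = 1) :
    ∃ g : GLn, g ∈ Cfsg.GU n F q ∧ (g : Matrix (Fin n) (Fin n) F).det = δ ∧
      ∀ x, (g : Matrix (Fin n) (Fin n) F) *ᵥ x = x + ((δ - 1) / H z z * H x z) • z := by
  obtain ⟨φ, hφ⟩ := exists_row (((δ - 1) / H z z) • hlin q z)
  set A : Matrix (Fin n) (Fin n) F := 1 + vecMulVec z φ with hA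
  have hAx : ∀ x, A *ᵥ x = x + ((δ - 1) / H z z * H x z) • z := fun x => by
    rw [hA, add_mulVec, one_mulVec, Aschbacher.vecMulVec_mulVec', hφ]
    simp
  have hδ0 : δ ≠ 0 := fun h => by rw [h, zero_pow (by omega)] at hδ; exact zero_ne_one hδ
  have hdet : A.det = δ := by
    rw [hA, vecMulVec_eq Unit, det_one_add_replicateCol_mul_replicateRow, hφ]
    simp only [LinearMap.smul_apply, hlin_apply, smul_eq_mul]
    rw [div_mul_cancel₀ _ hz, add_sub_cancel]
  refine ⟨GeneralLinearGroup.mkOfDetNeZero A (hdet ▸ hδ0), fun x y => ?_, hdet, hAx⟩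
  show H (A *ᵥ x) (A *ᵥ y) = H x y
  rw [hAx, hAx]
  simp only [H_add_left, H_add_right hF, H_smul_left, H_smul_right]
  have hd : ((δ - 1) / H z z * H y z) ^ q = (δ ^ q - 1) / H z z * H z y := by
    rw [← HermStd.qHom_apply hF, map_mul, map_div₀, map_sub, map_one, HermStd.qHom_apply,
      HermStd.qHom_apply, HermStd.qHom_apply, H_self_pow hF, H_conj hF]
  rw [hd]
  rw [pow_succ] at hδ
  field_simp
  linear_combination (H x z * H z y) * hδ

theorem exists_value {S : Submodule F Vec} (h0 : S ≠ ⊥)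
    (hS : ∀ w ∈ S, w ≠ 0 → ∃ x ∈ S, H w x ≠ 0) {d : F} (hd : d ^ q = d) (hd0 : d ≠ 0) :
    ∃ x ∈ S, H x x = d := by
  obtain ⟨y, hy, hyy⟩ : ∃ y ∈ S, H y y ≠ 0 := by
    by_contra hc
    push Not at hc
    obtain ⟨w, hw, hw0⟩ := Submodule.exists_mem_ne_zero_of_ne_bot h0
    obtain ⟨x, hx, hwx⟩ := hS w hw hw0
    obtain ⟨a, ha⟩ := exists_trace_ne hF
    refine ha ?_
    have := hc _ (S.add_mem (S.smul_mem (a / H w x) hw) hx)
    simp only [H_add_left, H_add_right hF, H_smul_left, H_smul_right, hc w hw, hc x hx, mul_zero,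
      zero_add, add_zero] at this
    rw [← H_conj hF w x, ← mul_pow, div_mul_cancel₀ _ hwx] at this
    linear_combination this
  obtain ⟨c, hc⟩ := exists_norm hF (d := d / H y y) (by
    rw [← HermStd.qHom_apply hF, map_div₀, HermStd.qHom_apply, HermStd.qHom_apply, hd, H_self_pow hF])
  refine ⟨c • y, S.smul_mem _ hy, ?_⟩
  rw [H_smul_left, H_smul_right, ← mul_assoc, mul_comm c, hc, div_mul_cancel₀ _ hyy]

theorem exists_iso_partner {S : Submodule F Vec} (hS : ∀ w ∈ S, w ≠ 0 → ∃ x ∈ S, H w x ≠ 0)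
    {e : Vec} (he : e ∈ S) (he0 : e ≠ 0) (hee : H e e = 0) :
    ∃ f ∈ S, H f f = 0 ∧ H e f = 1 := by
  obtain ⟨x, hx, hex⟩ := hS e he he0
  set y := ((H e x)⁻¹) ^ q • x with hy
  have hey : H e y = 1 := by rw [hy, H_smul_right, pow_qq hF, inv_mul_cancel₀ hex]
  obtain ⟨β, hβ⟩ := exists_trace_add hF y
  have hye : H y e = 1 := by rw [← H_conj hF, hey, one_pow]
  refine ⟨y + β • e, S.add_mem (S.smul_mem _ hx) (S.smul_mem _ he), ?_, ?_⟩
  · simp only [H_add_left, H_add_right hF, H_smul_left, H_smul_right, hee, hey, hye]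
    linear_combination hβ
  · rw [H_add_right hF, hey, H_smul_right, hee, mul_zero, add_zero]

theorem exists_iso {S : Submodule F Vec} (hS : ∀ w ∈ S, w ≠ 0 → ∃ x ∈ S, H w x ≠ 0)
    (h2 : 2 ≤ Module.finrank F S) : ∃ e ∈ S, e ≠ 0 ∧ H e e = 0 := by
  have h0 : S ≠ ⊥ := fun h => by rw [h, finrank_bot] at h2; omega
  obtain ⟨y, hy, hyy⟩ := exists_value hF h0 hS (one_pow q) one_ne_zero
  have hlt : ¬ S ≤ Submodule.span F {y} := fun h => by
    have := (Submodule.finrank_mono h).trans (finrank_span_le_card ({y} : Set Vec))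
    simp at this
    omega
  obtain ⟨x, hx, hxy⟩ := SetLike.not_le_iff_exists.1 hlt
  set z := x - H x y • y with hz
  have hzy : H z y = 0 := by rw [hz, H_sub_left, H_smul_left, hyy, mul_one, sub_self]
  have hz0 : z ≠ 0 := fun h => hxy (by
    rw [hz, sub_eq_zero] at h; rw [h]; exact Submodule.smul_mem _ _ (Submodule.mem_span_singleton_self y))
  by_cases hzz : H z z = 0
  · exact ⟨z, S.sub_mem hx (S.smul_mem _ hy), hz0, hzz⟩
  obtain ⟨t, ht⟩ := exists_norm hF (d := -(1 / H z z)) (by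
    rw [← HermStd.qHom_apply hF, map_neg, map_div₀, map_one, HermStd.qHom_apply, H_self_pow hF])
  refine ⟨y + t • z, S.add_mem hy (S.smul_mem _ (S.sub_mem hx (S.smul_mem _ hy))), fun h => ?_, ?_⟩
  · have := congrArg (fun v => H v y) h
    simp only [H_add_left, H_smul_left, hzy, hyy, mul_zero, add_zero, H_zero_left] at this
    exact one_ne_zero this
  · simp only [H_add_left, H_add_right hF, H_smul_left, H_smul_right, hzy, hyy,
      (H_eq_zero_comm hF).1 hzy]
    field_simp at ht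
    linear_combination ht

/-- isotropic vectors span a non-degenerate space of dimension at least two -/
theorem iso_span {S : Submodule F Vec} (hS : ∀ w ∈ S, w ≠ 0 → ∃ x ∈ S, H w x ≠ 0)
    (h2 : 2 ≤ Module.finrank F S) {T : Submodule F Vec}
    (hT : ∀ v ∈ S, H v v = 0 → v ∈ T) : S ≤ T := by
  obtain ⟨e, he, he0, hee⟩ := exists_iso hF hS h2
  obtain ⟨f, hf, hff, hef⟩ := exists_iso_partner hF hS he he0 hee
  have hfe : H f e = 1 := by rw [← H_conj hF, hef, one_pow]
  intro x hx
  set γ := x - H x f • e - H x e • f with hγ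
  have hγe : H γ e = 0 := by simp [hγ, H_sub_left, H_smul_left, hee, hfe]
  have hγf : H γ f = 0 := by simp [hγ, H_sub_left, H_smul_left, hff, hef]
  obtain ⟨β, hβ⟩ := exists_trace_add hF γ
  have hγS : γ ∈ S := S.sub_mem (S.sub_mem hx (S.smul_mem _ he)) (S.smul_mem _ hf)
  have h1 : γ + β • e + f ∈ T := by
    refine hT _ (S.add_mem (S.add_mem hγS (S.smul_mem _ he)) hf) ?_
    simp only [H_add_left, H_add_right hF, H_smul_left, H_smul_right, hee, hef, hfe, hff, hγe, hγf,
      (H_eq_zero_comm hF).1 hγe, (H_eq_zero_comm hF).1 hγf]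
    linear_combination hβ
  have e1 : x = (γ + β • e + f) + (H x f - β) • e + (H x e - 1) • f := by
    rw [hγ]; module
  rw [e1]
  exact T.add_mem (T.add_mem h1 (T.smul_mem _ (hT e he hee))) (T.smul_mem _ (hT f hf hff))

/-- `SU` is generated by its transvections -/
theorem SUn_le_of_tv (hn : 1 ≤ n) (h32 : ¬ (n = 3 ∧ q = 2)) {M : Subgroup GLn}
    (h : ∀ g : GLn, ∀ (v : Vec) (c : F), H v v = 0 → c + c ^ q = 0 →
      (∀ x, (g : Matrix (Fin n) (Fin n) F) *ᵥ x = x + (c * H x v) • v) → g ∈ M) :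
    SUn ≤ M := by
  intro g hg
  let φ : Cfsg.SU n F q →* GLn := Matrix.SpecialLinearGroup.toGL.comp (Cfsg.SU n F q).subtype
  have hle : tvGroup F q n ≤ M.comap φ := by
    refine (Subgroup.closure_le _).2 ?_
    rintro t ⟨v, c, hv, hc, ht⟩
    refine h _ v c hv hc fun x => ?_
    show mat t *ᵥ x = _
    rw [ht, HermStd.transvection_mulVec]
  let t : Cfsg.SU n F q := suMk (g : Matrix (Fin n) (Fin n) F) (mem_SUn.1 hg).2 (mem_SUn.1 hg).1
  have ht : φ t = g := Units.ext rfl
  exact ht ▸ hle ((tvGroup_eq_top hF hn h32) ▸ Subgroup.mem_top t)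

end Cfsg.Agent.Forms.Max.Unitary
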