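import Mathlib
import Cfsg.Agent.Lib.Forms.Max.Core
import Cfsg.Agent.Aschbacher.Lists.Proper
import Cfsg.Agent.Lib.Classical.Linear

/-!
# Stabilisers of subspaces in the special linear group
-/

set_option autoImplicit false
set_option linter.unusedSectionVars false

namespace Cfsg.Agent.Forms.Max

open Matrix Cfsg.Agent.Aschbacher

variable {ι : Type} [Fintype ι] [DecidableEq ι] {F : Type*} [Field F]

theorem trv_conj (g : GL ι F) {u φ' : ι → F} (h' : φ' ⬝ᵥ ((g : Matrix ι ι F) *ᵥ u) = 0) :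
    ∃ h : (φ' ᵥ* (g : Matrix ι ι F)) ⬝ᵥ u = 0,
      g * trv u (φ' ᵥ* (g : Matrix ι ι F)) h * g⁻¹ = trv ((g : Matrix ι ι F) *ᵥ u) φ' h' := by
  refine ⟨by rwa [← dotProduct_mulVec], ?_⟩
  rw [mul_inv_eq_iff_eq_mul]
  refine gl_ext fun x => ?_
  rw [mulVec_mul_GL, mulVec_mul_GL, trv_mulVec, trv_mulVec, mulVec_add, mulVec_smul,
    ← dotProduct_mulVec]

/-- the transvection centres of a subgroup -/
def centres (M : Subgroup (GL ι F)) : Set (ι → F) :=
  {u | ∀ (φ : ι → F) (h : φ ⬝ᵥ u = 0), trv u φ h ∈ M}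

theorem centres_map {M : Subgroup (GL ι F)} {g : GL ι F} (hg : g ∈ M) {u : ι → F}
    (hu : u ∈ centres M) : (g : Matrix ι ι F) *ᵥ u ∈ centres M := by
  intro φ' h'
  obtain ⟨h, e⟩ := trv_conj g h'
  rw [← e]
  exact mul_mem (mul_mem hg (hu _ h)) (inv_mem hg)

theorem centres_smul {M : Subgroup (GL ι F)} {u : ι → F} (c : F) (hu : u ∈ centres M) :
    c • u ∈ centres M := by
  intro φ h
  have h' : (c • φ) ⬝ᵥ u = 0 := by rw [smul_dotProduct, ← dotProduct_smul]; exact h
  have : trv (c • u) φ h = trv u (c • φ) h' := gl_ext fun x => by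
    rw [trv_mulVec, trv_mulVec, smul_dotProduct, smul_smul, smul_eq_mul, mul_comm]
  rw [this]
  exact hu _ _

theorem specialLinear_le_of_centres {M : Subgroup (GL ι F)} (h : ∀ u, u ∈ centres M) :
    Cfsg.Geo.specialLinear ι F ≤ M := by
  intro g hg
  let S : Subgroup (SpecialLinearGroup ι F) := M.comap SpecialLinearGroup.toGL
  have hS : S = ⊤ := Classical.Linear.eq_top_of_transvection_mem S fun i j hij c => by
    have h0 : (Pi.single j c : ι → F) ⬝ᵥ Pi.single i 1 = 0 := by simp [hij.symm]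
    show SpecialLinearGroup.toGL (SpecialLinearGroup.transvection hij c) ∈ M
    convert h _ _ h0 using 1
    refine Units.ext ?_
    show (SpecialLinearGroup.transvection hij c : Matrix ι ι F) = _
    rw [SpecialLinearGroup.transvection_coe, trv_coe]
    ext a b
    simp [Matrix.single, vecMulVec_apply, Pi.single_apply, eq_comm]
    split_ifs <;> simp_all
  let x : SpecialLinearGroup ι F := ⟨(g : Matrix ι ι F), mem_specialLinear.1 hg⟩
  have hx : x ∈ S := hS ▸ Subgroup.mem_top _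
  have : SpecialLinearGroup.toGL x = g := Units.ext rfl
  rw [← this]; exact hx

theorem trv_stab_of_mem {W : Submodule F (ι → F)} {u φ : ι → F} (h : φ ⬝ᵥ u = 0) (hu : u ∈ W) :
    trv u φ h ∈ Cfsg.Geo.subspaceStabilizer W :=
  stab_of_forall fun v hv => by rw [trv_mulVec]; exact W.add_mem hv (W.smul_mem _ hu)

theorem trv_stab_of_vanish {W : Submodule F (ι → F)} {u φ : ι → F} (h : φ ⬝ᵥ u = 0)
    (hφ : ∀ w ∈ W, φ ⬝ᵥ w = 0) : trv u φ h ∈ Cfsg.Geo.subspaceStabilizer W :=
  stab_of_forall fun v hv => by rw [trv_mulVec, hφ v hv, zero_smul, add_zero]; exact hv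

/-- Stabilisers of proper non-zero subspaces are maximal in the special linear group. -/
theorem sl_maximal (W : Submodule F (ι → F)) (h0 : W ≠ ⊥) (h1 : W ≠ ⊤) :
    Cfsg.Geo.IsMaximalIn (Cfsg.Geo.specialLinear ι F)
      (Cfsg.Geo.subspaceStabilizer W ⊓ Cfsg.Geo.specialLinear ι F) := by
  refine isMaximalIn_of inf_le_right
    (fun h => not_SL_le_subspace h0 h1 (h.trans inf_le_left)) fun M hM hMK g hgM hg => ?_
  have hgW : g ∉ Cfsg.Geo.subspaceStabilizer W := fun h => hg ⟨h, hMK hgM⟩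
  obtain ⟨w₀, hw₀, hgw₀⟩ := exists_moved hgW
  have hW : ∀ u ∈ W, u ∈ centres M := fun u hu φ h =>
    hM ⟨trv_stab_of_mem h hu, trv_mem_SL _ _ _⟩
  set u₀ := (g : Matrix ι ι F) *ᵥ w₀
  have hu₀ : u₀ ∈ centres M := centres_map hgM (hW _ hw₀)
  -- moving along `W`
  have move : ∀ u u' : ι → F, u ∈ centres M → u ∉ W → u' - u ∈ W → u' ∈ centres M := by
    intro u u' hu huW hd
    by_cases he : u' = u
    · exact he ▸ hu
    obtain ⟨φ, hφW, hφu⟩ := exists_row_of_not_mem huW
    have h := hM ⟨trv_stab_of_mem (hφW _ hd) hd, trv_mem_SL _ _ (hφW _ hd)⟩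
    have := centres_map h hu
    rwa [trv_mulVec, hφu, one_smul, add_sub_cancel] at this
  refine specialLinear_le_of_centres fun u' => ?_
  by_cases hu'W : u' ∈ W
  · exact hW _ hu'W
  by_cases hc : ∃ c : F, u' - c • u₀ ∈ W
  · obtain ⟨c, hc⟩ := hc
    rcases eq_or_ne c 0 with rfl | hc0
    · rw [zero_smul, sub_zero] at hc
      exact absurd hc hu'W
    refine move (c • u₀) u' (centres_smul c hu₀) (fun h => hgw₀ ?_) hc
    simpa [smul_smul, inv_mul_cancel₀ hc0] using W.smul_mem c⁻¹ h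
  push Not at hc
  have hu₀' : u₀ ∉ W ⊔ Submodule.span F {u' - u₀} := by
    intro h
    obtain ⟨w, hw, z, hz, e⟩ := Submodule.mem_sup.1 h
    obtain ⟨t, rfl⟩ := Submodule.mem_span_singleton.1 hz
    rcases eq_or_ne t 0 with rfl | ht
    · rw [zero_smul, add_zero] at e
      exact hgw₀ (e ▸ hw)
    refine hc ((1 + t) / t) ?_
    have : u' - ((1 + t) / t) • u₀ = (-t⁻¹) • w := by
      rw [show w = u₀ - t • (u' - u₀) from eq_sub_of_add_eq e]
      match_scalars <;> field_simp <;> ring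
    rw [this]; exact W.smul_mem _ hw
  obtain ⟨φ, hφ, hφu⟩ := exists_row_of_not_mem hu₀'
  have hd : φ ⬝ᵥ (u' - u₀) = 0 :=
    hφ _ (Submodule.mem_sup_right (Submodule.mem_span_singleton_self _))
  have h := hM ⟨trv_stab_of_vanish hd (fun w hw => hφ w (Submodule.mem_sup_left hw)),
    trv_mem_SL _ _ hd⟩
  have := centres_map h hu₀
  rwa [trv_mulVec, hφu, one_smul, add_sub_cancel] at this

/-- A transvection fixing `W` pointwise and moving `U`. -/
theorem exists_sl_stab_not_stab {W U : Submodule F (ι → F)} {v : ι → F} (hv : v ∉ U)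
    (hUW : ¬ U ≤ W ⊔ Submodule.span F {v}) :
    ∃ g ∈ Cfsg.Geo.subspaceStabilizer W ⊓ Cfsg.Geo.specialLinear ι F,
      g ∉ Cfsg.Geo.subspaceStabilizer U := by
  obtain ⟨x, hxU, hx⟩ := SetLike.not_le_iff_exists.1 hUW
  obtain ⟨φ, hφ, hφx⟩ := exists_row_of_not_mem hx
  have hd : φ ⬝ᵥ v = 0 := hφ _ (Submodule.mem_sup_right (Submodule.mem_span_singleton_self _))
  refine ⟨trv v φ hd, ⟨trv_stab_of_vanish hd fun w hw => hφ w (Submodule.mem_sup_left hw),
    trv_mem_SL _ _ _⟩, fun h => hv ?_⟩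
  have := map_of_stab h hxU
  rw [trv_mulVec, hφx, one_smul] at this
  simpa using U.sub_mem this hxU

end Cfsg.Agent.Forms.Max
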