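import Mathlib
import Cfsg.Agent.Lib.Forms.Max.Core
import Cfsg.Prelude.Def_GeometricClasses

/-!
# Quadratic field subalgebras of matrix algebras
-/

set_option autoImplicit false

namespace Cfsg.Agent.Forms.Max.QuadExt

open Matrix

variable {F : Type*} [Field F] {ι : Type} [Fintype ι] [DecidableEq ι]

/-- the generator of a quadratic field subalgebra -/
theorem exists_gen {K : Subalgebra F (Matrix ι ι F)} (hK : Cfsg.Geo.IsFieldSubalgebra 2 K) [Nonempty ι] :
    ∃ (θ : Matrix ι ι F) (a N : F), θ ∈ K ∧ θ * θ = a • θ - N • (1 : Matrix ι ι F) ∧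
      (∀ s : F, θ ≠ s • (1 : Matrix ι ι F)) ∧ (∀ s : F, s * s - a * s + N ≠ 0) ∧
      ∀ x ∈ K, ∃ s t : F, x = s • (1 : Matrix ι ι F) + t • θ := by
  obtain ⟨θ, hθ, hθ1⟩ : ∃ θ ∈ K, θ ∉ Submodule.span F {(1 : Matrix ι ι F)} := by
    by_contra hc
    push Not at hc
    have h1 := Submodule.finrank_mono (show Subalgebra.toSubmodule K ≤ Submodule.span F {(1 : Matrix ι ι F)} from hc)
    rw [finrank_span_singleton (one_ne_zero), Subalgebra.finrank_toSubmodule, hK.finrank_eq] at h1
    omega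
  have hne : ∀ s : F, θ ≠ s • (1 : Matrix ι ι F) := fun s e => hθ1 (Submodule.mem_span_singleton.2 ⟨s, e.symm⟩)
  have hli : LinearIndependent F ![(1 : Matrix ι ι F), θ] := LinearIndependent.pair_iff.2 fun s t h => by
    by_cases ht : t = 0
    · rw [ht, zero_smul, add_zero] at h
      exact ⟨(smul_eq_zero.1 h).resolve_right one_ne_zero, ht⟩
    · exfalso
      refine hne (-s / t) ?_
      rw [div_eq_inv_mul, ← smul_smul, ← inv_smul_smul₀ ht θ, eq_neg_of_add_eq_zero_right h, neg_smul]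
  have hle : Submodule.span F (Set.range ![(1 : Matrix ι ι F), θ]) ≤ Subalgebra.toSubmodule K := by
    rw [Submodule.span_le, range_cons_cons_empty]
    rintro _ (rfl | rfl)
    exacts [K.one_mem, hθ]
  haveI : FiniteDimensional F (Subalgebra.toSubmodule K) := inferInstance
  have heq : Submodule.span F (Set.range ![(1 : Matrix ι ι F), θ]) = Subalgebra.toSubmodule K :=
    Submodule.eq_of_le_of_finrank_eq hle (by
      rw [finrank_span_eq_card hli, Fintype.card_fin, Subalgebra.finrank_toSubmodule, hK.finrank_eq])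
  have hspan : ∀ x ∈ K, ∃ s t : F, x = s • (1 : Matrix ι ι F) + t • θ := fun x hx => by
    have : x ∈ Submodule.span F (Set.range ![(1 : Matrix ι ι F), θ]) := heq ▸ hx
    rw [range_cons_cons_empty, Submodule.mem_span_pair] at this
    obtain ⟨s, t, h⟩ := this
    exact ⟨s, t, h.symm⟩
  obtain ⟨p, q, hpq⟩ := hspan _ (K.mul_mem hθ hθ)
  refine ⟨θ, q, -p, hθ, by rw [hpq, neg_smul, sub_neg_eq_add, add_comm], hne, fun s hs => ?_, hspan⟩
  set u := θ - s • (1 : Matrix ι ι F) with hu
  set w := θ - (q - s) • (1 : Matrix ι ι F) with hw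
  have huw : u * w = 0 := by
    rw [hu, hw]
    simp only [Matrix.sub_mul, Matrix.mul_sub, Matrix.smul_mul, Matrix.mul_smul, Matrix.one_mul, Matrix.mul_one, hpq]
    match_scalars
    · linear_combination -hs
    · ring
  obtain ⟨y, -, hy⟩ := hK.inv u (K.sub_mem hθ (K.smul_mem K.one_mem s)) (sub_ne_zero.2 (hne s))
  refine hne (q - s) (sub_eq_zero.1 ?_)
  show w = 0
  rw [← Matrix.one_mul w, ← mul_eq_one_comm.1 hy, Matrix.mul_assoc, huw, Matrix.mul_zero]

theorem mem_normalizer {K : Subalgebra F (Matrix ι ι F)} {r : ℕ} (hK : Cfsg.Geo.IsFieldSubalgebra r K)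
    {θ : Matrix ι ι F} {a N : F} (hspan : ∀ x ∈ K, ∃ s t : F, x = s • (1 : Matrix ι ι F) + t • θ) (hθ : θ ∈ K)
    (hsq : θ * θ = a • θ - N • (1 : Matrix ι ι F)) (g : GL ι F) :
    g ∈ Cfsg.Geo.subalgebraNormalizer K ↔
      ((∀ x, (g : Matrix ι ι F) *ᵥ (θ *ᵥ x) = θ *ᵥ ((g : Matrix ι ι F) *ᵥ x)) ∨
        ∀ x, (g : Matrix ι ι F) *ᵥ (θ *ᵥ x) = a • ((g : Matrix ι ι F) *ᵥ x) - θ *ᵥ ((g : Matrix ι ι F) *ᵥ x)) := by
  classical
  set G : Matrix ι ι F := (g : Matrix ι ι F)
  set H : Matrix ι ι F := ((g⁻¹ : GL ι F) : Matrix ι ι F)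
  have hGH : G * H = 1 := Units.mul_inv g
  have hHG : H * G = 1 := Units.inv_mul g
  constructor
  · intro hg
    set k := G * θ * H with hkdef
    have hk : k ∈ K := (hg θ).1 hθ
    have hkk : k * k = a • k - N • (1 : Matrix ι ι F) := by
      rw [hkdef, show G * θ * H * (G * θ * H) = G * (θ * θ) * H by
        simp only [Matrix.mul_assoc]; rw [← Matrix.mul_assoc H G, hHG, Matrix.one_mul], hsq]
      simp only [Matrix.mul_sub, Matrix.sub_mul, Matrix.mul_smul, Matrix.smul_mul, Matrix.mul_one, hGH]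
    have hprod : (k - θ) * (k - (a • (1 : Matrix ι ι F) - θ)) = 0 := by
      simp only [Matrix.mul_sub, Matrix.sub_mul, Matrix.mul_smul, Matrix.mul_one, hkk, hK.comm k hk θ hθ, hsq]
      module
    have hroots : k = θ ∨ k = a • (1 : Matrix ι ι F) - θ := by
      by_cases h0 : k - θ = 0
      · exact Or.inl (sub_eq_zero.1 h0)
      · obtain ⟨y, -, hy⟩ := hK.inv _ (K.sub_mem hk hθ) h0
        refine Or.inr (sub_eq_zero.1 ?_)
        calc k - (a • (1 : Matrix ι ι F) - θ) = (y * (k - θ)) * (k - (a • (1 : Matrix ι ι F) - θ)) := by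
              rw [mul_eq_one_comm.1 hy, Matrix.one_mul]
          _ = 0 := by rw [Matrix.mul_assoc, hprod, Matrix.mul_zero]
    have e2 : G * θ = k * G := by rw [hkdef, Matrix.mul_assoc (G * θ), hHG, Matrix.mul_one]
    rcases hroots with e | e
    · exact Or.inl fun x => by rw [Matrix.mulVec_mulVec, e2, e, ← Matrix.mulVec_mulVec]
    · exact Or.inr fun x => by
        rw [Matrix.mulVec_mulVec, e2, e, Matrix.sub_mul, Matrix.smul_mul, Matrix.one_mul, Matrix.sub_mulVec,
          Matrix.smul_mulVec, ← Matrix.mulVec_mulVec]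
  · intro h
    have hk : ∃ k ∈ K, G * θ = k * G ∧ H * θ = k * H := by
      rcases h with h | h
      · have e : G * θ = θ * G := Matrix.ext_of_mulVec_single fun i => by
          rw [← Matrix.mulVec_mulVec, h, Matrix.mulVec_mulVec]
        refine ⟨θ, hθ, e, ?_⟩
        calc H * θ = H * θ * (G * H) := by rw [hGH, Matrix.mul_one]
          _ = H * (G * θ) * H := by rw [e]; simp only [Matrix.mul_assoc]
          _ = θ * H := by rw [← Matrix.mul_assoc H G, hHG, Matrix.one_mul]
      · have e : G * θ = (a • 1 - θ) * G := Matrix.ext_of_mulVec_single fun i => by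
          rw [← Matrix.mulVec_mulVec, h, Matrix.sub_mul, Matrix.smul_mul, Matrix.one_mul, Matrix.sub_mulVec,
            Matrix.smul_mulVec, Matrix.mulVec_mulVec]
        refine ⟨a • 1 - θ, K.sub_mem (K.smul_mem K.one_mem a) hθ, e, ?_⟩
        have e' : θ * G = G * (a • 1 - θ) := by
          rw [Matrix.mul_sub, Matrix.mul_smul, Matrix.mul_one, e, Matrix.sub_mul, Matrix.smul_mul, Matrix.one_mul]
          abel
        calc H * θ = H * θ * (G * H) := by rw [hGH, Matrix.mul_one]
          _ = H * (G * (a • 1 - θ)) * H := by rw [← e']; simp only [Matrix.mul_assoc]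
          _ = (a • 1 - θ) * H := by rw [← Matrix.mul_assoc H G, hHG, Matrix.one_mul]
    obtain ⟨k, hk, e1, e2⟩ := hk
    have conj : ∀ (X Y : Matrix ι ι F), X * Y = 1 → X * θ = k * X → ∀ z ∈ K, X * z * Y ∈ K := by
      intro X Y hXY hX z hz
      obtain ⟨s, t, rfl⟩ := hspan z hz
      rw [Matrix.mul_add, Matrix.add_mul, Matrix.mul_smul, Matrix.mul_smul, Matrix.smul_mul, Matrix.smul_mul,
        Matrix.mul_one, hXY, hX, Matrix.mul_assoc, hXY, Matrix.mul_one]
      exact K.add_mem (K.smul_mem K.one_mem s) (K.smul_mem hk t)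
    refine fun z => ⟨fun hz => conj G H hGH e1 z hz, fun hz => ?_⟩
    have h3 := conj H G hHG e2 _ hz
    rwa [show H * (G * z * H) * G = z by
      simp only [Matrix.mul_assoc]
      rw [hHG, Matrix.mul_one, ← Matrix.mul_assoc H G, hHG, Matrix.one_mul]] at h3

end Cfsg.Agent.Forms.Max.QuadExt
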