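import Mathlib
import Cfsg.Agent.Aschbacher.Formed.Coord
import Cfsg.Agent.Lib.Forms.Max.Core
import Cfsg.Agent.Lib.Forms.Max.OrthFrames

/-!
# Tensor decompositions with a monomial factor
-/

set_option autoImplicit false
set_option linter.unusedSectionVars false

namespace Cfsg.Agent.Forms.Max.Factor

open Matrix Cfsg.Agent.Aschbacher
open scoped Kronecker

variable {F : Type*} [Field F] {ι : Type} [Fintype ι] [DecidableEq ι] {k n : ℕ}

/-- pure tensors in the coordinates given by `e` and `P` -/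
noncomputable def pureVec (e : ι ≃ Fin k × Fin n) (P : GL ι F) :
    (Fin k → F) →ₗ[F] (Fin n → F) →ₗ[F] (ι → F) :=
  LinearMap.mk₂ F (fun x y => (P : Matrix ι ι F) *ᵥ ((fun a : Fin k × Fin n => x a.1 * y a.2) ∘ e))
    (fun x x' y => by
      rw [← Matrix.mulVec_add]; congr 1; funext i; simp [add_mul])
    (fun c x y => by
      rw [← Matrix.mulVec_smul]; congr 1; funext i; simp [mul_assoc])
    (fun x y y' => by
      rw [← Matrix.mulVec_add]; congr 1; funext i; simp [mul_add])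
    (fun c x y => by
      rw [← Matrix.mulVec_smul]; congr 1; funext i; simp [mul_left_comm])

theorem pureVec_apply (e : ι ≃ Fin k × Fin n) (P : GL ι F) (x : Fin k → F) (y : Fin n → F) :
    pureVec e P x y = (P : Matrix ι ι F) *ᵥ ((fun a : Fin k × Fin n => x a.1 * y a.2) ∘ e) := rfl

/-- elements of the tensor subgroup act factorwise -/
theorem mul_pureVec {e : ι ≃ Fin k × Fin n} {P g : GL ι F}
    (h : g ∈ Cfsg.Geo.tensorProductSubgroup k n e P) :
    ∃ (a : GL (Fin k) F) (b : GL (Fin n) F), ∀ x y, (g : Matrix ι ι F) *ᵥ pureVec e P x y =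
      pureVec e P ((a : Matrix (Fin k) (Fin k) F) *ᵥ x) ((b : Matrix (Fin n) (Fin n) F) *ᵥ y) := by
  obtain ⟨a, b, hab⟩ := exists_kronecker_of_mem h
  refine ⟨a, b, fun x y => ?_⟩
  rw [pureVec_apply, pureVec_apply, ← glCoord_mulVec e P g, hab]
  congr 2
  funext ⟨r, s⟩
  simp only [Matrix.mulVec, dotProduct, Matrix.kroneckerMap_apply, Fintype.sum_prod_type,
    Finset.sum_mul_sum]
  exact Finset.sum_congr rfl fun i _ => Finset.sum_congr rfl fun j _ => by ring

theorem pureVec_total (e : ι ≃ Fin k × Fin n) (P : GL ι F) {g : GL ι F}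
    (h : ∀ x y, (g : Matrix ι ι F) *ᵥ pureVec e P x y = pureVec e P x y) : g = 1 := by
  refine gl_ext fun z => ?_
  have hcol : ∀ r s, pureVec e P (Pi.single r 1) (Pi.single s 1) =
      (P : Matrix ι ι F) *ᵥ Pi.single (e.symm (r, s)) 1 := by
    intro r s
    rw [pureVec_apply]
    congr 1
    funext i
    by_cases hi : i = e.symm (r, s)
    · subst hi; simp
    · rw [Pi.single_eq_of_ne hi]
      have : e i ≠ (r, s) := fun he => hi (by rw [← he, e.symm_apply_apply])
      simp only [Function.comp_apply, Pi.single_apply]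
      by_cases h1 : (e i).1 = r
      · have h2 : (e i).2 ≠ s := fun h2 => this (Prod.ext h1 h2)
        simp [h1, h2]
      · simp [h1]
  have : ((g * P : GL ι F) : Matrix ι ι F) = (P : Matrix ι ι F) := Matrix.ext_of_mulVec_single fun i => by
    have := h (Pi.single (e i).1 1) (Pi.single (e i).2 1)
    rw [hcol, e.symm_apply_apply] at this
    rw [mulVec_mul_GL]
    exact this
  have hg : g * P = P := Units.ext this
  rw [mul_eq_right] at hg
  rw [hg]

/-- a basis of the small factor gives independent components -/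
theorem pureVec_indep (e : ι ≃ Fin k × Fin n) (P : GL ι F) {C : Matrix (Fin k) (Fin k) F}
    (hC : IsUnit C.det) {Y : Fin k → Fin n → F}
    (h : ∑ i, pureVec e P (fun r => C r i) (Y i) = 0) : ∀ i, Y i = 0 := by
  have h0 : (fun a : Fin k × Fin n => ∑ i, C a.1 i * Y i a.2) ∘ e = 0 := by
    refine mulVec_inj P ?_
    rw [Matrix.mulVec_zero, ← h]
    simp only [pureVec_apply, ← Matrix.mulVec_sum]
    congr 1
    funext i
    simp [Finset.sum_apply]
  intro i
  funext s
  have h1 : C *ᵥ (fun j => Y j s) = 0 := funext fun r => by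
    have := congrFun h0 (e.symm (r, s))
    simpa [Matrix.mulVec, dotProduct] using this
  exact congrFun (Matrix.eq_zero_of_mulVec_eq_zero hC.ne_zero h1) i

variable [Fintype F]

/-- the stabiliser of the union of the components lies strictly between -/
theorem split_between (hk : 2 ≤ k) (T G : Subgroup (GL ι F))
    (τ : (Fin k → F) →ₗ[F] (Fin n → F) →ₗ[F] (ι → F)) {C : Matrix (Fin k) (Fin k) F}
    (hC : IsUnit C.det)
    (hind : ∀ Y : Fin k → Fin n → F, ∑ i, τ (fun r => C r i) (Y i) = 0 → ∀ i, Y i = 0)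
    (htot : ∀ g : GL ι F, (∀ x y, (g : Matrix ι ι F) *ᵥ τ x y = τ x y) → g = 1)
    (hmul : ∀ g ∈ T, ∃ (a : GL (Fin k) F) (b : GL (Fin n) F), ∀ x y, (g : Matrix ι ι F) *ᵥ τ x y =
      τ ((a : Matrix (Fin k) (Fin k) F) *ᵥ x) ((b : Matrix (Fin n) (Fin n) F) *ᵥ y))
    (hmon : ∀ g ∈ G, ∀ (a : GL (Fin k) F) (b : GL (Fin n) F), (∀ x y, (g : Matrix ι ι F) *ᵥ τ x y =
      τ ((a : Matrix (Fin k) (Fin k) F) *ᵥ x) ((b : Matrix (Fin n) (Fin n) F) *ᵥ y)) →
      ∀ i, ∃ (j : Fin k) (s : F), ((a : Matrix (Fin k) (Fin k) F) *ᵥ fun r => C r i) =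
        s • fun r => C r j)
    (hstrict : ∃ h ∈ G, h ≠ 1 ∧ ∃ i₀ : Fin k,
      (∀ j, j ≠ i₀ → ∀ y, (h : Matrix ι ι F) *ᵥ τ (fun r => C r j) y = τ (fun r => C r j) y) ∧
      (∀ y, ∃ y', (h : Matrix ι ι F) *ᵥ τ (fun r => C r i₀) y = τ (fun r => C r i₀) y') ∧
      ∃ y, y ≠ 0 ∧ (h : Matrix ι ι F) *ᵥ τ (fun r => C r i₀) y = τ (fun r => C r i₀) y)
    (hproper : ∃ g ∈ G, ∃ i y, ∀ j y',
      (g : Matrix ι ι F) *ᵥ τ (fun r => C r i) y ≠ τ (fun r => C r j) y') :
    ∃ K : Subgroup (GL ι F), T ⊓ G < K ∧ K < G := by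
  set c : Fin k → Fin k → F := fun i r => C r i with hc
  set S : Set (ι → F) := {v | ∃ i y, v = τ (c i) y} with hS
  have hexp : ∀ x : Fin k → F, ∃ α : Fin k → F, x = ∑ l, α l • c l := fun x =>
    ⟨C⁻¹ *ᵥ x, by
      funext r
      have := congrFun (show C *ᵥ (C⁻¹ *ᵥ x) = x by
        rw [Matrix.mulVec_mulVec, Matrix.mul_nonsing_inv _ hC, Matrix.one_mulVec]) r
      rw [← this]
      simp [Matrix.mulVec, dotProduct, hc, mul_comm]⟩
  refine exists_between
    (K := Cfsg.stabilizing (Cfsg.glToMat ι F) S ⊓ G) ?_ ?_ inf_le_right ?_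
  · rintro g ⟨hgT, hgG⟩
    obtain ⟨a, b, hab⟩ := hmul g hgT
    refine ⟨Orth.mem_setStab fun v hv => ?_, hgG⟩
    obtain ⟨i, y, rfl⟩ := hv
    obtain ⟨j, s, hs⟩ := hmon g hgG a b hab i
    refine ⟨j, s • ((b : Matrix (Fin n) (Fin n) F) *ᵥ y), ?_⟩
    rw [hab]
    show τ ((a : Matrix (Fin k) (Fin k) F) *ᵥ fun r => C r i) _ = _
    rw [hs, map_smul, LinearMap.smul_apply, map_smul]
  · obtain ⟨h, hhG, hh1, i₀, hfix, hpres, y₀, hy₀, hy₀fix⟩ := hstrict
    refine ⟨h, ⟨Orth.mem_setStab fun v hv => ?_, hhG⟩, fun hmem => hh1 ?_⟩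
    · obtain ⟨i, y, rfl⟩ := hv
      by_cases hi : i = i₀
      · subst hi
        obtain ⟨y', hy'⟩ := hpres y
        exact ⟨i, y', hy'⟩
      · exact ⟨i, y, hfix i hi y⟩
    obtain ⟨a, b, hab⟩ := hmul h hmem.1
    have hdelta : ∀ (i : Fin k) (Z : Fin k → Fin n → F) (w : Fin n → F),
        ∑ l, τ (c l) (Z l) = τ (c i) w → ∀ l, Z l = if l = i then w else 0 := by
      intro i Z w e l
      have := hind (fun l => Z l - if l = i then w else 0) (by
        simp only [map_sub, Finset.sum_sub_distrib]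
        rw [e, Finset.sum_eq_single i (fun l _ hl => by rw [if_neg hl, map_zero]) (by simp),
          if_pos rfl, sub_self]) l
      exact sub_eq_zero.1 this
    have hα : ∀ i y, ∀ α : Fin k → F, (a : Matrix (Fin k) (Fin k) F) *ᵥ c i = ∑ l, α l • c l →
        (h : Matrix ι ι F) *ᵥ τ (c i) y =
          ∑ l, τ (c l) (α l • ((b : Matrix (Fin n) (Fin n) F) *ᵥ y)) := by
      intro i y α hα
      rw [hab, hα, map_sum, LinearMap.sum_apply]
      simp only [map_smul, LinearMap.smul_apply]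
    obtain ⟨j, hj⟩ : ∃ j : Fin k, j ≠ i₀ := by
      have : Nontrivial (Fin k) := Fin.nontrivial_iff_two_le.2 hk
      exact exists_ne i₀
    obtain ⟨α, hαj⟩ := hexp ((a : Matrix (Fin k) (Fin k) F) *ᵥ c j)
    have hb : ∀ y, α j • ((b : Matrix (Fin n) (Fin n) F) *ᵥ y) = y := fun y => by
      have := hdelta j _ y ((hα j y α hαj).symm.trans (hfix j hj y)) j
      rwa [if_pos rfl] at this
    obtain ⟨β, hβ⟩ := hexp ((a : Matrix (Fin k) (Fin k) F) *ᵥ c i₀)
    have hαj0 : α j ≠ 0 := fun h0 => hy₀ (by rw [← hb y₀, h0, zero_smul])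
    have hby : ∀ y, (b : Matrix (Fin n) (Fin n) F) *ᵥ y = (α j)⁻¹ • y := fun y => by
      rw [eq_inv_smul_iff₀ hαj0]; exact hb y
    have key := hdelta i₀ _ y₀ ((hα i₀ y₀ β hβ).symm.trans hy₀fix)
    have hβ0 : ∀ l, l ≠ i₀ → β l = 0 := fun l hl => by
      have := key l
      rw [if_neg hl, hby, smul_smul, smul_eq_zero, mul_eq_zero, inv_eq_zero] at this
      exact (this.resolve_right hy₀).resolve_right hαj0
    have hscal : β i₀ * (α j)⁻¹ = 1 := by
      have := key i₀
      rw [if_pos rfl, hby, smul_smul] at this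
      by_contra hne
      refine hy₀ ((smul_eq_zero.1 (show (β i₀ * (α j)⁻¹ - 1) • y₀ = 0 by
        rw [sub_smul, this, one_smul, sub_self])).resolve_left (sub_ne_zero.2 hne))
    have hall : ∀ i y, (h : Matrix ι ι F) *ᵥ τ (c i) y = τ (c i) y := fun i y => by
      by_cases hi : i = i₀
      · subst hi
        rw [hα i y β hβ, Finset.sum_eq_single i (fun l _ hl => by rw [hβ0 l hl, zero_smul, map_zero])
          (by simp), hby, smul_smul, hscal, one_smul]
      · exact hfix i hi y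
    refine htot h fun x y => ?_
    obtain ⟨γ, rfl⟩ := hexp x
    simp only [map_sum, map_smul, LinearMap.sum_apply, LinearMap.smul_apply, Matrix.mulVec_sum,
      Matrix.mulVec_smul, hall]
  · obtain ⟨g, hg, i, y, hne⟩ := hproper
    refine ⟨g, hg, fun hmem => ?_⟩
    obtain ⟨j, y', e⟩ := (hmem.1 _).1 ⟨i, y, rfl⟩
    exact hne j y' e

/-- the value of a tensor product form on pure tensors -/
theorem formOfGram_pure (σ : F →+* F) (G₁ : Matrix (Fin k) (Fin k) F) (G₂ : Matrix (Fin n) (Fin n) F)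
    (x x' : Fin k → F) (y y' : Fin n → F) :
    Cfsg.Geo.formOfGram σ (G₁ ⊗ₖ G₂) (fun a => x a.1 * y a.2) (fun a => x' a.1 * y' a.2) =
      Cfsg.Geo.formOfGram σ G₁ x x' * Cfsg.Geo.formOfGram σ G₂ y y' := by
  simp only [Cfsg.Geo.formOfGram, Matrix.kroneckerMap_apply, Fintype.sum_prod_type, map_mul,
    Finset.sum_mul_sum]
  refine Finset.sum_congr rfl fun i _ => Finset.sum_congr rfl fun r _ => ?_
  exact Finset.sum_congr rfl fun j _ => Finset.sum_congr rfl fun s _ => by ring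

/-- a sesquilinear form is given by its Gram matrix -/
theorem formOfGram_gram {κ : Type} [Fintype κ] [DecidableEq κ] (σ : F →+* F)
    {f : (κ → F) → (κ → F) → F} (hal : ∀ x y v, f (x + y) v = f x v + f y v)
    (hsl : ∀ (c : F) x v, f (c • x) v = c * f x v) (har : ∀ v x y, f v (x + y) = f v x + f v y)
    (hsr : ∀ (c : F) v x, f v (c • x) = σ c * f v x) (x y : κ → F) :
    Cfsg.Geo.formOfGram σ (Cfsg.Geo.gramMatrix f) x y = f x y := by
  let Φ : κ → F := fun a => f (Pi.single a 1) y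
  have h1 : ∀ z, f z y = ∑ a, z a * Φ a := by
    intro z
    let L : (κ → F) →ₗ[F] F :=
      { toFun := fun z => f z y, map_add' := fun u v => hal u v y, map_smul' := fun c u => hsl c u y }
    show L z = _
    conv_lhs => rw [pi_eq_sum_univ' z]
    simp [L, Φ]
  have h2 : ∀ a, Φ a = ∑ b, f (Pi.single a 1) (Pi.single b 1) * σ (y b) := by
    intro a
    let L : (κ → F) →ₛₗ[σ] F :=
      { toFun := fun z => f (Pi.single a 1) z, map_add' := fun u v => har _ u v
        map_smul' := fun c u => hsr c _ u }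
    show L y = _
    conv_lhs => rw [pi_eq_sum_univ' y]
    simp [L, mul_comm]
  rw [h1, Cfsg.Geo.formOfGram]
  refine Finset.sum_congr rfl fun a _ => ?_
  rw [h2, Finset.mul_sum]
  exact Finset.sum_congr rfl fun b _ => by rw [Cfsg.Geo.gramMatrix]; ring

theorem smul_left_gram {κ : Type} [Fintype κ] (σ : F → F) (G : Matrix κ κ F) (c : F) (x y : κ → F) :
    Cfsg.Geo.formOfGram σ (c • G) x y = c * Cfsg.Geo.formOfGram σ G x y := by
  simp only [Cfsg.Geo.formOfGram, Matrix.smul_apply, smul_eq_mul, Finset.mul_sum]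
  exact Finset.sum_congr rfl fun i _ => Finset.sum_congr rfl fun j _ => by ring

end Cfsg.Agent.Forms.Max.Factor
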