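import Mathlib
import Cfsg.Agent.Lib.Forms.Max.Factor
import Cfsg.Agent.Lib.Forms.Max.OrthBase
import Cfsg.Agent.Aschbacher.Sp.Lists.TensorF3
import Cfsg.Agent.Aschbacher.Sp.Lists.Proper

/-!
# Tensor decompositions with a three-dimensional orthogonal factor over the field of three elements
-/

set_option autoImplicit false
set_option linter.unusedSectionVars false

namespace Cfsg.Agent.Forms.Max.Factor

open Matrix Cfsg.Agent.Aschbacher

variable {F : Type*} [Field F] [Fintype F] {ι : Type} [Fintype ι] [DecidableEq ι] {k n : ℕ}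

theorem not_pure {τ : (Fin k → F) →ₗ[F] (Fin n → F) →ₗ[F] (ι → F)} {c : Fin k → Fin k → F}
    (hind : ∀ Y : Fin k → Fin n → F, ∑ i, τ (c i) (Y i) = 0 → ∀ i, Y i = 0)
    {i₀ i₁ : Fin k} (hne : i₀ ≠ i₁) {u w : Fin n → F} (hu : u ≠ 0) (hw : w ≠ 0) (j : Fin k)
    (y : Fin n → F) : τ (c i₀) u + τ (c i₁) w ≠ τ (c j) y := by
  intro h
  have key := hind (fun l => (if l = i₀ then u else 0) + (if l = i₁ then w else 0) -
    (if l = j then y else 0)) (by
      simp only [map_sub, map_add, Finset.sum_sub_distrib, Finset.sum_add_distrib]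
      rw [Finset.sum_eq_single i₀ (fun l _ hl => by rw [if_neg hl, map_zero]) (by simp),
        Finset.sum_eq_single i₁ (fun l _ hl => by rw [if_neg hl, map_zero]) (by simp),
        Finset.sum_eq_single j (fun l _ hl => by rw [if_neg hl, map_zero]) (by simp),
        if_pos rfl, if_pos rfl, if_pos rfl, h, sub_self])
  by_cases hj : i₀ = j
  · have := key i₁
    rw [if_neg hne.symm, if_pos rfl, if_neg (fun h' => hne (hj.trans h'.symm)), zero_add,
      sub_zero] at this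
    exact hw this
  · have := key i₀
    rw [if_neg hne, if_pos rfl, if_neg hj, add_zero, sub_zero] at this
    exact hu this

/-- a tensor product of forms preserved factorwise -/
theorem factor_similitude {α β : Type*} (A A' : α → α → F) (A₂ A₂' : β → β → F)
    (hA : ∃ x x', A x x' ≠ 0) (hB : ∃ y y', A₂ y y' ≠ 0)
    (h : ∀ x x' y y', A' x x' * A₂' y y' = A x x' * A₂ y y') :
    ∃ μ : F, μ ≠ 0 ∧ ∀ x x', A' x x' = μ * A x x' := by
  obtain ⟨x₀, x₀', hx⟩ := hA
  obtain ⟨y₀, y₀', hy⟩ := hB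
  have h0 := h x₀ x₀' y₀ y₀'
  have hne : A₂' y₀ y₀' ≠ 0 := fun h' => by
    rw [h', mul_zero] at h0; exact mul_ne_zero hx hy h0.symm
  refine ⟨A₂ y₀ y₀' / A₂' y₀ y₀', div_ne_zero hy hne, fun x x' => ?_⟩
  rw [div_mul_eq_mul_div, eq_div_iff hne, h x x' y₀ y₀', mul_comm]

/-- symmetric forms of degree three over three elements: an orthogonal basis permuted by similitudes -/
theorem three_monomial (hq : Fintype.card F = 3) {f : (Fin 3 → F) → (Fin 3 → F) → F}
    (hf : Cfsg.Geo.IsSymmetricForm f) :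
    ∃ (C : Matrix (Fin 3) (Fin 3) F) (d : F), IsUnit C.det ∧ d ≠ 0 ∧
      (∀ i j, f (fun r => C r i) (fun r => C r j) = if i = j then d else 0) ∧
      ∀ (a : GL (Fin 3) F) (μ : F), μ ≠ 0 →
        (∀ x y, f ((a : Matrix (Fin 3) (Fin 3) F) *ᵥ x) ((a : Matrix (Fin 3) (Fin 3) F) *ᵥ y) =
          μ * f x y) →
        ∀ i, ∃ (j : Fin 3) (s : F), ((a : Matrix (Fin 3) (Fin 3) F) *ᵥ fun r => C r i) =
          s • fun r => C r j := by
  obtain ⟨S, rfl⟩ := exists_sesqForm_of_bilinear hf.bilinear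
  have hS : IsUnit S.det := isUnit_det_of_nondegenerate _ hf.nondegenerate
  have hsymm : Sᵀ = S := sesqForm_inj (RingHom.id F) fun u v => by
    rw [← sesqForm_id_transpose, hf.symm]
  obtain ⟨C, d, hd, hCu, hC⟩ := exists_congr_scalar_three hq hS hsymm
  have hsp : ∀ (M : Matrix (Fin 3) (Fin 3) F) (x y : Fin 3 → F),
      sesqForm (RingHom.id F) S (M *ᵥ x) (M *ᵥ y) = sesqForm (RingHom.id F) (Mᵀ * S * M) x y := by
    intro M x y
    rw [sesqForm_mulVec]
    congr 2
  refine ⟨C, d, hCu, hd, fun i j => ?_, fun a μ hμ ha i => ?_⟩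
  · have hcol : ∀ i, (fun r => C r i) = C *ᵥ Pi.single i 1 := fun i => by
      funext r; simp
    rw [hcol, hcol, hsp, hC, sesqForm_single]
    simp [Matrix.one_apply]
  set B : Matrix (Fin 3) (Fin 3) F := C⁻¹ * (a : Matrix (Fin 3) (Fin 3) F) * C with hB
  have hBB : Bᵀ * B = μ • (1 : Matrix (Fin 3) (Fin 3) F) := by
    have h1 : (a : Matrix (Fin 3) (Fin 3) F)ᵀ * S * a = μ • S := sesqForm_inj (RingHom.id F) fun u v => by
      rw [← hsp, ha, sesqForm_smul]
    have h2 : Bᵀ * (Cᵀ * S * C) * B = μ • (Cᵀ * S * C) := by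
      calc Bᵀ * (Cᵀ * S * C) * B = (C * B)ᵀ * S * (C * B) := by
            rw [Matrix.transpose_mul C B]; simp only [Matrix.mul_assoc]
        _ = ((a : Matrix (Fin 3) (Fin 3) F) * C)ᵀ * S * ((a : Matrix (Fin 3) (Fin 3) F) * C) := by
            rw [show C * B = (a : Matrix (Fin 3) (Fin 3) F) * C by
              rw [hB, ← Matrix.mul_assoc C, ← Matrix.mul_assoc C, Matrix.mul_nonsing_inv _ hCu,
                one_mul]]
        _ = Cᵀ * ((a : Matrix (Fin 3) (Fin 3) F)ᵀ * S * a) * C := by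
            rw [Matrix.transpose_mul]; simp only [Matrix.mul_assoc]
        _ = _ := by rw [h1, Matrix.mul_smul, Matrix.smul_mul]
    rw [hC, Matrix.mul_smul, mul_one, Matrix.smul_mul, smul_comm] at h2
    exact smul_right_injective _ hd h2
  have hμ1 : μ = 1 := by
    have h1 := congrArg Matrix.det hBB
    rw [Matrix.det_mul, Matrix.det_transpose, Matrix.det_smul, Matrix.det_one, mul_one,
      Fintype.card_fin] at h1
    have hB0 : B.det ≠ 0 := fun h0 => by
      rw [h0, mul_zero] at h1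
      exact pow_ne_zero 3 hμ h1.symm
    rw [sq_eq_one_three hq hB0, pow_succ, sq, sq_eq_one_three hq hμ, one_mul] at h1
    exact h1.symm
  rw [hμ1, one_smul] at hBB
  obtain ⟨σ, hσ⟩ := exists_perm_of_orthogonal_three hq hBB
  refine ⟨σ i, B (σ i) i, ?_⟩
  have e1 : (a : Matrix (Fin 3) (Fin 3) F) * C = C * B := by
    rw [hB, ← Matrix.mul_assoc C, ← Matrix.mul_assoc C, Matrix.mul_nonsing_inv _ hCu, one_mul]
  funext r
  have := congrFun (congrFun e1 r) i
  simp only [Matrix.mul_apply] at this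
  show ((a : Matrix (Fin 3) (Fin 3) F) *ᵥ fun r => C r i) r = B (σ i) i * C r (σ i)
  rw [Matrix.mulVec, dotProduct, this, Finset.sum_eq_single (σ i)
    (fun l _ hl => by
      by_cases h : B l i = 0
      · rw [h, mul_zero]
      · exact absurd (hσ _ _ h) hl) (by simp), mul_comm]

/-- the symplectic groups -/
theorem three_symp (hq : Fintype.card F = 3) {m n : ℕ} (hn : 1 ≤ n) (e : (Fin m ⊕ Fin m) ≃ Fin n × Fin 3)
    (P : GL (Fin m ⊕ Fin m) F) {f₁ : (Fin n → F) → (Fin n → F) → F}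
    {f₂ : (Fin 3 → F) → (Fin 3 → F) → F} (hf₁ : Cfsg.Geo.IsSymplecticForm f₁)
    (hf₂ : Cfsg.Geo.IsSymmetricForm f₂)
    (hT : Cfsg.Geo.IsTensorFormStructure id (Cfsg.sympForm m F) f₁ f₂ e P) :
    ∃ K : Subgroup (GL (Fin m ⊕ Fin m) F),
      Cfsg.Geo.tensorProductSubgroup n 3 e P ⊓ Cfsg.spGL m F < K ∧ K < Cfsg.spGL m F := by
  obtain ⟨C, d, hC, hd, hCo, hmon⟩ := three_monomial hq hf₂
  obtain ⟨κ, hκ, hval⟩ := hT
  set D := sympData m F with hD
  let τ : (Fin 3 → F) →ₗ[F] (Fin n → F) →ₗ[F] (Fin m ⊕ Fin m → F) := (pureVec e P).flip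
  have hf : ∀ x x' y y', D.form (τ x y) (τ x' y') = κ * (f₂ x x' * f₁ y y') := by
    intro x x' y y'
    show D.form (pureVec e P y x) (pureVec e P y' x') = _
    rw [hD, sympData_form, pureVec_apply, pureVec_apply, hval]
    refine congrArg _ ((formOfGram_pure (RingHom.id F) _ _ y y' x x').trans ?_)
    rw [formOfGram_gram (RingHom.id F) hf₁.bilinear.add_left hf₁.bilinear.smul_left
      hf₁.bilinear.add_right (fun c v x => hf₁.bilinear.smul_right c v x),
      formOfGram_gram (RingHom.id F) hf₂.bilinear.add_left hf₂.bilinear.smul_left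
      hf₂.bilinear.add_right (fun c v x => hf₂.bilinear.smul_right c v x), mul_comm]
  have hind : ∀ Y : Fin 3 → Fin n → F, ∑ i, τ (fun r => C r i) (Y i) = 0 → ∀ i, Y i = 0 := by
    intro Y hY i
    funext s
    have h0 : (fun a : Fin n × Fin 3 => ∑ i, Y i a.1 * C a.2 i) ∘ e = 0 := by
      refine mulVec_inj P ?_
      rw [Matrix.mulVec_zero, ← hY]
      show _ = ∑ i, pureVec e P (Y i) (fun r => C r i)
      simp only [pureVec_apply, ← Matrix.mulVec_sum]
      congr 1
    have h1 : C *ᵥ (fun j => Y j s) = 0 := funext fun r => by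
      have := congrFun h0 (e.symm (s, r))
      simpa [Matrix.mulVec, dotProduct, mul_comm] using this
    exact congrFun (Matrix.eq_zero_of_mulVec_eq_zero hC.ne_zero h1) i
  obtain ⟨y₀, hy₀⟩ : ∃ y : Fin n → F, y ≠ 0 :=
    ⟨Pi.single ⟨0, hn⟩ 1, fun h => one_ne_zero (α := F) (by simpa using congrFun h ⟨0, hn⟩)⟩
  obtain ⟨⟨x₁, hx₁⟩, -⟩ := hf₁.nondegenerate y₀ hy₀
  have hform : ∀ i j y y', D.form (τ (fun r => C r i) y) (τ (fun r => C r j) y') =
      (if i = j then κ * d else 0) * f₁ y y' := fun i j y y' => by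
    rw [hf, hCo]; split <;> ring
  have hkd : κ * d ≠ 0 := mul_ne_zero hκ hd
  set v₀ := τ (fun r => C r 0) y₀ with hv₀
  set v₁ := τ (fun r => C r 0) y₀ + τ (fun r => C r 1) y₀ with hv₁
  refine split_between (n := n) (by norm_num) _ _ τ hC hind (fun g hg => ?_) (fun g hg => ?_)
    (fun g hg a b hab => ?_) ⟨spTrv v₀ 1, spTrv_mem _ _, ?_, 0, ?_, ?_, y₀, hy₀, ?_⟩
    ⟨spTrv v₁ 1, spTrv_mem _ _, 0, x₁, ?_⟩
  · exact pureVec_total e P fun x y => hg y x
  · obtain ⟨a, b, hab⟩ := mul_pureVec hg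
    exact ⟨b, a, fun x y => hab y x⟩
  · obtain ⟨μ, hμ, hμe⟩ := factor_similitude f₂
      (fun x x' => f₂ ((a : Matrix (Fin 3) (Fin 3) F) *ᵥ x) ((a : Matrix (Fin 3) (Fin 3) F) *ᵥ x'))
      f₁ (fun y y' => f₁ ((b : Matrix (Fin n) (Fin n) F) *ᵥ y) ((b : Matrix (Fin n) (Fin n) F) *ᵥ y'))
      ⟨fun r => C r 0, fun r => C r 0, by rw [hCo, if_pos rfl]; exact hd⟩ ⟨x₁, y₀, hx₁⟩
      (fun x x' y y' => by
        have e1 := mem_spGL.1 hg (τ x y) (τ x' y')
        rw [hab, hab, ← hD, hf, hf] at e1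
        exact mul_left_cancel₀ hκ e1)
    exact hmon a μ hμ hμe
  · intro h1
    have h2 := congrArg (fun g : GL (Fin m ⊕ Fin m) F =>
      (g : Matrix (Fin m ⊕ Fin m) (Fin m ⊕ Fin m) F) *ᵥ τ (fun r => C r 0) x₁) h1
    simp only [spTrv_mulVec, one_mul, Units.val_one, Matrix.one_mulVec, ← hD, hv₀, hform,
      if_pos rfl, add_eq_left, smul_eq_zero] at h2
    rcases h2 with h | h
    · exact mul_ne_zero hkd hx₁ h
    · have hh := hform 0 0 x₁ y₀
      rw [if_pos rfl, h, D.form_zero_right] at hh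
      exact mul_ne_zero hkd hx₁ hh.symm
  · intro j hj y
    rw [spTrv_mulVec, one_mul, ← hD, hv₀, hform, if_neg hj, zero_mul, zero_smul, add_zero]
  · intro y
    refine ⟨y + (κ * d * f₁ y y₀) • y₀, ?_⟩
    rw [spTrv_mulVec, one_mul, ← hD, hv₀, hform, if_pos rfl, map_add, map_smul]
  · rw [spTrv_mulVec, one_mul, ← hD, hv₀, hform, hf₁.alternating, mul_zero, zero_smul, add_zero]
  · intro j y'
    have hb : D.form (τ (fun r => C r 0) x₁) v₁ = κ * d * f₁ x₁ y₀ := by
      rw [hv₁, D.form_add_right, hform, hform, if_pos rfl, if_neg (by decide), zero_mul, add_zero]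
    rw [spTrv_mulVec, one_mul, ← hD, hb, hv₁, smul_add, ← add_assoc, ← map_smul, ← map_smul,
      ← map_add]
    refine not_pure hind (by decide) (fun h => hx₁ ?_) (smul_ne_zero (mul_ne_zero hkd hx₁) hy₀) j y'
    rw [eq_neg_of_add_eq_zero_left h, ← neg_smul, hf₁.bilinear.smul_left, hf₁.alternating, mul_zero]

/-- the orthogonal groups -/
theorem three_orth (hq : Fintype.card F = 3) {Q : QuadraticForm F (ι → F)}
    (hQ : (QuadraticMap.polarBilin Q).Nondegenerate) (hι : 9 ≤ Fintype.card ι) (hn : 4 ≤ n)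
    (e : ι ≃ Fin 3 × Fin n) (P : GL ι F) {f₁ : (Fin 3 → F) → (Fin 3 → F) → F}
    {f₂ : (Fin n → F) → (Fin n → F) → F} (hf₁ : Cfsg.Geo.IsSymmetricForm f₁)
    (hf₂ : Cfsg.Geo.IsSymmetricForm f₂)
    (hT : Cfsg.Geo.IsTensorFormStructure id (QuadraticMap.polar ⇑Q) f₁ f₂ e P) :
    ∃ K : Subgroup (GL ι F), Cfsg.Geo.tensorProductSubgroup 3 n e P ⊓ Cfsg.Geo.omegaGL ⇑Q < K ∧
      K < Cfsg.Geo.omegaGL ⇑Q := by
  obtain ⟨C, d, hC, hd, hCo, hmon⟩ := three_monomial hq hf₁
  obtain ⟨κ, hκ, hval⟩ := hT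
  set τ := pureVec e P with hτ
  have h3 := three_eq_zero_of_card hq
  have h2 : (2 : F) ≠ 0 := fun h => one_ne_zero (α := F) (by linear_combination h3 - h)
  have hf : ∀ x x' y y', QuadraticMap.polar Q (τ x y) (τ x' y') = κ * (f₁ x x' * f₂ y y') := by
    intro x x' y y'
    rw [hτ, pureVec_apply, pureVec_apply, hval]
    refine congrArg _ ((formOfGram_pure (RingHom.id F) _ _ x x' y y').trans ?_)
    rw [formOfGram_gram (RingHom.id F) hf₁.bilinear.add_left hf₁.bilinear.smul_left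
      hf₁.bilinear.add_right (fun c v x => hf₁.bilinear.smul_right c v x),
      formOfGram_gram (RingHom.id F) hf₂.bilinear.add_left hf₂.bilinear.smul_left
      hf₂.bilinear.add_right (fun c v x => hf₂.bilinear.smul_right c v x)]
  have hind : ∀ Y : Fin 3 → Fin n → F, ∑ i, τ (fun r => C r i) (Y i) = 0 → ∀ i, Y i = 0 :=
    fun Y hY => pureVec_indep e P hC hY
  have hkd : κ * d ≠ 0 := mul_ne_zero hκ hd
  have hform : ∀ i j y y', QuadraticMap.polar Q (τ (fun r => C r i) y) (τ (fun r => C r j) y') =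
      (if i = j then κ * d else 0) * f₂ y y' := fun i j y y' => by
    rw [hf, hCo]; split <;> ring
  let L := τ (fun r => C r 0)
  have hL : Function.Injective L := by
    rw [injective_iff_map_eq_zero]
    intro y hy
    by_contra hy0
    obtain ⟨⟨x, hx⟩, -⟩ := hf₂.nondegenerate y hy0
    have := hform 0 0 x y
    rw [if_pos rfl, show τ (fun r => C r 0) y = 0 from hy, QuadraticMap.polar_zero_right] at this
    exact mul_ne_zero hkd hx this.symm
  have hdimS : Module.finrank F ↥(LinearMap.range L) = n := by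
    rw [LinearMap.finrank_range_of_inj hL, Module.finrank_fintype_fun_eq_card, Fintype.card_fin]
  obtain ⟨u, ⟨y₀, rfl⟩, hu0, hQu⟩ := Orth.exists_sing hQ (S := LinearMap.range L) (by omega)
  obtain ⟨w, ⟨⟨y₁, rfl⟩, huwk⟩, hwspan⟩ : ∃ w ∈ LinearMap.range L ⊓ Orth.ker Q (L y₀),
      w ∉ Submodule.span F {L y₀} := SetLike.not_le_iff_exists.1 fun hle => by
    have d1 := Submodule.finrank_mono hle
    have d2 := Orth.finrank_inf_ker hQ (LinearMap.range L) (L y₀)
    rw [finrank_span_singleton hu0] at d1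
    omega
  have huw : QuadraticMap.polar Q (L y₀) (L y₁) = 0 := huwk
  have hy₀ : y₀ ≠ 0 := fun h => hu0 (by rw [h, map_zero])
  obtain ⟨⟨x₀, hx₀⟩, -⟩ := hf₂.nondegenerate y₀ hy₀
  have hy00 : f₂ y₀ y₀ = 0 := by
    have := hform 0 0 y₀ y₀
    rw [if_pos rfl, show QuadraticMap.polar (⇑Q) (τ (fun r => C r 0) y₀) (τ (fun r => C r 0) y₀) = 0
      from Classical.Orth.polar_self_zero hQu] at this
    exact (mul_eq_zero.1 this.symm).resolve_left hkd
  have huw₁ : QuadraticMap.polar Q (L y₀) (τ (fun r => C r 1) y₀) = 0 := by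
    show QuadraticMap.polar Q (τ (fun r => C r 0) y₀) _ = 0
    rw [hform, if_neg (by decide), zero_mul]
  have hact : ∀ {g : Cfsg.isometryGroup F ⇑Q} (z : ι → F),
      ((Cfsg.isometryGroup F ⇑Q).subtype g : Matrix ι ι F) *ᵥ z = Reflections.act g z :=
    fun {g} z => (Reflections.act_apply g z).symm
  refine split_between (n := n) (by norm_num) _ _ τ hC hind (fun g hg => pureVec_total e P hg)
    (fun g hg => mul_pureVec hg) (fun g hg a b hab => ?_)
    ⟨_, Subgroup.mem_map_of_mem _ (Orth.eich_omega hQ (by omega) hQu huw), ?_, 0, ?_, ?_, y₀, hy₀, ?_⟩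
    ⟨_, Subgroup.mem_map_of_mem _ (Orth.eich_omega hQ (by omega) hQu huw₁), 0, x₀, ?_⟩
  · obtain ⟨g', -, rfl⟩ := Subgroup.mem_map.1 hg
    obtain ⟨μ, hμ, hμe⟩ := factor_similitude f₁
      (fun x x' => f₁ ((a : Matrix (Fin 3) (Fin 3) F) *ᵥ x) ((a : Matrix (Fin 3) (Fin 3) F) *ᵥ x'))
      f₂ (fun y y' => f₂ ((b : Matrix (Fin n) (Fin n) F) *ᵥ y) ((b : Matrix (Fin n) (Fin n) F) *ᵥ y'))
      ⟨fun r => C r 0, fun r => C r 0, by rw [hCo, if_pos rfl]; exact hd⟩ ⟨x₀, y₀, hx₀⟩
      (fun x x' y y' => by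
        have e1 := Reflections.act_polar g' (τ x y) (τ x' y')
        rw [← hact, ← hact, hab, hab, hf, hf] at e1
        exact mul_left_cancel₀ hκ e1)
    exact hmon a μ hμ hμe
  · intro h1
    have h2' := congrArg (fun g : GL ι F => (g : Matrix ι ι F) *ᵥ τ (fun r => C r 0) x₀) h1
    simp only [hact, Classical.Orth.act_eich, Units.val_one, Matrix.one_mulVec] at h2'
    set lam := QuadraticMap.polar Q (τ (fun r => C r 0) x₀) (L y₀) with hl
    have hl0 : lam ≠ 0 := by
      rw [hl]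
      show QuadraticMap.polar Q _ (τ (fun r => C r 0) y₀) ≠ 0
      rw [hform, if_pos rfl]
      exact mul_ne_zero hkd hx₀
    refine hwspan (Submodule.mem_span_singleton.2 ⟨lam⁻¹ *
      (QuadraticMap.polar Q (τ (fun r => C r 0) x₀) (L y₁) + Q (L y₁) * lam), ?_⟩)
    rw [mul_smul, eq_comm, eq_inv_smul_iff₀ hl0]
    have e0 := sub_eq_zero.2 h2'
    rw [← sub_eq_zero]
    linear_combination (norm := module) e0
  · intro j hj y
    rw [hact, Classical.Orth.act_eich_fix hQu huw]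
    · show QuadraticMap.polar Q _ (τ (fun r => C r 0) y₀) = 0
      rw [hform, if_neg hj, zero_mul]
    · show QuadraticMap.polar Q _ (τ (fun r => C r 0) y₁) = 0
      rw [hform, if_neg hj, zero_mul]
  · intro y
    refine ⟨y + QuadraticMap.polar Q (L y) (L y₀) • y₁ - QuadraticMap.polar Q (L y) (L y₁) • y₀ -
      (Q (L y₁) * QuadraticMap.polar Q (L y) (L y₀)) • y₀, ?_⟩
    rw [hact, Classical.Orth.act_eich]
    show _ = L _
    simp only [map_sub, map_add, map_smul]
    rfl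
  · rw [hact]
    exact Classical.Orth.act_eich_self hQu huw
  · intro j y'
    rw [hact, Classical.Orth.act_eich]
    have e1 : QuadraticMap.polar Q (τ (fun r => C r 0) x₀) (L y₀) = κ * d * f₂ x₀ y₀ := by
      show QuadraticMap.polar Q _ (τ (fun r => C r 0) y₀) = _
      rw [hform, if_pos rfl]
    have e2 : QuadraticMap.polar Q (τ (fun r => C r 0) x₀) (τ (fun r => C r 1) y₀) = 0 := by
      rw [hform, if_neg (by decide), zero_mul]
    rw [e1, e2, zero_smul, sub_zero]
    set s := Q (τ (fun r => C r 1) y₀) * (κ * d * f₂ x₀ y₀)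
    have e3 : τ (fun r => C r 0) x₀ + (κ * d * f₂ x₀ y₀) • τ (fun r => C r 1) y₀ - s • L y₀ =
        τ (fun r => C r 0) (x₀ - s • y₀) + τ (fun r => C r 1) ((κ * d * f₂ x₀ y₀) • y₀) := by
      show _ - s • τ (fun r => C r 0) y₀ = _
      rw [map_sub, map_smul, map_smul]
      abel
    rw [e3]
    refine not_pure hind (by decide) (fun h => hx₀ ?_)
      (smul_ne_zero (mul_ne_zero hkd hx₀) hy₀) j y'
    rw [sub_eq_zero.1 h, hf₂.bilinear.smul_left, hy00, mul_zero]

end Cfsg.Agent.Forms.Max.Factor
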