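import Mathlib
import Cfsg.Agent.Lib.Forms.Max.FactorThree
import Cfsg.Agent.Lib.Forms.Max.UnitaryBase

/-!
# Tensor decompositions with a unitary plane over the field of four elements
-/

set_option autoImplicit false
set_option linter.unusedSectionVars false

namespace Cfsg.Agent.Forms.Max.Factor

open Matrix Cfsg.Agent.Classical.Unitary

variable {F : Type*} [Field F] [Fintype F]

/-- hermitian planes over four elements: an orthonormal basis permuted by similitudes -/
theorem two_monomial (hF : Fintype.card F = 2 ^ 2) [CharP F 2]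
    {f : (Fin 2 → F) → (Fin 2 → F) → F} (hf : Cfsg.Geo.IsUnitaryFormPow 2 f) :
    ∃ C : Matrix (Fin 2) (Fin 2) F, IsUnit C.det ∧
      (∀ i j, f (fun r => C r i) (fun r => C r j) = if i = j then 1 else 0) ∧
      ∀ (a : GL (Fin 2) F) (μ : F), μ ≠ 0 →
        (∀ x y, f ((a : Matrix (Fin 2) (Fin 2) F) *ᵥ x) ((a : Matrix (Fin 2) (Fin 2) F) *ᵥ y) =
          μ * f x y) →
        ∀ i, ∃ (j : Fin 2) (s : F), ((a : Matrix (Fin 2) (Fin 2) F) *ᵥ fun r => C r i) =
          s • fun r => C r j := by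
  have har : ∀ v x y, f v (x + y) = f v x + f v y := fun v x y => by
    rw [hf.herm v (x + y), hf.add_left, CharTwo.add_sq, ← hf.herm, ← hf.herm]
  have hsr : ∀ (c : F) v x, f v (c • x) = c ^ 2 * f v x := fun c v x => by
    rw [hf.herm v (c • x), hf.smul_left, mul_pow, ← hf.herm]
  have hone : ∀ x, f x x ≠ 0 → f x x = 1 := fun x hx =>
    mul_left_cancel₀ hx (by rw [← sq, ← hf.herm, mul_one])
  have hzero : ∀ x, f 0 x = 0 := fun x => by
    simpa using hf.smul_left (0 : F) 0 x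
  obtain ⟨ω, hω0, hω1⟩ : ∃ ω : F, ω ≠ 0 ∧ ω ≠ 1 := by
    by_contra hc
    push Not at hc
    classical
    have := Finset.card_le_card (s := (Finset.univ : Finset F)) (t := {0, 1}) fun x _ => by
      rcases eq_or_ne x 0 with h | h
      · simp [h]
      · simp [hc x h]
    rw [Finset.card_univ] at this
    have := this.trans Finset.card_le_two
    omega
  obtain ⟨v, hv⟩ : ∃ v, f v v ≠ 0 := by
    by_contra hc
    push Not at hc
    set e₀ : Fin 2 → F := Pi.single 0 1
    obtain ⟨-, y, hy⟩ := hf.nondegenerate e₀ (fun h => one_ne_zero (α := F) (by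
      simpa [e₀] using congrFun h 0))
    have h1 := hc (e₀ + y)
    have h2 := hc (ω • e₀ + y)
    rw [hf.add_left, har, har, hc, hc, zero_add, add_zero] at h1
    rw [hf.add_left, har, har, hc, hc, hf.smul_left, hsr, zero_add, add_zero] at h2
    refine hy ((mul_eq_zero.1 (show (ω - ω ^ 2) * f e₀ y = 0 by
      linear_combination h2 - ω ^ 2 * h1)).resolve_left fun h => ?_)
    rcases mul_eq_zero.1 (show ω * (1 - ω) = 0 by linear_combination h) with h' | h'
    · exact hω0 h'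
    · exact hω1 (sub_eq_zero.1 h').symm
  have hv1 := hone v hv
  have hv0 : v ≠ 0 := fun h => hv (by rw [h, hzero])
  obtain ⟨u, -, hu⟩ : ∃ u ∈ (⊤ : Submodule F (Fin 2 → F)), u ∉ Submodule.span F {v} :=
    SetLike.not_le_iff_exists.1 fun hle => by
      have := Submodule.finrank_mono hle
      rw [finrank_span_singleton hv0, finrank_top, Module.finrank_fintype_fun_eq_card,
        Fintype.card_fin] at this
      omega
  set w := u + (f u v) • v with hw
  have hwv : f w v = 0 := by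
    rw [hw, hf.add_left, hf.smul_left, hv1, mul_one]
    linear_combination (f u v) * (CharTwo.two_eq_zero : (2 : F) = 0)
  have hvw : f v w = 0 := by rw [hf.herm, hwv]; ring
  have hwspan : w ∉ Submodule.span F {v} := fun h => hu (by
    rw [hw] at h
    exact (Submodule.add_mem_iff_left _
      (Submodule.smul_mem _ _ (Submodule.mem_span_singleton_self v))).1 h)
  set C : Matrix (Fin 2) (Fin 2) F := Matrix.of fun r i => ![v, w] i r with hC
  have hc0 : (fun r => C r 0) = v := rfl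
  have hc1 : (fun r => C r 1) = w := rfl
  have hCu : IsUnit C.det := by
    refine isUnit_iff_ne_zero.2 fun hdet => ?_
    obtain ⟨z, hz0, hz⟩ := Matrix.exists_mulVec_eq_zero_iff.2 hdet
    have hz' : z 0 • v + z 1 • w = 0 := by
      rw [← hz]; funext r
      simp [Matrix.mulVec, dotProduct, hC, Fin.sum_univ_two, mul_comm]
    rcases eq_or_ne (z 1) 0 with h | h
    · rw [h, zero_smul, add_zero, smul_eq_zero, or_iff_left hv0] at hz'
      exact hz0 (funext fun i => by fin_cases i <;> assumption)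
    · refine hwspan (Submodule.mem_span_singleton.2 ⟨-((z 1)⁻¹ * z 0), ?_⟩)
      rw [neg_smul, mul_smul, ← smul_neg, eq_comm, eq_inv_smul_iff₀ h]
      exact eq_neg_of_add_eq_zero_right hz'
  have hexp : ∀ x, ∃ p q : F, x = p • v + q • w := fun x =>
    ⟨(C⁻¹ *ᵥ x) 0, (C⁻¹ *ᵥ x) 1, by
      have h := show C *ᵥ (C⁻¹ *ᵥ x) = x by
        rw [Matrix.mulVec_mulVec, Matrix.mul_nonsing_inv _ hCu, Matrix.one_mulVec]
      conv_lhs => rw [← h]
      funext r
      simp [Matrix.mulVec, dotProduct, hC, Fin.sum_univ_two, mul_comm]⟩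
  have hw1 : f w w = 1 := by
    refine hone w fun h0 => hwspan ?_
    have hw0 : w = 0 := by
      by_contra hw0
      obtain ⟨-, y, hy⟩ := hf.nondegenerate w hw0
      obtain ⟨p, q, rfl⟩ := hexp y
      exact hy (by rw [har, hsr, hsr, hwv, h0]; ring)
    rw [hw0]; exact Submodule.zero_mem _
  refine ⟨C, hCu, fun i j => ?_, fun a μ hμ ha i => ?_⟩
  · fin_cases i <;> fin_cases j <;> simp [hc0, hc1, hv1, hw1, hvw, hwv]
  have hci : f (fun r => C r i) (fun r => C r i) = 1 := by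
    fin_cases i <;> simp [hc0, hc1, hv1, hw1]
  have hμ1 : μ = 1 := by
    have e := hone _ (show f ((a : Matrix (Fin 2) (Fin 2) F) *ᵥ fun r => C r i)
      ((a : Matrix (Fin 2) (Fin 2) F) *ᵥ fun r => C r i) ≠ 0 by rw [ha, hci, mul_one]; exact hμ)
    rwa [ha, hci, mul_one] at e
  obtain ⟨p, q, hpq⟩ := hexp ((a : Matrix (Fin 2) (Fin 2) F) *ᵥ fun r => C r i)
  have e := ha (fun r => C r i) (fun r => C r i)
  rw [hpq, hci, hμ1, hf.add_left, har, har, hf.smul_left, hf.smul_left, hf.smul_left, hf.smul_left,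
    hsr, hsr, hsr, hsr, hv1, hw1, hvw, hwv] at e
  have h3 : ∀ x : F, x ≠ 0 → x * x ^ 2 = 1 := fun x hx => by
    have := FiniteField.pow_card_sub_one_eq_one x hx
    rw [hF] at this
    rw [← pow_succ']
    simpa using this
  rcases eq_or_ne p 0 with hp | hp
  · exact ⟨1, q, by rw [hpq, hp, zero_smul, zero_add, hc1]⟩
  rcases eq_or_ne q 0 with hq | hq
  · exact ⟨0, p, by rw [hpq, hq, zero_smul, add_zero, hc0]⟩
  exfalso
  simp only [mul_one, mul_zero, add_zero, zero_add, h3 p hp, h3 q hq] at e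
  exact one_ne_zero (α := F) (by linear_combination e)

/-- the special unitary groups -/
theorem two_unitary (hF : Fintype.card F = 2 ^ 2) {n k : ℕ} (hk : 3 ≤ k) (e : Fin n ≃ Fin 2 × Fin k)
    (P : GL (Fin n) F) {f₁ : (Fin 2 → F) → (Fin 2 → F) → F} {f₂ : (Fin k → F) → (Fin k → F) → F}
    (hf₁ : Cfsg.Geo.IsUnitaryFormPow 2 f₁) (hf₂ : Cfsg.Geo.IsUnitaryFormPow 2 f₂)
    (hT : Cfsg.Geo.IsTensorFormStructure (fun x : F => x ^ 2) (Cfsg.hermForm n F 2) f₁ f₂ e P) :
    ∃ K : Subgroup (GL (Fin n) F),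
      Cfsg.Geo.tensorProductSubgroup 2 k e P ⊓ (Cfsg.GU n F 2 ⊓ Cfsg.Geo.specialLinear (Fin n) F) < K ∧
        K < Cfsg.GU n F 2 ⊓ Cfsg.Geo.specialLinear (Fin n) F := by
  have h2 : (2 : F) = 0 := by
    by_contra h2
    have := FiniteField.odd_card_of_char_ne_two (F := F) fun hc => h2 (by
      have : CharP F 2 := (ringChar.eq_iff).1 hc
      exact CharTwo.two_eq_zero)
    omega
  have : CharP F 2 := CharTwo.of_one_ne_zero_of_two_eq_zero one_ne_zero h2
  obtain ⟨C, hC, hCo, hmon⟩ := two_monomial hF hf₁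
  obtain ⟨κ, hκ, hval⟩ := hT
  set τ := pureVec e P with hτ
  have hσ : ((frobenius F 2 : F →+* F) : F → F) = fun x => x ^ 2 := funext fun x => frobenius_def 2 x
  have hgram : ∀ {r : ℕ} {f : (Fin r → F) → (Fin r → F) → F}, Cfsg.Geo.IsUnitaryFormPow 2 f →
      ∀ x y, Cfsg.Geo.formOfGram (fun x : F => x ^ 2) (Cfsg.Geo.gramMatrix f) x y = f x y := by
    intro r f hf x y
    rw [← hσ]
    refine formOfGram_gram (frobenius F 2) hf.add_left hf.smul_left (fun v x y => ?_)
      (fun c v x => ?_) x y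
    · rw [hf.herm v (x + y), hf.add_left, CharTwo.add_sq, ← hf.herm, ← hf.herm]
    · rw [hf.herm v (c • x), hf.smul_left, mul_pow, ← hf.herm, frobenius_def]
  have hf : ∀ x x' y y', Cfsg.hermForm n F 2 (τ x y) (τ x' y') = κ * (f₁ x x' * f₂ y y') := by
    intro x x' y y'
    rw [hτ, pureVec_apply, pureVec_apply, hval, ← hgram hf₁, ← hgram hf₂, ← hσ, formOfGram_pure]
  have hind : ∀ Y : Fin 2 → Fin k → F, ∑ i, τ (fun r => C r i) (Y i) = 0 → ∀ i, Y i = 0 :=
    fun Y hY => pureVec_indep e P hC hY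
  have hform : ∀ i j y y', Cfsg.hermForm n F 2 (τ (fun r => C r i) y) (τ (fun r => C r j) y') =
      (if i = j then κ else 0) * f₂ y y' := fun i j y y' => by
    rw [hf, hCo]; split <;> ring
  let L := τ (fun r => C r 0)
  have hnd : ∀ v ∈ LinearMap.range L, v ≠ 0 → ∃ x ∈ LinearMap.range L,
      Cfsg.hermForm n F 2 v x ≠ 0 := by
    rintro _ ⟨y, rfl⟩ hy
    obtain ⟨-, x, hx⟩ := hf₂.nondegenerate y fun h => hy (by rw [h, map_zero])
    refine ⟨_, ⟨x, rfl⟩, ?_⟩
    show Cfsg.hermForm n F 2 (τ (fun r => C r 0) y) (τ (fun r => C r 0) x) ≠ 0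
    rw [hform, if_pos rfl]
    exact mul_ne_zero hκ hx
  have hL : Function.Injective L := by
    rw [injective_iff_map_eq_zero]
    intro y hy
    by_contra hy0
    obtain ⟨-, x, hx⟩ := hf₂.nondegenerate y hy0
    have := hform 0 0 y x
    rw [if_pos rfl, show τ (fun r => C r 0) y = 0 from hy, H_zero_left] at this
    exact mul_ne_zero hκ hx this.symm
  obtain ⟨v, ⟨y₀, rfl⟩, hv0, hvv⟩ := Unitary.exists_iso hF hnd (by
    rw [LinearMap.finrank_range_of_inj hL, Module.finrank_fintype_fun_eq_card, Fintype.card_fin]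
    omega)
  have hy₀ : y₀ ≠ 0 := fun h => hv0 (by rw [h, map_zero])
  have hy00 : f₂ y₀ y₀ = 0 := by
    have := hform 0 0 y₀ y₀
    rw [if_pos rfl, show Cfsg.hermForm n F 2 (τ (fun r => C r 0) y₀) (τ (fun r => C r 0) y₀) = 0
      from hvv] at this
    exact (mul_eq_zero.1 this.symm).resolve_left hκ
  obtain ⟨⟨x₀, hx₀⟩, -⟩ := hf₂.nondegenerate y₀ hy₀
  have hc1 : (1 : F) + 1 ^ 2 = 0 := by linear_combination h2
  set v₀ := τ (fun r => C r 0) y₀ with hv₀
  obtain ⟨h, hh, hhx⟩ := Unitary.exists_tv hF (v := v₀) hvv hc1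
  set v₁ := τ (fun r => C r 0) y₀ + τ (fun r => C r 1) y₀ with hv₁
  have hv₁₁ : Cfsg.hermForm n F 2 v₁ v₁ = 0 := by
    simp only [hv₁, H_add_left, H_add_right hF, hform, hy00, mul_zero, add_zero]
  obtain ⟨g, hg, hgx⟩ := Unitary.exists_tv hF (v := v₁) hv₁₁ hc1
  have hb : Cfsg.hermForm n F 2 (τ (fun r => C r 0) x₀) v₀ = κ * f₂ x₀ y₀ := by
    rw [hv₀, hform, if_pos rfl]
  refine split_between (n := k) (by norm_num) _ _ τ hC hind (fun g hg => pureVec_total e P hg)
    (fun g hg => mul_pureVec hg) (fun g hg a b hab => ?_)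
    ⟨h, hh, fun h1 => ?_, 0, ?_, ?_, y₀, hy₀, ?_⟩ ⟨g, hg, 0, x₀, ?_⟩
  · obtain ⟨μ, hμ, hμe⟩ := factor_similitude f₁
      (fun x x' => f₁ ((a : Matrix (Fin 2) (Fin 2) F) *ᵥ x) ((a : Matrix (Fin 2) (Fin 2) F) *ᵥ x'))
      f₂ (fun y y' => f₂ ((b : Matrix (Fin k) (Fin k) F) *ᵥ y) ((b : Matrix (Fin k) (Fin k) F) *ᵥ y'))
      ⟨fun r => C r 0, fun r => C r 0, by rw [hCo, if_pos rfl]; exact one_ne_zero⟩ ⟨x₀, y₀, hx₀⟩
      (fun x x' y y' => by
        have e1 := (Unitary.mem_SUn.1 hg).1 (τ x y) (τ x' y')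
        rw [hab, hab, hf, hf] at e1
        exact mul_left_cancel₀ hκ e1)
    exact hmon a μ hμ hμe
  · have e1 := hhx (τ (fun r => C r 0) x₀)
    rw [h1, Units.val_one, Matrix.one_mulVec, one_mul, hb, eq_comm, add_eq_left, smul_eq_zero] at e1
    rcases e1 with h' | h'
    · exact mul_ne_zero hκ hx₀ h'
    · exact hv0 h'
  · intro j hj y
    rw [hhx, one_mul, hv₀, hform, if_neg hj, zero_mul, zero_smul, add_zero]
  · intro y
    refine ⟨y + (κ * f₂ y y₀) • y₀, ?_⟩
    rw [hhx, one_mul, hv₀, hform, if_pos rfl, map_add, map_smul]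
  · rw [hhx, one_mul, hv₀, hform, hy00, mul_zero, zero_smul, add_zero]
  · intro j y'
    have hb1 : Cfsg.hermForm n F 2 (τ (fun r => C r 0) x₀) v₁ = κ * f₂ x₀ y₀ := by
      rw [hv₁, H_add_right hF, hform, hform, if_pos rfl, if_neg (by decide), zero_mul, add_zero]
    rw [hgx, one_mul, hb1, hv₁, smul_add, ← add_assoc, ← map_smul, ← map_smul, ← map_add]
    refine not_pure hind (by decide) (fun h' => hx₀ ?_) (smul_ne_zero (mul_ne_zero hκ hx₀) hy₀) j y'
    rw [eq_neg_of_add_eq_zero_left h', ← neg_smul, hf₂.smul_left, hy00, mul_zero]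

end Cfsg.Agent.Forms.Max.Factor
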