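import Mathlib
import Cfsg.Agent.Lib.Forms.Max.UnitaryBase

/-!
# Stabilisers of subspaces in the special unitary group
-/

set_option autoImplicit false
set_option linter.unusedSectionVars false

namespace Cfsg.Agent.Forms.Max.Unitary

open Matrix Cfsg.Agent.Classical.Unitary

variable {F : Type*} [Field F] [Fintype F] {q n : ℕ}

local notation "Vec" => (Fin n → F)
local notation "GLn" => GL (Fin n) F
local notation "Mat" => Matrix (Fin n) (Fin n) F
local notation "H" => Cfsg.hermForm n F q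
local notation "SUn" => (Cfsg.GU n F q ⊓ Cfsg.Geo.specialLinear (Fin n) F)

/-- the transvection centres of a subgroup -/
def centres (q : ℕ) (M : Subgroup GLn) : Set Vec :=
  {v | Cfsg.hermForm n F q v v = 0 ∧ ∀ (g : GLn) (c : F), c + c ^ q = 0 →
    (∀ x, (g : Mat) *ᵥ x = x + (c * Cfsg.hermForm n F q x v) • v) → g ∈ M}

variable (hF : Fintype.card F = q ^ 2)
include hF

omit hF in
theorem SUn_H {g : GLn} (hg : g ∈ SUn) (u v : Vec) :
    H ((g : Mat) *ᵥ u) ((g : Mat) *ᵥ v) = H u v := (mem_SUn.1 hg).1 u v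

theorem centres_map {M : Subgroup GLn} (hMK : M ≤ SUn) {g : GLn} (hg : g ∈ M) {v : Vec}
    (hv : v ∈ centres q M) : (g : Mat) *ᵥ v ∈ centres q M := by
  refine ⟨by rw [SUn_H (hMK hg)]; exact hv.1, fun t c hc ht => ?_⟩
  obtain ⟨s, hs, hsx⟩ := exists_tv hF hv.1 hc
  have e : g * s * g⁻¹ = t := by
    rw [mul_inv_eq_iff_eq_mul]
    refine gl_ext fun x => ?_
    rw [mulVec_mul_GL, mulVec_mul_GL, hsx, ht, mulVec_add, mulVec_smul, SUn_H (hMK hg)]
  exact e ▸ mul_mem (mul_mem hg (hv.2 s c hc hsx)) (inv_mem hg)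

theorem centres_smul {M : Subgroup GLn} {v : Vec} (t : F) (hv : v ∈ centres q M) :
    t • v ∈ centres q M := by
  refine ⟨by rw [H_smul_left, H_smul_right, hv.1, mul_zero, mul_zero], fun g c hc hg => ?_⟩
  refine hv.2 g (c * (t ^ q * t)) ?_ fun x => ?_
  · rw [mul_pow, mul_pow, pow_qq hF]
    linear_combination (t ^ q * t) * hc
  · rw [hg, H_smul_right, smul_smul]
    congr 2
    ring

theorem centres_of_stab {W : Submodule F Vec} {M : Subgroup GLn}
    (hM : Cfsg.Geo.subspaceStabilizer W ⊓ SUn ≤ M) {v : Vec} (hv : H v v = 0)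
    (h : ∀ w ∈ W, ∀ t : F, w + (t * H w v) • v ∈ W) : v ∈ centres q M := by
  refine ⟨hv, fun g c hc hg => hM ⟨stab_of_forall fun w hw => by rw [hg]; exact h w hw c, ?_⟩⟩
  obtain ⟨s, hs, hsx⟩ := exists_tv hF hv hc
  exact (gl_ext fun x => by rw [hg, hsx] : g = s) ▸ hs

theorem SUn_le_of_centres (hn : 4 ≤ n) {M : Subgroup GLn}
    (h : ∀ v, H v v = 0 → v ∈ centres q M) : SUn ≤ M :=
  SUn_le_of_tv hF (by omega) (by omega) fun g v c hv hc hg => (h v hv).2 g c hc hg

theorem exists_iso_perp {W : Submodule F Vec} (hW : ∀ u ∈ W, ∀ v ∈ W, H u v = 0) {x : Vec}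
    (hxx : H x x = 0) (hx : x ∉ W) : ∃ y ∈ perp q W, H y y = 0 ∧ H x y ≠ 0 := by
  by_cases hxp : x ∈ perp q W
  · obtain ⟨y, hy, hxy⟩ := not_mem_perp hF hx
    obtain ⟨β, hβ⟩ := exists_trace_add hF y
    set x' := (((H x y)⁻¹) : F) • x with hx'
    have hx'y : H x' y = 1 := by rw [hx', H_smul_left, inv_mul_cancel₀ hxy]
    have hyx' : H y x' = 1 := by rw [← H_conj hF, hx'y, one_pow]
    have hx'x : H x x' = 0 := by rw [hx', H_smul_right, hxx, mul_zero]
    have hx'' : H x' x' = 0 := by rw [hx', H_smul_left, H_smul_right, hxx, mul_zero, mul_zero]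
    refine ⟨y + β • x', (perp q W).add_mem hy ((perp q W).smul_mem _ ((perp q W).smul_mem _ hxp)),
      ?_, ?_⟩
    · simp only [H_add_left, H_add_right hF, H_smul_left, H_smul_right, hx'y, hyx', hx'']
      linear_combination hβ
    · rw [H_add_right hF, H_smul_right, hx'x, mul_zero, add_zero]
      exact hxy
  · rw [mem_perp] at hxp
    push Not at hxp
    obtain ⟨w, hw, hxw⟩ := hxp
    exact ⟨w, mem_perp.2 fun w' hw' => hW w hw w' hw', hW w hw w hw, hxw⟩

theorem singular_maximal (hn : 4 ≤ n) (W : Submodule F Vec) (hW0 : W ≠ ⊥)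
    (hW : ∀ u ∈ W, ∀ v ∈ W, H u v = 0) :
    Cfsg.Geo.IsMaximalIn SUn (Cfsg.Geo.subspaceStabilizer W ⊓ SUn) := by
  have hperp : ∀ M : Subgroup GLn, Cfsg.Geo.subspaceStabilizer W ⊓ SUn ≤ M → ∀ v ∈ perp q W,
      H v v = 0 → v ∈ centres q M := fun M hM v hv hvv => centres_of_stab hF hM hvv fun w hw t => by
    rw [perp_symm hF hv hw, mul_zero, zero_smul, add_zero]; exact hw
  refine isMaximalIn_of inf_le_right (fun h => ?_) fun M hM hMK g hgM hg => ?_
  · obtain ⟨w, hw, hw0⟩ := Submodule.exists_mem_ne_zero_of_ne_bot hW0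
    obtain ⟨v, hv, hwv⟩ := exists_partner hF hw0 (hW w hw w hw)
    obtain ⟨c, hc0, hc⟩ := exists_traceZero hF
    obtain ⟨t, ht, htx⟩ := exists_tv hF hv hc
    have h1 := map_of_stab (h ht).1 hw
    rw [htx, hwv, mul_one] at h1
    have hvW : v ∈ W := by simpa [smul_smul, inv_mul_cancel₀ hc0] using W.smul_mem c⁻¹ ((W.add_mem_iff_right hw).1 h1)
    rw [hW w hw v hvW] at hwv
    exact zero_ne_one hwv
  have hgW : g ∉ Cfsg.Geo.subspaceStabilizer W := fun h => hg ⟨h, hMK hgM⟩
  obtain ⟨w₀, hw₀, hgw₀⟩ := exists_moved hgW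
  obtain ⟨u, hu, hu'⟩ : ∃ u ∈ centres q M, u ∉ perp q W := by
    obtain ⟨y, hy, hyy, hgy⟩ := exists_iso_perp hF hW
      (x := (g : Mat) *ᵥ w₀) (by rw [SUn_H (hMK hgM)]; exact hW _ hw₀ _ hw₀) hgw₀
    set z := ((g⁻¹ : GLn) : Mat) *ᵥ w₀ with hz
    by_cases hzW : z ∈ W
    swap
    · obtain ⟨y', hy', hyy', hzy⟩ := exists_iso_perp hF hW (x := z)
        (by rw [hz, SUn_H (inv_mem (hMK hgM))]; exact hW _ hw₀ _ hw₀) hzW
      refine ⟨_, centres_map hF hMK hgM (hperp M hM y' hy' hyy'), fun h => hzy ?_⟩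
      have := perp_symm hF h hw₀
      rwa [← mulVec_inv_cancel g w₀, SUn_H (hMK hgM)] at this
    · refine ⟨_, centres_map hF hMK (inv_mem hgM) (hperp M hM y hy hyy), fun h => hgy ?_⟩
      have := perp_symm hF h hw₀
      rw [← inv_mulVec_cancel g w₀, SUn_H (inv_mem (hMK hgM))] at this
      exact this
  obtain ⟨w₁, hw₁, hw₁u⟩ : ∃ w ∈ W, H w u ≠ 0 := by
    by_contra hc
    push Not at hc
    exact hu' (mem_perp.2 fun w hw => (H_eq_zero_comm hF).1 (hc w hw))
  refine SUn_le_of_centres hF hn fun u' hu'u' => ?_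
  by_cases hu'' : u' ∈ perp q W
  · exact hperp M hM _ hu'' hu'u'
  have move : ∀ v : Vec, v ∈ centres q M → ∀ v' : Vec, H v' v' = 0 → (∀ w ∈ W, H w v' = H w v) →
      ∀ w ∈ W, H w v ≠ 0 → v' ∈ centres q M := by
    intro v hv v' hv'v' hvv' w hw hwv
    have hvw : H v w ≠ 0 := fun h => hwv ((H_eq_zero_comm hF).1 h)
    set a := ((H v w)⁻¹) ^ q • w with ha
    have haW : a ∈ W := W.smul_mem _ hw
    have hva : H v a = 1 := by rw [ha, H_smul_right, pow_qq hF, inv_mul_cancel₀ hvw]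
    set d := v' - v with hd
    have had : H a d = 0 := by rw [hd, H_sub_right hF, hvv' a haW, sub_self]
    have hβ : H v d + (H v d) ^ q + H d d = 0 := by
      have e : v' = v + d := by rw [hd]; abel
      rw [e] at hv'v'
      simp only [H_add_left, H_add_right hF, hv.1, zero_add] at hv'v'
      rw [H_conj hF]
      linear_combination hv'v'
    obtain ⟨S, hS, hSx⟩ := exists_siegel hF (hW a haW a haW) had hβ
    have hSM : S ∈ M := hM ⟨stab_of_forall fun x hx => by
      rw [hSx, hW x hx a haW, zero_smul, add_zero]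
      exact W.add_mem hx (W.smul_mem _ haW), hS⟩
    have := centres_map hF hMK hSM hv
    rwa [hSx, hva, one_smul, mul_one, neg_add_cancel, zero_smul, add_zero, hd, add_sub_cancel] at this
  let φ : W →ₗ[F] F := (hlin q u).domRestrict W
  let ψ : W →ₗ[F] F := (hlin q u').domRestrict W
  by_cases hc : ∃ c : F, ψ = c • φ
  · obtain ⟨c, hc⟩ := hc
    have hc' : ∀ w ∈ W, H w u' = c * H w u := fun w hw => LinearMap.congr_fun hc ⟨w, hw⟩
    refine move (c ^ q • u) (centres_smul hF _ hu) u' hu'u'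
      (fun w hw => by rw [H_smul_right, pow_qq hF, hc' w hw]) w₁ hw₁ ?_
    rw [H_smul_right, pow_qq hF]
    refine mul_ne_zero (fun h0 => hu'' (mem_perp.2 fun w hw => ?_)) hw₁u
    exact (H_eq_zero_comm hF).1 ((hc' w hw).trans (by rw [h0, zero_mul]))
  push Not at hc
  obtain ⟨⟨a, ha⟩, hau, hau'⟩ := exists_equal_value φ ψ
    (fun h => hw₁u (LinearMap.congr_fun h ⟨w₁, hw₁⟩)) hc
  change H a u ≠ 0 at hau
  change H a u' = H a u at hau'
  have hua : H u a ≠ 0 := fun h => hau ((H_eq_zero_comm hF).1 h)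
  set b := (H u a)⁻¹ • (u' - u) with hb
  have hab : H a b = 0 := by rw [hb, H_smul_right, H_sub_right hF, hau', sub_self, mul_zero]
  obtain ⟨β, hβ⟩ := exists_trace_add hF b
  obtain ⟨S, hS, hSx⟩ := exists_siegel hF (hW a ha a ha) hab hβ
  have hSM : S ∈ M := hM ⟨stab_of_forall fun x hx => by
    rw [hSx, hW x hx a ha, zero_smul, add_zero]
    exact W.add_mem hx (W.smul_mem _ ha), hS⟩
  refine move _ (centres_map hF hMK hSM hu) u' hu'u' (fun w hw => ?_) a ha ?_
  · rw [hSx]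
    simp only [H_add_right hF, H_smul_right, hW w hw a ha, mul_zero, add_zero, hb, H_sub_right hF]
    rw [← mul_assoc, ← mul_pow, mul_inv_cancel₀ hua, one_pow, one_mul, add_sub_cancel]
  · rw [hSx]
    simp only [H_add_right hF, H_smul_right, hab, hW a ha a ha, mul_zero, add_zero]
    simpa [hb, H_sub_right hF, hau'] using hau

/-- moving a component inside a non-degenerate summand -/
theorem exists_move {W U : Submodule F Vec} (hC : IsCompl W U) (hperp : perp q U = W)
    (hUW : ∀ w ∈ W, ∀ u ∈ U, H w u = 0) {a a' : Vec} (ha : a ∈ W) (ha' : a' ∈ W) (ha0 : a ≠ 0)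
    (ha0' : a' ≠ 0) (h : H a a = H a' a') :
    ∃ g ∈ Cfsg.GU n F q, (∀ u ∈ U, (g : Mat) *ᵥ u = u) ∧ (g : Mat) *ᵥ a = a' ∧
      ∀ w ∈ W, (g : Mat) *ᵥ w ∈ W := by
  obtain ⟨φ, hφU, hφa⟩ := exists_row_of_not_mem (S := U) (v := a) fun h' =>
    ha0 (Submodule.disjoint_def.1 hC.disjoint a ha h')
  let X : Submodule F Vec := U ⊔ Submodule.span F {a}
  let f : X →ₗ[F] Vec :=
    { toFun := fun x => (x : Vec) + (φ ⬝ᵥ (x : Vec)) • (a' - a)
      map_add' := fun x y => by rw [Submodule.coe_add, dotProduct_add]; module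
      map_smul' := fun c x => by
        rw [RingHom.id_apply, Submodule.coe_smul, dotProduct_smul, smul_eq_mul]; module }
  have hdec : ∀ x : X, ∃ u ∈ U, ∃ l : F, (x : Vec) = u + l • a ∧ f x = u + l • a' := by
    intro x
    obtain ⟨u, hu, z, hz, e⟩ := Submodule.mem_sup.1 x.2
    obtain ⟨l, rfl⟩ := Submodule.mem_span_singleton.1 hz
    refine ⟨u, hu, l, e.symm, ?_⟩
    show (x : Vec) + (φ ⬝ᵥ (x : Vec)) • (a' - a) = _
    rw [← e, dotProduct_add, dotProduct_smul, hφU u hu, hφa, smul_eq_mul]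
    module
  have hinj : Function.Injective f := by
    rw [injective_iff_map_eq_zero]
    intro x hx
    obtain ⟨u, hu, l, e1, e2⟩ := hdec x
    rw [e2] at hx
    have hl : l • a' = 0 := Submodule.disjoint_def.1 hC.disjoint _ (W.smul_mem l ha') (by
      rw [eq_neg_of_add_eq_zero_right hx]; exact U.neg_mem hu)
    have hl0 : l = 0 := (smul_eq_zero.1 hl).resolve_right ha0'
    rw [hl, add_zero] at hx
    exact Subtype.ext (by rw [e1, hx, hl0, zero_smul, add_zero]; rfl)
  obtain ⟨g, hg⟩ := HermStd.exists_extend hF X f hinj fun x y => by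
    obtain ⟨u, hu, l, e1, e2⟩ := hdec x
    obtain ⟨u', hu', l', e1', e2'⟩ := hdec y
    rw [e1, e2, e1', e2']
    have h1 : ∀ w ∈ W, H w u' = 0 := fun w hw => hUW w hw u' hu'
    have h2 : ∀ w ∈ W, H u w = 0 := fun w hw => (H_eq_zero_comm hF).1 (hUW w hw u hu)
    simp only [H_add_left, H_add_right hF, H_smul_left, H_smul_right, h1 a ha, h1 a' ha', h2 a ha,
      h2 a' ha', h]
  have hfix : ∀ u ∈ U, ((g : GLn) : Mat) *ᵥ u = u := fun u hu => by
    rw [hg ⟨u, Submodule.mem_sup_left hu⟩]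
    show u + (φ ⬝ᵥ u) • (a' - a) = u
    rw [hφU u hu, zero_smul, add_zero]
  refine ⟨g, g.2, hfix, ?_, fun w hw => ?_⟩
  · rw [hg ⟨a, Submodule.mem_sup_right (Submodule.mem_span_singleton_self a)⟩]
    show a + (φ ⬝ᵥ a) • (a' - a) = a'
    rw [hφa, one_smul, add_sub_cancel]
  · rw [← hperp]
    refine mem_perp.2 fun u hu => ?_
    rw [← hfix u hu]
    exact (g.2 w u).trans (hUW w hw u hu)

theorem nondeg_maximal (hn : 4 ≤ n) (W : Submodule F Vec) (hW0 : W ≠ ⊥)
    (hW : ∀ w ∈ W, w ≠ 0 → ∃ x ∈ W, H w x ≠ 0) (hdim : 2 * Module.finrank F W < n) :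
    Cfsg.Geo.IsMaximalIn SUn (Cfsg.Geo.subspaceStabilizer W ⊓ SUn) := by
  set U := perp q W with hU
  have hC : IsCompl W U := isCompl_perp hF hW
  have hUn : ∀ u ∈ U, u ≠ 0 → ∃ x ∈ U, H u x ≠ 0 := perp_nondeg hF hW
  have hfin : Module.finrank F U + Module.finrank F W = n := finrank_perp hF W
  have hUW : ∀ w ∈ W, ∀ u ∈ U, H w u = 0 := fun w hw u hu => perp_symm hF hu hw
  have hWU : ∀ u ∈ U, ∀ w ∈ W, H u w = 0 := fun u hu w hw => mem_perp.1 hu w hw
  have hval : ∀ (a : Vec), a ∈ W → ∀ b ∈ U, H (a + b) (a + b) = H a a + H b b := fun a ha b hb => by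
    simp only [H_add_left, H_add_right hF, hUW a ha b hb, hWU b hb a ha, add_zero, zero_add]
  refine isMaximalIn_of inf_le_right (fun h => ?_) fun M hM hMK g hgM hg => ?_
  · obtain ⟨a, ha, haa⟩ := exists_value hF hW0 hW (one_pow q) one_ne_zero
    obtain ⟨b, hb, hbb⟩ := exists_value hF (fun h' => by rw [h', finrank_bot] at hfin; omega) hUn
      (d := -1) (by rw [← HermStd.qHom_apply hF, map_neg, map_one]) (neg_ne_zero.2 one_ne_zero)
    have hv : H (a + b) (a + b) = 0 := by rw [hval a ha b hb, haa, hbb, add_neg_cancel]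
    obtain ⟨c, hc0, hc⟩ := exists_traceZero hF
    obtain ⟨t, ht, htx⟩ := exists_tv hF hv hc
    have h1 := (W.add_mem_iff_right ha).1 (by simpa only [htx] using map_of_stab (h ht).1 ha)
    rw [H_add_right hF, haa, hUW a ha b hb, add_zero, mul_one] at h1
    have h2 : a + b ∈ W := by simpa [smul_smul, inv_mul_cancel₀ hc0] using W.smul_mem c⁻¹ h1
    have hb0 : b = 0 := Submodule.disjoint_def.1 hC.disjoint b ((W.add_mem_iff_right ha).1 h2) hb
    rw [hb0, H_zero_left] at hbb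
    exact neg_ne_zero.2 one_ne_zero hbb.symm
  have hgW : g ∉ Cfsg.Geo.subspaceStabilizer W := fun h => hg ⟨h, hMK hgM⟩
  have hpure : ∀ v, H v v = 0 → v ∈ W ∨ v ∈ U → v ∈ centres q M := fun v hvv hv =>
    centres_of_stab hF hM hvv fun w hw t => by
      rcases hv with hv | hv
      · exact W.add_mem hw (W.smul_mem _ hv)
      · rw [hUW w hw v hv, mul_zero, zero_smul, add_zero]; exact hw
  -- the stabiliser is transitive on mixed vectors with given values
  have trans : ∀ a ∈ W, ∀ b ∈ U, ∀ a' ∈ W, ∀ b' ∈ U, a ≠ 0 → b ≠ 0 → a' ≠ 0 → b' ≠ 0 →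
      H a a = H a' a' → H b b = H b' b' → a + b ∈ centres q M → a' + b' ∈ centres q M := by
    intro a ha b hb a' ha' b' hb' ha0 hb0 ha0' hb0' haa hbb hab
    obtain ⟨g₁, hg₁, hg₁f, hg₁a, hg₁W⟩ := exists_move hF hC (perp_perp hF W) hUW ha ha' ha0 ha0' haa
    obtain ⟨g₂, hg₂, hg₂f, hg₂b, -⟩ :=
      exists_move hF hC.symm rfl hWU hb hb' hb0 hb0' hbb
    -- a vector of `U` off `b'` to correct the determinant
    obtain ⟨z, hz, hzb, hzz⟩ : ∃ z ∈ U, H z b' = 0 ∧ H z z ≠ 0 := by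
      by_contra hcon
      push Not at hcon
      let S : Submodule F Vec := U ⊓ LinearMap.ker (hlin q b')
      have hS : ∀ z ∈ S, H z z = 0 := fun z hz => hcon z hz.1 hz.2
      have hSS : ∀ x ∈ S, ∀ y ∈ S, H x y = 0 := by
        intro x hx y hy
        by_contra hxy
        obtain ⟨t, ht⟩ := exists_trace_ne hF
        refine ht ?_
        have := hS _ (S.add_mem (S.smul_mem (t / H x y) hx) hy)
        simp only [H_add_left, H_add_right hF, H_smul_left, H_smul_right, hS x hx, hS y hy, mul_zero,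
          zero_add, add_zero] at this
        rw [← H_conj hF x y, ← mul_pow, div_mul_cancel₀ _ hxy] at this
        linear_combination this
      have h3 := Submodule.finrank_mono (show S ⊔ W ≤ perp q S from sup_le
        (fun x hx => mem_perp.2 fun y hy => hSS x hx y hy)
        (fun x hx => mem_perp.2 fun y hy => hUW x hx y hy.1))
      have h3' := Submodule.finrank_sup_add_finrank_inf_eq S W
      rw [show S ⊓ W = ⊥ from (hC.disjoint.symm.mono_left inf_le_left).eq_bot, finrank_bot] at h3'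

      have h4 := finrank_perp hF S
      have h5 := Submodule.finrank_sup_add_finrank_inf_eq U (LinearMap.ker (hlin q b'))
      have h6 : Module.finrank F ↥(U ⊔ LinearMap.ker (hlin q b')) ≤ n :=
        (Submodule.finrank_le _).trans (by rw [Module.finrank_fintype_fun_eq_card, Fintype.card_fin])
      have h7 := LinearMap.finrank_range_add_finrank_ker (hlin q b')
      have h8 := Submodule.finrank_le (LinearMap.range (hlin q b'))
      rw [Module.finrank_self] at h8
      rw [Module.finrank_fintype_fun_eq_card, Fintype.card_fin] at h7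
      have h9 : Module.finrank F S = Module.finrank F ↥(U ⊓ LinearMap.ker (hlin q b')) := rfl
      omega
    set δ := ((g₁ * g₂ : GLn) : Mat).det with hδ
    have hδ1 : δ ^ (q + 1) = 1 :=
      HermStd.det_norm hF _ fun x y => (mul_mem hg₁ hg₂ : g₁ * g₂ ∈ Cfsg.GU n F q) x y
    have hδ0 : δ ≠ 0 := fun h => by rw [h, zero_pow (by omega)] at hδ1; exact zero_ne_one hδ1
    obtain ⟨r, hr, hrd, hrx⟩ := exists_quasi hF hzz (δ := δ⁻¹) (by rw [inv_pow, hδ1, inv_one])
    have hrW : ∀ w ∈ W, (r : Mat) *ᵥ w = w := fun w hw => by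
      rw [hrx, hUW w hw z hz, mul_zero, zero_smul, add_zero]
    have hkM : r * (g₁ * g₂) ∈ M := hM ⟨stab_of_forall fun w hw => by
        rw [mulVec_mul_GL, mulVec_mul_GL, hg₂f w hw, hrW _ (hg₁W w hw)]
        exact hg₁W w hw,
      mem_SUn.2 ⟨fun x y => (mul_mem hr (mul_mem hg₁ hg₂) : r * (g₁ * g₂) ∈ Cfsg.GU n F q) x y, by
        rw [Units.val_mul, det_mul, hrd, ← hδ, inv_mul_cancel₀ hδ0]⟩⟩
    have := centres_map hF hMK hkM hab
    rw [mulVec_mul_GL, mulVec_mul_GL, mulVec_add, hg₂f a ha, hg₂b, mulVec_add, hg₁a, hg₁f b' hb',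
      mulVec_add, hrW a' ha', hrx b', (H_eq_zero_comm hF).1 hzb, mul_zero, zero_smul, add_zero] at this
    exact this
  -- a mixed centre
  obtain ⟨a, ha, b, hb, ha0, hb0, hab⟩ :
      ∃ a ∈ W, ∃ b ∈ U, a ≠ 0 ∧ b ≠ 0 ∧ a + b ∈ centres q M := by
    by_contra hc
    push Not at hc
    have hin : ∀ v ∈ img g U, H v v = 0 → v ∈ W ∨ v ∈ U := by
      intro v hv hvv
      obtain ⟨x, hx, rfl⟩ := mem_img.1 hv
      rw [SUn_H (hMK hgM)] at hvv
      obtain ⟨a, ha, b, hb, e⟩ := Submodule.mem_sup.1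
        (hC.sup_eq_top ▸ Submodule.mem_top : (g : Mat) *ᵥ x ∈ W ⊔ U)
      by_cases ha0 : a = 0
      · right; rw [← e, ha0, zero_add]; exact hb
      by_cases hb0 : b = 0
      · left; rw [← e, hb0, add_zero]; exact ha
      exact absurd (e ▸ centres_map hF hMK hgM (hpure x hvv (Or.inr hx))) (hc a ha b hb ha0 hb0)
    have hgn : ∀ v ∈ img g U, v ≠ 0 → ∃ x ∈ img g U, H v x ≠ 0 := by
      intro v hv hv0
      obtain ⟨x, hx, rfl⟩ := mem_img.1 hv
      obtain ⟨y, hy, hxy⟩ := hUn x hx fun h => hv0 (by rw [h, mulVec_zero])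
      exact ⟨_, mulVec_mem_img hy, by rwa [SUn_H (hMK hgM)]⟩
    have h2 : 2 ≤ Module.finrank F (img g U) := by rw [finrank_img]; omega
    obtain ⟨y, hy, hyy, hyW⟩ : ∃ y ∈ img g U, H y y = 0 ∧ y ∉ W := by
      by_contra h'
      push Not at h'
      have := Submodule.finrank_mono (iso_span hF hgn h2 h')
      rw [finrank_img] at this
      omega
    have hyU := (hin y hy hyy).resolve_left hyW
    have hgU : img g U ≤ U := by
      refine iso_span hF hgn h2 fun x hx hxx => ?_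
      by_contra hxU
      have hxW := (hin x hx hxx).resolve_right hxU
      rcases hin _ ((img g U).add_mem hx hy) (by rw [hval x hxW y hyU, hxx, hyy, add_zero]) with h | h
      · exact hyW ((W.add_mem_iff_right hxW).1 h)
      · exact hxU ((U.add_mem_iff_left hyU).1 h)
    have heq : img g U = U := Submodule.eq_of_le_of_finrank_eq hgU (finrank_img g U)
    refine hgW (stab_of_forall fun w hw => ?_)
    rw [← perp_perp hF W, ← hU]
    refine mem_perp.2 fun v hv => ?_
    rw [← heq] at hv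
    obtain ⟨x, hx, rfl⟩ := mem_img.1 hv
    rw [SUn_H (hMK hgM)]
    exact hUW w hw x hx
  have hsum : H a a + H b b = 0 := by rw [← hval a ha b hb]; exact hab.1
  obtain ⟨c, hc0, hc⟩ := exists_traceZero hF
  -- some class with non-zero values
  obtain ⟨a₁, ha₁, b₁, hb₁, ha₁n, h₁⟩ :
      ∃ a ∈ W, ∃ b ∈ U, H a a ≠ 0 ∧ a + b ∈ centres q M := by
    by_cases hz : H a a = 0
    swap
    · exact ⟨a, ha, b, hb, hz, hab⟩
    have hbb : H b b = 0 := by rw [hz, zero_add] at hsum; exact hsum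
    obtain ⟨a', ha', haa', haa1⟩ := exists_iso_partner hF hW ha ha0 hz
    obtain ⟨b₀, hb₀, hbb₀, hbb1⟩ := exists_iso_partner hF hUn hb hb0 hbb
    obtain ⟨t₀, ht₀⟩ := exists_trace_ne hF
    set s := t₀ / c - 1 with hs
    have hs0 : s ≠ 0 := fun h => by
      rw [hs, sub_eq_zero, div_eq_one_iff_eq hc0] at h
      exact ht₀ (h ▸ hc)
    have ha'0 : a' ≠ 0 := fun h => by rw [h, H_zero_right hF] at haa1; exact zero_ne_one haa1
    have hb₀0 : b₀ ≠ 0 := fun h => by rw [h, H_zero_right hF] at hbb1; exact zero_ne_one hbb1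
    have hv := trans a ha b hb a' ha' (s • b₀) (U.smul_mem _ hb₀) ha0 hb0 ha'0
      (smul_ne_zero hs0 hb₀0) (by rw [hz, haa'])
      (by rw [H_smul_left, H_smul_right, hbb₀, mul_zero, mul_zero, hbb]) hab
    obtain ⟨T, hT, hTx⟩ := exists_tv hF hab.1 hc
    have h := centres_map hF hMK (hab.2 T c hc hTx) hv
    have h1 : H a' a = 1 := by rw [← H_conj hF, haa1, one_pow]
    have h2 : H b₀ b = 1 := by rw [← H_conj hF, hbb1, one_pow]
    rw [hTx] at h
    have e : H (a' + s • b₀) (a + b) = 1 + s := by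
      simp only [H_add_left, H_add_right hF, H_smul_left, h1, h2, hUW a' ha' b hb,
        hWU b₀ hb₀ a ha]
      ring
    rw [e, show c * (1 + s) = t₀ by rw [hs]; field_simp; ring, smul_add,
      add_add_add_comm] at h
    refine ⟨_, W.add_mem ha' (W.smul_mem _ ha), _, U.add_mem (U.smul_mem _ hb₀) (U.smul_mem _ hb),
      ?_, h⟩
    simp only [H_add_left, H_add_right hF, H_smul_left, H_smul_right, haa', hz, h1, haa1]
    intro h0
    exact ht₀ (by linear_combination h0)
  have hb₁n : H b₁ b₁ ≠ 0 := fun h => ha₁n (by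
    have := h₁.1; rw [hval a₁ ha₁ b₁ hb₁, h, add_zero] at this; exact this)
  have ne0 : ∀ {v : Vec}, H v v ≠ 0 → v ≠ 0 := fun h h0 => h (by rw [h0, H_zero_left])
  have aniso : ∀ a' ∈ W, ∀ b' ∈ U, H a' a' ≠ 0 → H (a' + b') (a' + b') = 0 →
      a' + b' ∈ centres q M := by
    intro a' ha' b' hb' hn' hv'
    rw [hval a' ha' b' hb'] at hv'
    obtain ⟨t, ht⟩ := exists_norm hF (d := H a' a' / H a₁ a₁) (by
      rw [← HermStd.qHom_apply hF, map_div₀, HermStd.qHom_apply, HermStd.qHom_apply, H_self_pow hF,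
        H_self_pow hF])
    rw [eq_div_iff ha₁n] at ht
    have ht0 : t ≠ 0 := fun h => hn' (by rw [← ht, h, mul_zero, zero_mul])
    have h := centres_smul hF t h₁
    rw [smul_add] at h
    have hsum₁ : H a₁ a₁ + H b₁ b₁ = 0 := by rw [← hval a₁ ha₁ b₁ hb₁]; exact h₁.1
    refine trans _ (W.smul_mem t ha₁) _ (U.smul_mem t hb₁) a' ha' b' hb'
      (smul_ne_zero ht0 (ne0 ha₁n)) (smul_ne_zero ht0 (ne0 hb₁n)) (ne0 hn')
      (ne0 fun h0 => hn' (by rwa [h0, add_zero] at hv')) ?_ ?_ h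
    · rw [H_smul_left, H_smul_right]; linear_combination ht
    · rw [H_smul_left, H_smul_right]
      linear_combination -ht - hv' + t * t ^ q * hsum₁
  refine SUn_le_of_centres hF (by omega) fun v hvv => ?_
  obtain ⟨a', ha', b', hb', rfl⟩ := Submodule.mem_sup.1
    (hC.sup_eq_top ▸ Submodule.mem_top : v ∈ W ⊔ U)
  by_cases ha0' : a' = 0
  · exact hpure _ hvv (Or.inr (by rwa [ha0', zero_add]))
  by_cases hb0' : b' = 0
  · exact hpure _ hvv (Or.inl (by rwa [hb0', add_zero]))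
  by_cases hn' : H a' a' = 0
  swap
  · exact aniso a' ha' b' hb' hn' hvv
  have hb'' : H b' b' = 0 := by rw [hval a' ha' b' hb', hn', zero_add] at hvv; exact hvv
  obtain ⟨α₀, hα₀, hα₀1⟩ := exists_value hF hW0 hW (one_pow q) one_ne_zero
  -- normalise `α`
  obtain ⟨α, hα, hαn, hαs⟩ : ∃ α ∈ W, H α α ≠ 0 ∧ (H a' α = 0 ∨ H a' α = 1) := by
    by_cases h0 : H a' α₀ = 0
    · exact ⟨α₀, hα₀, by rw [hα₀1]; exact one_ne_zero, Or.inl h0⟩
    refine ⟨((H a' α₀)⁻¹) ^ q • α₀, W.smul_mem _ hα₀, ?_, Or.inr ?_⟩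
    · rw [H_smul_left, H_smul_right, hα₀1, mul_one]
      exact mul_ne_zero (pow_ne_zero _ (inv_ne_zero h0)) (pow_ne_zero _ (pow_ne_zero _ (inv_ne_zero h0)))
    · rw [H_smul_right, pow_qq hF, inv_mul_cancel₀ h0]
  obtain ⟨e', he', hee', hbe⟩ := exists_iso_partner hF hUn hb' hb0' hb''
  obtain ⟨γ, hγ, hγb, hγe, hγv⟩ : ∃ γ ∈ U, H γ b' = 0 ∧ H γ e' = 0 ∧ H γ γ = - H α α := by
    have he'b : H e' b' = 1 := by rw [← H_conj hF, hbe, one_pow]
    let S : Submodule F Vec := U ⊓ (LinearMap.ker (hlin q b') ⊓ LinearMap.ker (hlin q e'))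
    have proj : ∀ x ∈ U, x - H x e' • b' - H x b' • e' ∈ S := fun x hx =>
      ⟨U.sub_mem (U.sub_mem hx (U.smul_mem _ hb')) (U.smul_mem _ he'),
        by simp [H_sub_left, H_smul_left, hb'', he'b],
        by simp [H_sub_left, H_smul_left, hee', hbe]⟩
    have hS0 : S ≠ ⊥ := by
      intro h0
      classical
      have hle : U ≤ Submodule.span F (({b', e'} : Finset Vec) : Set Vec) := fun x hx => by
        have := proj x hx
        rw [h0, Submodule.mem_bot, sub_sub, sub_eq_zero] at this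
        rw [this]
        exact Submodule.add_mem _ (Submodule.smul_mem _ _ (Submodule.subset_span (by simp)))
          (Submodule.smul_mem _ _ (Submodule.subset_span (by simp)))
      have h1 := (Submodule.finrank_mono hle).trans (finrank_span_finset_le_card _)
      have h2 : ({b', e'} : Finset Vec).card ≤ 2 := Finset.card_le_two
      omega
    have hSn : ∀ w ∈ S, w ≠ 0 → ∃ x ∈ S, H w x ≠ 0 := by
      intro w hw hw0
      obtain ⟨x, hx, hwx⟩ := hUn w hw.1 hw0
      refine ⟨_, proj x hx, ?_⟩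
      rw [H_sub_right hF, H_sub_right hF, H_smul_right, H_smul_right,
        show H w b' = 0 from hw.2.1, show H w e' = 0 from hw.2.2, mul_zero, mul_zero, sub_zero,
        sub_zero]
      exact hwx
    obtain ⟨γ, hγ, hγv⟩ := exists_value hF hS0 hSn (d := - H α α)
      (by rw [← HermStd.qHom_apply hF, map_neg, HermStd.qHom_apply, H_self_pow hF])
      (neg_ne_zero.2 hαn)
    exact ⟨γ, hγ.1, hγ.2.1, hγ.2.2, hγv⟩
  set r := 1 - H a' α with hr
  have hr' : r ^ q = r ∧ r * r = r := by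
    rcases hαs with h | h <;> simp [hr, h, zero_pow (q_ne_zero hF)]
  have hx := aniso α hα (r • e' + γ) (U.add_mem (U.smul_mem _ he') hγ) hαn (by
    rw [hval α hα _ (U.add_mem (U.smul_mem _ he') hγ)]
    simp only [H_add_left, H_add_right hF, H_smul_left, H_smul_right, hee', hγe,
      (H_eq_zero_comm hF).1 hγe, hγv]
    ring)
  obtain ⟨T, hT, hTx⟩ := exists_tv hF hx.1 hc
  have hTM := hx.2 T c hc hTx
  have e : H (a' + b') (α + (r • e' + γ)) = 1 := by
    simp only [H_add_left, H_add_right hF, H_smul_right, hbe, (H_eq_zero_comm hF).1 hγb,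
      hUW a' ha' e' he', hUW a' ha' γ hγ, hWU b' hb' α hα]
    rw [hr'.1, hr]
    ring
  have himg : (T : Mat) *ᵥ (a' + b') = (a' + c • α) + (b' + c • (r • e' + γ)) := by
    rw [hTx, e, mul_one]; module
  have hiso : H ((a' + c • α) + (b' + c • (r • e' + γ))) ((a' + c • α) + (b' + c • (r • e' + γ))) = 0 := by
    rw [← himg, SUn_H hT]; exact hvv
  have hcl := aniso (a' + c • α) (W.add_mem ha' (W.smul_mem _ hα)) _
    (U.add_mem hb' (U.smul_mem c (U.add_mem (U.smul_mem _ he') hγ))) (by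
      simp only [H_add_left, H_add_right hF, H_smul_left, H_smul_right, hn']
      rcases hαs with h | h
      · rw [(H_eq_zero_comm hF).1 h, h]
        simp [hαn, hc0]
      · rw [show H α a' = 1 by rw [← H_conj hF, h, one_pow], h]
        intro h0
        have : c * (c ^ q * H α α) = 0 := by linear_combination h0 - hc
        simp [hαn, hc0] at this) hiso
  have := centres_map hF hMK (inv_mem hTM) hcl
  rwa [← himg, inv_mulVec_cancel] at this

end Cfsg.Agent.Forms.Max.Unitary
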