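import Mathlib
import Cfsg.Agent.Lib.Forms.Max.Linear

/-!
# Semilinear groups of extension fields of prime degree inside linear groups

A group containing the `K`-linear maps of determinant one and an element that is not semilinear
contains the special linear group.
-/

set_option autoImplicit false
set_option linter.unusedSectionVars false

namespace Cfsg.Agent.Forms.Max.LinExtField

open Matrix Cfsg.Agent.Aschbacher

variable {F : Type*} [Field F] {ι : Type} [Fintype ι] [DecidableEq ι] {K : Type*} [Field K] [Algebra F K]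
  [FiniteDimensional F K] [Module K (ι → F)] [IsScalarTower F K (ι → F)]

local notation "Vec" => (ι → F)
local notation "GLv" => GL ι F
local notation "Mat" => Matrix ι ι F

/-- an extension field of prime degree acting on at least two lines -/
structure Data (F : Type*) [Field F] (ι : Type) [Fintype ι] (K : Type*) [Field K] [Algebra F K]
    [Module K (ι → F)] where
  χ : K →ₗ[F] F
  hχ : χ ≠ 0
  hr : (Module.finrank F K).Prime
  hne : ∃ x : ι → F, x ≠ 0
  hd : ∀ w : ι → F, ∃ y, ∀ t : K, y ≠ t • w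

variable (D : Data F ι K)

/-- the pairing of `K` with its dual -/
noncomputable def dual : K ≃ₗ[F] Module.Dual F K :=
  LinearEquiv.ofBijective ((LinearMap.mul F K).compr₂ D.χ) (by
    have hinj : Function.Injective ((LinearMap.mul F K).compr₂ D.χ) := by
      rw [← LinearMap.ker_eq_bot, LinearMap.ker_eq_bot']
      intro a ha
      by_contra h
      refine D.hχ (LinearMap.ext fun k => ?_)
      have := LinearMap.congr_fun ha (a⁻¹ * k)
      rwa [LinearMap.compr₂_apply, LinearMap.mul_apply', mul_inv_cancel_left₀ h, LinearMap.zero_apply] at this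
    exact ⟨hinj, (LinearMap.injective_iff_surjective_of_finrank_eq_finrank Subspace.dual_finrank_eq.symm).1 hinj⟩)

theorem dual_apply (a k : K) : dual D a k = D.χ (a * k) := rfl

theorem chi_ext {a b : K} (h : ∀ k : K, D.χ (k * a) = D.χ (k * b)) : a = b :=
  (dual D).injective (LinearMap.ext fun k => by rw [dual_apply, dual_apply, mul_comm, h, mul_comm])

theorem exists_chi {a : K} (ha : a ≠ 0) (s : F) : ∃ k : K, D.χ (a * k) = s := by
  obtain ⟨k, hk⟩ : ∃ k, D.χ (a * k) ≠ 0 := by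
    by_contra hc
    push Not at hc
    exact ha (chi_ext D fun k => by rw [mul_comm, hc, mul_zero, map_zero])
  exact ⟨(s / D.χ (a * k)) • k, by rw [mul_smul_comm, map_smul, smul_eq_mul, div_mul_cancel₀ _ hk]⟩

/-- `F`-functionals come from `K`-functionals -/
theorem exists_lift (ψ : Vec →ₗ[F] F) : ∃ φ : Vec →ₗ[K] K, ∀ (k : K) x, D.χ (k * φ x) = ψ (k • x) := by
  let φ : Vec → K := fun x => (dual D).symm (ψ.comp ((LinearMap.toSpanSingleton K _ x).restrictScalars F))
  have hφ : ∀ (k : K) x, D.χ (k * φ x) = ψ (k • x) := fun k x => by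
    rw [mul_comm, ← dual_apply]
    simp only [φ, LinearEquiv.apply_symm_apply]
    rfl
  exact ⟨{ toFun := φ
           map_add' := fun x y => chi_ext D fun k => by rw [mul_add, map_add, hφ, hφ, hφ, smul_add, map_add]
           map_smul' := fun c x => chi_ext D fun k => by
             rw [RingHom.id_apply, hφ, smul_eq_mul, ← mul_assoc, hφ, smul_smul] }, hφ⟩

/-- separating functionals -/
theorem exists_fun {u y : Vec} (h : ∀ t : K, y ≠ t • u) : ∃ φ : Vec →ₗ[K] K, φ u = 0 ∧ φ y = 1 := by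
  obtain ⟨f, hf, hf'⟩ := Submodule.exists_dual_map_eq_bot_of_notMem (p := K ∙ u) (x := y)
    (fun hy => by
      obtain ⟨t, ht⟩ := Submodule.mem_span_singleton.1 hy
      exact h t ht.symm) inferInstance
  have hu : f u = 0 := by
    have : f u ∈ (K ∙ u).map f := Submodule.mem_map_of_mem (Submodule.mem_span_singleton_self u)
    rwa [hf', Submodule.mem_bot] at this
  exact ⟨(f y)⁻¹ • f, by rw [LinearMap.smul_apply, hu, smul_zero],
    by rw [LinearMap.smul_apply, smul_eq_mul, inv_mul_cancel₀ hf]⟩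

theorem off_symm {u y : Vec} (hy : y ≠ 0) (hu : u ≠ 0) (h : ∀ t : K, y ≠ t • u) : ∀ t : K, u ≠ t • y := by
  intro t e
  have ht : t ≠ 0 := fun h0 => hu (by rw [e, h0, zero_smul])
  exact h t⁻¹ (by rw [e, inv_smul_smul₀ ht])

theorem exists_gl (L : Vec →ₗ[F] Vec) (hL : Function.Injective L) :
    ∃ g : GLv, (∀ x, (g : Mat) *ᵥ x = L x) ∧ (g : Mat).det = LinearMap.det L := by
  let Le := LinearEquiv.ofBijective L ⟨hL, LinearMap.injective_iff_surjective.1 hL⟩
  let h : GLv := ⟨LinearMap.toMatrix' Le.toLinearMap, LinearMap.toMatrix' Le.symm.toLinearMap,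
    by rw [← LinearMap.toMatrix'_comp]; simp, by rw [← LinearMap.toMatrix'_comp]; simp⟩
  refine ⟨h, fun x => ?_, ?_⟩
  · show LinearMap.toMatrix' Le.toLinearMap *ᵥ x = _
    rw [LinearMap.toMatrix'_mulVec]
    rfl
  · show (LinearMap.toMatrix' Le.toLinearMap).det = _
    rw [LinearMap.det_toMatrix']
    rfl

/-- the `K`-linear maps of determinant one occur -/
def LinM (M : Subgroup (GL ι F)) : Prop :=
  ∀ g : GL ι F, (∀ (k : K) (x : ι → F), (g : Matrix ι ι F) *ᵥ (k • x) = k • ((g : Matrix ι ι F) *ᵥ x)) →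
    (g : Matrix ι ι F).det = 1 → g ∈ M

variable {M : Subgroup (GL ι F)}

/-- `K`-dilatations -/
theorem exists_dil {u : Vec} {φ : Vec →ₗ[K] K} (h : 1 + φ u ≠ 0) :
    ∃ g : GLv, (∀ x, (g : Mat) *ᵥ x = x + φ x • u) ∧
      (∀ (k : K) x, (g : Mat) *ᵥ (k • x) = k • ((g : Mat) *ᵥ x)) ∧
      (g : Mat).det = Algebra.norm F (1 + φ u) := by
  have hinj : Function.Injective ((LinearMap.transvection φ u).restrictScalars F) := by
    intro x y e
    simp only [LinearMap.restrictScalars_apply, LinearMap.transvection.apply] at e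
    have e1 := congrArg φ e
    simp only [map_add, map_smul, smul_eq_mul] at e1
    have e2 : φ x = φ y := mul_right_cancel₀ h (by linear_combination e1)
    rwa [e2, add_left_inj] at e
  obtain ⟨g, hg, hgd⟩ := exists_gl _ hinj
  refine ⟨g, fun x => by rw [hg]; rfl, fun k x => by rw [hg, hg]; simp, ?_⟩
  haveI : Module.Finite K Vec := Module.Finite.of_restrictScalars_finite F K Vec
  rw [hgd, LinearMap.det_restrictScalars, LinearMap.transvection.det]

theorem exists_rt (hM : LinM (K := K) M) (u : Vec) (φ : Vec →ₗ[K] K) (hu : φ u = 0) (c : K) :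
    ∃ g ∈ M, (∀ x, (g : Mat) *ᵥ x = x + (c * φ x) • u) ∧
      ∀ (k : K) x, (g : Mat) *ᵥ (k • x) = k • ((g : Mat) *ᵥ x) := by
  have h : (c • φ) u = 0 := by rw [LinearMap.smul_apply, hu, smul_zero]
  obtain ⟨g, hg, hgK, hgd⟩ := exists_dil (φ := c • φ) (u := u) (by rw [h, add_zero]; exact one_ne_zero)
  exact ⟨g, hM g hgK (by rw [hgd, h, add_zero, map_one]), fun x => by rw [hg]; rfl, hgK⟩

include D in
/-- transitivity on vectors -/
theorem exists_move (hM : LinM (K := K) M) {v w : Vec} (hv : v ≠ 0) (hw : w ≠ 0) :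
    ∃ g ∈ M, (∀ (k : K) x, (g : Mat) *ᵥ (k • x) = k • ((g : Mat) *ᵥ x)) ∧ (g : Mat) *ᵥ v = w := by
  have one : ∀ {v w : Vec}, v ≠ 0 → (∀ t : K, w ≠ t • v) →
      ∃ g ∈ M, (∀ (k : K) x, (g : Mat) *ᵥ (k • x) = k • ((g : Mat) *ᵥ x)) ∧ (g : Mat) *ᵥ v = w := by
    intro v w hv h
    obtain ⟨φ, h1, h2⟩ := exists_fun (K := K) (u := w - v) (y := v) fun (t : K) e => by
      rcases eq_or_ne t 0 with rfl | ht
      · exact hv (by rw [e, zero_smul])
      · refine h (1 + t⁻¹) ?_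
        rw [add_smul, one_smul]
        conv_rhs => arg 2; rw [e]
        rw [inv_smul_smul₀ ht, add_sub_cancel]
    obtain ⟨g, hg, hgx, hgK⟩ := exists_rt hM (w - v) φ h1 1
    exact ⟨g, hg, hgK, by rw [hgx, h2, mul_one, one_smul, add_sub_cancel]⟩
  obtain ⟨p, hp⟩ := D.hd v
  by_cases h : ∀ t : K, w ≠ t • v
  · exact one hv h
  push Not at h
  obtain ⟨t, rfl⟩ := h
  have hp0 : p ≠ 0 := fun e => hp 0 (by rw [e, zero_smul])
  obtain ⟨g, hg, hgK, hgv⟩ := one hv hp
  obtain ⟨g', hg', hgK', hgp⟩ := one (w := t • v) hp0 fun s e => by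
    have ht : t ≠ 0 := fun h0 => hw (by rw [h0, zero_smul])
    exact off_symm hp0 hv hp (t⁻¹ * s) (by rw [mul_smul, ← e, inv_smul_smul₀ ht])
  exact ⟨g' * g, mul_mem hg' hg, fun k x => by rw [mulVec_mul_GL, mulVec_mul_GL, hgK, hgK'],
    by rw [mulVec_mul_GL, hgv, hgp]⟩

/-- the movement of a line -/
noncomputable def mv (g : GL ι F) (w : ι → F) : K →ₗ[F] (ι → F) :=
  (Matrix.toLin' (g : Matrix ι ι F)).comp ((LinearMap.toSpanSingleton K _ w).restrictScalars F)

theorem mv_apply (g : GLv) (w : Vec) (k : K) : mv g w k = (g : Mat) *ᵥ (k • w) := by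
  simp [mv, Matrix.toLin'_apply]

/-- the scalars mapped into a line -/
noncomputable def sect (K : Type*) [Field K] [Algebra F K] [Module K (ι → F)] [IsScalarTower F K (ι → F)]
    (g : GL ι F) (w w' : ι → F) : Submodule F K :=
  (LinearMap.range ((LinearMap.toSpanSingleton K (ι → F) w').restrictScalars F)).comap (mv g w)

theorem mem_sect {g : GLv} {w w' : Vec} {k : K} :
    k ∈ sect K g w w' ↔ ∃ t : K, t • w' = (g : Mat) *ᵥ (k • w) := by
  simp [sect, mv_apply]

/-- a moved line -/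
def Pair (K : Type*) [Field K] [Algebra F K] [Module K (ι → F)] [IsScalarTower F K (ι → F)]
    (M : Subgroup (GL ι F)) (g : GL ι F) (w w' : ι → F) : Prop :=
  g ∈ M ∧ w ≠ 0 ∧ w' ≠ 0 ∧ sect K g w w' ≠ ⊤

/-- a moved line with largest intersection -/
def MaxPair (K : Type*) [Field K] [Algebra F K] [Module K (ι → F)] [IsScalarTower F K (ι → F)]
    (M : Subgroup (GL ι F)) (g : GL ι F) (w w' : ι → F) : Prop :=
  Pair K M g w w' ∧ sect K g w w' ≠ ⊥ ∧
    ∀ g' v v', Pair K M g' v v' → Module.finrank F (sect K g' v v') ≤ Module.finrank F (sect K g w w')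

include D in
theorem exists_max {g : GLv} (hg : g ∈ M)
    (hns : ¬ ∀ k : K, ∃ k' : K, ∀ x, (g : Mat) *ᵥ (k • x) = k' • ((g : Mat) *ᵥ x)) :
    ∃ g' w w', MaxPair K M g' w w' := by
  classical
  obtain ⟨w, hw, k, hk⟩ : ∃ w, w ≠ 0 ∧ ∃ k : K, ∀ t : K, t • ((g : Mat) *ᵥ w) ≠ (g : Mat) *ᵥ (k • w) := by
    by_contra hc
    push Not at hc
    refine hns fun k => ?_
    obtain ⟨x₀, hx₀⟩ := D.hne
    obtain ⟨k', hk'⟩ := hc x₀ hx₀ k
    have hgx : ∀ {x : Vec}, x ≠ 0 → (g : Mat) *ᵥ x ≠ 0 := fun hx => Max.mulVec_ne_zero g hx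
    have off : ∀ x, x ≠ 0 → ∀ y, (∀ t : K, y ≠ t • x) → ∀ a b : K,
        a • ((g : Mat) *ᵥ x) = (g : Mat) *ᵥ (k • x) → b • ((g : Mat) *ᵥ y) = (g : Mat) *ᵥ (k • y) →
        (∀ t : K, (g : Mat) *ᵥ y ≠ t • ((g : Mat) *ᵥ x)) → a = b := by
      intro x hx y hy a b ha hb hgy
      obtain ⟨c, hc'⟩ := hc (x + y) (fun h => hy (-1) (by rw [neg_one_smul]; exact eq_neg_of_add_eq_zero_right h)) k
      rw [smul_add, mulVec_add, mulVec_add, ← ha, ← hb, smul_add] at hc'
      have e : (c - b) • ((g : Mat) *ᵥ y) = (a - c) • ((g : Mat) *ᵥ x) := by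
        linear_combination (norm := module) hc'
      by_cases h0 : c - b = 0
      · rw [h0, zero_smul, eq_comm, smul_eq_zero, or_iff_left (hgx hx)] at e
        rw [sub_eq_zero.1 e, sub_eq_zero.1 h0]
      · refine absurd ?_ (hgy ((c - b)⁻¹ * (a - c)))
        rw [← smul_smul, ← e, inv_smul_smul₀ h0]
    refine ⟨k', fun x => ?_⟩
    rcases eq_or_ne x 0 with rfl | hx
    · simp
    obtain ⟨b, hb⟩ := hc x hx k
    by_cases hxx : ∀ t : K, (g : Mat) *ᵥ x ≠ t • ((g : Mat) *ᵥ x₀)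
    · have hxl : ∀ t : K, x ≠ t • x₀ := fun t h => by
        obtain ⟨t', ht'⟩ := hc x₀ hx₀ t
        exact hxx t' (by rw [h, ht'])
      rw [← hb, off x₀ hx₀ x hxl k' b hk' hb hxx]
    · push Not at hxx
      obtain ⟨t, ht⟩ := hxx
      obtain ⟨p, hp⟩ := D.hd ((g : Mat) *ᵥ x₀)
      obtain ⟨y, rfl⟩ : ∃ y, (g : Mat) *ᵥ y = p := ⟨_, Max.mulVec_inv_cancel g p⟩
      have hy2 : ∀ s : K, (g : Mat) *ᵥ y ≠ s • ((g : Mat) *ᵥ x) := fun s h => hp (s * t) (by
        rw [h, ht, smul_smul])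
      have hy0 : y ≠ 0 := fun h => hp 0 (by rw [h, mulVec_zero, zero_smul])
      obtain ⟨a, ha⟩ := hc y hy0 k
      have l1 : ∀ s : K, y ≠ s • x₀ := fun s h => by
        obtain ⟨s', hs'⟩ := hc x₀ hx₀ s
        exact hp s' (by rw [h, hs'])
      have l2 : ∀ s : K, y ≠ s • x := fun s h => by
        obtain ⟨s', hs'⟩ := hc x hx s
        exact hy2 s' (by rw [h, hs'])
      rw [← hb, off x₀ hx₀ y l1 k' a hk' ha hp, ← off x hx y l2 b a hb ha hy2]
  let P : ℕ → Prop := fun e => ∃ g' v v', Pair K M g' v v' ∧ Module.finrank F (sect K g' v v') = e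
  have hpair : Pair K M g w ((g : Mat) *ᵥ w) := ⟨hg, hw, Max.mulVec_ne_zero g hw, fun h => by
    obtain ⟨t, ht⟩ := mem_sect.1 (h ▸ Submodule.mem_top : k ∈ sect K g w ((g : Mat) *ᵥ w))
    exact hk t ht⟩
  have hP : P (Module.finrank F (sect K g w ((g : Mat) *ᵥ w))) := ⟨g, w, _, hpair, rfl⟩
  obtain ⟨g', v, v', hp', he⟩ := Nat.findGreatest_spec (Submodule.finrank_le (sect K g w ((g : Mat) *ᵥ w))) hP
  have hmax : ∀ g'' y y', Pair K M g'' y y' → Module.finrank F (sect K g'' y y') ≤ Module.finrank F (sect K g' v v') :=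
    fun g'' y y' h => he ▸ Nat.le_findGreatest (Submodule.finrank_le _) ⟨g'', y, y', h, rfl⟩
  refine ⟨g', v, v', hp', fun h0 => ?_, hmax⟩
  have h1 := hmax _ _ _ hpair
  rw [h0, finrank_bot, Nat.le_zero, Submodule.finrank_eq_zero] at h1
  have : (1 : K) ∈ sect K g w ((g : Mat) *ᵥ w) := mem_sect.2 ⟨1, by rw [one_smul, one_smul]⟩
  rw [h1, Submodule.mem_bot] at this
  exact one_ne_zero this

/-- the conjugate of a `K`-transvection -/
theorem exists_conj (hM : LinM (K := K) M) {g : GLv} (hg : g ∈ M) {u : Vec} {φ : Vec →ₗ[K] K} (hu : φ u = 0) (c : K) :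
    ∃ h ∈ M, ∀ x, (h : Mat) *ᵥ x = x + ((g⁻¹ : GLv) : Mat) *ᵥ ((c * φ ((g : Mat) *ᵥ x)) • u) := by
  obtain ⟨ρ, hρ, hρx, -⟩ := exists_rt hM u φ hu c
  exact ⟨g⁻¹ * ρ * g, mul_mem (mul_mem (inv_mem hg) hρ) hg, fun x => by
    rw [mulVec_mul_GL, mulVec_mul_GL, hρx, mulVec_add, Max.inv_mulVec_cancel]⟩

theorem subalgebra_eq_bot {X : Subalgebra F K} (hX : X ≠ ⊤) (hr : (Module.finrank F K).Prime) : X = ⊥ :=
  ((Subalgebra.isSimpleOrder_of_finrank_prime F K hr).eq_bot_or_eq_top X).resolve_right hX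

include D in
/-- the action on a line of the conjugate transvections -/
theorem exists_line_transvections (hM : LinM (K := K) M) {g : GLv} {w w' : Vec}
    (hp : MaxPair K M g w w') :
    ∃ ρ : K →ₗ[F] F, ρ ≠ 0 ∧ ∀ k₀, ρ k₀ = 0 → ∃ h ∈ M, ∀ k : K, (h : Mat) *ᵥ (k • w) = (k + ρ k • k₀) • w := by
  obtain ⟨⟨hg, hw, hw', htop⟩, hbot, hmax⟩ := hp
  obtain ⟨k₁, hk₁⟩ : ∃ k, k ∉ sect K g w w' := by
    by_contra hc
    push Not at hc
    exact htop (eq_top_iff.2 fun k _ => hc k)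
  obtain ⟨φ, hφw', hφ1⟩ := exists_fun (K := K) (u := w') (y := (g : Mat) *ᵥ (k₁ • w))
    fun t h => hk₁ (mem_sect.2 ⟨t, h.symm⟩)
  let a : K →ₗ[F] K := (φ.restrictScalars F).comp (mv g w)
  have ha : ∀ k, a k = φ ((g : Mat) *ᵥ (k • w)) := fun k => by simp [a, mv_apply]
  have hle : sect K g w w' ≤ a.ker := fun k hk => by
    obtain ⟨t, ht⟩ := mem_sect.1 hk
    rw [LinearMap.mem_ker, ha, ← ht, map_smul, hφw', smul_zero]
  let E₂ : Submodule F K :=
    (LinearMap.range (mv (K := K) g w)).comap ((LinearMap.toSpanSingleton K Vec w').restrictScalars F)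
  have hE₂ : ∀ t : K, t ∈ E₂ ↔ ∃ k : K, (g : Mat) *ᵥ (k • w) = t • w' := fun t => by
    simp [E₂, mv_apply]
  have hE₂top : E₂ ≠ ⊤ := fun h => by
    have h1 : LinearMap.range ((LinearMap.toSpanSingleton K Vec w').restrictScalars F) ≤
        LinearMap.range (mv (K := K) g w) := by
      rintro _ ⟨t, rfl⟩
      exact (h ▸ Submodule.mem_top : t ∈ E₂)
    have i1 : Function.Injective ((LinearMap.toSpanSingleton K Vec w').restrictScalars F) := fun x y e => by
      simpa using smul_left_injective K hw' (by simpa using e)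
    have i2 : Function.Injective (mv (K := K) g w) := fun x y e => by
      rw [mv_apply, mv_apply] at e
      exact smul_left_injective K hw (mulVec_inj g e)
    have h2 := Submodule.eq_of_le_of_finrank_eq h1
      (by rw [LinearMap.finrank_range_of_inj i1, LinearMap.finrank_range_of_inj i2])
    refine htop (eq_top_iff.2 fun k _ => ?_)
    show mv g w k ∈ LinearMap.range _
    rw [h2]
    exact ⟨k, rfl⟩
  have hmoved : ∀ {c : K} {h : GLv},
      (∀ x, (h : Mat) *ᵥ x = x + ((g⁻¹ : GLv) : Mat) *ᵥ ((c * φ ((g : Mat) *ᵥ x)) • w')) →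
      ∀ k, k ∈ sect K h w w ↔ c * a k ∈ E₂ := by
    intro c h hx k
    rw [mem_sect, hE₂, hx, ← ha]
    constructor
    · rintro ⟨t, ht⟩
      refine ⟨t - k, mulVec_inj (g⁻¹) ?_⟩
      rw [Max.inv_mulVec_cancel]
      linear_combination (norm := module) ht
    · rintro ⟨j, hj⟩
      exact ⟨k + j, by rw [← hj, Max.inv_mulVec_cancel, add_smul]⟩
  have ha1 : a k₁ = 1 := by rw [ha, hφ1]
  have hker : a.ker = sect K g w w' := by
    obtain ⟨t, ht⟩ : ∃ t, t ∉ E₂ := by
      by_contra hc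
      push Not at hc
      exact hE₂top (eq_top_iff.2 fun k _ => hc k)
    obtain ⟨h, hh, hhx⟩ := exists_conj hM hg hφw' t
    have hpair : Pair K M h w w := ⟨hh, hw, hw, fun e => ht (by
      have := (hmoved hhx k₁).1 (e ▸ Submodule.mem_top)
      rwa [ha1, mul_one] at this)⟩
    have h1 : a.ker ≤ sect K h w w := fun k hk => (hmoved hhx k).2 (by
      rw [LinearMap.mem_ker.1 hk, mul_zero]; exact E₂.zero_mem)
    exact (Submodule.eq_of_le_of_finrank_le hle
      ((Submodule.finrank_mono h1).trans (hmax _ _ _ hpair))).symm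
  have hmul : ∀ t ∈ E₂, ∀ k, t * a k ∈ E₂ := by
    intro t ht k
    obtain ⟨h, hh, hhx⟩ := exists_conj hM hg hφw' t
    refine (hmoved hhx k).1 ?_
    by_contra hk
    have hpair : Pair K M h w w := ⟨hh, hw, hw, fun e => hk (e ▸ Submodule.mem_top)⟩
    have h1 : a.ker ≤ sect K h w w := fun j hj => (hmoved hhx j).2 (by
      rw [LinearMap.mem_ker.1 hj, mul_zero]; exact E₂.zero_mem)
    have h2 : k₁ ∈ sect K h w w := (hmoved hhx k₁).2 (by rwa [ha1, mul_one])
    have h3 : a.ker = sect K h w w := Submodule.eq_of_le_of_finrank_le h1 (hker ▸ hmax _ _ _ hpair)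
    have := LinearMap.mem_ker.1 (h3 ▸ h2)
    rw [ha1] at this
    exact one_ne_zero this
  let X : Subalgebra F K :=
    { carrier := {x | ∀ t ∈ E₂, x * t ∈ E₂}
      mul_mem' := fun {x y} hx hy t ht => by rw [mul_assoc]; exact hx _ (hy t ht)
      one_mem' := fun t ht => by rwa [one_mul]
      add_mem' := fun {x y} hx hy t ht => by rw [add_mul]; exact E₂.add_mem (hx t ht) (hy t ht)
      zero_mem' := fun t _ => by rw [zero_mul]; exact E₂.zero_mem
      algebraMap_mem' := fun s t ht => by rw [← Algebra.smul_def]; exact E₂.smul_mem s ht }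
  obtain ⟨k₂, hk₂, hk₂0⟩ := (Submodule.ne_bot_iff _).1 hbot
  obtain ⟨t₂, ht₂⟩ := mem_sect.1 hk₂
  have ht₂0 : t₂ ≠ 0 := fun e => hk₂0 (by
    rw [e, zero_smul] at ht₂
    by_contra hk0
    exact smul_ne_zero hk0 hw (mulVec_inj g (ht₂.symm.trans (mulVec_zero _).symm)))
  have hX : X = ⊥ := subalgebra_eq_bot (fun e => hE₂top (eq_top_iff.2 fun s _ => by
    have := (e ▸ Algebra.mem_top : s / t₂ ∈ X) t₂ ((hE₂ t₂).2 ⟨k₂, ht₂.symm⟩)
    rwa [div_mul_cancel₀ _ ht₂0] at this)) D.hr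
  have hone : ∀ k, ∃ s : F, algebraMap F K s = a k := fun k => by
    have h1 : a k ∈ X := fun t ht => by rw [mul_comm]; exact hmul t ht k
    rwa [hX, Algebra.mem_bot] at h1
  obtain ⟨ω, hω⟩ := exists_chi D (one_ne_zero : (1 : K) ≠ 0) 1
  rw [one_mul] at hω
  let ρ : K →ₗ[F] F := D.χ.comp ((LinearMap.mulRight F ω).comp a)
  have hρ : ∀ k, a k = algebraMap F K (ρ k) := fun k => by
    obtain ⟨s, hs⟩ := hone k
    rw [show ρ k = s by simp [ρ, ← hs, ← Algebra.smul_def, hω], hs]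
  refine ⟨ρ, fun h => ?_, fun k₀ hk₀ => ?_⟩
  · have := hρ k₁
    rw [ha1, h, LinearMap.zero_apply, map_zero] at this
    exact one_ne_zero this
  obtain ⟨t, ht⟩ := mem_sect.1 (show k₀ ∈ sect K g w w' by rw [← hker, LinearMap.mem_ker, hρ, hk₀, map_zero])
  obtain ⟨h, hh, hhx⟩ := exists_conj hM hg hφw' t
  refine ⟨h, hh, fun k => ?_⟩
  rw [hhx, ← ha, hρ, mul_comm, ← Algebra.smul_def, smul_assoc, ht, mulVec_smul, Max.inv_mulVec_cancel,
    add_smul, smul_assoc]

/-- every line transvection -/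
theorem exists_line_all (hM : LinM (K := K) M) {g : GLv} {w w' : Vec}
    (hp : MaxPair K M g w w') {a b : K} (ha : a ≠ 0) (hab : D.χ (a * b) = 0) :
    ∃ h ∈ M, ∀ k : K, (h : Mat) *ᵥ (k • w) = (k + D.χ (a * k) • b) • w := by
  obtain ⟨ρ, hρ0, hρ⟩ := exists_line_transvections D hM hp
  obtain ⟨b₀, hb₀⟩ := (dual D).surjective ρ
  have hb00 : b₀ ≠ 0 := fun e => hρ0 (by rw [← hb₀, e, map_zero])
  have hρe : ∀ k, ρ k = D.χ (b₀ * k) := fun k => by rw [← hb₀, dual_apply]
  set c := a / b₀ with hc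
  have hc0 : c ≠ 0 := div_ne_zero ha hb00
  have hbc : b₀ * c = a := by rw [hc]; field_simp
  obtain ⟨h, hh, hhx⟩ := hρ (c * b) (by rw [hρe, ← mul_assoc, hbc, hab])
  obtain ⟨σ, hσ, hσK, hσw⟩ := exists_move D hM hp.1.2.1 (smul_ne_zero hc0 hp.1.2.1)
  have hσx : ∀ k : K, (σ : Mat) *ᵥ (k • w) = (c * k) • w := fun k => by rw [hσK, hσw, smul_smul, mul_comm]
  refine ⟨σ⁻¹ * h * σ, mul_mem (mul_mem (inv_mem hσ) hh) hσ, fun k => mulVec_inj σ ?_⟩
  rw [mulVec_mul_GL, mulVec_mul_GL, Max.mulVec_inv_cancel, hσx, hhx, hσx, hρe, ← mul_assoc, hbc, mul_add,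
    mul_smul_comm]

/-- root elements -/
def Rt (M : Subgroup (GL ι F)) (w : ι → F) (φ : (ι → F) →ₗ[K] K) (f : K → K) : Prop :=
  ∃ g ∈ M, ∀ x, (g : Matrix ι ι F) *ᵥ x = x + f (φ x) • w

/-- root elements for every functional -/
def Full (M : Subgroup (GL ι F)) (w : ι → F) (f : K → K) : Prop :=
  ∀ φ : (ι → F) →ₗ[K] K, φ w = 0 → Rt M w φ f

theorem full_id (hM : LinM (K := K) M) (w : Vec) : Full (K := K) M w id := fun φ hφ => by
  obtain ⟨g, hg, hgx, -⟩ := exists_rt hM w φ hφ 1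
  exact ⟨g, hg, fun x => by rw [hgx, one_mul]; rfl⟩

theorem Full.add {w : Vec} {f f' : K → K} (hf : Full M w f) (hf' : Full M w f') :
    Full M w fun x => f x + f' x := fun φ hφ => by
  obtain ⟨g, hg, hgx⟩ := hf φ hφ
  obtain ⟨g', hg', hgx'⟩ := hf' φ hφ
  refine ⟨g * g', mul_mem hg hg', fun x => ?_⟩
  rw [mulVec_mul_GL, hgx', hgx, map_add, map_smul, hφ, smul_zero, add_zero, add_smul]
  abel

/-- the operations preserving root elements -/
def Clo (M : Subgroup (GL ι F)) (w : ι → F) (a : K → K) : Prop := ∀ f, Full M w f → Full M w fun x => a (f x)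

theorem Clo.add {w : Vec} {a a' : K → K} (h : Clo M w a) (h' : Clo M w a') : Clo M w fun x => a x + a' x :=
  fun f hf => (h f hf).add (h' f hf)

theorem Clo.comp {w : Vec} {a a' : K → K} (h : Clo M w a) (h' : Clo M w a') : Clo M w fun x => a (a' x) :=
  fun f hf => h _ (h' f hf)

theorem Clo.congr {w : Vec} {a a' : K → K} (h : Clo M w a) (e : ∀ x, a x = a' x) : Clo M w a' := funext e ▸ h

include D in
theorem clo_mul (hM : LinM (K := K) M) {w : Vec} (hw : w ≠ 0) (c : K) : Clo M w (c * ·) := by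
  intro f hf φ hφ
  rcases eq_or_ne c 0 with rfl | hc
  · exact ⟨1, one_mem M, fun x => by simp⟩
  obtain ⟨σ, hσ, hσK, hσw⟩ := exists_move D hM hw (smul_ne_zero hc hw)
  let φ' : Vec →ₗ[K] K :=
    { toFun := fun x => φ ((σ : Mat) *ᵥ x)
      map_add' := fun x y => by rw [mulVec_add, map_add]
      map_smul' := fun t x => by rw [hσK, map_smul, RingHom.id_apply] }
  obtain ⟨e, he, hex⟩ := hf φ' (by show φ ((σ : Mat) *ᵥ w) = 0; rw [hσw, map_smul, hφ, smul_zero])
  refine ⟨σ * e * σ⁻¹, mul_mem (mul_mem hσ he) (inv_mem hσ), fun x => ?_⟩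
  rw [mulVec_mul_GL, mulVec_mul_GL, hex, mulVec_add, Max.mulVec_inv_cancel, hσK, hσw, smul_smul]
  show _ + (f (φ ((σ : Mat) *ᵥ _)) * c) • w = _
  rw [Max.mulVec_inv_cancel, mul_comm]

include D in
theorem Clo.neg {w : Vec} (hM : LinM (K := K) M) (hw : w ≠ 0) {a : K → K} (h : Clo M w a) :
    Clo M w fun x => -a x :=
  (Clo.comp (clo_mul D hM hw (-1)) h).congr fun x => neg_one_mul _

theorem exists_norm_one [Fintype F] (hr : (Module.finrank F K).Prime) :
    ∃ k : K, Algebra.norm F k = 1 ∧ ∀ s : F, k ≠ algebraMap F K s := by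
  classical
  haveI : Finite K := Module.finite_of_finite F
  haveI : Fintype K := Fintype.ofFinite K
  by_contra hc
  push Not at hc
  set q := Fintype.card F with hq
  have hq1 : 1 < q := Fintype.one_lt_card
  have hroot : ∀ x : K, x ≠ 0 → x ^ ((q - 1) * (q - 1)) = 1 := by
    intro x hx
    have hn : Algebra.norm F x ≠ 0 := Algebra.norm_ne_zero_iff.2 hx
    obtain ⟨s, hs⟩ := hc (x ^ (q - 1)) (by rw [map_pow, FiniteField.pow_card_sub_one_eq_one _ hn])
    have hs0 : s ≠ 0 := fun e => pow_ne_zero (q - 1) hx (by rw [hs, e, map_zero])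
    rw [pow_mul, hs, ← map_pow, FiniteField.pow_card_sub_one_eq_one _ hs0, map_one]
  have hpos : 0 < (q - 1) * (q - 1) := Nat.mul_pos (by omega) (by omega)
  have h1 : (Finset.univ.erase (0 : K)) ⊆ (Polynomial.nthRoots ((q - 1) * (q - 1)) (1 : K)).toFinset := fun x hx => by
    rw [Multiset.mem_toFinset, Polynomial.mem_nthRoots hpos]
    exact hroot x (Finset.ne_of_mem_erase hx)
  have h2 := (Finset.card_le_card h1).trans ((Multiset.toFinset_card_le _).trans (Polynomial.card_nthRoots _ _))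
  rw [Finset.card_erase_of_mem (Finset.mem_univ _), Finset.card_univ, Module.card_eq_pow_finrank (K := F)] at h2
  have h3 : q ^ 2 ≤ q ^ Module.finrank F K := Nat.pow_le_pow_right (by omega) hr.two_le
  rw [← hq] at h2
  obtain ⟨p, hp⟩ : ∃ p, q = p + 2 := ⟨q - 2, by omega⟩
  rw [hp] at h2 h3 hpos
  simp only [Nat.add_succ_sub_one] at h2
  nlinarith [Nat.sub_add_cancel (Nat.one_le_pow (Module.finrank F K) (p + 2) (by omega))]

/-- a commutator with a scaling -/
theorem clo_twist [Fintype F] (hM : LinM (K := K) M) {g : GLv} {w w' : Vec} (hp : MaxPair K M g w w') {k : K}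
    (hk : Algebra.norm F k = 1) {b : K} (hb : D.χ b = 0) :
    Clo M w fun j => (D.χ (k⁻¹ * j) - D.χ j * D.χ (k⁻¹ * b)) • (k * b) + (-D.χ j) • b := by
  have hw : w ≠ 0 := hp.1.2.1
  have hk0 : k ≠ 0 := fun e => by rw [e, Algebra.norm_zero] at hk; exact zero_ne_one hk
  obtain ⟨h, hh, hhx⟩ := exists_line_all D hM hp (one_ne_zero : (1 : K) ≠ 0) (b := b) (by rwa [one_mul])
  obtain ⟨φ₁, hφ₁⟩ : ∃ φ : Vec →ₗ[K] K, φ w = 1 := by
    obtain ⟨φ, -, hφ⟩ := exists_fun (K := K) (u := (0 : Vec)) (y := w) fun t e => hw (by rw [e, smul_zero])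
    exact ⟨φ, hφ⟩
  obtain ⟨δ, hδx, hδK, hδd⟩ := exists_dil (u := w) (φ := (k - 1) • φ₁)
    (by rw [LinearMap.smul_apply, hφ₁, smul_eq_mul, mul_one, add_sub_cancel]; exact hk0)
  have hδM : δ ∈ M := hM δ hδK (by
    rw [hδd, LinearMap.smul_apply, hφ₁, smul_eq_mul, mul_one, add_sub_cancel, hk])
  have hδw : ∀ t : K, (δ : Mat) *ᵥ (t • w) = (k * t) • w := fun t => by
    rw [hδx, map_smul, LinearMap.smul_apply, hφ₁, smul_eq_mul, smul_eq_mul, mul_one, ← add_smul]
    congr 1; ring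
  have hδiw : ∀ t : K, ((δ⁻¹ : GLv) : Mat) *ᵥ (t • w) = (k⁻¹ * t) • w := fun t => mulVec_inj δ (by
    rw [Max.mulVec_inv_cancel, hδw, mul_inv_cancel_left₀ hk0])
  have hiw : ∀ t : K, ((h⁻¹ : GLv) : Mat) *ᵥ (t • w) = (t - D.χ t • b) • w := fun t => mulVec_inj h (by
    rw [Max.mulVec_inv_cancel, hhx, one_mul, map_sub, map_smul, hb, smul_zero, sub_zero, sub_add_cancel])
  set P := δ * h * δ⁻¹ * h⁻¹ with hP
  have hPM : P ∈ M := mul_mem (mul_mem (mul_mem hδM hh) (inv_mem hδM)) (inv_mem hh)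
  have hPline : ∀ j : K, (P : Mat) *ᵥ (j • w) =
      (j + ((D.χ (k⁻¹ * j) - D.χ j * D.χ (k⁻¹ * b)) • (k * b) + (-D.χ j) • b)) • w := fun j => by
    rw [hP, mulVec_mul_GL, mulVec_mul_GL, mulVec_mul_GL, hiw, hδiw, hhx, hδw, one_mul, mul_add, ← mul_assoc,
      mul_inv_cancel₀ hk0, one_mul, mul_smul_comm, mul_sub k⁻¹, mul_smul_comm, map_sub, map_smul, smul_eq_mul]
    congr 1
    module
  have hPmod : ∀ x, ∃ t : K, (P : Mat) *ᵥ x = x + t • w := by
    intro x
    set y := ((h⁻¹ : GLv) : Mat) *ᵥ x with hy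
    obtain ⟨t, ht⟩ : ∃ t : K, ((δ⁻¹ : GLv) : Mat) *ᵥ y = y + t • w := by
      refine ⟨k⁻¹ * -((k - 1) * φ₁ y), mulVec_inj δ ?_⟩
      rw [Max.mulVec_inv_cancel, mulVec_add, hδw, mul_inv_cancel_left₀ hk0, hδx, LinearMap.smul_apply, smul_eq_mul]
      module
    rw [hP, mulVec_mul_GL, mulVec_mul_GL, mulVec_mul_GL, ← hy, ht, mulVec_add, hy, Max.mulVec_inv_cancel, hhx,
      mulVec_add, hδw, hδx]
    exact ⟨_, by rw [add_assoc, ← add_smul]⟩
  intro f hf φ hφ
  obtain ⟨e, he, hex⟩ := hf φ hφ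
  obtain ⟨e', he', hex'⟩ := hf φ hφ
  refine ⟨P * e * P⁻¹ * e'⁻¹, mul_mem (mul_mem (mul_mem hPM he) (inv_mem hPM)) (inv_mem he'), fun x => ?_⟩
  obtain ⟨y, rfl⟩ : ∃ y, (e' : Mat) *ᵥ y = x := ⟨_, Max.mulVec_inv_cancel e' x⟩
  rw [mulVec_mul_GL, mulVec_mul_GL, mulVec_mul_GL, Max.inv_mulVec_cancel, hex]
  set z := ((P⁻¹ : GLv) : Mat) *ᵥ y with hz
  obtain ⟨t, ht⟩ := hPmod z
  have hzy : φ z = φ y := by
    rw [hz, Max.mulVec_inv_cancel] at ht
    rw [ht, map_add, map_smul, hφ, smul_zero, add_zero]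
  rw [mulVec_add, hz, Max.mulVec_inv_cancel, ← hz, hzy, hPline, hex']
  simp only [map_add, map_smul, hφ, smul_zero, add_zero]
  module

/-- centres of all transvections vanishing on a line -/
def LineCentre (M : Subgroup (GL ι F)) (a : ι → F) : Prop :=
  ∀ ψ : (ι → F) →ₗ[F] F, (∀ k : K, ψ (k • a) = 0) →
    ∃ g ∈ M, ∀ x, (g : Matrix ι ι F) *ᵥ x = x + ψ x • a

include D in
theorem sl_le_of_lineCentre (hM : LinM (K := K) M) {w : Vec} (hw : w ≠ 0) (h : LineCentre (K := K) M w) :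
    Cfsg.Geo.specialLinear ι F ≤ M := by
  have hC : ∀ a : Vec, a ≠ 0 → LineCentre (K := K) M a := by
    intro a ha ψ hψ
    obtain ⟨σ, hσ, hσK, hσw⟩ := exists_move D hM hw ha
    obtain ⟨e, he, hex⟩ := h (ψ.comp (Matrix.toLin' (σ : Mat))) fun k => by
      rw [LinearMap.comp_apply, Matrix.toLin'_apply, hσK, hσw, hψ]
    refine ⟨σ * e * σ⁻¹, mul_mem (mul_mem hσ he) (inv_mem hσ), fun x => ?_⟩
    rw [mulVec_mul_GL, mulVec_mul_GL, hex, mulVec_add, LinearMap.comp_apply, Matrix.toLin'_apply,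
      Max.mulVec_inv_cancel, mulVec_smul, hσw]
  refine Max.specialLinear_le_of_centres fun a φ hφ => ?_
  rcases eq_or_ne a 0 with rfl | ha
  · rw [show trv (0 : Vec) φ hφ = 1 from gl_ext fun x => by simp [trv_mulVec]]
    exact one_mem M
  obtain ⟨c, hc⟩ := D.hd a
  have hc0 : c ≠ 0 := fun e => hc 0 (by rw [e, zero_smul])
  obtain ⟨πa, hπc, hπa⟩ := exists_fun (K := K) (u := c) (y := a) (off_symm hc0 ha hc)
  obtain ⟨πc, hπa', hπc'⟩ := exists_fun (K := K) (u := a) (y := c) hc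
  let ψ : Vec →ₗ[F] F :=
    { toFun := fun x => φ ⬝ᵥ x, map_add' := dotProduct_add φ, map_smul' := fun s x => dotProduct_smul s φ x }
  let χ₁ : Vec →ₗ[F] F := ψ.comp (((LinearMap.toSpanSingleton K Vec a).comp πa).restrictScalars F)
  have hχ₁ : ∀ x, χ₁ x = φ ⬝ᵥ (πa x • a) := fun x => rfl
  obtain ⟨μ, hμ⟩ : ∃ μ : K →ₗ[F] F, μ 1 = 1 := by
    obtain ⟨e, he⟩ := exists_chi D (one_ne_zero : (1 : K) ≠ 0) 1
    exact ⟨D.χ.comp (LinearMap.mulRight F e), by simpa using he⟩
  let ν : Vec →ₗ[F] F := μ.comp (πc.restrictScalars F)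
  have hν : ∀ x, ν x = μ (πc x) := fun x => rfl
  obtain ⟨g₁, hg₁, hg₁x⟩ := hC a ha (ψ - χ₁) fun k => by
    rw [LinearMap.sub_apply, hχ₁, show πa (k • a) = k by rw [map_smul, hπa, smul_eq_mul, mul_one]]
    exact sub_self _
  obtain ⟨A, hA, hAx⟩ := hC a ha ν fun k => by rw [hν, map_smul, hπa', smul_zero, map_zero]
  obtain ⟨C, hC', hCx⟩ := hC c hc0 χ₁ fun k => by
    rw [hχ₁, map_smul, hπc, smul_zero, zero_smul, dotProduct_zero]
  have hAi : ∀ x, ((A⁻¹ : GLv) : Mat) *ᵥ x = x - ν x • a := fun x => mulVec_inj A (by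
    rw [Max.mulVec_inv_cancel, hAx, map_sub, map_smul, hν a, hπa', map_zero, smul_zero, sub_zero, sub_add_cancel])
  have hCi : ∀ x, ((C⁻¹ : GLv) : Mat) *ᵥ x = x - χ₁ x • c := fun x => mulVec_inj C (by
    rw [Max.mulVec_inv_cancel, hCx, map_sub, map_smul, hχ₁ c, hπc, zero_smul, dotProduct_zero, smul_zero, sub_zero,
      sub_add_cancel])
  have e : trv a φ hφ = g₁ * (A * C * A⁻¹ * C⁻¹) := gl_ext fun x => by
    simp only [mulVec_mul_GL, trv_mulVec, hAx, hCx, hAi, hCi, hg₁x, LinearMap.sub_apply, map_add, map_sub, map_smul,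
      smul_eq_mul, hν a, hν c, hπa', hπc', hμ, map_zero, hχ₁ a, hπa, hχ₁ c, hπc, one_smul, hφ, zero_smul,
      dotProduct_zero, mul_zero, mul_one]
    show x + (φ ⬝ᵥ x) • a = _
    simp only [show ∀ y, ψ y = φ ⬝ᵥ y from fun y => rfl, hφ, dotProduct_add, dotProduct_sub, dotProduct_smul,
      smul_eq_mul, mul_zero, sub_zero, add_zero]
    module
  rw [e]
  exact mul_mem hg₁ (mul_mem (mul_mem (mul_mem hA hC') (inv_mem hA)) (inv_mem hC'))

theorem lineCentre_of_full {w : Vec} (h : Full M w fun x => D.χ x • (1 : K)) : LineCentre (K := K) M w := by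
  intro ψ hψ
  obtain ⟨φ, hφ⟩ := exists_lift D ψ
  obtain ⟨g, hg, hgx⟩ := h φ (chi_ext D fun k => by rw [hφ, hψ, mul_zero, map_zero])
  refine ⟨g, hg, fun x => ?_⟩
  rw [hgx, smul_assoc, one_smul]
  have := hφ 1 x
  rw [one_mul, one_smul] at this
  rw [this]

/-- the generic case -/
theorem full_generic [Fintype F] (hM : LinM (K := K) M) {g : GLv} {w w' : Vec} (hp : MaxPair K M g w w')
    (h : 2 < Fintype.card F ∨ 3 ≤ Module.finrank F K) : Full M w fun x => D.χ x • (1 : K) := by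
  have hw : w ≠ 0 := hp.1.2.1
  obtain ⟨k, hk, hkF⟩ := exists_norm_one (F := F) D.hr
  have hk0 : k ≠ 0 := fun e => hkF 0 (by rw [e, map_zero])
  obtain ⟨b, hb, hτ⟩ : ∃ b, D.χ b = 0 ∧ D.χ (k⁻¹ * b) ≠ 0 := by
    by_contra hc
    push Not at hc
    obtain ⟨b₀, hb₀⟩ := exists_chi D (one_ne_zero : (1 : K) ≠ 0) 1
    rw [one_mul] at hb₀
    have e : k⁻¹ = algebraMap F K (D.χ (k⁻¹ * b₀)) := chi_ext D fun x => by
      have h0 := hc (x - D.χ x • b₀) (by rw [map_sub, map_smul, hb₀, smul_eq_mul, mul_one, sub_self])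
      rw [mul_sub, mul_smul_comm, map_sub, map_smul, smul_eq_mul, sub_eq_zero] at h0
      rw [mul_comm x, h0, mul_comm x, ← Algebra.smul_def, map_smul, smul_eq_mul, mul_comm]
    exact hkF _ (by rw [← inv_inv k, e, map_inv₀])
  obtain ⟨z, hz, hzc⟩ : ∃ z : K, z ≠ 0 ∧ Clo M w fun j => D.χ j • z := by
    have hΦ := fun b hb => clo_twist D hM hp hk (b := b) hb
    rcases h with h | h
    · obtain ⟨s, hs0, hs1⟩ : ∃ s : F, s ≠ 0 ∧ s ≠ 1 := by
        classical
        obtain ⟨s, hs⟩ : ∃ s, s ∈ ((Finset.univ.erase (0 : F)).erase 1) := Finset.card_pos.1 (by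
          rw [Finset.card_erase_of_mem (by simp), Finset.card_erase_of_mem (Finset.mem_univ _), Finset.card_univ]
          omega)
        exact ⟨s, Finset.ne_of_mem_erase (Finset.mem_of_mem_erase hs), Finset.ne_of_mem_erase hs⟩
      refine ⟨((s - s * s) * D.χ (k⁻¹ * b)) • (k * b),
        smul_ne_zero (mul_ne_zero ?_ hτ) (mul_ne_zero hk0 fun e => hτ (by rw [e, mul_zero, map_zero])), ?_⟩
      · rw [show s - s * s = s * (1 - s) by ring]
        exact mul_ne_zero hs0 (sub_ne_zero.2 (Ne.symm hs1))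
      refine ((hΦ (s • b) (by rw [map_smul, hb, smul_zero])).add
        (Clo.neg D hM hw ((clo_mul D hM hw (algebraMap F K s)).comp (hΦ b hb)))).congr fun j => ?_
      simp only [← Algebra.smul_def, mul_smul_comm, map_smul, smul_eq_mul]
      module
    · obtain ⟨b', hb', hbb'⟩ : ∃ b', D.χ b' = 0 ∧ b' ∉ Submodule.span F {b} := by
        by_contra hc
        push Not at hc
        have h1 := Submodule.finrank_mono (show D.χ.ker ≤ Submodule.span F {b} from fun x hx => hc x hx)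
        rw [finrank_span_singleton (fun e => hτ (by rw [e, mul_zero, map_zero]))] at h1
        have h2 := D.χ.finrank_range_add_finrank_ker
        have h3 := Submodule.finrank_le (LinearMap.range D.χ)
        rw [Module.finrank_self] at h3
        omega
      refine ⟨-(k * (D.χ (k⁻¹ * b') • b + D.χ (k⁻¹ * b) • b')), neg_ne_zero.2 (mul_ne_zero hk0 fun e => hbb' ?_), ?_⟩
      · rw [Submodule.mem_span_singleton]
        refine ⟨-((D.χ (k⁻¹ * b))⁻¹ * D.χ (k⁻¹ * b')), ?_⟩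
        conv_rhs => rw [← inv_smul_smul₀ hτ b', eq_neg_of_add_eq_zero_right e]
        module
      refine ((hΦ (b + b') (by rw [map_add, hb, hb', add_zero])).add
        (Clo.neg D hM hw ((hΦ b hb).add (hΦ b' hb')))).congr fun j => ?_
      simp only [mul_add, map_add, mul_smul_comm]
      module
  have h1 := ((clo_mul D hM hw z⁻¹).comp hzc) id (full_id hM w)
  simpa only [mul_smul_comm, inv_mul_cancel₀ hz, id_eq] using h1

include D in
/-- the smallest case -/
theorem full_small [Fintype F] (hM : LinM (K := K) M) {g : GLv} {w w' : Vec} (hp : MaxPair K M g w w')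
    (hq : Fintype.card F = 2) (h2 : Module.finrank F K = 2) (hd2 : Module.finrank F Vec = 4) :
    ∃ v : Vec, v ≠ 0 ∧ LineCentre (K := K) M v := by
  obtain ⟨⟨hg, hw, hw', htop⟩, hbot, -⟩ := hp
  haveI : Module.Finite K Vec := Module.Finite.of_restrictScalars_finite F K Vec
  have hdK : Module.finrank K Vec = 2 := by
    have := Module.finrank_mul_finrank F K Vec
    rw [h2, hd2] at this
    omega
  have hF : ∀ s : F, s = 0 ∨ s = 1 := by
    classical
    intro s
    by_contra hc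
    push Not at hc
    have := Finset.card_le_card (Finset.subset_univ ({0, 1, s} : Finset F))
    rw [Finset.card_univ, hq, Finset.card_insert_of_notMem (by simp [hc.1.symm]),
      Finset.card_insert_of_notMem (by simp [hc.2.symm]), Finset.card_singleton] at this
    omega
  have h2F : (2 : F) = 0 := by
    rcases hF 2 with h | h
    · exact h
    · exact absurd (by linear_combination h : (1 : F) = 0) one_ne_zero
  have hdet1 : ∀ e : GLv, (e : Mat).det = 1 := fun e =>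
    (hF _).resolve_left (fun h0 => by
      have := congrArg Matrix.det (Units.mul_inv e)
      rw [Matrix.det_mul, h0, zero_mul, Matrix.det_one] at this
      exact zero_ne_one this)
  obtain ⟨k₁, hk₁⟩ : ∃ k, k ∉ sect K g w w' := by
    by_contra hc
    push Not at hc
    exact htop (eq_top_iff.2 fun k _ => hc k)
  obtain ⟨k₀, hk₀, hk₀0⟩ := (Submodule.ne_bot_iff _).1 hbot
  obtain ⟨t, ht⟩ := mem_sect.1 hk₀
  obtain ⟨φ, hφw', hφ1⟩ := exists_fun (K := K) (u := w') (y := (g : Mat) *ᵥ (k₁ • w))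
    fun s h => hk₁ (mem_sect.2 ⟨s, h.symm⟩)
  set x₀ := k₀ • w with hx₀
  set ω := k₁ / k₀ with hωdef
  have hωx : ω • x₀ = k₁ • w := by rw [hx₀, smul_smul, hωdef, div_mul_cancel₀ _ hk₀0]
  have hωF : ∀ s : F, ω ≠ algebraMap F K s := fun s e => hk₁ (by
    have : k₁ = s • k₀ := by rw [Algebra.smul_def, ← e, hωdef, div_mul_cancel₀ _ hk₀0]
    exact this ▸ (sect K g w w').smul_mem s hk₀)
  have ht0 : t ≠ 0 := fun e => hk₀0 (by
    rw [e, zero_smul] at ht
    by_contra h0
    exact smul_ne_zero h0 hw (mulVec_inj g (ht.symm.trans (mulVec_zero _).symm)))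
  -- a scalar outside the image
  obtain ⟨s, hs⟩ : ∃ s : K, ∀ j : K, (g : Mat) *ᵥ (j • w) ≠ s • w' := by
    by_contra hc
    push Not at hc
    choose σ hσ using hc
    haveI : Finite K := Module.finite_of_finite F
    have hinj : Function.Injective σ := fun a b e => smul_left_injective K hw' (by
      show a • w' = b • w'
      rw [← hσ a, ← hσ b, e])
    obtain ⟨j, hj⟩ := Finite.injective_iff_surjective.1 hinj k₁
    exact hk₁ (mem_sect.2 ⟨j, by rw [← hσ j, hj]⟩)
  obtain ⟨h, hh, hhx⟩ := exists_conj hM hg hφw' s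
  set y := ((g⁻¹ : GLv) : Mat) *ᵥ (s • w') with hy
  have hgy : (g : Mat) *ᵥ y = s • w' := Max.mulVec_inv_cancel g _
  have hgx₀ : (g : Mat) *ᵥ x₀ = t • w' := ht.symm
  have hyl : ∀ j : K, y ≠ j • x₀ := fun j e => hs (j * k₀) (by rw [← hgy, e, hx₀, smul_smul])
  have hfix : ∀ {x : Vec} {j : K}, (g : Mat) *ᵥ x = j • w' → (h : Mat) *ᵥ x = x := fun {x j} e => by
    rw [hhx, e, map_smul, hφw', smul_zero, mul_zero, zero_smul, mulVec_zero, add_zero]
  have h0 : (h : Mat) *ᵥ x₀ = x₀ := hfix hgx₀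
  have h1 : (h : Mat) *ᵥ y = y := hfix hgy
  have h2x : (h : Mat) *ᵥ (ω • x₀) = ω • x₀ + y := by rw [hωx, hhx, hφ1, mul_one]
  -- coordinates
  obtain ⟨φ₀, hφ₀y, hφ₀x⟩ := exists_fun (K := K) (u := y) (y := x₀)
    (off_symm (fun e => hyl 0 (by rw [e, zero_smul])) (smul_ne_zero hk₀0 hw) hyl)
  obtain ⟨φy, hφyx, hφyy⟩ := exists_fun (K := K) (u := x₀) (y := y) hyl
  have hli : LinearIndependent K ![x₀, y] := LinearIndependent.pair_iff.2 fun p p' e => by
    have e0 := congrArg φ₀ e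
    have e1 := congrArg φy e
    simp only [map_add, map_smul, map_zero, hφ₀x, hφ₀y, hφyx, hφyy, smul_eq_mul, mul_one, mul_zero, add_zero,
      zero_add] at e0 e1
    exact ⟨e0, e1⟩
  have hspan : ∀ x, ∃ p p' : K, x = p • x₀ + p' • y := fun x => by
    have hs2 := hli.span_eq_top_of_card_eq_finrank (by rw [Fintype.card_fin, hdK])
    have : x ∈ Submodule.span K (Set.range ![x₀, y]) := hs2 ▸ Submodule.mem_top
    rw [range_cons_cons_empty, Submodule.mem_span_pair] at this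
    obtain ⟨p, p', e⟩ := this
    exact ⟨p, p', e.symm⟩
  have hcoord : ∀ x, x = φ₀ x • x₀ + φy x • y := fun x => by
    obtain ⟨p, p', rfl⟩ := hspan x
    simp [hφ₀x, hφ₀y, hφyx, hφyy]
  -- `1, ω` is a basis
  have hK2 : ∀ p : K, ∃ a b : F, p = algebraMap F K a + algebraMap F K b * ω := by
    have hli' : LinearIndependent F ![(1 : K), ω] := LinearIndependent.pair_iff.2 fun a b e => by
      by_cases hb : b = 0
      · rw [hb, zero_smul, add_zero, smul_eq_zero, or_iff_left one_ne_zero] at e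
        exact ⟨e, hb⟩
      · refine absurd ?_ (hωF (-(b⁻¹ * a)))
        rw [← inv_smul_smul₀ hb ω, eq_neg_of_add_eq_zero_right e, smul_neg, smul_smul, map_neg, Algebra.smul_def,
          mul_one]
    intro p
    have hs2 := hli'.span_eq_top_of_card_eq_finrank (by rw [Fintype.card_fin, h2])
    have : p ∈ Submodule.span F (Set.range ![(1 : K), ω]) := hs2 ▸ Submodule.mem_top
    rw [range_cons_cons_empty, Submodule.mem_span_pair] at this
    obtain ⟨a, b, e⟩ := this
    exact ⟨a, b, by rw [← e, Algebra.smul_def, Algebra.smul_def, mul_one]⟩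
  have h2K : (2 : K) = 0 := by rw [show (2 : K) = algebraMap F K 2 from (map_ofNat _ 2).symm, h2F, map_zero]
  have hωω : ω * ω = ω + 1 := by
    obtain ⟨a, b, e⟩ := hK2 (ω * ω)
    rcases hF a with rfl | rfl <;> rcases hF b with rfl | rfl <;>
      simp only [map_zero, map_one, zero_mul, one_mul, add_zero, zero_add] at e
    · exact absurd (mul_self_eq_zero.1 e) (fun e' => hωF 0 (by rw [e', map_zero]))
    · refine absurd (mul_right_cancel₀ (fun e' => hωF 0 (by rw [e', map_zero])) (e.trans (one_mul ω).symm)) ?_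
      exact fun e' => hωF 1 (by rw [e', map_one])
    · refine absurd ?_ (hωF 1)
      rw [map_one]
      have : (ω - 1) * (ω - 1) = 0 := by linear_combination e + (1 - ω) * h2K
      exact sub_eq_zero.1 (mul_self_eq_zero.1 this)
    · rw [e]; ring
  -- the last image
  have hgi : ∀ v : Vec, φ ((g : Mat) *ᵥ v) = 0 → ∃ j : K, (g : Mat) *ᵥ v = j • w' := by
    intro v hv
    by_contra hc
    push Not at hc
    obtain ⟨φ', hφ'w, hφ'v⟩ := exists_fun (K := K) (u := w') (y := (g : Mat) *ᵥ v) hc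
    have hcK : ∀ x : Vec, ∃ p p' : K, x = p • w' + p' • ((g : Mat) *ᵥ (k₁ • w)) := by
      have hli2 : LinearIndependent K ![w', (g : Mat) *ᵥ (k₁ • w)] := LinearIndependent.pair_iff.2 fun p p' e => by
        have e1 := congrArg φ e
        simp only [map_add, map_smul, map_zero, hφw', hφ1, smul_zero, mul_zero, zero_add, smul_eq_mul, mul_one] at e1
        rw [e1, zero_smul, add_zero, smul_eq_zero, or_iff_left hw'] at e
        exact ⟨e, e1⟩
      intro x
      have hs2 := hli2.span_eq_top_of_card_eq_finrank (by rw [Fintype.card_fin, hdK])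
      have : x ∈ Submodule.span K (Set.range ![w', (g : Mat) *ᵥ (k₁ • w)]) := hs2 ▸ Submodule.mem_top
      rw [range_cons_cons_empty, Submodule.mem_span_pair] at this
      obtain ⟨p, p', e⟩ := this
      exact ⟨p, p', e.symm⟩
    obtain ⟨p, p', e⟩ := hcK ((g : Mat) *ᵥ v)
    rw [e, map_add, map_smul, map_smul, hφw', hφ1, smul_zero, zero_add, smul_eq_mul, mul_one] at hv
    exact hc p (by rw [e, hv, zero_smul, add_zero])
  have h3x : (h : Mat) *ᵥ (ω • y) = ω • y + x₀ ∨ (h : Mat) *ᵥ (ω • y) = ω • y + (x₀ + y) := by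
    set z := ((g⁻¹ : GLv) : Mat) *ᵥ ((s * φ ((g : Mat) *ᵥ (ω • y))) • w') with hz
    obtain ⟨j, hj⟩ : ∃ j : K, (g : Mat) *ᵥ z = j • w' := ⟨_, Max.mulVec_inv_cancel g _⟩
    have hs0 : s ≠ 0 := fun e => hs 0 (by rw [e, zero_smul, zero_smul, mulVec_zero])
    obtain ⟨a, b, e⟩ : ∃ a b : F, j = a • t + b • s := by
      have hli' : LinearIndependent F ![t, s] := LinearIndependent.pair_iff.2 fun a b e => by
        by_cases hb : b = 0
        · rw [hb, zero_smul, add_zero, smul_eq_zero, or_iff_left ht0] at e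
          exact ⟨e, hb⟩
        · refine absurd ?_ (hs ((-(b⁻¹ * a)) • k₀))
          rw [← inv_smul_smul₀ hb s, eq_neg_of_add_eq_zero_right e, smul_neg, smul_smul, neg_smul, neg_smul,
            neg_smul, smul_assoc, smul_assoc, mulVec_neg, mulVec_smul, ht]
      have hs2 := hli'.span_eq_top_of_card_eq_finrank (by rw [Fintype.card_fin, h2])
      have : j ∈ Submodule.span F (Set.range ![t, s]) := hs2 ▸ Submodule.mem_top
      rw [range_cons_cons_empty, Submodule.mem_span_pair] at this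
      obtain ⟨a, b, e⟩ := this
      exact ⟨a, b, e.symm⟩
    have hz' : z = a • x₀ + b • y := mulVec_inj g (by
      rw [hj, e, add_smul, smul_assoc, smul_assoc, mulVec_add, mulVec_smul, mulVec_smul, hgx₀, hgy])
    have key : ∀ v : Vec, φ ((g : Mat) *ᵥ v) = 0 → φ₀ v = 0 ∨ φ₀ v = 1 := by
      intro v hv
      obtain ⟨j', hj'⟩ := hgi v hv
      have hli' : LinearIndependent F ![t, s] := LinearIndependent.pair_iff.2 fun a b e => by
        by_cases hb : b = 0
        · rw [hb, zero_smul, add_zero, smul_eq_zero, or_iff_left ht0] at e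
          exact ⟨e, hb⟩
        · refine absurd ?_ (hs ((-(b⁻¹ * a)) • k₀))
          rw [← inv_smul_smul₀ hb s, eq_neg_of_add_eq_zero_right e, smul_neg, smul_smul, neg_smul, neg_smul,
            neg_smul, smul_assoc, smul_assoc, mulVec_neg, mulVec_smul, ht]
      have hs2 := hli'.span_eq_top_of_card_eq_finrank (by rw [Fintype.card_fin, h2])
      have : j' ∈ Submodule.span F (Set.range ![t, s]) := hs2 ▸ Submodule.mem_top
      rw [range_cons_cons_empty, Submodule.mem_span_pair] at this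
      obtain ⟨a', b', e'⟩ := this
      have : v = a' • x₀ + b' • y := mulVec_inj g (by
        rw [hj', ← e', add_smul, smul_assoc, smul_assoc, mulVec_add, mulVec_smul, mulVec_smul, hgx₀, hgy])
      rw [this, map_add, LinearMap.map_smul_of_tower φ₀ a', LinearMap.map_smul_of_tower φ₀ b', hφ₀x, hφ₀y, smul_zero, add_zero]
      rcases hF a' with rfl | rfl
      · exact Or.inl (zero_smul _ _)
      · exact Or.inr (one_smul _ _)
    have hne : φ ((g : Mat) *ᵥ (ω • y)) ≠ 0 := by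
      intro h0'
      obtain ⟨j', hj'⟩ := hgi _ h0'
      have h1' : (g : Mat) *ᵥ (ω • (x₀ + y)) = (g : Mat) *ᵥ (k₁ • w) + j' • w' := by
        rw [smul_add, mulVec_add, hωx, hj']
      obtain ⟨a', b', e'⟩ : ∃ a' b' : F, ω • y = a' • x₀ + b' • y := by
        have hli' : LinearIndependent F ![t, s] := LinearIndependent.pair_iff.2 fun a b e => by
          by_cases hb : b = 0
          · rw [hb, zero_smul, add_zero, smul_eq_zero, or_iff_left ht0] at e
            exact ⟨e, hb⟩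
          · refine absurd ?_ (hs ((-(b⁻¹ * a)) • k₀))
            rw [← inv_smul_smul₀ hb s, eq_neg_of_add_eq_zero_right e, smul_neg, smul_smul, neg_smul, neg_smul,
              neg_smul, smul_assoc, smul_assoc, mulVec_neg, mulVec_smul, ht]
        have hs2 := hli'.span_eq_top_of_card_eq_finrank (by rw [Fintype.card_fin, h2])
        have : j' ∈ Submodule.span F (Set.range ![t, s]) := hs2 ▸ Submodule.mem_top
        rw [range_cons_cons_empty, Submodule.mem_span_pair] at this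
        obtain ⟨a', b', e'⟩ := this
        exact ⟨a', b', mulVec_inj g (by
          rw [hj', ← e', add_smul, smul_assoc, smul_assoc, mulVec_add, mulVec_smul, mulVec_smul, hgx₀, hgy])⟩
      have e2 := congrArg φy e'
      rw [map_smul, map_add, LinearMap.map_smul_of_tower φy a', LinearMap.map_smul_of_tower φy b', hφyx, hφyy, smul_zero,
        zero_add, smul_eq_mul, mul_one, Algebra.smul_def, mul_one] at e2
      exact hωF b' e2
    have hne2 : φ ((g : Mat) *ᵥ (ω • y)) ≠ 1 := by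
      intro h0'
      have h4 : φ ((g : Mat) *ᵥ (ω • y - ω • x₀)) = 0 := by rw [mulVec_sub, map_sub, h0', hωx, hφ1, sub_self]
      have h5 : φ₀ (ω • y - ω • x₀) = -ω := by simp [hφ₀x, hφ₀y]
      rcases key _ h4 with h6 | h6 <;> rw [h5] at h6
      · exact hωF 0 (by rw [map_zero]; exact neg_eq_zero.1 h6)
      · exact hωF 1 (by rw [map_one]; linear_combination (-1 : K) * h6 - h2K)
    have e1 : (h : Mat) *ᵥ (ω • y) = ω • y + z := hhx _
    rcases hF a with rfl | rfl
    · exfalso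
      rcases hF b with rfl | rfl
      · rw [zero_smul, zero_smul, zero_add] at hz'
        rw [hz', mulVec_zero, eq_comm, smul_eq_zero, or_iff_left hw'] at hj
        have := congrArg (fun v => (g : Mat) *ᵥ v) (hz'.symm.trans hz)
        simp only [mulVec_zero, Max.mulVec_inv_cancel] at this
        rw [eq_comm, smul_eq_zero, or_iff_left hw', mul_eq_zero, or_iff_right hs0] at this
        exact hne this
      · rw [zero_smul, one_smul, zero_add] at hz'
        have := congrArg (fun v => (g : Mat) *ᵥ v) (hz'.symm.trans hz)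
        simp only [hgy, Max.mulVec_inv_cancel] at this
        have h7 := smul_left_injective K hw' this
        exact hne2 (mul_left_cancel₀ hs0 (h7.symm.trans (mul_one s).symm))
    · rcases hF b with rfl | rfl
      · exact Or.inl (by rw [e1, hz', one_smul, zero_smul, add_zero])
      · exact Or.inr (by rw [e1, hz', one_smul, one_smul])
  -- linear elements
  have hlin : ∀ e : GLv, (∀ (k : K) x, (e : Mat) *ᵥ (k • x) = k • ((e : Mat) *ᵥ x)) → e ∈ M :=
    fun e he => hM e he (hdet1 e)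
  have hω0 : ω ≠ 0 := fun e => hωF 0 (by rw [e, map_zero])
  have mk : ∀ (u : Vec) (φ' : Vec →ₗ[K] K), 1 + φ' u ≠ 0 → ∃ e ∈ M, (∀ x, (e : Mat) *ᵥ x = x + φ' x • u) := by
    intro u φ' hu
    obtain ⟨e, hex, heK, -⟩ := exists_dil hu
    exact ⟨e, hlin e heK, hex⟩
  obtain ⟨T, hT, hTx⟩ := mk x₀ φy (by rw [hφyx, add_zero]; exact one_ne_zero)
  obtain ⟨W1, hW1, hW1x⟩ := mk x₀ ((ω - 1) • φ₀) (by
    rw [LinearMap.smul_apply, hφ₀x, smul_eq_mul, mul_one, add_sub_cancel]; exact hω0)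
  obtain ⟨W2, hW2, hW2x⟩ := mk y ((ω - 1) • φy) (by
    rw [LinearMap.smul_apply, hφyy, smul_eq_mul, mul_one, add_sub_cancel]; exact hω0)
  obtain ⟨S, hS, hSx⟩ : ∃ S ∈ M, ∀ p p' : K, (S : Mat) *ᵥ (p • x₀ + p' • y) = p • y + p' • x₀ := by
    let L : Vec →ₗ[F] Vec := (φ₀.smulRight y + φy.smulRight x₀).restrictScalars F
    have hLe : ∀ p p' : K, L (p • x₀ + p' • y) = p • y + p' • x₀ := fun p p' => by
      simp [L, hφ₀x, hφ₀y, hφyx, hφyy]
    obtain ⟨S, hSL, -⟩ := exists_gl L fun x x' e => by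
      obtain ⟨p, p', rfl⟩ := hspan x
      obtain ⟨r, r', rfl⟩ := hspan x'
      rw [hLe, hLe] at e
      have e0 := congrArg φ₀ e
      have e1 := congrArg φy e
      simp only [map_add, map_smul, hφ₀x, hφ₀y, hφyx, hφyy, smul_eq_mul, mul_one, mul_zero, zero_add, add_zero] at e0 e1
      rw [e0, e1]
    exact ⟨S, hlin S fun k x => by rw [hSL, hSL]; simp [L], fun p p' => by rw [hSL, hLe]⟩
  -- evaluation in the basis
  have hvals : ∀ (e : GLv) (p : K) (v : Vec), ∃ a b : F, p = algebraMap F K a + algebraMap F K b * ω ∧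
      (e : Mat) *ᵥ (p • v) = a • ((e : Mat) *ᵥ v) + b • ((e : Mat) *ᵥ (ω • v)) := fun e p v => by
    obtain ⟨a, b, rfl⟩ := hK2 p
    refine ⟨a, b, rfl, ?_⟩
    rw [add_smul, ← smul_smul, algebraMap_smul, algebraMap_smul, mulVec_add, mulVec_smul, mulVec_smul]
  obtain ⟨E, hE, e0, e1, e2, e3⟩ : ∃ E ∈ M, (E : Mat) *ᵥ x₀ = x₀ ∧ (E : Mat) *ᵥ y = y ∧
      (E : Mat) *ᵥ (ω • x₀) = ω • x₀ ∧ (E : Mat) *ᵥ (ω • y) = ω • y + x₀ := by
    have t0 : (T : Mat) *ᵥ x₀ = x₀ := by simp [hTx, hφyx]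
    have t1 : (T : Mat) *ᵥ y = x₀ + y := by rw [hTx, hφyy, one_smul, add_comm]
    have t2 : (T : Mat) *ᵥ (ω • x₀) = ω • x₀ := by simp [hTx, hφyx]
    have t3 : (T : Mat) *ᵥ (ω • y) = ω • x₀ + ω • y := by
      rw [hTx, map_smul, hφyy, smul_eq_mul, mul_one, add_comm]
    have a0 : (W1 : Mat) *ᵥ x₀ = ω • x₀ := by
      rw [hW1x, LinearMap.smul_apply, hφ₀x, smul_eq_mul, mul_one]; module
    have a1 : (W1 : Mat) *ᵥ y = y := by simp [hW1x, hφ₀y]
    have a2 : (W1 : Mat) *ᵥ (ω • x₀) = ω • x₀ + x₀ := by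
      rw [hW1x, LinearMap.smul_apply, map_smul, hφ₀x, smul_eq_mul, smul_eq_mul, mul_one, ← add_smul,
        show ω + (ω - 1) * ω = ω + 1 by linear_combination hωω, add_smul, one_smul]
    have a3 : (W1 : Mat) *ᵥ (ω • y) = ω • y := by simp [hW1x, hφ₀y]
    have b0 : (W2 : Mat) *ᵥ x₀ = x₀ := by simp [hW2x, hφyx]
    have b1 : (W2 : Mat) *ᵥ y = ω • y := by
      rw [hW2x, LinearMap.smul_apply, hφyy, smul_eq_mul, mul_one]; module
    have b2 : (W2 : Mat) *ᵥ (ω • x₀) = ω • x₀ := by simp [hW2x, hφyx]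
    have b3 : (W2 : Mat) *ᵥ (ω • y) = ω • y + y := by
      rw [hW2x, LinearMap.smul_apply, map_smul, hφyy, smul_eq_mul, smul_eq_mul, mul_one, ← add_smul,
        show ω + (ω - 1) * ω = ω + 1 by linear_combination hωω, add_smul, one_smul]
    have s0 : (S : Mat) *ᵥ x₀ = y := by simpa using hSx 1 0
    have s1 : (S : Mat) *ᵥ y = x₀ := by simpa using hSx 0 1
    have s2 : (S : Mat) *ᵥ (ω • x₀) = ω • y := by simpa using hSx ω 0
    have s3 : (S : Mat) *ᵥ (ω • y) = ω • x₀ := by simpa using hSx 0 ω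
    have dbl : ∀ x : Vec, x + x = 0 := fun x => by rw [← two_smul F x, h2F, zero_smul]
    have dbl' : ∀ x z : Vec, x + (x + z) = z := fun x z => by rw [← add_assoc, dbl, zero_add]
    rcases h3x with h3 | h3
    · refine ⟨h * W1 * T * h * W1 * T * W1 * h * T * W1, ?_, ?_, ?_, ?_, ?_⟩
      · repeat' apply mul_mem
        all_goals assumption
      all_goals simp only [mulVec_mul_GL]
      all_goals simp [mulVec_add, t0, t1, t2, t3, a0, a1, a2, a3, h0, h1, h2x, h3, dbl, dbl',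
        add_comm, add_left_comm, add_assoc]
    · refine ⟨h * W2 * h * W2 * S * T * W2 * h * W2 * S * T, ?_, ?_, ?_, ?_, ?_⟩
      · repeat' apply mul_mem
        all_goals assumption
      all_goals simp only [mulVec_mul_GL]
      all_goals simp [mulVec_add, t0, t1, t2, t3, b0, b1, b2, b3, s0, s1, s2, s3, h0, h1, h2x, h3,
        dbl, dbl', add_comm, add_left_comm, add_assoc]
  -- the functional of `E`
  have hEx : ∀ p p' : K, ∃ b : F, (∃ a : F, p' = algebraMap F K a + algebraMap F K b * ω) ∧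
      (E : Mat) *ᵥ (p • x₀ + p' • y) = p • x₀ + p' • y + b • x₀ := fun p p' => by
    obtain ⟨a, b, hp1, he1⟩ := hvals E p x₀
    obtain ⟨a', b', hp2, he2⟩ := hvals E p' y
    refine ⟨b', ⟨a', hp2⟩, ?_⟩
    rw [mulVec_add, he1, he2, e0, e1, e2, e3, hp1, hp2]
    simp only [add_smul, mul_smul, algebraMap_smul, smul_add]
    abel
  obtain ⟨μ, hμ1, hμω⟩ : ∃ μ : K →ₗ[F] F, μ 1 = 0 ∧ μ ω = 1 := by
    obtain ⟨f, hf, hf'⟩ := Submodule.exists_dual_map_eq_bot_of_notMem (p := (F ∙ (1 : K))) (x := ω)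
      (fun hm => by
        obtain ⟨a, e⟩ := Submodule.mem_span_singleton.1 hm
        exact hωF a (by rw [← e, Algebra.algebraMap_eq_smul_one])) inferInstance
    have : f 1 ∈ (F ∙ (1 : K)).map f := Submodule.mem_map_of_mem (Submodule.mem_span_singleton_self 1)
    rw [hf', Submodule.mem_bot] at this
    exact ⟨(f ω)⁻¹ • f, by rw [LinearMap.smul_apply, this, smul_zero],
      by rw [LinearMap.smul_apply, smul_eq_mul, inv_mul_cancel₀ hf]⟩
  have hRt : ∀ x, (E : Mat) *ᵥ x = x + μ (φy x) • x₀ := fun x => by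
    obtain ⟨p, p', rfl⟩ := hspan x
    obtain ⟨b, ⟨a, hb⟩, he⟩ := hEx p p'
    rw [he, map_add, map_smul φy p, map_smul φy p', hφyx, hφyy, smul_zero, zero_add, smul_eq_mul, mul_one]
    congr 2
    rw [hb, ← Algebra.smul_def, Algebra.algebraMap_eq_smul_one, map_add, map_smul, map_smul, hμ1, hμω, smul_zero,
      zero_add, smul_eq_mul, mul_one]
  refine ⟨x₀, smul_ne_zero hk₀0 hw, fun ψ hψ => ?_⟩
  obtain ⟨m₀, hm₀⟩ := (dual D).surjective μ
  have hm₀0 : m₀ ≠ 0 := fun e' => by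
    rw [e', map_zero] at hm₀
    rw [← hm₀, LinearMap.zero_apply] at hμω
    exact zero_ne_one hμω
  obtain ⟨φψ, hφψ⟩ := exists_lift D ψ
  have hφψ0 : φψ x₀ = 0 := chi_ext D fun k => by rw [hφψ, hψ, mul_zero, map_zero]
  have hψx : ∀ x, ψ x = D.χ (φψ y * φy x) := fun x => by
    conv_lhs => rw [hcoord x]
    rw [map_add, hψ, zero_add, ← hφψ, mul_comm]
  rcases eq_or_ne (φψ y) 0 with hy0 | hy0
  · exact ⟨1, one_mem M, fun x => by simp [hψx, hy0]⟩
  set c := φψ y / m₀ with hc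
  have hc0 : c ≠ 0 := div_ne_zero hy0 hm₀0
  obtain ⟨σ, hσ, hσx⟩ := mk y ((c - 1) • φy) (by
    rw [LinearMap.smul_apply, hφyy, smul_eq_mul, mul_one, add_sub_cancel]; exact hc0)
  refine ⟨σ⁻¹ * E * σ, mul_mem (mul_mem (inv_mem hσ) hE) hσ, fun x => mulVec_inj σ ?_⟩
  rw [mulVec_mul_GL, mulVec_mul_GL, Max.mulVec_inv_cancel, hRt, mulVec_add, mulVec_smul]
  have es : (σ : Mat) *ᵥ x₀ = x₀ := by simp [hσx, hφyx]
  rw [es, hψx, ← hm₀, dual_apply, hσx, map_add, map_smul, hφyy, LinearMap.smul_apply, smul_eq_mul, smul_eq_mul,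
    mul_one, show m₀ * (φy x + (c - 1) * φy x) = φψ y * φy x by rw [hc]; field_simp; ring]

include D in
/-- the smallest field, more than two lines -/
theorem full_big [Fintype F] (hM : LinM (K := K) M) {g : GLv} {w w' : Vec} (hp : MaxPair K M g w w')
    (hq : Fintype.card F = 2) (h2 : Module.finrank F K = 2) (hd3 : 3 ≤ Module.finrank K Vec) :
    LineCentre (K := K) M w := by
  obtain ⟨⟨hg, hw, hw', htop⟩, hbot, hmax⟩ := hp
  have hdet1 : ∀ e : GLv, (e : Mat).det = 1 := fun e => by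
    classical
    by_contra hc
    have h0 : (e : Mat).det ≠ 0 := fun h0 => by
      have := congrArg Matrix.det (Units.mul_inv e)
      rw [Matrix.det_mul, h0, zero_mul, Matrix.det_one] at this
      exact zero_ne_one this
    have := Finset.card_le_card (Finset.subset_univ ({0, 1, (e : Mat).det} : Finset F))
    rw [Finset.card_univ, hq, Finset.card_insert_of_notMem (by simp [Ne.symm h0]),
      Finset.card_insert_of_notMem (by simp [Ne.symm hc]), Finset.card_singleton] at this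
    omega
  obtain ⟨k₁, hk₁⟩ : ∃ k, k ∉ sect K g w w' := by
    by_contra hc
    push Not at hc
    exact htop (eq_top_iff.2 fun k _ => hc k)
  obtain ⟨k₀, hk₀, hk₀0⟩ := (Submodule.ne_bot_iff _).1 hbot
  obtain ⟨t, ht⟩ := mem_sect.1 hk₀
  obtain ⟨φ', hφw', hφ1⟩ := exists_fun (K := K) (u := w') (y := (g : Mat) *ᵥ (k₁ • w))
    fun s h => hk₁ (mem_sect.2 ⟨s, h.symm⟩)
  obtain ⟨h, hh, hhx⟩ := exists_conj hM hg hφw' t
  have hk₁w : (h : Mat) *ᵥ (k₁ • w) = (k₁ + k₀) • w := by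
    rw [hhx, hφ1, mul_one, ht, Max.inv_mulVec_cancel, add_smul]
  have ht0 : t ≠ 0 := fun e => hk₀0 (by
    rw [e, zero_smul] at ht
    by_contra h0
    exact smul_ne_zero h0 hw (mulVec_inj g (ht.symm.trans (mulVec_zero _).symm)))
  have hli2 : LinearIndependent F ![k₀, k₁] := LinearIndependent.pair_iff.2 fun a b e => by
    by_cases hb : b = 0
    · rw [hb, zero_smul, add_zero, smul_eq_zero, or_iff_left hk₀0] at e
      exact ⟨e, hb⟩
    · refine absurd ((sect K g w w').smul_mem (-(b⁻¹ * a)) hk₀) ?_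
      rw [show (-(b⁻¹ * a)) • k₀ = k₁ by
        rw [← inv_smul_smul₀ hb k₁, eq_neg_of_add_eq_zero_right e]; module]
      exact hk₁
  have hk₀w : (h : Mat) *ᵥ (k₀ • w) = k₀ • w := by
    rw [hhx, ← ht, map_smul, hφw', smul_zero, mul_zero, zero_smul, mulVec_zero, add_zero]
  -- a functional killing the line and the image of `h - 1`
  obtain ⟨v, hv⟩ : ∃ v : K, ∀ j : K, ∃ a b : F, j = a • t + b • v := by
    obtain ⟨v, hv⟩ : ∃ v, v ∉ Submodule.span F {t} := by
      by_contra hc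
      push Not at hc
      have := Submodule.finrank_mono (show (⊤ : Submodule F K) ≤ Submodule.span F {t} from fun x _ => hc x)
      rw [finrank_top, h2, finrank_span_singleton ht0] at this
      omega
    have hli : LinearIndependent F ![t, v] := LinearIndependent.pair_iff.2 fun a b e => by
      by_cases hb : b = 0
      · rw [hb, zero_smul, add_zero, smul_eq_zero, or_iff_left ht0] at e
        exact ⟨e, hb⟩
      · refine absurd (Submodule.smul_mem _ (-(b⁻¹ * a)) (Submodule.mem_span_singleton_self t)) ?_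
        rw [show (-(b⁻¹ * a)) • t = v by
          rw [← inv_smul_smul₀ hb v, eq_neg_of_add_eq_zero_right e]; module]
        exact hv
    refine ⟨v, fun j => ?_⟩
    have hs := hli.span_eq_top_of_card_eq_finrank (by rw [Fintype.card_fin, h2])
    have : j ∈ Submodule.span F (Set.range ![t, v]) := hs ▸ Submodule.mem_top
    rw [range_cons_cons_empty, Submodule.mem_span_pair] at this
    obtain ⟨a, b, e⟩ := this
    exact ⟨a, b, e.symm⟩
  set y := ((g⁻¹ : GLv) : Mat) *ᵥ (v • w') with hy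
  obtain ⟨φ, hφ0, hφwy⟩ : ∃ φ : Vec →ₗ[K] K, φ ≠ 0 ∧ φ w = 0 ∧ φ y = 0 := by
    haveI : Module.Finite K Vec := Module.Finite.of_restrictScalars_finite F K Vec
    have hlt : Submodule.span K ({w, y} : Set Vec) < ⊤ := by
      refine lt_top_iff_ne_top.2 fun e => ?_
      classical
      have := finrank_span_finset_le_card (R := K) ({w, y} : Finset Vec)
      rw [Finset.coe_insert, Finset.coe_singleton] at this
      unfold Set.finrank at this
      rw [e, finrank_top] at this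
      have := (Finset.card_le_two : ({w, y} : Finset Vec).card ≤ 2)
      omega
    obtain ⟨φ, hφ, hle⟩ := Submodule.exists_le_ker_of_lt_top _ hlt
    exact ⟨φ, hφ, hle (Submodule.subset_span (Set.mem_insert _ _)),
      hle (Submodule.subset_span (Set.mem_insert_of_mem _ rfl))⟩
  obtain ⟨hφw, hφy⟩ := hφwy
  have hφh : ∀ x, φ ((h : Mat) *ᵥ x) = φ x := fun x => by
    obtain ⟨a, b, e⟩ := hv (t * φ' ((g : Mat) *ᵥ x))
    rw [hhx, map_add, e, add_smul, smul_assoc, smul_assoc, mulVec_add, mulVec_smul, mulVec_smul, ht,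
      Max.inv_mulVec_cancel, ← hy, map_add, LinearMap.map_smul_of_tower φ a, LinearMap.map_smul_of_tower φ b, hφy, map_smul,
      hφw, smul_zero, smul_zero, smul_zero, add_zero, add_zero]
  obtain ⟨φ₁, hφ₁⟩ : ∃ φ₁ : Vec →ₗ[K] K, φ₁ w = 1 := by
    obtain ⟨φ₁, -, hφ₁⟩ := exists_fun (K := K) (u := (0 : Vec)) (y := w) fun s e => hw (by rw [e, smul_zero])
    exact ⟨φ₁, hφ₁⟩
  -- a rank one element
  obtain ⟨μ, hμ0, hμ1⟩ : ∃ μ : K →ₗ[F] F, μ k₀ = 0 ∧ μ k₁ = 1 := by
    obtain ⟨f, hf, hf'⟩ := Submodule.exists_dual_map_eq_bot_of_notMem (p := (F ∙ k₀)) (x := k₁)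
      (fun hm => by
        obtain ⟨a, e⟩ := Submodule.mem_span_singleton.1 hm
        exact hk₁ (e ▸ (sect K g w w').smul_mem a hk₀)) inferInstance
    have : f k₀ ∈ (F ∙ k₀).map f := Submodule.mem_map_of_mem (Submodule.mem_span_singleton_self k₀)
    rw [hf', Submodule.mem_bot] at this
    exact ⟨(f k₁)⁻¹ • f, by rw [LinearMap.smul_apply, this, smul_zero],
      by rw [LinearMap.smul_apply, smul_eq_mul, inv_mul_cancel₀ hf]⟩
  have hline : ∀ j : K, (h : Mat) *ᵥ (j • w) = (j + μ j • k₀) • w := fun j => by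
    have hs := hli2.span_eq_top_of_card_eq_finrank (by rw [Fintype.card_fin, h2])
    have : j ∈ Submodule.span F (Set.range ![k₀, k₁]) := hs ▸ Submodule.mem_top
    rw [range_cons_cons_empty, Submodule.mem_span_pair] at this
    obtain ⟨a, b, rfl⟩ := this
    rw [add_smul, smul_assoc, smul_assoc, mulVec_add, mulVec_smul, mulVec_smul, hk₀w, hk₁w, map_add, map_smul,
      map_smul, hμ0, hμ1, smul_zero, zero_add, smul_eq_mul, mul_one]
    simp only [add_smul, smul_assoc, smul_add]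
    abel
  obtain ⟨E, hE, hEx⟩ : Rt M w φ fun j => μ j • k₀ := by
    obtain ⟨e, he, hex, -⟩ := exists_rt hM w φ hφw 1
    refine ⟨h * e * h⁻¹ * e⁻¹, mul_mem (mul_mem (mul_mem hh he) (inv_mem hh)) (inv_mem he), fun x => ?_⟩
    obtain ⟨x', rfl⟩ : ∃ x', (e : Mat) *ᵥ x' = x := ⟨_, Max.mulVec_inv_cancel e x⟩
    set z := ((h⁻¹ : GLv) : Mat) *ᵥ x' with hz
    have hzx : φ z = φ x' := by rw [← hφh, hz, Max.mulVec_inv_cancel]
    rw [mulVec_mul_GL, mulVec_mul_GL, mulVec_mul_GL, Max.inv_mulVec_cancel, ← hz, hex, hzx, one_mul, mulVec_add, hz,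
      Max.mulVec_inv_cancel, hline, hex, one_mul, map_add, map_smul, hφw, smul_zero, add_zero, add_smul]
    abel
  obtain ⟨m₀, hm₀⟩ := (dual D).surjective μ
  have hm₀0 : m₀ ≠ 0 := fun e' => by
    rw [e', map_zero] at hm₀
    rw [← hm₀, LinearMap.zero_apply] at hμ1
    exact zero_ne_one hμ1
  intro ψ hψ
  obtain ⟨φψ, hφψ⟩ := exists_lift D ψ
  have hφψw : φψ w = 0 := chi_ext D fun k => by rw [hφψ, hψ, mul_zero, map_zero]
  have hψx : ∀ x, ψ x = D.χ (φψ x) := fun x => by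
    have := hφψ 1 x
    rw [one_mul, one_smul] at this
    rw [this]
  rcases eq_or_ne φψ 0 with hφψ0 | hφψ0
  · exact ⟨1, one_mem M, fun x => by simp [hψx, hφψ0]⟩
  set θ := m₀⁻¹ • φψ with hθ
  have hθ0 : θ ≠ 0 := smul_ne_zero (inv_ne_zero hm₀0) hφψ0
  have hθw : θ w = 0 := by rw [hθ, LinearMap.smul_apply, hφψw, smul_zero]
  obtain ⟨u, hu, hu'⟩ : ∃ u, φ u = 1 ∧ θ u ≠ 0 := by
    obtain ⟨p, hp⟩ : ∃ p, φ p ≠ 0 := by
      by_contra hc
      push Not at hc
      exact hφ0 (LinearMap.ext hc)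
    obtain ⟨p', hp'⟩ : ∃ p', θ p' ≠ 0 := by
      by_contra hc
      push Not at hc
      exact hθ0 (LinearMap.ext hc)
    obtain ⟨q, hq1, hq2⟩ : ∃ q, φ q ≠ 0 ∧ θ q ≠ 0 := by
      by_cases h1 : θ p = 0
      · by_cases h3 : φ p' = 0
        · exact ⟨p + p', by rw [map_add, h3, add_zero]; exact hp, by rw [map_add, h1, zero_add]; exact hp'⟩
        · exact ⟨p', h3, hp'⟩
      · exact ⟨p, hp, h1⟩
    exact ⟨(φ q)⁻¹ • q, by rw [map_smul, smul_eq_mul, inv_mul_cancel₀ hq1],
      by rw [map_smul, smul_eq_mul]; exact mul_ne_zero (inv_ne_zero hq1) hq2⟩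
  obtain ⟨σ, hσx, hσK, -⟩ := exists_dil (u := u) (φ := θ - φ) (by rw [LinearMap.sub_apply, hu]; simpa using hu')
  obtain ⟨δ, hδx, hδK, -⟩ := exists_dil (u := w) (φ := (k₀⁻¹ - 1) • φ₁) (by
    rw [LinearMap.smul_apply, hφ₁, smul_eq_mul, mul_one, add_sub_cancel]; exact inv_ne_zero hk₀0)
  have hσM : σ ∈ M := hM σ hσK (hdet1 σ)
  have hδM : δ ∈ M := hM δ hδK (hdet1 δ)
  refine ⟨σ⁻¹ * (δ * E * δ⁻¹) * σ, mul_mem (mul_mem (inv_mem hσM) (mul_mem (mul_mem hδM hE) (inv_mem hδM))) hσM,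
    fun x => mulVec_inj σ ?_⟩
  have hσw : (σ : Mat) *ᵥ w = w := by rw [hσx, LinearMap.sub_apply, hθw, hφw, sub_zero, zero_smul, add_zero]
  obtain ⟨z, hz⟩ : ∃ z, (δ : Mat) *ᵥ z = (σ : Mat) *ᵥ x := ⟨_, Max.mulVec_inv_cancel δ _⟩
  have hzφ : φ z = θ x := by
    have := congrArg φ hz
    rw [hδx, hσx, map_add, map_smul, hφw, smul_zero, add_zero, map_add, map_smul, hu, smul_eq_mul, mul_one,
      LinearMap.sub_apply, add_sub_cancel] at this
    exact this
  rw [mulVec_mul_GL, mulVec_mul_GL, Max.mulVec_inv_cancel, mulVec_mul_GL, mulVec_mul_GL, ← hz, Max.inv_mulVec_cancel,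
    hEx, hzφ, mulVec_add, hz, mulVec_add, mulVec_smul, hσw, hψx]
  congr 1
  have hμθ : μ (θ x) = D.χ (φψ x) := by
    rw [← hm₀, dual_apply, hθ, LinearMap.smul_apply, smul_eq_mul, mul_inv_cancel_left₀ hm₀0]
  beta_reduce
  rw [hμθ]
  generalize D.χ (φψ x) = c
  have hd : (δ : Mat) *ᵥ (k₀ • w) = w := by
    rw [hδK, hδx, LinearMap.smul_apply, hφ₁, smul_eq_mul, mul_one]
    match_scalars
    field_simp
    ring
  rw [smul_assoc, mulVec_smul, hd]

include D in
theorem sl_le [Fintype F] (hM : LinM (K := K) M) {g : GLv} (hg : g ∈ M)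
    (hns : ¬ ∀ k : K, ∃ k' : K, ∀ x, (g : Mat) *ᵥ (k • x) = k' • ((g : Mat) *ᵥ x)) :
    Cfsg.Geo.specialLinear ι F ≤ M := by
  obtain ⟨g₁, w, w', hp⟩ := exists_max D hg hns
  by_cases h : 2 < Fintype.card F ∨ 3 ≤ Module.finrank F K
  · exact sl_le_of_lineCentre D hM hp.1.2.1 (lineCentre_of_full D (full_generic D hM hp h))
  push Not at h
  have hq : Fintype.card F = 2 := le_antisymm h.1 Fintype.one_lt_card
  have h2 : Module.finrank F K = 2 := by have := D.hr.two_le; omega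
  haveI : Module.Finite K Vec := Module.Finite.of_restrictScalars_finite F K Vec
  by_cases h3 : 3 ≤ Module.finrank K Vec
  · exact sl_le_of_lineCentre D hM hp.1.2.1 (full_big D hM hp hq h2 h3)
  have h4 : Module.finrank F Vec = 4 := by
    obtain ⟨a, ha⟩ := D.hne
    obtain ⟨c, hc⟩ := D.hd a
    have h5 : 2 ≤ Module.finrank K Vec := by
      have hli : LinearIndependent K ![a, c] := by
        refine (LinearIndependent.pair_iff' ha).2 fun t e => hc t e.symm
      simpa using hli.fintype_card_le_finrank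
    have h6 := Module.finrank_mul_finrank F K Vec
    rw [h2, show Module.finrank K Vec = 2 by omega] at h6
    omega
  obtain ⟨v, hv, hvc⟩ := full_small D hM hp hq h2 h4
  exact sl_le_of_lineCentre D hM hv hvc

include D in
/-- transvections are not semilinear -/
theorem exists_not_semilinear :
    ∃ g : GLv, g ∈ Cfsg.Geo.specialLinear ι F ∧
      ¬ ∀ k : K, ∃ k' : K, ∀ x, (g : Mat) *ᵥ (k • x) = k' • ((g : Mat) *ᵥ x) := by
  obtain ⟨a, ha⟩ := D.hne
  obtain ⟨c, hc⟩ := D.hd a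
  obtain ⟨π, hπa, hπc⟩ := exists_fun (K := K) (u := a) (y := c) hc
  obtain ⟨μ, hμ⟩ : ∃ μ : K →ₗ[F] F, μ 1 = 1 := by
    obtain ⟨e, he⟩ := exists_chi D (one_ne_zero : (1 : K) ≠ 0) 1
    exact ⟨D.χ.comp (LinearMap.mulRight F e), by simpa using he⟩
  let ψ : Vec →ₗ[F] F := μ.comp (π.restrictScalars F)
  set φ : Vec := fun i => ψ (Pi.single i 1) with hφdef
  have hφ : ∀ x, φ ⬝ᵥ x = ψ x := fun x => by
    conv_rhs => rw [pi_eq_sum_univ' x, map_sum]
    simp [hφdef, dotProduct, mul_comm]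
  have hψ : ∀ k : K, ψ (k • a) = 0 := fun k => by simp [ψ, hπa]
  have h0 : φ ⬝ᵥ a = 0 := by simpa [hφ] using hψ 1
  obtain ⟨k, hk⟩ : ∃ k : K, ∀ s : F, k ≠ algebraMap F K s := by
    by_contra hc'
    push Not at hc'
    have : (⊥ : Subalgebra F K) = ⊤ := eq_top_iff.2 fun x _ => by
      obtain ⟨s, hs⟩ := hc' x
      exact Algebra.mem_bot.2 ⟨s, hs.symm⟩
    have h1 := Subalgebra.bot_eq_top_iff_finrank_eq_one.1 this
    have := D.hr.two_le
    omega
  refine ⟨trv a φ h0, trv_mem_SL _ _ _, fun h => ?_⟩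
  obtain ⟨k', hk'⟩ := h k
  have e1 := hk' a
  rw [trv_mulVec, trv_mulVec, hφ, hφ, hψ, show ψ a = 0 by simpa using hψ 1, zero_smul, add_zero, add_zero] at e1
  have e2 := hk' c
  rw [← smul_left_injective K ha e1, trv_mulVec, trv_mulVec, hφ, hφ, smul_add, add_right_inj,
    show ψ c = 1 by simp [ψ, hπc, hμ], one_smul] at e2
  refine hk (ψ (k • c)) (smul_left_injective K ha ?_).symm
  simp only [algebraMap_smul]
  exact e2

end Cfsg.Agent.Forms.Max.LinExtField
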