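import Mathlib
import Cfsg.Agent.Aschbacher.Lists.Blocks
import Cfsg.Agent.Lib.Forms.Max.Core

/-!
# Decompositions into lines and planes over very small fields are not maximal in `SL`
-/

set_option autoImplicit false
set_option linter.unusedSectionVars false

namespace Cfsg.Agent.Forms.Max.LinearBlocks

open Matrix Cfsg.Agent.Aschbacher

variable {F : Type*} [Field F] {n t m : ℕ} {D : Fin t → Submodule F (Fin n → F)}

theorem coord_of_mem (hD : Cfsg.Geo.IsMDecomposition m D) {x : Fin n → F} {i j : Fin t}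
    (hx : x ∈ D j) (h : i ≠ j) (k : Fin m) : coord hD x i k = 0 :=
  DirectSum.IsInternal.collectedBasis_repr_of_mem_ne _ _ h.symm hx

theorem block_index (hD : Cfsg.Geo.IsMDecomposition m D) {x : Fin n → F} {i j : Fin t} {k : Fin m}
    (hx : x ∈ D j) (h : coord hD x i k ≠ 0) : i = j :=
  by_contra fun hij => h (coord_of_mem hD hx hij k)

/-- an invertible rank one update -/
theorem exists_update (u φ : Fin n → F) (h : 1 + φ ⬝ᵥ u ≠ 0) :
    ∃ g : GL (Fin n) F, (g : Matrix (Fin n) (Fin n) F).det = 1 + φ ⬝ᵥ u ∧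
      ∀ x, (g : Matrix (Fin n) (Fin n) F) *ᵥ x = x + (φ ⬝ᵥ x) • u := by
  have hd : (1 + vecMulVec u φ).det = 1 + φ ⬝ᵥ u := by
    rw [vecMulVec_eq Unit, Matrix.det_one_add_replicateCol_mul_replicateRow]
  refine ⟨Matrix.GeneralLinearGroup.mkOfDetNeZero (1 + vecMulVec u φ) (by rw [hd]; exact h),
    hd, fun x => ?_⟩
  show (1 + vecMulVec u φ) *ᵥ x = _
  rw [Matrix.add_mulVec, Matrix.one_mulVec, vecMulVec_mulVec']

variable [Fintype F]

/-- lines over a field with at most four elements -/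
theorem lines_between (hn : 13 ≤ n) (hD : Cfsg.Geo.IsMDecomposition 1 D) (τ : F →+* F)
    (hτ : ∀ c : F, c ≠ 0 → c * τ c = 1) (h6 : (6 : F) = 0) :
    ∃ K : Subgroup (GL (Fin n) F),
      Cfsg.Geo.decompositionStabilizer D ⊓ Cfsg.Geo.specialLinear (Fin n) F < K ∧
        K < Cfsg.Geo.specialLinear (Fin n) F := by
  classical
  have ht : t = n := by have := card_of_decomposition hD; omega
  let c : Fin t → (Fin n → F) →ₗ[F] F := fun i =>
    { toFun := fun x => coord hD x i 0
      map_add' := fun x y => coord_add hD x y i 0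
      map_smul' := fun a x => coord_smul hD a x i 0 }
  let f : (Fin n → F) → (Fin n → F) → F := fun x y => ∑ i, c i x * τ (c i y)
  set b : Fin t → (Fin n → F) := fun i => blockBasis hD ⟨i, 0⟩ with hb
  have hcb : ∀ i j, c i (b j) = if i = j then 1 else 0 := fun i j => by
    show coord hD (blockBasis hD ⟨j, 0⟩) i 0 = _
    rw [coord_basis]
    simp
  have hupd : ∀ (S : Finset (Fin t)) (a : F), τ a = a → a + a + a * a * (S.card : F) = 0 →
      1 + a * (S.card : F) ≠ 0 →
      ∃ g : GL (Fin n) F, g ∈ Cfsg.Geo.similarityGroup f ∧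
        (g : Matrix (Fin n) (Fin n) F).det = 1 + a * (S.card : F) ∧
        ∀ x i, c i ((g : Matrix (Fin n) (Fin n) F) *ᵥ x) =
          c i x + if i ∈ S then a * ∑ j ∈ S, c j x else 0 := by
    intro S a hta hsum hne
    obtain ⟨φ, hφ⟩ := exists_row (a • ∑ j ∈ S, c j)
    set u := ∑ j ∈ S, b j with hu
    have hcu : ∀ i, c i u = if i ∈ S then 1 else 0 := fun i => by
      rw [hu, map_sum]; simp only [hcb]; rw [Finset.sum_ite_eq]
    have hφu : φ ⬝ᵥ u = a * (S.card : F) := by
      rw [hφ, LinearMap.smul_apply, LinearMap.sum_apply, smul_eq_mul]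
      simp only [hcu, Finset.sum_ite_mem, Finset.inter_self, Finset.sum_const, nsmul_eq_mul, mul_one]
    obtain ⟨g, hdet, hg⟩ := exists_update u φ (by rw [hφu]; exact hne)
    have hc : ∀ x i, c i ((g : Matrix (Fin n) (Fin n) F) *ᵥ x) =
        c i x + if i ∈ S then a * ∑ j ∈ S, c j x else 0 := fun x i => by
      rw [hg, map_add, map_smul, hcu, hφ, LinearMap.smul_apply, LinearMap.sum_apply]
      split <;> simp
    refine ⟨g, ⟨1, fun x y => ?_⟩, by rw [hdet, hφu], hc⟩
    have key : ∀ i, c i ((g : Matrix (Fin n) (Fin n) F) *ᵥ x) *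
        τ (c i ((g : Matrix (Fin n) (Fin n) F) *ᵥ y)) = c i x * τ (c i y) +
          if i ∈ S then a * (∑ j ∈ S, c j x) * τ (c i y) + c i x * (a * τ (∑ j ∈ S, c j y)) +
            a * (∑ j ∈ S, c j x) * (a * τ (∑ j ∈ S, c j y)) else 0 := fun i => by
      rw [hc, hc]
      by_cases hi : i ∈ S
      · simp only [if_pos hi, map_add, map_mul, hta]; ring
      · simp only [if_neg hi, add_zero]
    simp only [f, key, Finset.sum_add_distrib, Finset.sum_ite_mem, Finset.univ_inter, Units.val_one,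
      one_mul]
    have e : ∑ i ∈ S, a * (∑ j ∈ S, c j x) * τ (c i y) +
        ∑ i ∈ S, c i x * (a * τ (∑ j ∈ S, c j y)) +
        ∑ i ∈ S, a * (∑ j ∈ S, c j x) * (a * τ (∑ j ∈ S, c j y)) = 0 := by
      rw [← Finset.mul_sum, ← map_sum, ← Finset.sum_mul, Finset.sum_const, nsmul_eq_mul]
      linear_combination ((∑ j ∈ S, c j x) * τ (∑ j ∈ S, c j y)) * hsum
    linear_combination e
  let i0 : Fin t := ⟨0, by omega⟩
  let i1 : Fin t := ⟨1, by omega⟩
  let i2 : Fin t := ⟨2, by omega⟩
  let i3 : Fin t := ⟨3, by omega⟩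
  let i4 : Fin t := ⟨4, by omega⟩
  set S : Finset (Fin t) := {i0, i1, i2, i3} with hS
  have hScard : (S.card : F) = 4 := by
    have : S.card = 4 := by
      rw [hS, Finset.card_insert_of_notMem (by simp [i0, i1, i2, i3]),
        Finset.card_insert_of_notMem (by simp [i1, i2, i3]),
        Finset.card_insert_of_notMem (by simp [i2, i3]), Finset.card_singleton]
    rw [this]; norm_num
  have h5 : (1 : F) + 1 * 4 ≠ 0 := fun h => one_ne_zero (α := F) (by linear_combination h6 - h)
  obtain ⟨g₁, hg₁, hd₁, hc₁⟩ := hupd S 1 (map_one τ) (by rw [hScard]; linear_combination h6)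
    (by rw [hScard]; exact h5)
  obtain ⟨g₂, hg₂, hd₂, hc₂⟩ := hupd {i4} (-2) (by rw [map_neg, map_ofNat]) (by simp; ring)
    (by simp only [Finset.card_singleton, Nat.cast_one, mul_one]
        exact fun h => one_ne_zero (α := F) (by linear_combination -h))
  rw [hScard] at hd₁
  rw [Finset.card_singleton, Nat.cast_one, mul_one] at hd₂
  have hadd : ∀ x y v, f (x + y) v = f x v + f y v := fun x y v => by
    simp only [f, map_add, add_mul, Finset.sum_add_distrib]
  have hfne : f (b i0) (b i0) ≠ 0 := by simp [f, hcb]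
  refine exists_between (K := Cfsg.Geo.similarityGroup f ⊓ Cfsg.Geo.specialLinear (Fin n) F) ?_
    ⟨g₁ * g₂, ⟨mul_mem hg₁ hg₂, ?_⟩, fun h => ?_⟩ inf_le_right ?_
  · rintro g ⟨hg, hgS⟩
    refine ⟨⟨1, fun u v => ?_⟩, hgS⟩
    obtain ⟨σ, d, hd, hlin⟩ := exists_lines hD hg
    simp only [f, Units.val_one, one_mul]
    rw [← Equiv.sum_comp σ]
    refine Finset.sum_congr rfl fun i _ => ?_
    show coord hD _ (σ i) 0 * τ (coord hD _ (σ i) 0) = coord hD u i 0 * τ (coord hD v i 0)
    rw [hlin, hlin, map_mul]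
    linear_combination coord hD u i 0 * τ (coord hD v i 0) * hτ _ (hd i)
  · refine Aschbacher.mem_specialLinear.2 ?_
    rw [Units.val_mul, Matrix.det_mul, hd₁, hd₂]
    linear_combination -h6
  · obtain ⟨σ, hσ⟩ := h.1
    have hmem : ((g₁ * g₂ : GL (Fin n) F) : Matrix (Fin n) (Fin n) F) *ᵥ b i0 ∈ D (σ i0) :=
      (hσ i0).le ⟨b i0, blockBasis_mem hD i0 0, Matrix.toLin'_apply _ _⟩
    have hco : ∀ i ∈ S, i ≠ i0 →
        c i (((g₁ * g₂ : GL (Fin n) F) : Matrix (Fin n) (Fin n) F) *ᵥ b i0) = 1 := by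
      intro i hi hne
      have e2 : ∀ j, c j ((g₂ : Matrix (Fin n) (Fin n) F) *ᵥ b i0) = if j = i0 then 1 else 0 := by
        intro j
        rw [hc₂, Finset.sum_singleton, hcb, hcb]
        simp [i0, i4]
      rw [mulVec_mul_GL, hc₁, if_pos hi]
      simp only [e2, Finset.sum_ite_eq']
      rw [if_neg hne, if_pos (by simp [S]), zero_add, mul_one]
    have k1 : i1 = σ i0 := block_index hD hmem (k := 0)
      (by show c i1 _ ≠ 0; rw [hco i1 (by simp [S]) (by simp [i0, i1])]; exact one_ne_zero)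
    have k2 : i2 = σ i0 := block_index hD hmem (k := 0)
      (by show c i2 _ ≠ 0; rw [hco i2 (by simp [S]) (by simp [i0, i2])]; exact one_ne_zero)
    have := k1.trans k2.symm
    simp [i1, i2] at this
  · have hnot := not_SL_le_similarity (ι := Fin n) (by simp; omega) hadd hfne
    obtain ⟨g, hg, hg'⟩ := SetLike.not_le_iff_exists.1 hnot
    exact ⟨g, hg, fun h => hg' h.1⟩

/-- planes over the field with two elements -/
theorem planes_between (hn : 13 ≤ n) (hD : Cfsg.Geo.IsMDecomposition 2 D) (hq : Fintype.card F = 2) :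
    ∃ K : Subgroup (GL (Fin n) F),
      Cfsg.Geo.decompositionStabilizer D ⊓ Cfsg.Geo.specialLinear (Fin n) F < K ∧
        K < Cfsg.Geo.specialLinear (Fin n) F := by
  classical
  have ht : t * 2 = n := card_of_decomposition hD
  let c : Fin t → Fin 2 → (Fin n → F) →ₗ[F] F := fun i k =>
    { toFun := fun x => coord hD x i k
      map_add' := fun x y => coord_add hD x y i k
      map_smul' := fun a x => coord_smul hD a x i k }
  let f : (Fin n → F) → (Fin n → F) → F := fun x y =>
    ∑ i, (c i 0 x * c i 1 y - c i 1 x * c i 0 y)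
  have hcb : ∀ i k j l, c i k (blockBasis hD ⟨j, l⟩) = if i = j ∧ k = l then 1 else 0 :=
    fun i k j l => coord_basis hD i j k l
  let i0 : Fin t := ⟨0, by omega⟩
  let i1 : Fin t := ⟨1, by omega⟩
  set v := blockBasis hD ⟨i0, 0⟩ + blockBasis hD ⟨i1, 0⟩ with hv
  obtain ⟨φ, hφ⟩ := exists_row
    (∑ i, (c i 1 v • c i 0 - c i 0 v • c i 1))
  have hφx : ∀ x, φ ⬝ᵥ x = f x v := fun x => by
    rw [hφ, LinearMap.sum_apply]
    refine Finset.sum_congr rfl fun i _ => ?_
    simp only [LinearMap.sub_apply, LinearMap.smul_apply, smul_eq_mul]; ring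
  have hφv : φ ⬝ᵥ v = 0 := by
    rw [hφx]; exact Finset.sum_eq_zero fun i _ => by ring
  set g := trv v φ hφv with hg
  have hg' : g ∈ Cfsg.Geo.similarityGroup f := by
    refine ⟨1, fun x y => ?_⟩
    rw [Units.val_one, one_mul, hg, trv_mulVec, trv_mulVec, hφx, hφx]
    have e : ∀ (a a' : F) (x y : Fin n → F), f (x + a • v) (y + a' • v) =
        f x y + (a' * f x v - a * f y v) := fun a a' x y => by
      simp only [f, map_add, map_smul, smul_eq_mul, Finset.mul_sum, ← Finset.sum_sub_distrib,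
        ← Finset.sum_add_distrib]
      exact Finset.sum_congr rfl fun i _ => by ring
    rw [e]; ring
  refine exists_between (K := Cfsg.Geo.similarityGroup f ⊓ Cfsg.Geo.specialLinear (Fin n) F) ?_
    ⟨g, ⟨hg', trv_mem_SL _ _ _⟩, fun h => ?_⟩ inf_le_right ?_
  · rintro x ⟨hx, hxS⟩
    refine ⟨⟨1, fun u w => ?_⟩, hxS⟩
    obtain ⟨σ, A, hA, hlin⟩ := exists_blocks hD hx
    have hdet : ∀ i, (A i).det = 1 := fun i => by
      simpa [hq] using FiniteField.pow_card_sub_one_eq_one _ (hA i)
    simp only [f, Units.val_one, one_mul]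
    rw [← Equiv.sum_comp σ]
    refine Finset.sum_congr rfl fun i _ => ?_
    have h1 := hdet i
    rw [Matrix.det_fin_two] at h1
    show coord hD _ (σ i) 0 * coord hD _ (σ i) 1 - coord hD _ (σ i) 1 * coord hD _ (σ i) 0 =
      coord hD u i 0 * coord hD w i 1 - coord hD u i 1 * coord hD w i 0
    simp only [hlin, Fin.sum_univ_two]
    linear_combination (coord hD u i 0 * coord hD w i 1 - coord hD u i 1 * coord hD w i 0) * h1
  · obtain ⟨σ, hσ⟩ := h.1
    set y := blockBasis hD ⟨i0, 1⟩ with hy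
    have hmem : (g : Matrix (Fin n) (Fin n) F) *ᵥ y ∈ D (σ i0) :=
      (hσ i0).le ⟨y, blockBasis_mem hD i0 1, Matrix.toLin'_apply _ _⟩
    have hfy : f y v = -1 := by
      simp only [f]
      rw [Finset.sum_eq_single i0]
      · simp [hy, hv, map_add, hcb, i0, i1]
      · intro j _ hj; simp [hy, hcb, hj]
      · simp
    rw [hg, trv_mulVec, hφx, hfy] at hmem
    have k0 : i0 = σ i0 := block_index hD hmem (k := 1) (by
      show c i0 1 _ ≠ 0
      simp [map_add, map_smul, hy, hv, hcb])
    have k1 : i1 = σ i0 := block_index hD hmem (k := 0) (by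
      show c i1 0 _ ≠ 0
      simp [map_add, map_smul, hy, hv, hcb, i0, i1])
    have := k0.trans k1.symm
    simp [i0, i1] at this
  · have hne : f (blockBasis hD ⟨i0, 0⟩) (blockBasis hD ⟨i0, 1⟩) ≠ 0 := by
      simp only [f]
      rw [Finset.sum_eq_single i0]
      · simp [hcb]
      · intro j _ hj; simp [hcb, hj]
      · simp
    have hnot := not_SL_le_similarity (ι := Fin n) (by simp; omega)
      (f := f) (fun x y w => by
        simp only [f, map_add, ← Finset.sum_add_distrib]
        exact Finset.sum_congr rfl fun i _ => by ring) hne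
    obtain ⟨g', hg1, hg2⟩ := SetLike.not_le_iff_exists.1 hnot
    exact ⟨g', hg1, fun h => hg2 h.1⟩

end Cfsg.Agent.Forms.Max.LinearBlocks
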