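import Mathlib
import Cfsg.Agent.Lib.Forms.Max.Linear

/-!
# Monomial groups are maximal in the special linear group

At least five field elements and dimension at least six.  A non-monomial element is turned into one fixing two
coordinate lines (stabilisers of a column inside the monomial group); such an element is either triangular enough
to give a transvection, or a block element, and block elements give transvections through rank one updates.
-/

set_option autoImplicit false
set_option linter.unusedSectionVars false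

namespace Cfsg.Agent.Forms.Max.LinearMono

open Matrix Cfsg.Agent.Forms.Max

variable {ι : Type} [Fintype ι] [DecidableEq ι] {F : Type*} [Field F]

/-- coordinate vectors -/
abbrev E (F : Type*) [Field F] {ι : Type} [DecidableEq ι] (j : ι) : ι → F := Pi.single j (1 : F)

theorem E_self (c : ι) : E F c c = 1 := Pi.single_eq_same _ _

theorem E_ne {c k : ι} (h : k ≠ c) : E F c k = 0 := Pi.single_eq_of_ne h _

theorem col_apply (g : GL ι F) (i j : ι) :
    ((g : Matrix ι ι F) *ᵥ E F j) i = (g : Matrix ι ι F) i j := by simp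

theorem row_apply (g : GL ι F) (i j : ι) :
    (E F i ᵥ* (g : Matrix ι ι F)) j = (g : Matrix ι ι F) i j := by simp

/-- each column has one entry -/
def Mono (g : GL ι F) : Prop := ∀ j, ∃ i, ∀ k, k ≠ i → (g : Matrix ι ι F) k j = 0

/-- a fixed coordinate line -/
def Fx (g : GL ι F) (a : ι) : Prop := ∃ κ : F, (g : Matrix ι ι F) *ᵥ E F a = κ • E F a

theorem Fx.entry {g : GL ι F} {a : ι} (h : Fx g a) {k : ι} (hk : k ≠ a) : (g : Matrix ι ι F) k a = 0 := by
  obtain ⟨κ, hκ⟩ := h
  rw [← col_apply, hκ]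
  simp [hk]

theorem Fx.ne_zero {g : GL ι F} {a : ι} (h : Fx g a) : (g : Matrix ι ι F) a a ≠ 0 := by
  intro h0
  refine mulVec_ne_zero g (x := E F a) (by simp) (funext fun k => ?_)
  rw [col_apply]
  by_cases hk : k = a
  · rw [hk, h0]; rfl
  · exact h.entry hk

theorem fx_of_entries {g : GL ι F} {a : ι} (h : ∀ k, k ≠ a → (g : Matrix ι ι F) k a = 0) : Fx g a :=
  ⟨(g : Matrix ι ι F) a a, funext fun k => by
    rw [col_apply]
    by_cases hk : k = a <;> simp [hk, h k]⟩

theorem Fx.mul {g h : GL ι F} {a : ι} (hg : Fx g a) (hh : Fx h a) : Fx (g * h) a := by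
  obtain ⟨κ, hκ⟩ := hg
  obtain ⟨κ', hκ'⟩ := hh
  exact ⟨κ' * κ, by rw [mulVec_mul_GL, hκ', mulVec_smul, hκ, smul_smul]⟩

theorem Fx.inv {g : GL ι F} {a : ι} (hg : Fx g a) : Fx g⁻¹ a := by
  obtain ⟨κ, hκ⟩ := hg
  refine ⟨κ⁻¹, mulVec_inj g ?_⟩
  have hκ0 : κ ≠ 0 := fun e => mulVec_ne_zero g (x := E F a) (by simp) (by rw [hκ, e, zero_smul])
  rw [mulVec_inv_cancel, mulVec_smul, hκ, smul_smul, inv_mul_cancel₀ hκ0, one_smul]

/-- a monomial matrix -/
noncomputable def mon (σ : Equiv.Perm ι) (s : ι → Fˣ) : GL ι F :=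
  Matrix.GeneralLinearGroup.mkOfDetNeZero ((σ⁻¹ : Equiv.Perm ι).permMatrix F * Matrix.diagonal fun j => (s j : F))
    (by rw [det_mul, det_permutation, det_diagonal]
        exact mul_ne_zero (by rcases Int.units_eq_one_or (Equiv.Perm.sign (σ⁻¹ : Equiv.Perm ι)) with h | h <;> simp [h])
          (Finset.prod_ne_zero_iff.2 fun j _ => (s j).ne_zero))

theorem mon_apply (σ : Equiv.Perm ι) (s : ι → Fˣ) (i j : ι) :
    (mon σ s : Matrix ι ι F) i j = if i = σ j then (s j : F) else 0 := by
  show ((σ⁻¹ : Equiv.Perm ι).permMatrix F * Matrix.diagonal fun j => (s j : F)) i j = _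
  rw [mul_diagonal, Equiv.Perm.permMatrix, PEquiv.toMatrix_apply]
  simp [Equiv.Perm.inv_def, Equiv.symm_apply_eq]

theorem mon_mulVec (σ : Equiv.Perm ι) (s : ι → Fˣ) (x : ι → F) (j : ι) :
    ((mon σ s : Matrix ι ι F) *ᵥ x) (σ j) = (s j : F) * x j := by
  simp [mulVec, dotProduct, mon_apply, σ.injective.eq_iff]

theorem mon_vecMul (σ : Equiv.Perm ι) (s : ι → Fˣ) (x : ι → F) (j : ι) :
    (x ᵥ* (mon σ s : Matrix ι ι F)) j = x (σ j) * (s j : F) := by
  simp [vecMul, dotProduct, mon_apply]

theorem mon_mono (σ : Equiv.Perm ι) (s : ι → Fˣ) : Mono (mon σ s) := fun j =>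
  ⟨σ j, fun k hk => by rw [mon_apply, if_neg hk]⟩

theorem mon_fx (σ : Equiv.Perm ι) (s : ι → Fˣ) {a : ι} (h : σ a = a) : Fx (mon σ s) a :=
  fx_of_entries fun k hk => by rw [mon_apply, h, if_neg hk]

theorem mon_det (σ : Equiv.Perm ι) (s : ι → Fˣ) :
    (mon σ s : Matrix ι ι F).det = ((Equiv.Perm.sign σ : ℤˣ) : ℤ) * ∏ j, (s j : F) := by
  show ((σ⁻¹ : Equiv.Perm ι).permMatrix F * Matrix.diagonal fun j => (s j : F)).det = _
  rw [det_mul, det_permutation, det_diagonal, Equiv.Perm.sign_inv]

/-- the facts used about a subgroup above the monomial one -/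
def AboveMono (M : Subgroup (GL ι F)) : Prop :=
  ∀ g ∈ Cfsg.Geo.specialLinear ι F, Mono g → g ∈ M

/-- an elementary transvection occurs -/
def HasTrv (M : Subgroup (GL ι F)) : Prop :=
  ∃ i j : ι, ∃ c : F, i ≠ j ∧ c ≠ 0 ∧ ∃ g ∈ M, (g : Matrix ι ι F) = 1 + Matrix.single i j c

variable {M : Subgroup (GL ι F)} (hN : AboveMono M)

include hN

theorem mon_mem {σ : Equiv.Perm ι} {s : ι → Fˣ}
    (h : ((Equiv.Perm.sign σ : ℤˣ) : ℤ) * ∏ j, (s j : F) = 1) : mon σ s ∈ M :=
  hN _ (Aschbacher.mem_specialLinear.2 (by rw [mon_det]; exact h)) (mon_mono σ s)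

omit hN in
theorem prod_two {u v : ι} (huv : u ≠ v) (a b : Fˣ) :
    ∏ j, ((if j = u then a else if j = v then b else 1 : Fˣ) : F) = (a : F) * b := by
  rw [Finset.prod_eq_mul u v huv]
  · simp [huv.symm]
  · rintro c - ⟨h1, h2⟩
    simp [h1, h2]
  · simp
  · simp

omit hN in
/-- `λ` at `u` and its inverse at `v` -/
noncomputable def dd (u v : ι) (l : Fˣ) : GL ι F := mon 1 fun j => if j = u then l else if j = v then l⁻¹ else 1

omit hN in
theorem dd_fx (u v : ι) (l : Fˣ) (a : ι) : Fx (dd u v l) a := mon_fx _ _ rfl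

omit hN in
theorem dd_mulVec (u v : ι) (l : Fˣ) (x : ι → F) (j : ι) :
    ((dd u v l : Matrix ι ι F) *ᵥ x) j = (if j = u then (l : F) else if j = v then ((l⁻¹ : Fˣ) : F) else 1) * x j := by
  have := mon_mulVec 1 (fun j => if j = u then l else if j = v then l⁻¹ else 1) x j
  rw [Equiv.Perm.one_apply] at this
  rw [dd, this]
  split_ifs <;> simp

theorem dd_mem {u v : ι} (huv : u ≠ v) (l : Fˣ) : dd u v l ∈ M :=
  mon_mem hN (by rw [prod_two huv]; simp)

theorem exists_swap {u i w : ι} (hu : w ≠ u) (hi : w ≠ i) :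
    ∃ m ∈ M, Mono m ∧ (m : Matrix ι ι F) *ᵥ E F u = E F i ∧ ∀ x, x ≠ u → x ≠ i → Fx m x := by
  by_cases hui : u = i
  · exact ⟨1, one_mem M, fun j => ⟨j, fun k hk => by simp [Matrix.one_apply, hk]⟩, by rw [Units.val_one, one_mulVec, hui],
      fun x _ _ => ⟨1, by rw [Units.val_one, one_mulVec, one_smul]⟩⟩
  refine ⟨mon (Equiv.swap u i) (fun j => if j = w then -1 else 1), mon_mem hN ?_, mon_mono _ _, ?_,
    fun x h1 h2 => mon_fx _ _ (Equiv.swap_apply_of_ne_of_ne h1 h2)⟩
  · rw [Equiv.Perm.sign_swap hui, Finset.prod_eq_single w (fun b _ hb => by simp [hb]) (by simp)]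
    simp
  · ext k
    rw [col_apply, mon_apply, Equiv.swap_apply_left, if_neg (Ne.symm hu)]
    simp [Pi.single_apply]

/-- separation of the entries by the torus -/
theorem sparse (hn : 5 ≤ Fintype.card ι) {a b : ι} (hq : ∃ l : Fˣ, l ≠ 1) :
    ∀ N : ℕ, ∀ Z : Matrix ι ι F, Set.ncard {p : ι × ι | Z p.1 p.2 ≠ 0} = N → Z ≠ 0 →
      (∀ i j, Z i j ≠ 0 → (i = a ∨ i = b) ∧ j ≠ a ∧ j ≠ b) → (∃ y ∈ M, (y : Matrix ι ι F) = 1 + Z) → HasTrv M := by
  intro N
  induction N using Nat.strong_induction_on with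
  | _ N ih =>
    intro Z hN' hZ hsup ⟨y, hy, hyZ⟩
    obtain ⟨i, j, hij⟩ : ∃ i j, Z i j ≠ 0 := by
      by_contra hc
      push Not at hc
      exact hZ (Matrix.ext hc)
    by_cases h1 : ∀ k l, Z k l ≠ 0 → k = i ∧ l = j
    · refine ⟨i, j, Z i j, fun e => ?_, hij, y, hy, ?_⟩
      · obtain ⟨h1, h2, h3⟩ := hsup i j hij
        rcases h1 with rfl | rfl
        · exact h2 e.symm
        · exact h3 e.symm
      · rw [hyZ]
        congr 1
        ext k l
        by_cases hkl : k = i ∧ l = j
        · obtain ⟨rfl, rfl⟩ := hkl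
          simp
        · rw [Matrix.single_apply, if_neg (fun e => hkl ⟨e.1.symm, e.2.symm⟩)]
          by_contra hne
          exact hkl (h1 k l hne)
    push Not at h1
    obtain ⟨k, l, hkl, hne⟩ := h1
    obtain ⟨z, hz⟩ : ∃ z, z ∉ ({i, j, k, l} : Finset ι) := by
      by_contra hc
      push Not at hc
      have h4 := Finset.card_le_card (show (Finset.univ : Finset ι) ⊆ {i, j, k, l} from fun x _ => hc x)
      have h5 := h4.trans Finset.card_le_four
      rw [Finset.card_univ] at h5
      omega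
    simp only [Finset.mem_insert, Finset.mem_singleton, not_or] at hz
    obtain ⟨hzi, hzj, hzk, hzl⟩ := hz
    obtain ⟨l₀, hl₀⟩ := hq
    have hl1 : (l₀ : F) ≠ 1 := fun e => hl₀ (Units.ext e)
    obtain ⟨hi', hja, hjb⟩ := hsup i j hij
    obtain ⟨hk', hla, hlb⟩ := hsup k l hkl
    have hij' : i ≠ j := by rintro rfl; rcases hi' with e | e <;> [exact hja e; exact hjb e]
    -- a point moved at the first position only
    obtain ⟨x, hx1, hx2, hxk, hxl⟩ : ∃ x, (x = i ∨ x = j) ∧ z ≠ x ∧ k ≠ x ∧ l ≠ x := by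
      by_cases hik : k = i
      · refine ⟨j, Or.inr rfl, hzj, by rw [hik]; exact hij', fun e => hne hik e⟩
      · refine ⟨i, Or.inl rfl, hzi, hik, fun e => ?_⟩
        rcases hi' with e' | e'
        · exact hla (e.trans e')
        · exact hlb (e.trans e')
    set sc : ι → F := fun m => if m = x then (l₀ : F) else if m = z then ((l₀⁻¹ : Fˣ) : F) else 1 with hsc
    have hd := dd_mem hN hx2.symm l₀
    have hsc0 : ∀ m, sc m ≠ 0 := fun m => by
      simp only [hsc]
      split_ifs <;> simp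
    set Z' : Matrix ι ι F := Matrix.of fun p r => (sc p * (sc r)⁻¹ - 1) * Z p r with hZ'
    have hsupp : ∀ p r, Z' p r ≠ 0 → Z p r ≠ 0 := fun p r h h0 => h (by simp [hZ', h0])
    have hconj : ((dd x z l₀ * y * (dd x z l₀)⁻¹ * y⁻¹ : GL ι F) : Matrix ι ι F) = 1 + Z' := by
      have hZZ : ∀ A B' : Matrix ι ι F, (∀ p r, A p r ≠ 0 → Z p r ≠ 0) → (∀ p r, B' p r ≠ 0 → Z p r ≠ 0) →
          A * B' = 0 := by
        intro A B' hA hB
        ext p r
        rw [Matrix.mul_apply]
        refine Finset.sum_eq_zero fun m _ => ?_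
        by_contra hm
        obtain ⟨-, hma, hmb⟩ := hsup p m (hA p m (left_ne_zero_of_mul hm))
        rcases (hsup m r (hB m r (right_ne_zero_of_mul hm))).1 with e | e
        · exact hma e
        · exact hmb e
      have hinv : ((y⁻¹ : GL ι F) : Matrix ι ι F) = 1 - Z := by
        have h0 : (y : Matrix ι ι F) * (1 - Z) = 1 := by
          rw [hyZ, add_mul, one_mul, mul_sub, mul_one, hZZ Z Z (fun _ _ h => h) (fun _ _ h => h)]
          abel
        rw [Matrix.coe_units_inv]
        exact Matrix.inv_eq_right_inv h0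
      have hddM : (dd x z l₀ : Matrix ι ι F) = Matrix.diagonal sc := by
        ext p r
        rw [dd, mon_apply, Equiv.Perm.one_apply, Matrix.diagonal_apply]
        by_cases hpr : p = r
        · subst hpr
          simp only [hsc, if_true]
          split_ifs <;> simp
        · simp [hpr]
      have hddI : (((dd x z l₀)⁻¹ : GL ι F) : Matrix ι ι F) = Matrix.diagonal fun p => (sc p)⁻¹ := by
        rw [Matrix.coe_units_inv, hddM]
        exact Matrix.inv_eq_right_inv (by
          rw [Matrix.diagonal_mul_diagonal, ← Matrix.diagonal_one]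
          exact congrArg _ (funext fun p => mul_inv_cancel₀ (hsc0 p)))
      rw [Units.val_mul, Units.val_mul, Units.val_mul, hinv, hddI, hddM, hyZ, mul_add, mul_one, add_mul,
        Matrix.diagonal_mul_diagonal, show (fun p => sc p * (sc p)⁻¹) = fun _ => (1 : F) from
          funext fun p => mul_inv_cancel₀ (hsc0 p), Matrix.diagonal_one]
      have e1 : Matrix.diagonal sc * Z * Matrix.diagonal (fun p => (sc p)⁻¹) = Z' + Z := by
        ext p r
        rw [Matrix.mul_diagonal, Matrix.diagonal_mul]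
        simp [hZ']
        ring
      rw [e1, add_mul, one_mul, mul_sub, mul_one, add_mul, hZZ Z' Z hsupp (fun _ _ h => h),
        hZZ Z Z (fun _ _ h => h) (fun _ _ h => h)]
      abel
    have hsck : sc k = 1 ∨ k = z := by
      by_cases hkz : k = z
      · exact Or.inr hkz
      · left; simp [hsc, hxk, hkz]
    have hk0 : Z' k l = 0 := by
      simp [hZ', hsc, hxk, hxl, Ne.symm hzk, Ne.symm hzl]
    have hi0 : Z' i j ≠ 0 := by
      refine mul_ne_zero (sub_ne_zero.2 ?_) hij
      rcases hx1 with rfl | rfl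
      · simp [hsc, hij'.symm, Ne.symm hzj, hl1]
      · simp only [hsc, if_neg hij', if_neg (Ne.symm hzi), if_true, one_mul]
        exact fun e => hl1 (inv_eq_one.1 e)
    refine ih _ ?_ Z' rfl (fun e => hi0 (by rw [e]; rfl)) (fun p r h => hsup p r (hsupp p r h))
      ⟨_, mul_mem (mul_mem (mul_mem hd hy) (inv_mem hd)) (inv_mem hy), hconj⟩
    rw [← hN']
    refine Set.ncard_lt_ncard ⟨fun p hp => hsupp _ _ hp, fun hsub => ?_⟩ (Set.toFinite _)
    exact (hsub (show (k, l) ∈ {p : ι × ι | Z p.1 p.2 ≠ 0} from hkl)) hk0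

/-- an element fixing two lines with a further entry in one of the two rows -/
theorem off_row (hn : 5 ≤ Fintype.card ι) (hq : ∃ l : Fˣ, l ≠ 1) {h : GL ι F} (hh : h ∈ M) {a b : ι} (hab : a ≠ b)
    (ha : Fx h a) (hb : Fx h b) {k : ι} (hk : k ≠ a) (hne : (h : Matrix ι ι F) a k ≠ 0) : HasTrv M := by
  obtain ⟨z, hza, hzb⟩ : ∃ z, z ≠ a ∧ z ≠ b := by
    by_contra hc
    push Not at hc
    have h4 := Finset.card_le_card (show (Finset.univ : Finset ι) ⊆ {a, b} from fun x _ => by
      by_cases hx : x = a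
      · simp [hx]
      · simp [hc x hx])
    have h5 := h4.trans Finset.card_le_two
    rw [Finset.card_univ] at h5
    omega
  set A := Units.mk0 _ ha.ne_zero
  set B' := Units.mk0 _ hb.ne_zero
  set sc : ι → Fˣ := fun j => if j = a then A⁻¹ else if j = b then B'⁻¹ else if j = z then A * B' else 1
  have ht : mon 1 sc ∈ M := mon_mem hN (by
    rw [← Finset.prod_subset (Finset.subset_univ ({a, b, z} : Finset ι)) (fun x _ hx => by
      simp only [Finset.mem_insert, Finset.mem_singleton, not_or] at hx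
      simp [sc, hx.1, hx.2.1, hx.2.2]), Finset.prod_insert (by simp [hab, hza.symm]),
      Finset.prod_insert (by simp [hzb.symm]), Finset.prod_singleton]
    simp [sc, hab.symm, hza, hzb, A, B']
    field_simp [ha.ne_zero, hb.ne_zero])
  set h' := mon 1 sc * h
  have hh' : h' ∈ M := mul_mem ht hh
  have hentry : ∀ p r, (h' : Matrix ι ι F) p r = (sc p : F) * (h : Matrix ι ι F) p r := by
    intro p r
    show ((mon 1 sc : GL ι F) * h : GL ι F).1 p r = _
    rw [Units.val_mul, Matrix.mul_apply, Finset.sum_eq_single p (fun q _ hq => by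
      rw [mon_apply, Equiv.Perm.one_apply, if_neg (Ne.symm hq), zero_mul]) (by simp), mon_apply]
    simp
  have hcol : ∀ c ∈ ({a, b} : Finset ι), (h' : Matrix ι ι F) *ᵥ E F c = E F c := by
    intro c hc
    ext p
    rw [col_apply, hentry]
    simp only [Finset.mem_insert, Finset.mem_singleton] at hc
    by_cases hp : p = c
    · subst hp
      rcases hc with rfl | rfl <;> simp [sc, hab.symm, A, B', ha.ne_zero, hb.ne_zero]
    · rcases hc with rfl | rfl
      · simp [ha.entry hp, hp]
      · simp [hb.entry hp, hp]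
  have hcola := hcol a (by simp)
  have hcolb := hcol b (by simp)
  obtain ⟨l₀, hl₀⟩ := id hq
  set e := dd a b l₀
  have he : e ∈ M := dd_mem hN hab l₀
  set y := e * h' * e⁻¹ * h'⁻¹
  have hym : y ∈ M := mul_mem (mul_mem (mul_mem he hh') (inv_mem he)) (inv_mem hh')
  set Z : Matrix ι ι F := (y : Matrix ι ι F) - 1
  have hfix : ∀ c ∈ ({a, b} : Finset ι), (y : Matrix ι ι F) *ᵥ E F c = E F c := by
    intro c hc
    have h1 : ((h'⁻¹ : GL ι F) : Matrix ι ι F) *ᵥ E F c = E F c := by
      conv_lhs => rw [← hcol c hc]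
      exact inv_mulVec_cancel _ _
    obtain ⟨κ, hκ⟩ := (dd_fx a b l₀ c).inv
    show ((e * h' * e⁻¹ * h'⁻¹ : GL ι F) : Matrix ι ι F) *ᵥ E F c = _
    rw [mulVec_mul_GL, h1, mulVec_mul_GL, mulVec_mul_GL, hκ, mulVec_smul, hcol c hc, ← hκ, mulVec_inv_cancel]
  have hrow : ∀ p, p ≠ a → p ≠ b → ∀ x, ((y : Matrix ι ι F) *ᵥ x) p = x p := by
    intro p hpa hpb x
    show (((e * h' * e⁻¹ * h'⁻¹ : GL ι F) : Matrix ι ι F) *ᵥ x) p = _
    set x' := ((h'⁻¹ : GL ι F) : Matrix ι ι F) *ᵥ x
    rw [mulVec_mul_GL, mulVec_mul_GL, mulVec_mul_GL, dd_mulVec, if_neg hpa, if_neg hpb, one_mul]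
    have hx : (h' : Matrix ι ι F) *ᵥ x' = x := mulVec_inv_cancel _ _
    conv_rhs => rw [← hx]
    set x'' := ((e⁻¹ : GL ι F) : Matrix ι ι F) *ᵥ x'
    have e2 : ∀ r, r ≠ a → r ≠ b → x'' r = x' r := by
      intro r hra hrb
      have h3 : (e : Matrix ι ι F) *ᵥ x'' = x' := mulVec_inv_cancel _ _
      have h4 := congrFun h3 r
      rw [dd_mulVec, if_neg hra, if_neg hrb, one_mul] at h4
      exact h4
    simp only [mulVec, dotProduct]
    refine Finset.sum_congr rfl fun r _ => ?_
    by_cases hra : r = a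
    · subst hra
      rw [← col_apply h', hcola]
      simp [hpa]
    by_cases hrb : r = b
    · subst hrb
      rw [← col_apply h', hcolb]
      simp [hpb]
    rw [e2 r hra hrb]
  refine sparse hN (a := a) (b := b) hn hq _ Z rfl ?_ ?_ ⟨y, hym, by simp [Z]⟩
  · intro hZ
    have hy1 : y = 1 := Units.ext (sub_eq_zero.1 hZ)
    have hcomm : e * h' = h' * e := by
      have : e * h' * e⁻¹ = h' := by rw [← mul_inv_eq_one]; exact hy1
      exact mul_inv_eq_iff_eq_mul.1 this
    have hkb : k ≠ b := fun e' => hne (e' ▸ hb.entry hab)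
    have h1 : ((e : Matrix ι ι F) *ᵥ ((h' : Matrix ι ι F) *ᵥ E F k)) a =
        ((h' : Matrix ι ι F) *ᵥ ((e : Matrix ι ι F) *ᵥ E F k)) a := by
      rw [← mulVec_mul_GL, ← mulVec_mul_GL, hcomm]
    rw [dd_mulVec, if_pos rfl, col_apply,
      show (e : Matrix ι ι F) *ᵥ E F k = E F k from funext fun r => by
        rw [dd_mulVec]; by_cases hr : r = k <;> simp [hr, hk, hkb],
      col_apply, hentry] at h1
    have hsa : (sc a : F) ≠ 0 := (sc a).ne_zero
    exact hl₀ (Units.ext ((mul_eq_right₀ (mul_ne_zero hsa hne)).1 h1))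
  · intro p r hpr
    refine ⟨?_, ?_, ?_⟩
    · by_contra hc
      push Not at hc
      apply hpr
      have := hrow p hc.1 hc.2 (E F r)
      rw [col_apply] at this
      simp [Z, Matrix.sub_apply, Matrix.one_apply, this, Pi.single_apply]
    · rintro rfl
      apply hpr
      have := congrFun (hfix r (by simp)) p
      rw [col_apply] at this
      simp [Z, Matrix.sub_apply, Matrix.one_apply, this, Pi.single_apply]
    · rintro rfl
      apply hpr
      have := congrFun (hfix r (by simp)) p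
      rw [col_apply] at this
      simp [Z, Matrix.sub_apply, Matrix.one_apply, this, Pi.single_apply]

/-- two-sided fixed lines -/
def Blk (w : GL ι F) (a : ι) : Prop := Fx w a ∧ ∀ k, k ≠ a → (w : Matrix ι ι F) a k = 0

/-- the invariance of the row belonging to a column -/
theorem row_fixed (hn : 5 ≤ Fintype.card ι) (hq : ∃ l : Fˣ, l ≠ 1) (hno : ¬ HasTrv M) {w : GL ι F} (hw : w ∈ M)
    {a c : ι} (hca : c ≠ a) (hwa : Fx w a) {m : GL ι F} (hm : m ∈ M) (hma : Fx m a)
    (hmp : (m : Matrix ι ι F) *ᵥ ((w : Matrix ι ι F) *ᵥ E F c) = (w : Matrix ι ι F) *ᵥ E F c) :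
    (E F c ᵥ* ((w⁻¹ : GL ι F) : Matrix ι ι F)) ᵥ* (m : Matrix ι ι F) = E F c ᵥ* ((w⁻¹ : GL ι F) : Matrix ι ι F) := by
  set y := w⁻¹ * m * w
  have hyc : (y : Matrix ι ι F) *ᵥ E F c = E F c := by
    show ((w⁻¹ * m * w : GL ι F) : Matrix ι ι F) *ᵥ E F c = _
    rw [mulVec_mul_GL, mulVec_mul_GL, hmp, inv_mulVec_cancel]
  have hya : Fx y a := (hwa.inv.mul hma).mul hwa
  have hrow : E F c ᵥ* (y : Matrix ι ι F) = E F c := by
    ext k
    rw [row_apply]
    by_cases hk : k = c
    · subst hk
      rw [← col_apply, hyc]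
    · rw [E_ne hk]
      by_contra hne
      exact hno (off_row hN hn hq (mul_mem (mul_mem (inv_mem hw) hm) hw) hca ⟨1, by rw [hyc, one_smul]⟩ hya hk hne)
  have := congrArg (fun x => x ᵥ* ((w⁻¹ : GL ι F) : Matrix ι ι F)) hrow
  simp only [y, Units.val_mul] at this
  rw [← vecMul_vecMul, ← vecMul_vecMul, vecMul_vecMul _ (w : Matrix ι ι F), ← Units.val_mul, mul_inv_cancel,
    Units.val_one, vecMul_one] at this
  exact this

variable [Fintype F]

/-- block elements -/
theorem block_trv (hn : 5 ≤ Fintype.card ι) (hF : 5 ≤ Fintype.card F) {h : GL ι F} (hh : h ∈ M) {a b : ι}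
    (hab : a ≠ b) (ha : Blk h a) (hb : Blk h b) (hmono : ¬ Mono h) : HasTrv M := by
  classical
  by_contra hno
  have hq : ∃ l : Fˣ, l ≠ 1 := by
    have : 1 < Fintype.card Fˣ := by rw [Fintype.card_units]; omega
    exact Fintype.exists_ne_of_one_lt_card this 1
  simp only [Mono, not_forall, not_exists] at hmono
  obtain ⟨c, hc⟩ := hmono
  have hca : c ≠ a := by rintro rfl; obtain ⟨k, hk, hne⟩ := hc c; exact hne (ha.1.entry hk)
  have hcb : c ≠ b := by rintro rfl; obtain ⟨k, hk, hne⟩ := hc c; exact hne (hb.1.entry hk)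
  set p := (h : Matrix ι ι F) *ᵥ E F c with hp
  set q := E F c ᵥ* ((h⁻¹ : GL ι F) : Matrix ι ι F) with hqd
  have hpa : p a = 0 := by rw [hp, col_apply]; exact ha.2 c hca
  have hpb : p b = 0 := by rw [hp, col_apply]; exact hb.2 c hcb
  have hqp : q ⬝ᵥ p = 1 := by
    rw [hqd, hp, ← dotProduct_mulVec, inv_mulVec_cancel]
    simp
  have hqa : q a = 0 := by
    rw [hqd, row_apply]
    exact ha.1.inv.entry hca
  have fixq := fun {m : GL ι F} (hm : m ∈ M) (hma : Fx m a) (hmp : (m : Matrix ι ι F) *ᵥ p = p) =>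
    row_fixed hN hn hq hno hh hca ha.1 hm hma hmp
  -- the row vanishes outside the support
  have hout : ∀ i, p i = 0 → q i = 0 := by
    intro i hi
    by_cases hia : i = a
    · rw [hia, hqa]
    obtain ⟨l, hl⟩ := hq
    have h1 := fixq (dd_mem hN hia l) (dd_fx _ _ _ _) (funext fun j => by
      rw [dd_mulVec]
      split_ifs with h1 h2
      · rw [h1, hi, mul_zero]
      · rw [h2, hpa, mul_zero]
      · rw [one_mul])
    have h2 := congrFun h1 i
    rw [dd, mon_vecMul] at h2
    simp only [Equiv.Perm.one_apply, if_true, ← hqd] at h2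
    by_contra h0
    exact hl (Units.ext ((mul_eq_left₀ h0).1 h2))
  -- the products are equal on the support
  have hflat : ∀ {w : GL ι F}, w ∈ M → Fx w a → ∀ i j, i ≠ j →
      ((w : Matrix ι ι F) *ᵥ E F c) a = 0 → ((w : Matrix ι ι F) *ᵥ E F c) i ≠ 0 → ((w : Matrix ι ι F) *ᵥ E F c) j ≠ 0 →
      ((w : Matrix ι ι F) *ᵥ E F c) i * (E F c ᵥ* ((w⁻¹ : GL ι F) : Matrix ι ι F)) i =
        ((w : Matrix ι ι F) *ᵥ E F c) j * (E F c ᵥ* ((w⁻¹ : GL ι F) : Matrix ι ι F)) j := by
    intro w hw hwa i j hij hp0 hi hj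
    set p := (w : Matrix ι ι F) *ᵥ E F c
    set q := E F c ᵥ* ((w⁻¹ : GL ι F) : Matrix ι ι F)
    have hia : i ≠ a := fun e => hi (e ▸ hp0)
    have hja : j ≠ a := fun e => hj (e ▸ hp0)
    set s : ι → Fˣ := fun x => if x = i then Units.mk0 (p j / p i) (div_ne_zero hj hi)
      else if x = j then Units.mk0 (p i / p j) (div_ne_zero hi hj) else if x = a then -1 else 1
    have hm : mon (Equiv.swap i j) s ∈ M := mon_mem hN (by
      rw [Equiv.Perm.sign_swap hij, ← Finset.prod_subset (Finset.subset_univ ({i, j, a} : Finset ι)) (fun x _ hx => by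
        simp only [Finset.mem_insert, Finset.mem_singleton, not_or] at hx
        simp [s, hx.1, hx.2.1, hx.2.2]), Finset.prod_insert (by simp [hij, hia]),
        Finset.prod_insert (by simp [hja]), Finset.prod_singleton]
      simp [s, hij.symm, hia.symm, hja.symm]
      field_simp)
    have hmp : (mon (Equiv.swap i j) s : Matrix ι ι F) *ᵥ p = p := funext fun x => by
      obtain ⟨x, rfl⟩ := (Equiv.swap i j).surjective x
      rw [mon_mulVec]
      by_cases hxi : x = i
      · subst hxi; simp [s]; field_simp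
      by_cases hxj : x = j
      · subst hxj; simp [s, hxi]; field_simp
      rw [Equiv.swap_apply_of_ne_of_ne hxi hxj]
      by_cases hxa : x = a
      · simp [s, hxa, hp0]
      · simp [s, hxi, hxj, hxa]
    have h1 := congrFun (row_fixed hN hn hq hno hw hca hwa hm
      (mon_fx _ _ (Equiv.swap_apply_of_ne_of_ne hia.symm hja.symm)) hmp) i
    rw [mon_vecMul, Equiv.swap_apply_left] at h1
    simp only [s, if_true, Units.val_mk0] at h1
    show p i * q i = p j * q j
    change q j * (p j / p i) = q i at h1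
    rw [← h1]
    field_simp
  obtain ⟨r, hr⟩ : ∃ r, p r ≠ 0 := by
    by_contra hc0
    push Not at hc0
    exact mulVec_ne_zero h (x := E F c) (by simp) (funext hc0)
  obtain ⟨l, hlr, hl⟩ : ∃ l, l ≠ r ∧ p l ≠ 0 := by
    obtain ⟨l, hl, hl'⟩ := hc r
    exact ⟨l, hl, by rw [hp, col_apply]; exact hl'⟩
  set K := p r * q r with hK
  have hKi : ∀ i, p i ≠ 0 → p i * q i = K := fun i hi => by
    rcases eq_or_ne i r with rfl | hir
    · rfl
    · exact hflat hh ha.1 i r hir hpa hi hr
  have hK0 : K ≠ 0 := by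
    intro h0
    refine one_ne_zero (α := F) ?_
    rw [← hqp, dotProduct]
    exact Finset.sum_eq_zero fun i _ => by
      by_cases hi : p i = 0
      · rw [hi, mul_zero]
      · rw [mul_comm, hKi i hi, h0]
  have hra : r ≠ a := fun e => hr (e ▸ hpa)
  have hrb : r ≠ b := fun e => hr (e ▸ hpb)
  have hla : l ≠ a := fun e => hl (e ▸ hpa)
  have hlb : l ≠ b := fun e => hl (e ▸ hpb)
  have hqb : q b = 0 := hout b hpb
  -- the scaling
  obtain ⟨μ, hA, hB⟩ : ∃ μ : Fˣ, 1 - 2 * K + K * ((μ⁻¹ : Fˣ) : F) ≠ 0 ∧ 1 - 2 * K + K * (μ : F) ≠ 0 := by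
    obtain ⟨μ, hμ⟩ : (((Finset.univ.erase (0 : F)).erase ((2 * K - 1) / K)).erase (K / (2 * K - 1))).Nonempty := by
      rw [← Finset.card_pos]
      have e1 := Finset.pred_card_le_card_erase (s := (Finset.univ.erase (0 : F)).erase ((2 * K - 1) / K))
        (a := K / (2 * K - 1))
      have e2 := Finset.pred_card_le_card_erase (s := Finset.univ.erase (0 : F)) (a := (2 * K - 1) / K)
      have e3 := Finset.pred_card_le_card_erase (s := (Finset.univ : Finset F)) (a := (0 : F))
      rw [Finset.card_univ] at e3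
      omega
    simp only [Finset.mem_erase, Finset.mem_univ, and_true] at hμ
    refine ⟨Units.mk0 μ hμ.2.2, fun e => ?_, fun e => ?_⟩
    · rw [Units.val_inv_eq_inv_val, Units.val_mk0] at e
      field_simp [hμ.2.2] at e
      rcases eq_or_ne (2 * K - 1) 0 with e0 | e0
      · exact hK0 (by linear_combination e + μ * e0)
      · exact hμ.1 ((eq_div_iff e0).2 (by linear_combination -e))
    · rw [Units.val_mk0] at e
      exact hμ.2.1 ((eq_div_iff hK0).2 (by linear_combination e))
  set A := 1 - 2 * K + K * ((μ⁻¹ : Fˣ) : F)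
  set B' := 1 - 2 * K + K * (μ : F)
  set m := mon (Equiv.swap r b) (fun x => if x = l then μ else if x = a then -μ⁻¹ else 1) with hmdef
  have hm : m ∈ M := mon_mem hN (by
    rw [Equiv.Perm.sign_swap hrb, prod_two hla]
    simp)
  have hma : Fx m a := mon_fx _ _ (Equiv.swap_apply_of_ne_of_ne hra.symm hab)
  have key : ∀ u : Fˣ, ((u : F) - 1) * (((u⁻¹ : Fˣ) : F) - 1) * (A * B') = 1 ∨ u = 1 := by
    intro u
    by_cases hu : u = 1
    · exact Or.inr hu
    left
    have hu' : (u : F) ≠ 1 := fun e => hu (Units.ext e)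
    set d := dd c a u
    set H := m * (h * d * h⁻¹) * m⁻¹
    set w := H * h
    have hd : d ∈ M := dd_mem hN hca u
    have hwM : w ∈ M := mul_mem (mul_mem (mul_mem hm (mul_mem (mul_mem hh hd) (inv_mem hh))) (inv_mem hm)) hh
    have hwa : Fx w a := ((hma.mul ((ha.1.mul (dd_fx _ _ _ _)).mul ha.1.inv)).mul hma.inv).mul ha.1
    -- action of the rank one update
    have hH1 : ∀ (x : ι → F) (i : ι), i ≠ a →
        (((h * d * h⁻¹ : GL ι F) : Matrix ι ι F) *ᵥ x) i = x i + ((u : F) - 1) * (q ⬝ᵥ x) * p i := by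
      intro x i hi
      set z := ((h⁻¹ : GL ι F) : Matrix ι ι F) *ᵥ x with hz
      have e : (d : Matrix ι ι F) *ᵥ z = z + (((u : F) - 1) * z c) • E F c + ((((u⁻¹ : Fˣ) : F) - 1) * z a) • E F a := by
        ext j
        rw [dd_mulVec]
        by_cases h1 : j = c
        · subst h1; simp [hca]; ring
        by_cases h2 : j = a
        · subst h2; simp [h1]; ring
        simp [h1, h2]
      rw [mulVec_mul_GL, mulVec_mul_GL, ← hz, e, mulVec_add, mulVec_add, mulVec_smul, mulVec_smul, hz,
        mulVec_inv_cancel, ← hp]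
      have hqz : q ⬝ᵥ x = z c := by rw [hqd, ← dotProduct_mulVec, hz]; simp
      rw [hqz, ← hz]
      simp [ha.1.entry hi, mul_comm]
    have hH2 : ∀ (x : ι → F) (i : ι), i ≠ a →
        (x ᵥ* ((h * d⁻¹ * h⁻¹ : GL ι F) : Matrix ι ι F)) i = x i + (((u⁻¹ : Fˣ) : F) - 1) * (x ⬝ᵥ p) * q i := by
      intro x i hi
      set z := x ᵥ* (h : Matrix ι ι F) with hz
      have hdinv : d⁻¹ = dd c a u⁻¹ := inv_eq_of_mul_eq_one_right (gl_ext fun y => funext fun j => by
        rw [mulVec_mul_GL, dd_mulVec, dd_mulVec, Units.val_one, one_mulVec]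
        split_ifs <;> simp)
      have e : z ᵥ* (dd c a u⁻¹ : Matrix ι ι F) =
          z + ((((u⁻¹ : Fˣ) : F) - 1) * z c) • E F c + (((u : F) - 1) * z a) • E F a := by
        ext j
        rw [dd, mon_vecMul]
        by_cases h1 : j = c
        · subst h1; simp [hca]; ring
        by_cases h2 : j = a
        · subst h2; simp [h1]; ring
        simp [h1, h2]
      rw [hdinv, Units.val_mul, Units.val_mul, ← vecMul_vecMul, ← vecMul_vecMul, ← hz, e, add_vecMul, add_vecMul,
        smul_vecMul, smul_vecMul, hz, vecMul_vecMul, ← Units.val_mul, mul_inv_cancel, Units.val_one, vecMul_one, ← hqd]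
      have hxp : x ⬝ᵥ p = z c := by rw [hp, dotProduct_mulVec, hz]; simp
      rw [hxp, ← hz]
      have hrow : ((h⁻¹ : GL ι F) : Matrix ι ι F) a i = 0 := by
        have e1 : E F a ᵥ* (h : Matrix ι ι F) = (h : Matrix ι ι F) a a • E F a := funext fun k => by
          rw [row_apply]
          by_cases hk : k = a
          · subst hk; simp
          · simp [ha.2 k hk, hk]
        have e2 := congrFun (congrArg (fun v => v ᵥ* ((h⁻¹ : GL ι F) : Matrix ι ι F)) e1) i
        simp only [smul_vecMul] at e2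
        rw [vecMul_vecMul, ← Units.val_mul, mul_inv_cancel, Units.val_one, vecMul_one, Pi.smul_apply, row_apply,
          smul_eq_mul, E_ne hi] at e2
        exact (mul_eq_zero.1 e2.symm).resolve_left ha.1.ne_zero
      simp only [Pi.add_apply, Pi.smul_apply, smul_eq_mul, row_apply, hrow]
      ring
    -- the preimage of the column
    have hsw : ∀ x, Equiv.swap r b (Equiv.swap r b x) = x := fun x => Equiv.swap_apply_self r b x
    set s : ι → Fˣ := fun x => if x = l then μ else if x = a then -μ⁻¹ else 1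
    set x₁ := ((m⁻¹ : GL ι F) : Matrix ι ι F) *ᵥ p with hx₁
    have hx₁v : ∀ j, (s j : F) * x₁ j = p (Equiv.swap r b j) := fun j => by
      rw [← mon_mulVec (Equiv.swap r b) s x₁ j, ← hmdef, hx₁, mulVec_inv_cancel]
    have sw1 : ∀ j, j ≠ r → j ≠ b → Equiv.swap r b j = j := fun j => Equiv.swap_apply_of_ne_of_ne
    have hAeq : q ⬝ᵥ x₁ = A := by
      have e1 : q ⬝ᵥ x₁ = q ⬝ᵥ p + (-K + (K * ((μ⁻¹ : Fˣ) : F) - K)) := by
        rw [dotProduct, dotProduct, ← sub_eq_iff_eq_add', ← Finset.sum_sub_distrib,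
          Finset.sum_eq_add r l hlr.symm]
        · have k1 : x₁ r = 0 := by
            have := hx₁v r
            rw [Equiv.swap_apply_left, hpb] at this
            simpa [s, hlr.symm, hra] using this
          have k2 : x₁ l = ((μ⁻¹ : Fˣ) : F) * p l := by
            have := hx₁v l
            rw [sw1 l hlr hlb] at this
            simp only [s, if_true] at this
            rw [← this, ← mul_assoc, Units.inv_mul, one_mul]
          rw [k1, k2]
          linear_combination (((μ⁻¹ : Fˣ) : F) - 1) * hKi l hl - hK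
        · rintro j - ⟨hjr, hjl⟩
          by_cases hjb : j = b
          · simp [hjb, hqb]
          by_cases hja : j = a
          · simp [hja, hqa]
          have := hx₁v j
          rw [sw1 j hjr hjb] at this
          simp [s, hjl, hja] at this
          rw [this, sub_self]
        · simp
        · simp
      rw [e1, hqp]
      ring
    set x₂ := q ᵥ* (m : Matrix ι ι F) with hx₂
    have hx₂v : ∀ j, x₂ j = q (Equiv.swap r b j) * (s j : F) := fun j => mon_vecMul _ _ _ _
    have hBeq : x₂ ⬝ᵥ p = B' := by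
      have e1 : x₂ ⬝ᵥ p = q ⬝ᵥ p + (-K + (K * (μ : F) - K)) := by
        rw [dotProduct, dotProduct, ← sub_eq_iff_eq_add', ← Finset.sum_sub_distrib,
          Finset.sum_eq_add r l hlr.symm]
        · rw [hx₂v r, hx₂v l, Equiv.swap_apply_left, hqb, sw1 l hlr hlb]
          simp only [s, if_true]
          linear_combination ((μ : F) - 1) * hKi l hl - hK
        · rintro j - ⟨hjr, hjl⟩
          by_cases hjb : j = b
          · simp [hjb, hpb]
          by_cases hja : j = a
          · simp [hja, hpa]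
          rw [hx₂v j, sw1 j hjr hjb]
          simp [s, hjl, hja]
        · simp
        · simp
      rw [e1, hqp]
      ring
    set p₂ := (w : Matrix ι ι F) *ᵥ E F c with hp₂d
    set q₂ := E F c ᵥ* ((w⁻¹ : GL ι F) : Matrix ι ι F) with hq₂d
    have hp₂ : p₂ = (m : Matrix ι ι F) *ᵥ (((h * d * h⁻¹ : GL ι F) : Matrix ι ι F) *ᵥ x₁) := by
      rw [hp₂d, mulVec_mul_GL, mulVec_mul_GL, mulVec_mul_GL, hx₁]
    have hq₂ : q₂ ᵥ* (m : Matrix ι ι F) = x₂ ᵥ* ((h * d⁻¹ * h⁻¹ : GL ι F) : Matrix ι ι F) := by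
      rw [hq₂d, hx₂, hqd, vecMul_vecMul, vecMul_vecMul, vecMul_vecMul, ← Units.val_mul, ← Units.val_mul,
        ← Units.val_mul]
      congr 2
      simp only [w, H]
      group
    have sr : (s r : F) = 1 := by simp [s, hlr.symm, hra]
    have sb : (s b : F) = 1 := by simp [s, hlb.symm, hab.symm]
    have hp2r : p₂ r = p r := by
      conv_lhs => rw [← Equiv.swap_apply_right r b]
      rw [hp₂, mon_mulVec, sb, one_mul, hH1 _ _ hab.symm, hpb, mul_zero, add_zero]
      have := hx₁v b
      rwa [sb, one_mul, Equiv.swap_apply_right] at this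
    have hp2b : p₂ b = ((u : F) - 1) * A * p r := by
      conv_lhs => rw [← Equiv.swap_apply_left r b]
      rw [hp₂, mon_mulVec, sr, one_mul, hH1 _ _ hra, hAeq]
      have := hx₁v r
      rw [sr, one_mul, Equiv.swap_apply_left, hpb] at this
      rw [this, zero_add]
    have hq2r : q₂ r = q r := by
      have := congrFun hq₂ b
      rw [hmdef, mon_vecMul, Equiv.swap_apply_right] at this
      change q₂ r * (s b : F) = _ at this
      rw [sb, mul_one, hH2 _ _ hab.symm, hqb, mul_zero, add_zero, hx₂v, Equiv.swap_apply_right, sb, mul_one] at this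
      exact this
    have hq2b : q₂ b = (((u⁻¹ : Fˣ) : F) - 1) * B' * q r := by
      have := congrFun hq₂ r
      rw [hmdef, mon_vecMul, Equiv.swap_apply_left] at this
      change q₂ b * (s r : F) = _ at this
      rw [sr, mul_one, hH2 _ _ hra, hBeq, hx₂v, Equiv.swap_apply_left, hqb, zero_mul, zero_add] at this
      exact this
    have hp2a : p₂ a = 0 := by
      conv_lhs => rw [← sw1 a hra.symm hab]
      rw [hp₂, mon_mulVec]
      have h0 : x₁ a = 0 := by
        have := hx₁v a
        rw [sw1 a hra.symm hab, hpa] at this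
        exact (mul_eq_zero.1 this).resolve_left (s a).ne_zero
      have h1 : ∀ (x : ι → F), x a = 0 → (((h * d * h⁻¹ : GL ι F) : Matrix ι ι F) *ᵥ x) a = 0 := by
        intro x hx
        have hrow : ∀ (g : GL ι F), Blk g a → ∀ y : ι → F, y a = 0 → ((g : Matrix ι ι F) *ᵥ y) a = 0 := by
          intro g hg y hy
          simp only [mulVec, dotProduct]
          refine Finset.sum_eq_zero fun k _ => ?_
          by_cases hk : k = a
          · rw [hk, hy, mul_zero]
          · rw [hg.2 k hk, zero_mul]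
        have hinv : (((h⁻¹ : GL ι F) : Matrix ι ι F) *ᵥ x) a = 0 := by
          by_contra h0
          set y := ((h⁻¹ : GL ι F) : Matrix ι ι F) *ᵥ x
          have : (h : Matrix ι ι F) *ᵥ y = x := mulVec_inv_cancel _ _
          have := congrFun this a
          rw [hx, mulVec, dotProduct, Finset.sum_eq_single a (fun k _ hk => by rw [ha.2 k hk, zero_mul]) (by simp)] at this
          exact h0 ((mul_eq_zero.1 this).resolve_left ha.1.ne_zero)
        rw [mulVec_mul_GL, mulVec_mul_GL]
        refine hrow h ha _ ?_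
        rw [dd_mulVec, hinv, mul_zero]
      rw [h1 _ h0, mul_zero]
    have hu1 : ((u⁻¹ : Fˣ) : F) - 1 ≠ 0 := sub_ne_zero.2 fun e => hu (inv_eq_one.1 (Units.ext e))
    have h2 := hflat hwM hwa b r hrb.symm hp2a
      (by rw [← hp₂d, hp2b]; exact mul_ne_zero (mul_ne_zero (sub_ne_zero.2 hu') hA) hr)
      (by rw [← hp₂d, hp2r]; exact hr)
    rw [← hp₂d, ← hq₂d, hp2b, hp2r, hq2b, hq2r] at h2
    exact mul_right_cancel₀ hK0 (by rw [one_mul, hK]; linear_combination h2)
  obtain ⟨u, hu⟩ := hq
  obtain ⟨v, hv⟩ : (((Finset.univ : Finset Fˣ).erase 1).erase u |>.erase u⁻¹).Nonempty := by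
    rw [← Finset.card_pos]
    have e1 := Finset.pred_card_le_card_erase (s := ((Finset.univ : Finset Fˣ).erase 1).erase u) (a := u⁻¹)
    have e2 := Finset.pred_card_le_card_erase (s := (Finset.univ : Finset Fˣ).erase 1) (a := u)
    have e3 := Finset.pred_card_le_card_erase (s := (Finset.univ : Finset Fˣ)) (a := (1 : Fˣ))
    rw [Finset.card_univ, Fintype.card_units] at e3
    omega
  simp only [Finset.mem_erase, Finset.mem_univ, and_true] at hv
  have k1 := (key u).resolve_right hu
  have k2 := (key v).resolve_right hv.2.2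
  have e : ((u : F) - v) * ((u : F) * v - 1) = 0 := by
    have hu0 : (u : F) ≠ 0 := u.ne_zero
    have hv0 : (v : F) ≠ 0 := v.ne_zero
    rw [Units.val_inv_eq_inv_val] at k1 k2
    have k3 : ((u : F) - 1) * ((u : F)⁻¹ - 1) = ((v : F) - 1) * ((v : F)⁻¹ - 1) :=
      mul_right_cancel₀ (mul_ne_zero hA hB) (k1.trans k2.symm)
    field_simp at k3
    linear_combination -k3
  rcases mul_eq_zero.1 e with e | e
  · exact hv.2.1 (Units.ext (sub_eq_zero.1 e).symm)
  · exact hv.1 (eq_inv_of_mul_eq_one_right (Units.ext (by rw [Units.val_mul, Units.val_one]; exact sub_eq_zero.1 e)))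

omit hN in
theorem Mono.exists_mon {g : GL ι F} (h : Mono g) : ∃ σ : Equiv.Perm ι, ∃ s : ι → Fˣ, g = mon σ s := by
  choose f hf using h
  have hne : ∀ j, (g : Matrix ι ι F) (f j) j ≠ 0 := fun j h0 => by
    refine mulVec_ne_zero g (x := E F j) (by simp) (funext fun k => ?_)
    rw [col_apply]
    by_cases hk : k = f j
    · rw [hk, h0]; rfl
    · exact hf j k hk
  have hinj : Function.Injective f := by
    intro j j' e
    by_contra hjj
    set z := (g : Matrix ι ι F) (f j') j' • E F j - (g : Matrix ι ι F) (f j) j • E F j'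
    have hz : (g : Matrix ι ι F) *ᵥ z = 0 := funext fun k => by
      simp only [z, mulVec_sub, mulVec_smul, Pi.sub_apply, Pi.smul_apply, col_apply, smul_eq_mul, Pi.zero_apply]
      by_cases hk : k = f j
      · subst hk; rw [e]; ring
      · rw [hf j k hk, hf j' k (e ▸ hk)]; ring
    refine mulVec_ne_zero g (x := z) (fun e0 => hne j' ?_) hz
    have := congrFun e0 j
    simpa [z, hjj] using this
  refine ⟨Equiv.ofBijective f (Finite.injective_iff_bijective.1 hinj), fun j => Units.mk0 _ (hne j),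
    Units.ext (Matrix.ext fun k j => ?_)⟩
  rw [mon_apply, Equiv.ofBijective_apply]
  split_ifs with hk
  · subst hk; rfl
  · exact hf j k hk

omit hN in
/-- a monomial conjugate of a two-coordinate torus element -/
theorem torus_col {g : GL ι F} {u v : ι} (huv : u ≠ v) {l : Fˣ} (hl2 : l ^ 2 ≠ 1) (hl3 : l ^ 3 ≠ 1)
    (hy : Mono (g⁻¹ * dd u v l * g)) :
    (∃ x, ∀ k, k ≠ u → (g : Matrix ι ι F) k x = 0) ∨
      ∃ x₁ x₂, (∀ k, k ≠ x₁ → k ≠ x₂ → ((g⁻¹ : GL ι F) : Matrix ι ι F) k v = 0) ∧
        ∀ x ∈ ({x₁, x₂} : Finset ι), (g : Matrix ι ι F) u x ≠ 0 ∧ ∀ k, k ≠ u → k ≠ v → (g : Matrix ι ι F) k x = 0 := by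
  classical
  obtain ⟨σ, s, hs⟩ := hy.exists_mon
  have step : ∀ (x : ι), (g : Matrix ι ι F) *ᵥ ((s x : F) • E F (σ x)) =
      (dd u v l : Matrix ι ι F) *ᵥ ((g : Matrix ι ι F) *ᵥ E F x) := by
    intro x
    rw [← mulVec_mul_GL, show dd u v l * g = g * (g⁻¹ * dd u v l * g) by group, mulVec_mul_GL, hs]
    congr 1
    ext k
    rw [col_apply, mon_apply]
    by_cases hk : k = σ x <;> simp [hk, eq_comm]
  obtain ⟨x, hx⟩ : ∃ x, (g : Matrix ι ι F) u x ≠ 0 := by
    by_contra hc
    push Not at hc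
    have := congrArg (fun y : ι → F => y u) (mulVec_inv_cancel g (E F u))
    simp only [mulVec, dotProduct, hc, zero_mul, Finset.sum_const_zero, Pi.single_eq_same] at this
    exact zero_ne_one this
  set L : F := (l : F)
  set L' : F := ((l⁻¹ : Fˣ) : F)
  have hLL : L * L' = 1 := Units.mul_inv l
  have hv : ∀ y, (dd u v l : Matrix ι ι F) *ᵥ y = fun j => (if j = u then L else if j = v then L' else 1) * y j :=
    fun y => funext (dd_mulVec u v l y)
  set p := (g : Matrix ι ι F) *ᵥ E F x with hp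
  have hpu : p u ≠ 0 := by rw [hp, col_apply]; exact hx
  set p₁ := (dd u v l : Matrix ι ι F) *ᵥ p with hp₁
  set p₂ := (dd u v l : Matrix ι ι F) *ᵥ p₁ with hp₂
  set p₃ := (dd u v l : Matrix ι ι F) *ᵥ p₂ with hp₃
  set c₁ : F := (s x : F)
  set c₂ : F := c₁ * (s (σ x) : F)
  set c₃ : F := c₂ * (s (σ (σ x)) : F)
  have e₁ : p₁ = (g : Matrix ι ι F) *ᵥ (c₁ • E F (σ x)) := (step x).symm
  have e₂ : p₂ = (g : Matrix ι ι F) *ᵥ (c₂ • E F (σ (σ x))) := by
    rw [hp₂, e₁, mulVec_smul, mulVec_smul, ← step (σ x), ← mulVec_smul, smul_smul]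
  have e₃ : p₃ = (g : Matrix ι ι F) *ᵥ (c₃ • E F (σ (σ (σ x)))) := by
    rw [hp₃, e₂, mulVec_smul, mulVec_smul, ← step (σ (σ x)), ← mulVec_smul, smul_smul]
  -- the cubic relation
  have hcub : p₃ - (1 + L + L') • p₂ + (1 + L + L') • p₁ - p = 0 := by
    ext j
    simp only [hp₃, hp₂, hp₁, hv, Pi.sub_apply, Pi.add_apply, Pi.smul_apply, Pi.zero_apply, smul_eq_mul]
    split_ifs
    · linear_combination (-(L - 1) * p j) * hLL
    · linear_combination (-(L' - 1) * p j) * hLL
    · ring
  have hk : σ x = x ∨ σ (σ x) = x ∨ σ (σ (σ x)) = x := by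
    by_contra hc
    push Not at hc
    have h0 : (g : Matrix ι ι F) *ᵥ (c₃ • E F (σ (σ (σ x))) - (1 + L + L') • c₂ • E F (σ (σ x)) +
        (1 + L + L') • c₁ • E F (σ x) - E F x) = 0 := by
      simp only [mulVec_sub, mulVec_add, mulVec_smul] at e₁ e₂ e₃ ⊢
      rw [← e₁, ← e₂, ← e₃]
      exact hcub
    have := congrFun (mulVec_inj g (h0.trans (mulVec_zero _).symm)) x
    simp [Ne.symm hc.1, Ne.symm hc.2.1, Ne.symm hc.2.2] at this
  have hl1 : l ≠ 1 := fun e => hl2 (by rw [e, one_pow])
  have hL1 : L ≠ 1 := fun e => hl1 (Units.ext e)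
  have hL2 : L * L ≠ 1 := fun e => hl2 (Units.ext (by rw [Units.val_pow_eq_pow_val, sq]; exact e))
  have hL3 : L * (L * L) ≠ 1 := fun e => hl3 (Units.ext (by rw [Units.val_pow_eq_pow_val, Units.val_one]; linear_combination e))
  have hcu : ∀ {k : ι} {c : F}, k = x → ∀ y : ι → F, y = (g : Matrix ι ι F) *ᵥ (c • E F k) → y = c • p := by
    intro k c hk y hy
    rw [hy, hk, mulVec_smul]
  have hp₁v : ∀ j, p₁ j = (if j = u then L else if j = v then L' else 1) * p j := fun j => dd_mulVec u v l p j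
  have hp₂v : ∀ j, p₂ j = (if j = u then L else if j = v then L' else 1) * p₁ j := fun j => dd_mulVec u v l p₁ j
  have hp₃v : ∀ j, p₃ j = (if j = u then L else if j = v then L' else 1) * p₂ j := fun j => dd_mulVec u v l p₂ j
  have hsupp : ∀ j, j ≠ u → j ≠ v → p j = 0 := by
    intro j hju hjv
    by_contra hj
    rcases hk with hk | hk | hk
    · have h := hcu hk _ e₁
      have a1 := congrFun h j; have a2 := congrFun h u
      rw [hp₁v, if_neg hju, if_neg hjv, one_mul, Pi.smul_apply, smul_eq_mul] at a1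
      rw [hp₁v, if_pos rfl, Pi.smul_apply, smul_eq_mul] at a2
      exact hL1 ((mul_right_cancel₀ hpu a2).trans ((mul_eq_right₀ hj).1 a1.symm))
    · have h := hcu hk _ e₂
      have a1 := congrFun h j; have a2 := congrFun h u
      rw [hp₂v, if_neg hju, if_neg hjv, one_mul, hp₁v, if_neg hju, if_neg hjv, one_mul, Pi.smul_apply, smul_eq_mul] at a1
      rw [hp₂v, if_pos rfl, hp₁v, if_pos rfl, Pi.smul_apply, smul_eq_mul, ← mul_assoc] at a2
      exact hL2 ((mul_right_cancel₀ hpu a2).trans ((mul_eq_right₀ hj).1 a1.symm))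
    · have h := hcu hk _ e₃
      have a1 := congrFun h j; have a2 := congrFun h u
      rw [hp₃v, if_neg hju, if_neg hjv, one_mul, hp₂v, if_neg hju, if_neg hjv, one_mul, hp₁v, if_neg hju, if_neg hjv,
        one_mul, Pi.smul_apply, smul_eq_mul] at a1
      rw [hp₃v, if_pos rfl, hp₂v, if_pos rfl, hp₁v, if_pos rfl, Pi.smul_apply, smul_eq_mul] at a2
      exact hL3 ((mul_right_cancel₀ hpu (by linear_combination a2)).trans ((mul_eq_right₀ hj).1 a1.symm))
  by_cases hpv : p v = 0
  · refine Or.inl ⟨x, fun k hk => ?_⟩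
    rw [← col_apply, ← hp]
    by_cases hkv : k = v
    · rw [hkv, hpv]
    · exact hsupp k hk hkv
  right
  refine ⟨x, σ x, fun k hk1 hk2 => ?_, ?_⟩
  · -- the second coordinate vector is a combination of the two columns
    have e : p₁ - L • p = ((L' - L) * p v) • E F v := by
      ext j
      rw [Pi.sub_apply, hp₁v]
      by_cases hju : j = u
      · subst hju; simp [huv]
      by_cases hjv : j = v
      · subst hjv; simp [hju]; ring
      · simp [hju, hjv, hsupp j hju hjv]
    rw [e₁, hp, ← mulVec_smul, ← mulVec_sub] at e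
    have h1 := congrArg (fun y => ((g⁻¹ : GL ι F) : Matrix ι ι F) *ᵥ y) e
    simp only [inv_mulVec_cancel] at h1
    rw [mulVec_smul] at h1
    have h2 := congrFun h1 k
    rw [Pi.smul_apply, smul_eq_mul] at h2
    have hne : (L' - L) * p v ≠ 0 := mul_ne_zero (sub_ne_zero.2 fun e' => hL2 (by rw [← hLL, e'])) hpv
    rw [← col_apply]
    refine (mul_eq_zero.1 (h2.symm.trans ?_)).resolve_left hne
    simp [hk1, hk2]
  · intro z hz
    simp only [Finset.mem_insert, Finset.mem_singleton] at hz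
    rcases hz with rfl | rfl
    · exact ⟨hx, fun k h1 h3 => by rw [← col_apply, ← hp]; exact hsupp k h1 h3⟩
    · have hc0 : c₁ ≠ 0 := (s x).ne_zero
      have e : ∀ j, p₁ j = c₁ * (g : Matrix ι ι F) j (σ x) := fun j => by
        rw [e₁, mulVec_smul, Pi.smul_apply, col_apply, smul_eq_mul]
      refine ⟨fun h0 => ?_, fun k h1 h3 => ?_⟩
      · have := e u
        rw [h0, mul_zero, hp₁v, if_pos rfl] at this
        exact (mul_ne_zero l.ne_zero hpu) this
      · have := e k
        rw [hp₁v, hsupp k h1 h3, mul_zero] at this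
        exact (mul_eq_zero.1 this.symm).resolve_left hc0

omit hN in
theorem Mono.of_mul_left {m g : GL ι F} (hm : Mono m) (h : Mono (m * g)) : Mono g := by
  obtain ⟨σ, s, rfl⟩ := hm.exists_mon
  intro j
  obtain ⟨i, hi⟩ := h j
  refine ⟨σ.symm i, fun k hk => ?_⟩
  have := hi (σ k) (fun e => hk (by rw [← e, Equiv.symm_apply_apply]))
  rw [Units.val_mul, Matrix.mul_apply, Finset.sum_eq_single k (fun r _ hr => by
    rw [mon_apply, if_neg (fun e => hr (σ.injective e).symm), zero_mul]) (by simp), mon_apply, if_pos rfl] at this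
  exact (mul_eq_zero.1 this).resolve_left (s k).ne_zero

/-- a small column gives a further fixed line -/
theorem small_step (hn : 6 ≤ Fintype.card ι) (hF : 5 ≤ Fintype.card F) {g : GL ι F} (hg : g ∈ M) (hgm : ¬ Mono g)
    {X : Finset ι} (hX : X.card ≤ 1) (hgX : ∀ x ∈ X, Fx g x) {c : ι} (hc : c ∉ X) {P : Finset ι}
    (hP : ∀ k, k ∉ P → (g : Matrix ι ι F) k c = 0) (hbig : X.card + P.card + 3 ≤ Fintype.card ι) :
    ∃ y ∈ M, ¬ Mono y ∧ ∃ i, i ∉ X ∧ Fx y i ∧ ∀ x ∈ X, Fx y x := by
  classical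
  obtain ⟨l, hl2, hl3⟩ : ∃ l : Fˣ, l ^ 2 ≠ 1 ∧ l ^ 3 ≠ 1 := by
    obtain ⟨l, hl⟩ := IsCyclic.exists_ofOrder_eq_natCard (α := Fˣ)
    have h4 : 4 ≤ orderOf l := by rw [hl, Nat.card_eq_fintype_card, Fintype.card_units]; omega
    exact ⟨l, fun e => absurd (orderOf_le_of_pow_eq_one (by norm_num) e) (by omega),
      fun e => absurd (orderOf_le_of_pow_eq_one (by norm_num) e) (by omega)⟩
  have hR : 2 < ((Finset.univ : Finset ι) \ (X ∪ P)).card := by
    rw [Finset.card_sdiff]
    have := Finset.card_union_le X P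
    simp only [Finset.inter_univ, Finset.card_univ]
    omega
  obtain ⟨u, hu, v, hv, w, hw, huv, huw, hvw⟩ := Finset.two_lt_card.1 hR
  simp only [Finset.mem_sdiff, Finset.mem_univ, true_and, Finset.mem_union, not_or] at hu hv hw
  -- a monomial conjugate or success
  have try' : ∀ {u v : ι}, u ∉ P → v ∉ P → u ≠ v → ¬ Mono (g⁻¹ * dd u v l * g) →
      ∃ y ∈ M, ¬ Mono y ∧ ∃ i, i ∉ X ∧ Fx y i ∧ ∀ x ∈ X, Fx y x := by
    intro u v hu hv huv h
    refine ⟨_, mul_mem (mul_mem (inv_mem hg) (dd_mem hN huv l)) hg, h, c, hc, ⟨1, ?_⟩,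
      fun x hx => ((hgX x hx).inv.mul (dd_fx _ _ _ _)).mul (hgX x hx)⟩
    rw [one_smul, mulVec_mul_GL, mulVec_mul_GL]
    have : (dd u v l : Matrix ι ι F) *ᵥ ((g : Matrix ι ι F) *ᵥ E F c) = (g : Matrix ι ι F) *ᵥ E F c := funext fun j => by
      rw [dd_mulVec, col_apply]
      split_ifs with h1 h2
      · rw [h1, hP u hu, mul_zero]
      · rw [h2, hP v hv, mul_zero]
      · rw [one_mul]
    rw [this, inv_mulVec_cancel]
  -- a column with one entry
  have single' : ∀ {u : ι}, u ∉ X → ∀ i, (∀ k, k ≠ u → (g : Matrix ι ι F) k i = 0) →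
      ∃ y ∈ M, ¬ Mono y ∧ ∃ i, i ∉ X ∧ Fx y i ∧ ∀ x ∈ X, Fx y x := by
    intro u hu i hi
    have hiX : i ∉ X := fun hiX => (hgX i hiX).ne_zero (hi i (fun e => hu (e ▸ hiX)))
    obtain ⟨z, hz⟩ : ∃ z, z ∉ X ∪ {u, i} := by
      by_contra hc
      push Not at hc
      have h4 := Finset.card_le_card (show (Finset.univ : Finset ι) ⊆ X ∪ {u, i} from fun x _ => hc x)
      have h5 := (h4.trans (Finset.card_union_le _ _)).trans (Nat.add_le_add hX Finset.card_le_two)
      rw [Finset.card_univ] at h5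
      omega
    simp only [Finset.mem_union, Finset.mem_insert, Finset.mem_singleton, not_or] at hz
    obtain ⟨m, hm, hmm, hmu, hfix⟩ := exists_swap hN hz.2.1 hz.2.2
    refine ⟨m * g, mul_mem hm hg, fun h => hgm (hmm.of_mul_left h), i, hiX, ⟨(g : Matrix ι ι F) u i, ?_⟩,
      fun x hx => (hfix x (fun e => hu (e ▸ hx)) (fun e => hiX (e ▸ hx))).mul (hgX x hx)⟩
    have : (g : Matrix ι ι F) *ᵥ E F i = (g : Matrix ι ι F) u i • E F u := funext fun k => by
      rw [col_apply]
      by_cases hk : k = u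
      · subst hk; simp
      · simp [hi k hk, hk]
    rw [mulVec_mul_GL, this, mulVec_smul, hmu]
  by_cases h1 : Mono (g⁻¹ * dd u v l * g)
  swap
  · exact try' hu.2 hv.2 huv h1
  by_cases h2 : Mono (g⁻¹ * dd w v l * g)
  swap
  · exact try' hw.2 hv.2 hvw.symm h2
  rcases torus_col huv hl2 hl3 h1 with ⟨i, hi⟩ | ⟨x₁, x₂, hv1, hx⟩
  · exact single' hu.1 i hi
  rcases torus_col hvw.symm hl2 hl3 h2 with ⟨i, hi⟩ | ⟨x₃, x₄, hv2, hx'⟩
  · exact single' hw.1 i hi
  exfalso
  refine mulVec_ne_zero g⁻¹ (x := E F v) (by simp) (funext fun k => ?_)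
  rw [col_apply]
  by_cases hk : k ∈ ({x₁, x₂} : Finset ι)
  · obtain ⟨e1, e2⟩ := hx k hk
    refine hv2 k ?_ ?_ <;> rintro rfl
    · exact e1 ((hx' k (by simp)).2 u huw huv)
    · exact e1 ((hx' k (by simp)).2 u huw huv)
  · simp only [Finset.mem_insert, Finset.mem_singleton, not_or] at hk
    exact hv1 k hk.1 hk.2

/-- two positions outside a column suffice -/
theorem small_step' (hn : 6 ≤ Fintype.card ι) (hF : 5 ≤ Fintype.card F) {g : GL ι F} (hg : g ∈ M) (hgm : ¬ Mono g)
    {X : Finset ι} (hX : X.card ≤ 1) (hgX : ∀ x ∈ X, Fx g x) {c : ι} (hc : c ∉ X) {P : Finset ι}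
    (hP : ∀ k, k ∉ P → (g : Matrix ι ι F) k c = 0) (hbig : P.card + 2 ≤ Fintype.card ι) :
    ∃ y ∈ M, ¬ Mono y ∧ ∃ i, i ∉ X ∧ Fx y i ∧ ∀ x ∈ X, Fx y x := by
  classical
  obtain ⟨l, hl2, hl3⟩ : ∃ l : Fˣ, l ^ 2 ≠ 1 ∧ l ^ 3 ≠ 1 := by
    obtain ⟨l, hl⟩ := IsCyclic.exists_ofOrder_eq_natCard (α := Fˣ)
    have h4 : 4 ≤ orderOf l := by rw [hl, Nat.card_eq_fintype_card, Fintype.card_units]; omega
    exact ⟨l, fun e => absurd (orderOf_le_of_pow_eq_one (by norm_num) e) (by omega),
      fun e => absurd (orderOf_le_of_pow_eq_one (by norm_num) e) (by omega)⟩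
  obtain ⟨u, v, hu, hv, huv, huX⟩ : ∃ u v, u ∉ P ∧ v ∉ P ∧ u ≠ v ∧ u ∉ X := by
    have hR : 1 < ((Finset.univ : Finset ι) \ P).card := by
      rw [Finset.card_sdiff]
      simp only [Finset.inter_univ, Finset.card_univ]
      omega
    obtain ⟨u, hu, v, hv, huv⟩ := Finset.one_lt_card.1 hR
    simp only [Finset.mem_sdiff, Finset.mem_univ, true_and] at hu hv
    by_cases huX : u ∈ X
    · exact ⟨v, u, hv, hu, huv.symm, fun hvX => huv (Finset.card_le_one.1 hX u huX v hvX)⟩
    · exact ⟨u, v, hu, hv, huv, huX⟩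
  by_cases h1 : Mono (g⁻¹ * dd u v l * g)
  swap
  · refine ⟨_, mul_mem (mul_mem (inv_mem hg) (dd_mem hN huv l)) hg, h1, c, hc, ⟨1, ?_⟩,
      fun x hx => ((hgX x hx).inv.mul (dd_fx _ _ _ _)).mul (hgX x hx)⟩
    rw [one_smul, mulVec_mul_GL, mulVec_mul_GL]
    have : (dd u v l : Matrix ι ι F) *ᵥ ((g : Matrix ι ι F) *ᵥ E F c) = (g : Matrix ι ι F) *ᵥ E F c := funext fun j => by
      rw [dd_mulVec, col_apply]
      split_ifs with h1 h2
      · rw [h1, hP u hu, mul_zero]
      · rw [h2, hP v hv, mul_zero]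
      · rw [one_mul]
    rw [this, inv_mulVec_cancel]
  have key : ∀ x, (g : Matrix ι ι F) u x ≠ 0 → (∀ k, k ≠ u → k ≠ v → (g : Matrix ι ι F) k x = 0) →
      ∃ y ∈ M, ¬ Mono y ∧ ∃ i, i ∉ X ∧ Fx y i ∧ ∀ x ∈ X, Fx y x := by
    intro x hxu hxk
    refine small_step hN hn hF hg hgm hX hgX (c := x) (fun hxX => hxu ((hgX x hxX).entry fun e => huX (e ▸ hxX)))
      (P := {u, v}) (fun k hk => ?_) ?_
    · simp only [Finset.mem_insert, Finset.mem_singleton, not_or] at hk
      exact hxk k hk.1 hk.2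
    · have : ({u, v} : Finset ι).card ≤ 2 := Finset.card_le_two
      omega
  rcases torus_col huv hl2 hl3 h1 with ⟨x, hx⟩ | ⟨x₁, x₂, -, hx⟩
  · refine key x (fun h0 => mulVec_ne_zero g (x := E F x) (by simp) (funext fun k => ?_)) fun k hk _ => hx k hk
    rw [col_apply]
    by_cases hk : k = u
    · rw [hk, h0]; rfl
    · exact hx k hk
  · exact key x₁ (hx x₁ (by simp)).1 (hx x₁ (by simp)).2

omit hN in
theorem image_bound {y : GL ι F} (hy : Mono y) {a b : ι → F} (hspan : ∀ z, (y : Matrix ι ι F) *ᵥ z - z ∈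
      Submodule.span F ({a, b} : Set (ι → F))) (h3 : y * y * y = 1) (ha : ∃ z, a = (y : Matrix ι ι F) *ᵥ z - z)
    (hb : ∃ z, b = (y : Matrix ι ι F) *ᵥ z - z) {c : ι} (hc : (y : Matrix ι ι F) *ᵥ E F c = E F c) :
    ∃ A : Finset ι, A.card ≤ 3 ∧ c ∉ A ∧ ∀ k, k ∉ A → a k = 0 ∧ b k = 0 := by
  classical
  obtain ⟨σ, s, rfl⟩ := hy.exists_mon
  have hE : ∀ j, (mon σ s : Matrix ι ι F) *ᵥ E F j = (s j : F) • E F (σ j) := fun j => funext fun k => by
    rw [col_apply, mon_apply]
    by_cases hk : k = σ j <;> simp [hk]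
  have hcfix : σ c = c ∧ (s c : F) = 1 := by
    have h := congrFun hc (σ c)
    rw [mon_mulVec] at h
    by_cases hcc : σ c = c
    · rw [hcc] at h; simp at h; exact ⟨hcc, by simpa using h⟩
    · simp [hcc] at h
  have hW : Module.finrank F (Submodule.span F ({a, b} : Set (ι → F))) ≤ 2 := by
    have := finrank_span_finset_le_card (R := F) ({a, b} : Finset (ι → F))
    rw [Finset.coe_insert, Finset.coe_singleton] at this
    exact this.trans Finset.card_le_two
  by_cases hmoved : ∃ x, σ x ≠ x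
  · obtain ⟨x, hx⟩ := hmoved
    have h3x : σ (σ (σ x)) = x := by
      have := congrArg (fun g : GL ι F => (g : Matrix ι ι F) *ᵥ E F x) h3
      simp only [mulVec_mul_GL, hE, mulVec_smul, Units.val_one, one_mulVec] at this
      by_contra hne
      have := congrFun this x
      simp [Ne.symm hne] at this
    have hx2 : σ (σ x) ≠ x := fun e => hx (by rw [e] at h3x; exact h3x)
    have hx12 : σ (σ x) ≠ σ x := fun e => hx (σ.injective e)
    set w₁ := (mon σ s : Matrix ι ι F) *ᵥ E F x - E F x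
    set w₂ := (mon σ s : Matrix ι ι F) *ᵥ E F (σ x) - E F (σ x)
    have hli : LinearIndependent F ![w₁, w₂] := by
      rw [LinearIndependent.pair_iff]
      intro α β h
      simp only [w₁, w₂, hE] at h
      have k1 := congrFun h x
      have k2 := congrFun h (σ (σ x))
      simp [Ne.symm hx, Ne.symm hx2] at k1
      simp [hx2, hx12] at k2
      exact ⟨k1, k2⟩
    have hle : Submodule.span F (Set.range ![w₁, w₂]) ≤ Submodule.span F ({a, b} : Set (ι → F)) := by
      rw [Submodule.span_le]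
      rintro _ ⟨i, rfl⟩
      fin_cases i <;> exact hspan _
    have heq := Submodule.eq_of_le_of_finrank_le hle (by rw [finrank_span_eq_card hli, Fintype.card_fin]; exact hW)
    set T : Submodule F (ι → F) := LinearMap.ker
      (LinearMap.funLeft F F (fun r : {r : ι // r ∉ ({x, σ x, σ (σ x)} : Finset ι)} => (r : ι)))
    have hsub : Submodule.span F (Set.range ![w₁, w₂]) ≤ T := by
      rw [Submodule.span_le]
      rintro _ ⟨i, rfl⟩
      simp only [T, SetLike.mem_coe, LinearMap.mem_ker]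
      ext ⟨r, hr⟩
      simp only [Finset.mem_insert, Finset.mem_singleton, not_or] at hr
      fin_cases i <;> simp [w₁, w₂, hE, hr.1, hr.2.1, hr.2.2]
    refine ⟨{x, σ x, σ (σ x)}, Finset.card_le_three, fun hcA => ?_, fun k hk => ?_⟩
    · simp only [Finset.mem_insert, Finset.mem_singleton] at hcA
      rcases hcA with e | e | e
      · exact hx (e ▸ hcfix.1)
      · exact hx (σ.injective (e ▸ hcfix.1))
      · exact hx (σ.injective (σ.injective (e ▸ hcfix.1)))
    · rw [heq] at hsub
      exact ⟨congrFun (LinearMap.mem_ker.1 (hsub (Submodule.subset_span (by simp : a ∈ ({a, b} : Set (ι → F)))))) ⟨k, hk⟩,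
        congrFun (LinearMap.mem_ker.1 (hsub (Submodule.subset_span (by simp : b ∈ ({a, b} : Set (ι → F)))))) ⟨k, hk⟩⟩
  · push Not at hmoved
    set A := Finset.univ.filter fun j => (s j : F) ≠ 1
    refine ⟨A, ?_, fun h => (Finset.mem_filter.1 h).2 hcfix.2, fun k hk => ?_⟩
    · have hmem : ∀ j : A, E F (j : ι) ∈ Submodule.span F ({a, b} : Set (ι → F)) := by
        rintro ⟨j, hj⟩
        simp only [A, Finset.mem_filter, Finset.mem_univ, true_and] at hj
        have := Submodule.smul_mem _ ((s j : F) - 1)⁻¹ (hspan (E F j))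
        rw [hE, hmoved] at this
        convert this using 1
        rw [show (s j : F) • E F j - E F j = ((s j : F) - 1) • E F j by module, smul_smul,
          inv_mul_cancel₀ (sub_ne_zero.2 hj), one_smul]
      have hli : LinearIndependent F (fun j : A => E F (j : ι)) := by
        have := (Pi.basisFun F ι).linearIndependent.comp (fun j : A => (j : ι)) Subtype.val_injective
        simpa [Function.comp_def] using this
      have h1 := Submodule.finrank_mono (Submodule.span_le.2 (by rintro _ ⟨j, rfl⟩; exact hmem j) :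
        Submodule.span F (Set.range fun j : A => E F (j : ι)) ≤ Submodule.span F ({a, b} : Set (ι → F)))
      rw [finrank_span_eq_card hli, Fintype.card_coe] at h1
      omega
    · simp only [A, Finset.mem_filter, Finset.mem_univ, true_and, not_not] at hk
      obtain ⟨z, rfl⟩ := ha
      obtain ⟨z', rfl⟩ := hb
      have e : ∀ z : ι → F, ((mon σ s : Matrix ι ι F) *ᵥ z) k = z k := fun z => by
        conv_lhs => rw [← hmoved k]
        rw [mon_mulVec, hk, one_mul]
      simp [e]

/-- from a large column a small one -/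
theorem line_step (hn : 6 ≤ Fintype.card ι) (hF : 5 ≤ Fintype.card F) {g : GL ι F} (hg : g ∈ M) (hgm : ¬ Mono g)
    {X : Finset ι} (hX : X.card ≤ 1) (hgX : ∀ x ∈ X, Fx g x) :
    ∃ y ∈ M, ¬ Mono y ∧ ∃ i, i ∉ X ∧ Fx y i ∧ ∀ x ∈ X, Fx y x := by
  classical
  obtain ⟨c, hc⟩ : ∃ c, c ∉ X := by
    by_contra hc
    push Not at hc
    have h4 := Finset.card_le_card (show (Finset.univ : Finset ι) ⊆ X from fun x _ => hc x)
    rw [Finset.card_univ] at h4
    omega
  set p := (g : Matrix ι ι F) *ᵥ E F c with hp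
  set P := Finset.univ.filter fun k => p k ≠ 0 with hPd
  by_cases hbig : P.card + 2 ≤ Fintype.card ι
  · exact small_step' hN hn hF hg hgm hX hgX hc (P := P)
      (fun k hk => by
        simp only [hPd, Finset.mem_filter, Finset.mem_univ, true_and, not_not] at hk
        rwa [hp, col_apply] at hk) hbig
  -- three-cycles fixing the column
  have cyc : ∀ {i j k : ι}, i ≠ j → j ≠ k → i ≠ k → i ∉ X → j ∉ X → k ∉ X → p i ≠ 0 → p j ≠ 0 → p k ≠ 0 →
      (∃ y ∈ M, ¬ Mono y ∧ ∃ i, i ∉ X ∧ Fx y i ∧ ∀ x ∈ X, Fx y x) ∨ ∃ A : Finset ι, A.card ≤ 3 ∧ c ∉ A ∧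
        ∀ r, r ∉ A → (((g⁻¹ : GL ι F) : Matrix ι ι F) *ᵥ (p j • E F j - p i • E F i)) r = 0 ∧
          (((g⁻¹ : GL ι F) : Matrix ι ι F) *ᵥ (p k • E F k - p j • E F j)) r = 0 := by
    intro i j k hij hjk hik hiX hjX hkX hi hj hk
    set σ := Equiv.swap i j * Equiv.swap j k
    have s1 : σ i = j := by simp [σ, Equiv.swap_apply_of_ne_of_ne hij hik]
    have s2 : σ j = k := by simp [σ, Equiv.swap_apply_of_ne_of_ne hik.symm hjk.symm]
    have s3 : σ k = i := by simp [σ]
    have s0 : ∀ x, x ≠ i → x ≠ j → x ≠ k → σ x = x := fun x a b d => by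
      simp [σ, Equiv.swap_apply_of_ne_of_ne b d, Equiv.swap_apply_of_ne_of_ne a b]
    set s : ι → Fˣ := fun x => if x = i then Units.mk0 (p j / p i) (div_ne_zero hj hi) else
      if x = j then Units.mk0 (p k / p j) (div_ne_zero hk hj) else
      if x = k then Units.mk0 (p i / p k) (div_ne_zero hi hk) else 1
    have hm : mon σ s ∈ M := mon_mem hN (by
      rw [show Equiv.Perm.sign σ = 1 by simp [σ, Equiv.Perm.sign_swap hij, Equiv.Perm.sign_swap hjk],
        ← Finset.prod_subset (Finset.subset_univ ({i, j, k} : Finset ι)) (fun x _ hx => by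
          simp only [Finset.mem_insert, Finset.mem_singleton, not_or] at hx
          simp [s, hx.1, hx.2.1, hx.2.2]), Finset.prod_insert (by simp [hij, hik]),
        Finset.prod_insert (by simp [hjk]), Finset.prod_singleton]
      simp [s, hij.symm, hik.symm, hjk.symm]
      field_simp)
    have hmv : ∀ z : ι → F, (mon σ s : Matrix ι ι F) *ᵥ z - z =
        (z i / p i) • (p j • E F j - p i • E F i) + (z j / p j) • (p k • E F k - p j • E F j) +
          (z k / p k) • (p i • E F i - p k • E F k) := by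
      intro z
      ext x
      obtain ⟨x, rfl⟩ := σ.surjective x
      rw [Pi.sub_apply, mon_mulVec]
      by_cases a : x = i
      · subst a; rw [s1]; simp [s, hij, hij.symm, hjk, hjk.symm, hik, hik.symm]; field_simp; ring
      by_cases b : x = j
      · subst b; rw [s2]; simp [s, hij, hij.symm, hjk, hjk.symm, hik, hik.symm]; field_simp; ring
      by_cases d : x = k
      · subst d; rw [s3]; simp [s, hij, hij.symm, hjk, hjk.symm, hik, hik.symm]; field_simp; ring
      rw [s0 x a b d]
      simp [s, a, b, d]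
    have hmp : (mon σ s : Matrix ι ι F) *ᵥ p = p := by
      rw [← sub_eq_zero, hmv, div_self hi, div_self hj, div_self hk]
      module
    set y := g⁻¹ * mon σ s * g
    have hyc : (y : Matrix ι ι F) *ᵥ E F c = E F c := by
      rw [show y = g⁻¹ * mon σ s * g from rfl, mulVec_mul_GL, mulVec_mul_GL, ← hp, hmp, hp, inv_mulVec_cancel]
    by_cases hym : Mono y
    swap
    · exact Or.inl ⟨y, mul_mem (mul_mem (inv_mem hg) hm) hg, hym, c, hc, ⟨1, by rw [hyc, one_smul]⟩,
        fun x hx => ((hgX x hx).inv.mul (mon_fx _ _ (s0 x (fun e => hiX (e ▸ hx)) (fun e => hjX (e ▸ hx))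
          (fun e => hkX (e ▸ hx))))).mul (hgX x hx)⟩
    right
    set a := ((g⁻¹ : GL ι F) : Matrix ι ι F) *ᵥ (p j • E F j - p i • E F i)
    set b := ((g⁻¹ : GL ι F) : Matrix ι ι F) *ᵥ (p k • E F k - p j • E F j)
    have hy : ∀ z, (y : Matrix ι ι F) *ᵥ z - z =
        ((g⁻¹ : GL ι F) : Matrix ι ι F) *ᵥ ((mon σ s : Matrix ι ι F) *ᵥ ((g : Matrix ι ι F) *ᵥ z) -
          (g : Matrix ι ι F) *ᵥ z) := fun z => by
      rw [show y = g⁻¹ * mon σ s * g from rfl, mulVec_mul_GL, mulVec_mul_GL, mulVec_sub, inv_mulVec_cancel]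
    refine image_bound hym (a := a) (b := b) (fun z => ?_) ?_ ?_ ?_ hyc
    · rw [hy, hmv]
      set z' := (g : Matrix ι ι F) *ᵥ z
      rw [show p i • E F i - p k • E F k = -(p j • E F j - p i • E F i) - (p k • E F k - p j • E F j) by abel,
        mulVec_add, mulVec_add, mulVec_smul, mulVec_smul, mulVec_smul, mulVec_sub _ (-_), mulVec_neg]
      have ma : a ∈ Submodule.span F ({a, b} : Set (ι → F)) := Submodule.subset_span (by simp)
      have mb : b ∈ Submodule.span F ({a, b} : Set (ι → F)) := Submodule.subset_span (by simp)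
      exact add_mem (add_mem (Submodule.smul_mem _ _ ma) (Submodule.smul_mem _ _ mb))
        (Submodule.smul_mem _ _ (sub_mem (neg_mem ma) mb))
    · have hm3 : mon σ s * mon σ s * mon σ s = 1 := gl_ext fun z => funext fun x => by
        rw [mulVec_mul_GL, mulVec_mul_GL, Units.val_one, one_mulVec]
        obtain ⟨x, rfl⟩ := σ.surjective x
        obtain ⟨x, rfl⟩ := σ.surjective x
        obtain ⟨x, rfl⟩ := σ.surjective x
        rw [mon_mulVec, mon_mulVec, mon_mulVec]
        by_cases a : x = i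
        · subst a; rw [s1, s2, s3]; simp [s, hij.symm, hik.symm, hjk.symm]; field_simp
        by_cases b : x = j
        · subst b; rw [s2, s3, s1]; simp [s, hij.symm, hik.symm, hjk.symm]; field_simp
        by_cases d : x = k
        · subst d; rw [s3, s1, s2]; simp [s, hij.symm, hik.symm, hjk.symm]; field_simp
        rw [s0 x a b d, s0 x a b d, s0 x a b d]
        simp [s, a, b, d]
      show g⁻¹ * mon σ s * g * (g⁻¹ * mon σ s * g) * (g⁻¹ * mon σ s * g) = 1
      rw [show g⁻¹ * mon σ s * g * (g⁻¹ * mon σ s * g) * (g⁻¹ * mon σ s * g) =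
        g⁻¹ * (mon σ s * mon σ s * mon σ s) * g by group, hm3, mul_one, inv_mul_cancel]
    · refine ⟨((g⁻¹ : GL ι F) : Matrix ι ι F) *ᵥ (p i • E F i), ?_⟩
      rw [hy, mulVec_inv_cancel, hmv]
      simp [hij, hij.symm, hik, hik.symm, hi, a]
    · refine ⟨((g⁻¹ : GL ι F) : Matrix ι ι F) *ᵥ (p j • E F j), ?_⟩
      rw [hy, mulVec_inv_cancel, hmv]
      simp [hjk, hjk.symm, hij, hij.symm, hj, b]
  -- three positions
  have h10 : 3 ≤ (P \ X).card := by
    rw [Finset.card_sdiff]
    have : (X ∩ P).card ≤ X.card := Finset.card_le_card Finset.inter_subset_left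
    omega
  obtain ⟨T, hT, hT3⟩ := Finset.exists_subset_card_eq h10
  obtain ⟨i, j, k, hij, hik, hjk, rfl⟩ := Finset.card_eq_three.1 hT3
  have hmem : ∀ x ∈ ({i, j, k} : Finset ι), x ∉ X ∧ p x ≠ 0 := fun x hx => by
    have := hT hx
    simp only [hPd, Finset.mem_sdiff, Finset.mem_filter, Finset.mem_univ, true_and] at this
    exact ⟨this.2, this.1⟩
  obtain ⟨hiX, hi⟩ := hmem i (by simp)
  obtain ⟨hjX, hj⟩ := hmem j (by simp)
  obtain ⟨hkX, hk⟩ := hmem k (by simp)
  rcases cyc hij hjk hik hiX hjX hkX hi hj hk with h | ⟨A, hA, hcA, hA'⟩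
  · exact h
  -- the torus element
  obtain ⟨s, hs, hsX, hsne, hsup⟩ : ∃ s : ι → Fˣ, (∏ x, (s x : F) = 1) ∧ (∀ x ∈ X, s x = 1) ∧
      (∃ x, ((s x : F) - 1) * p x ≠ 0) ∧
      ∀ r, r ∉ A → (((g⁻¹ : GL ι F) : Matrix ι ι F) *ᵥ fun x => ((s x : F) - 1) * p x) r = 0 := by
    have three : ∀ α β γ : Fˣ, (α : F) * β * γ = 1 → (α : F) + β + γ = 3 → α ≠ 1 →
        ∃ s : ι → Fˣ, (∏ x, (s x : F) = 1) ∧ (∀ x ∈ X, s x = 1) ∧ (∃ x, ((s x : F) - 1) * p x ≠ 0) ∧
          ∀ r, r ∉ A → (((g⁻¹ : GL ι F) : Matrix ι ι F) *ᵥ fun x => ((s x : F) - 1) * p x) r = 0 := by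
      intro α β γ h1 h3 hα
      refine ⟨fun x => if x = i then α else if x = j then β else if x = k then γ else 1, ?_, fun x hx => ?_,
        ⟨i, ?_⟩, fun r hr => ?_⟩
      · rw [← Finset.prod_subset (Finset.subset_univ ({i, j, k} : Finset ι)) (fun x _ hx => by
          simp only [Finset.mem_insert, Finset.mem_singleton, not_or] at hx
          simp [hx.1, hx.2.1, hx.2.2]), Finset.prod_insert (by simp [hij, hik]),
          Finset.prod_insert (by simp [hjk]), Finset.prod_singleton]
        simp [hij.symm, hik.symm, hjk.symm]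
        linear_combination h1
      · simp [show x ≠ i from fun e => hiX (e ▸ hx), show x ≠ j from fun e => hjX (e ▸ hx),
          show x ≠ k from fun e => hkX (e ▸ hx)]
      · dsimp only
        rw [if_pos rfl]
        exact mul_ne_zero (sub_ne_zero.2 fun e => hα (Units.ext e)) hi
      · have hv : (fun x => (((if x = i then α else if x = j then β else if x = k then γ else 1 : Fˣ) : F) - 1) * p x) =
            (-((α : F) - 1)) • (p j • E F j - p i • E F i) + ((γ : F) - 1) • (p k • E F k - p j • E F j) := by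
          ext x
          by_cases a : x = i
          · subst a; simp [hij, hik]; ring
          by_cases b : x = j
          · subst b; simp [a, hjk]; linear_combination (p x) * h3
          by_cases d : x = k
          · subst d; simp [a, b]
          simp [a, b, d]
        rw [hv, mulVec_add, mulVec_smul, mulVec_smul, Pi.add_apply, Pi.smul_apply, Pi.smul_apply, (hA' r hr).1, (hA' r hr).2,
          smul_zero, smul_zero, add_zero]
    rcases eq_or_ne (2 : F) 0 with h2 | h2
    · obtain ⟨z, hz0, hz1⟩ : ∃ z : F, z * z + z ≠ 0 ∧ z * z + z ≠ 1 := by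
        by_contra hc'
        push Not at hc'
        have hsub : (Finset.univ : Finset F) ⊆ (Polynomial.X * (Polynomial.X + 1) *
            (Polynomial.X ^ 2 + Polynomial.X + 1) : Polynomial F).roots.toFinset := fun z _ => by
          rw [Multiset.mem_toFinset, Polynomial.mem_roots]
          · simp only [Polynomial.IsRoot.def, Polynomial.eval_mul, Polynomial.eval_add, Polynomial.eval_pow,
              Polynomial.eval_X, Polynomial.eval_one, mul_eq_zero]
            by_cases h : z * z + z = 0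
            · left
              rw [show z * z + z = z * (z + 1) by ring, mul_eq_zero] at h
              exact h
            · exact Or.inr (by linear_combination hc' z h + h2)
          · refine ((Polynomial.monic_X.mul ?_).mul ?_).ne_zero <;> monicity!
        have h4 := (Finset.card_le_card hsub).trans ((Multiset.toFinset_card_le _).trans (Polynomial.card_roots' _))
        rw [Finset.card_univ] at h4
        have h5 : (Polynomial.X * (Polynomial.X + 1) *
            (Polynomial.X ^ 2 + Polynomial.X + 1) : Polynomial F).natDegree ≤ 4 := by compute_degree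
        omega
      set a := (z * z + z)⁻¹ with ha
      have hza : a * (z * z + z) = 1 := inv_mul_cancel₀ hz0
      have ha1 : a ≠ 1 := fun e => hz1 (by rw [e, one_mul] at hza; exact hza)
      have hprod : a * ((1 + a) * z + 1) * ((1 + a) * (z + 1) + 1) = 1 := by
        linear_combination (1 + a) ^ 2 * hza + (a * (1 + a) * z + a + a * a + a) * h2
      refine three (Units.mk0 a (inv_ne_zero hz0))
        (Units.mk0 _ (right_ne_zero_of_mul (left_ne_zero_of_mul_eq_one hprod)))
        (Units.mk0 _ (right_ne_zero_of_mul_eq_one hprod)) ?_ ?_ fun e => ha1 (by simpa using congrArg Units.val e)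
      · simp only [Units.val_mk0]; exact hprod
      · simp only [Units.val_mk0]; linear_combination ((1 + a) * z + a) * h2
    rcases eq_or_ne (3 : F) 0 with h3 | h3
    · obtain ⟨z, hz⟩ : (((Finset.univ.erase (0 : F)).erase 1).erase (-1)).Nonempty := by
        rw [← Finset.card_pos]
        have e1 := Finset.pred_card_le_card_erase (s := (Finset.univ.erase (0 : F)).erase 1) (a := (-1 : F))
        have e2 := Finset.pred_card_le_card_erase (s := Finset.univ.erase (0 : F)) (a := (1 : F))
        have e3 := Finset.pred_card_le_card_erase (s := (Finset.univ : Finset F)) (a := (0 : F))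
        rw [Finset.card_univ] at e3
        omega
      simp only [Finset.mem_erase, Finset.mem_univ, and_true] at hz
      have hz1 : 1 + z ≠ 0 := fun e => hz.1 (by linear_combination e)
      haveI : Fact (Nat.Prime 3) := ⟨by norm_num⟩
      haveI : CharP F 3 := by
        obtain ⟨p', hp'⟩ := CharP.exists F
        have hd : p' ∣ 3 := (CharP.cast_eq_zero_iff F p' 3).1 (by exact_mod_cast h3)
        rcases (Nat.dvd_prime (by norm_num)).1 hd with e | e
        · exact absurd e (CharP.char_ne_one F p')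
        · exact e ▸ hp'
      haveI : ExpChar F 3 := ExpChar.prime (by norm_num)
      obtain ⟨a, ha⟩ := (bijective_frobenius F 3).surjective (-(z * (1 + z))⁻¹)
      rw [frobenius_def] at ha
      have hne : -(z * (1 + z))⁻¹ ≠ 0 := neg_ne_zero.2 (inv_ne_zero (mul_ne_zero hz.2.2 hz1))
      have ha0 : a ≠ 0 := fun e => hne (by rw [← ha, e]; norm_num)
      have hprod : a * (z * a) * (-(a + z * a)) = 1 := by
        calc a * (z * a) * (-(a + z * a)) = -(a ^ 3 * (z * (1 + z))) := by ring
          _ = 1 := by rw [ha, neg_mul, inv_mul_cancel₀ (mul_ne_zero hz.2.2 hz1), neg_neg]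
      rcases eq_or_ne a 1 with e1 | e1
      · refine three (Units.mk0 (z * a) (mul_ne_zero hz.2.2 ha0))
          (Units.mk0 a ha0) (Units.mk0 (-(a + z * a)) (right_ne_zero_of_mul_eq_one hprod)) ?_ ?_ ?_
        · simp only [Units.val_mk0]; linear_combination hprod
        · simp only [Units.val_mk0]; linear_combination -h3
        · intro e
          have := congrArg Units.val e
          rw [Units.val_mk0, e1, mul_one, Units.val_one] at this
          exact hz.2.1 this
      · refine three (Units.mk0 a ha0) (Units.mk0 (z * a) (mul_ne_zero hz.2.2 ha0))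
          (Units.mk0 (-(a + z * a)) (right_ne_zero_of_mul_eq_one hprod)) ?_ ?_ ?_
        · simp only [Units.val_mk0]; exact hprod
        · simp only [Units.val_mk0]; linear_combination -h3
        · exact fun e => e1 (by simpa using congrArg Units.val e)
    · have hh : -(2 : F)⁻¹ ≠ 0 := neg_ne_zero.2 (inv_ne_zero h2)
      have h4 : (4 : F) ≠ 0 := by rw [show (4 : F) = 2 * 2 by norm_num]; exact mul_ne_zero h2 h2
      refine three (Units.mk0 4 h4) (Units.mk0 _ hh) (Units.mk0 _ hh) ?_ ?_ ?_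
      · simp only [Units.val_mk0]; field_simp; ring
      · simp only [Units.val_mk0]; field_simp; ring
      · intro e
        have := congrArg Units.val e
        simp only [Units.val_mk0, Units.val_one] at this
        exact h3 (by linear_combination this)
  set x := g⁻¹ * mon 1 s * g with hx
  have hxM : x ∈ M := mul_mem (mul_mem (inv_mem hg) (mon_mem hN (by simpa using hs))) hg
  set v := fun r => ((s r : F) - 1) * p r
  have hxc : (x : Matrix ι ι F) *ᵥ E F c = E F c + ((g⁻¹ : GL ι F) : Matrix ι ι F) *ᵥ v := by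
    rw [hx, mulVec_mul_GL, mulVec_mul_GL, ← hp]
    have : (mon 1 s : Matrix ι ι F) *ᵥ p = p + v := funext fun r => by
      have := mon_mulVec 1 s p r
      rw [Equiv.Perm.one_apply] at this
      rw [this, Pi.add_apply]
      ring
    rw [this, mulVec_add, hp, inv_mulVec_cancel]
  have hwc : (((g⁻¹ : GL ι F) : Matrix ι ι F) *ᵥ v) c = 0 := hsup c hcA
  have hv0 : ((g⁻¹ : GL ι F) : Matrix ι ι F) *ᵥ v ≠ 0 := by
    obtain ⟨r, hr⟩ := hsne
    exact mulVec_ne_zero _ fun e => hr (congrFun e r)
  have hxm : ¬ Mono x := by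
    intro h
    obtain ⟨r, hr⟩ := h c
    apply hv0
    ext t
    have k1 := congrFun hxc c
    rw [col_apply, Pi.add_apply, hwc, add_zero, E_self] at k1
    have hrc : r = c := by
      by_contra hne
      rw [hr c (Ne.symm hne)] at k1
      exact zero_ne_one k1
    by_cases htc : t = c
    · rw [htc]; exact hwc
    · have k2 := congrFun hxc t
      rw [col_apply, hr t (hrc ▸ htc), Pi.add_apply, E_ne htc, zero_add] at k2
      exact k2.symm
  refine small_step' hN hn hF hxM hxm hX
    (fun z hz => ((hgX z hz).inv.mul (mon_fx _ _ rfl)).mul (hgX z hz)) hc (P := insert c A) (fun r hr => ?_) ?_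
  · simp only [Finset.mem_insert, not_or] at hr
    rw [← col_apply, hxc, Pi.add_apply, hsup r hr.2, E_ne hr.1, add_zero]
  · have := Finset.card_insert_le c A
    omega

/-- the monomial group is maximal -/
theorem specialLinear_le (hn : 6 ≤ Fintype.card ι) (hF : 5 ≤ Fintype.card F) {g : GL ι F} (hg : g ∈ M)
    (hgm : ¬ Mono g) : Cfsg.Geo.specialLinear ι F ≤ M := by
  classical
  have hq : ∃ l : Fˣ, l ≠ 1 := Fintype.exists_ne_of_one_lt_card (by rw [Fintype.card_units]; omega) 1
  have htrv : HasTrv M := by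
    obtain ⟨y₁, hy₁, hy₁m, a, -, ha, -⟩ := line_step hN hn hF hg hgm (X := ∅) (by simp) (by simp)
    obtain ⟨h, hh, hhm, b, hb, hfb, hfa⟩ := line_step hN hn hF hy₁ hy₁m (X := {a}) (by simp) (by simpa using ha)
    have hab : a ≠ b := fun e => hb (by simp [e])
    have hfa' := hfa a (by simp)
    by_cases h1 : ∀ k, k ≠ a → (h : Matrix ι ι F) a k = 0
    swap
    · push Not at h1
      obtain ⟨k, hk, hne⟩ := h1
      exact off_row hN (by omega) hq hh hab hfa' hfb hk hne
    by_cases h2 : ∀ k, k ≠ b → (h : Matrix ι ι F) b k = 0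
    swap
    · push Not at h2
      obtain ⟨k, hk, hne⟩ := h2
      exact off_row hN (by omega) hq hh hab.symm hfb hfa' hk hne
    exact block_trv hN (by omega) hF hh hab ⟨hfa', h1⟩ ⟨hfb, h2⟩ hhm
  obtain ⟨i, j, c, hij, hc, t, ht, htm⟩ := htrv
  intro x hx
  let S : Subgroup (SpecialLinearGroup ι F) := M.comap SpecialLinearGroup.toGL
  have hS : S = ⊤ := Classical.Linear.eq_top_of_transvection_mem S fun k l hkl d => by
    show SpecialLinearGroup.toGL (SpecialLinearGroup.transvection hkl d) ∈ M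
    rcases eq_or_ne d 0 with rfl | hd
    · convert one_mem M using 1
      refine Units.ext ?_
      show (SpecialLinearGroup.transvection hkl (0 : F) : Matrix ι ι F) = _
      rw [SpecialLinearGroup.transvection_coe]
      simp
    -- a permutation carrying the one position to the other
    obtain ⟨σ, hσi, hσj⟩ : ∃ σ : Equiv.Perm ι, σ i = k ∧ σ j = l := by
      refine ⟨Equiv.swap (Equiv.swap i k j) l * Equiv.swap i k, ?_, ?_⟩
      · rw [Equiv.Perm.mul_apply, Equiv.swap_apply_left]
        exact Equiv.swap_apply_of_ne_of_ne (fun e => hij ((Equiv.swap i k).injective (by rw [Equiv.swap_apply_left]; exact e))) hkl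
      · rw [Equiv.Perm.mul_apply, Equiv.swap_apply_left]
    obtain ⟨z, hzi, hzj⟩ : ∃ z, z ≠ i ∧ z ≠ j := by
      by_contra hc
      push Not at hc
      have h4 := Finset.card_le_card (show (Finset.univ : Finset ι) ⊆ {i, j} from fun x _ => by
        by_cases hx : x = i
        · simp [hx]
        · simp [hc x hx])
      have h5 := h4.trans Finset.card_le_two
      rw [Finset.card_univ] at h5
      omega
    set r : Fˣ := Units.mk0 (d / c) (div_ne_zero hd hc)
    set e : Fˣ := Units.map (Int.castRingHom F) (Equiv.Perm.sign σ)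
    have he : ((Equiv.Perm.sign σ : ℤˣ) : ℤ) * ((e : Fˣ) : F) = 1 := by
      rcases Int.units_eq_one_or (Equiv.Perm.sign σ) with h | h <;> simp [e, h]
    set s : ι → Fˣ := fun x => if x = i then r else if x = z then r⁻¹ * e else 1
    have hm : mon σ s ∈ M := mon_mem hN (by
      rw [prod_two hzi.symm, Units.val_mul, ← mul_assoc (r : F), Units.mul_inv, one_mul, he])
    convert mul_mem (mul_mem hm ht) (inv_mem hm) using 1
    rw [eq_mul_inv_iff_mul_eq]
    refine Units.ext ?_
    rw [Units.val_mul, Units.val_mul, htm]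
    show (SpecialLinearGroup.transvection hkl d : Matrix ι ι F) * _ = _
    rw [SpecialLinearGroup.transvection_coe, add_mul, one_mul, mul_add, mul_one]
    congr 1
    have hsi : (s i : F) = d / c := by simp [s, r]
    have hsj : (s j : F) = 1 := by simp [s, hij.symm, hzj.symm]
    ext p q
    rw [Matrix.mul_apply, Matrix.mul_apply, Finset.sum_eq_single l (fun y _ hy => by
        simp [Matrix.single_apply, Ne.symm hy]) (by simp), Finset.sum_eq_single i (fun y _ hy => by
        simp [Matrix.single_apply, Ne.symm hy]) (by simp)]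
    simp only [Matrix.single_apply, mon_apply, hσi, true_and, and_true]
    by_cases hp : p = k <;> by_cases hq' : q = j
    · subst hp hq'; simp [hσj, hsi, hsj]; field_simp
    · subst hp
      have : l ≠ σ q := fun e => hq' (σ.injective (hσj.trans e)).symm
      simp [this, Ne.symm hq']
    · simp [hp, Ne.symm hp]
    · simp [hp, Ne.symm hp, Ne.symm hq']
  let x' : SpecialLinearGroup ι F := ⟨(x : Matrix ι ι F), Aschbacher.mem_specialLinear.1 hx⟩
  have hx' : x' ∈ S := hS ▸ Subgroup.mem_top _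
  have : SpecialLinearGroup.toGL x' = x := Units.ext rfl
  rw [← this]; exact hx'

end Cfsg.Agent.Forms.Max.LinearMono
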