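import Mathlib
import Cfsg.Agent.Lib.Forms.Max.Linear
import Cfsg.Agent.Lib.Forms.Max.LinearBlocks
import Cfsg.Agent.Lib.Forms.Max.LinearMono

/-!
# Stabilisers of decompositions are maximal in the special linear group

Members of dimension at least two contain transvections, and a conjugate of one of them joins two members; lines
are handled by the monomial case.
-/

set_option autoImplicit false
set_option linter.unusedSectionVars false

namespace Cfsg.Agent.Forms.Max.LinearDecomp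

open Matrix Cfsg.Agent.Aschbacher Cfsg.Agent.Forms.Max

variable {F : Type*} [Field F] {n t m : ℕ} {D : Fin t → Submodule F (Fin n → F)}

local notation "Vec" => (Fin n → F)
local notation "G" => GL (Fin n) F

/-- the matrix of a linear equivalence -/
noncomputable def glOf (e : (Fin n → F) ≃ₗ[F] (Fin n → F)) : GL (Fin n) F :=
  ⟨LinearMap.toMatrix' (e : Vec →ₗ[F] Vec), LinearMap.toMatrix' (e.symm : Vec →ₗ[F] Vec),
    by rw [← LinearMap.toMatrix'_comp, LinearEquiv.comp_symm, LinearMap.toMatrix'_id],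
    by rw [← LinearMap.toMatrix'_comp, LinearEquiv.symm_comp, LinearMap.toMatrix'_id]⟩

theorem glOf_mulVec (e : Vec ≃ₗ[F] Vec) (x : Vec) : (glOf e : Matrix (Fin n) (Fin n) F) *ᵥ x = e x :=
  LinearMap.toMatrix'_mulVec _ _

variable (hD : Cfsg.Geo.IsMDecomposition m D)
include hD

/-- the component in a member -/
noncomputable def pr (l : Fin t) : (Fin n → F) →ₗ[F] (Fin n → F) where
  toFun x := ∑ k, coord hD x l k • blockBasis hD ⟨l, k⟩
  map_add' x y := by simp only [coord_add, add_smul, Finset.sum_add_distrib]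
  map_smul' c x := by simp only [coord_smul, RingHom.id_apply, Finset.smul_sum, smul_smul]

theorem pr_mem (l : Fin t) (x : Vec) : pr hD l x ∈ D l := by
  show ∑ k, coord hD x l k • blockBasis hD ⟨l, k⟩ ∈ D l
  exact Submodule.sum_mem _ fun k _ => Submodule.smul_mem _ _ (blockBasis_mem hD l k)

theorem sum_pr (x : Vec) : ∑ l, pr hD l x = x := by
  conv_rhs => rw [← (blockBasis hD).sum_repr x]
  rw [Fintype.sum_sigma]
  rfl

theorem pr_other {l j : Fin t} (hlj : l ≠ j) {x : Vec} (hx : x ∈ D j) : pr hD l x = 0 := by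
  show ∑ k, coord hD x l k • blockBasis hD ⟨l, k⟩ = 0
  simp [LinearBlocks.coord_of_mem hD hx hlj]

theorem pr_self {l : Fin t} {x : Vec} (hx : x ∈ D l) : pr hD l x = x := by
  conv_rhs => rw [← sum_pr hD x]
  exact (Finset.sum_eq_single l (fun j _ hj => pr_other hD hj hx) (by simp)).symm

theorem block_unique {l j : Fin t} {x : Vec} (h1 : x ∈ D l) (h2 : x ∈ D j) (h0 : x ≠ 0) : l = j :=
  by_contra fun hlj => h0 (by rw [← pr_self hD h1, pr_other hD hlj h2])

theorem exists_two_pr {x : Vec} (h : ∀ j, x ∉ D j) (l : Fin t) : ∃ j, j ≠ l ∧ pr hD j x ≠ 0 := by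
  by_contra hc
  push Not at hc
  refine h l ?_
  have : ∑ j, pr hD j x = pr hD l x := Finset.sum_eq_single l (fun j _ hj => hc j hj) (by simp)
  rw [sum_pr] at this
  rw [this]
  exact pr_mem hD l x

/-- a row supported in a member -/
theorem exists_row_in {l : Fin t} {S : Submodule F Vec} {v : Vec} (hv : v ∈ D l) (hS : S ≤ D l) (h : v ∉ S) :
    ∃ ψ : Vec, (∀ x ∈ S, ψ ⬝ᵥ x = 0) ∧ ψ ⬝ᵥ v = 1 ∧ ∀ j, j ≠ l → ∀ x ∈ D j, ψ ⬝ᵥ x = 0 := by
  obtain ⟨φ, hφ, hφv⟩ := exists_row_of_not_mem h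
  let f : Vec →ₗ[F] F :=
    { toFun := fun x => φ ⬝ᵥ pr hD l x
      map_add' := fun x y => by rw [map_add, dotProduct_add]
      map_smul' := fun c x => by rw [map_smul, dotProduct_smul, RingHom.id_apply] }
  obtain ⟨ψ, hψ⟩ := exists_row f
  refine ⟨ψ, fun x hx => ?_, ?_, fun j hj x hx => ?_⟩
  · rw [hψ]; show φ ⬝ᵥ pr hD l x = 0; rw [pr_self hD (hS hx)]; exact hφ x hx
  · rw [hψ]; show φ ⬝ᵥ pr hD l v = 1; rw [pr_self hD hv, hφv]
  · rw [hψ]; show φ ⬝ᵥ pr hD l x = 0; rw [pr_other hD hj.symm hx, dotProduct_zero]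

theorem row_pr {l : Fin t} {ψ : Vec} (hψ : ∀ j, j ≠ l → ∀ x ∈ D j, ψ ⬝ᵥ x = 0) (x : Vec) :
    ψ ⬝ᵥ x = ψ ⬝ᵥ pr hD l x := by
  conv_lhs => rw [← sum_pr hD x, dotProduct_sum]
  exact Finset.sum_eq_single l (fun j _ hj => hψ j hj _ (pr_mem hD j x)) (by simp)

theorem exists_indep (hm : 2 ≤ m) (l : Fin t) (v : Vec) : ∃ a ∈ D l, a ∉ Submodule.span F {v} := by
  by_contra hc
  push Not at hc
  have h := Submodule.finrank_mono (hc : D l ≤ Submodule.span F {v})
  rw [hD.finrank_eq] at h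
  have := finrank_span_le_card (R := F) ({v} : Set Vec)
  simp at this
  omega

theorem stab_of_maps {g : G} {σ : Equiv.Perm (Fin t)} (h : ∀ i, ∀ x ∈ D i, (g : Matrix (Fin n) (Fin n) F) *ᵥ x ∈ D (σ i)) :
    g ∈ Cfsg.Geo.decompositionStabilizer D := by
  refine ⟨σ, fun i => Submodule.eq_of_le_of_finrank_eq ?_ ?_⟩
  · rintro _ ⟨x, hx, rfl⟩
    rw [Matrix.toLin'_apply]
    exact h i x hx
  · show Module.finrank F (img g (D i)) = _
    rw [finrank_img, hD.finrank_eq, hD.finrank_eq]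

theorem exists_outside {g : G} (hg : g ∉ Cfsg.Geo.decompositionStabilizer D) :
    ∃ i, ∃ a ∈ D i, ∀ j, (g : Matrix (Fin n) (Fin n) F) *ᵥ a ∉ D j := by
  by_contra hc
  push Not at hc
  have hb : ∀ i, ∃ j, ∀ x ∈ D i, (g : Matrix (Fin n) (Fin n) F) *ᵥ x ∈ D j := by
    intro i
    obtain ⟨x₀, hx₀, hx₀0⟩ := Submodule.exists_mem_ne_zero_of_ne_bot (p := D i) fun e => by
      have := hD.finrank_eq i
      rw [e, finrank_bot] at this
      exact absurd this.symm hD.pos.ne'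
    obtain ⟨j, hj⟩ := hc i x₀ hx₀
    refine ⟨j, fun x hx => ?_⟩
    by_contra hxj
    obtain ⟨k, hk⟩ := hc i x hx
    obtain ⟨r, hr⟩ := hc i (x₀ + x) ((D i).add_mem hx₀ hx)
    rw [mulVec_add] at hr
    have hkj : k ≠ j := fun e => hxj (e ▸ hk)
    have k1 := congrArg (pr hD j) (rfl : (g : Matrix (Fin n) (Fin n) F) *ᵥ x₀ + (g : Matrix (Fin n) (Fin n) F) *ᵥ x = _)
    rcases eq_or_ne r j with rfl | hrj
    · exact hxj (by simpa using (D r).sub_mem hr hj)
    · have := pr_other hD hrj.symm hr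
      rw [map_add, pr_self hD hj, pr_other hD hkj.symm hk, add_zero] at this
      exact mulVec_ne_zero g hx₀0 this
  choose σ hσ using hb
  have hinj : Function.Injective σ := by
    intro i j e
    by_contra hij
    have hle : img g (D i) ⊔ img g (D j) ≤ D (σ i) := sup_le
      (fun v hv => by obtain ⟨w, hw, rfl⟩ := mem_img.1 hv; exact hσ i w hw)
      (fun v hv => by obtain ⟨w, hw, rfl⟩ := mem_img.1 hv; exact e ▸ hσ j w hw)
    have heq : img g (D i) = D (σ i) := Submodule.eq_of_le_of_finrank_eq (le_sup_left.trans hle)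
      (by rw [finrank_img, hD.finrank_eq, hD.finrank_eq])
    obtain ⟨x, hx, hx0⟩ := Submodule.exists_mem_ne_zero_of_ne_bot (p := D j) fun e => by
      have := hD.finrank_eq j
      rw [e, finrank_bot] at this
      exact absurd this.symm hD.pos.ne'
    have : (g : Matrix (Fin n) (Fin n) F) *ᵥ x ∈ img g (D i) := heq ▸ hle (Submodule.mem_sup_right (mulVec_mem_img hx))
    obtain ⟨w, hw, hwx⟩ := mem_img.1 this
    exact hij (block_unique hD (mulVec_inj g hwx ▸ hw) hx hx0)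
  exact hg (stab_of_maps hD (σ := Equiv.ofBijective σ (Finite.injective_iff_bijective.1 hinj)) hσ)

/-- a permuting element with determinant one -/
theorem exists_perm (τ : Equiv.Perm (Fin t)) :
    ∃ g ∈ Cfsg.Geo.specialLinear (Fin n) F, ∀ i, ∀ x ∈ D i, (g : Matrix (Fin n) (Fin n) F) *ᵥ x ∈ D (τ i) := by
  classical
  let e : (Σ _ : Fin t, Fin m) ≃ (Σ _ : Fin t, Fin m) :=
    ⟨fun x => ⟨τ x.1, x.2⟩, fun x => ⟨τ.symm x.1, x.2⟩, fun x => by simp, fun x => by simp⟩
  set L := (blockBasis hD).equiv (blockBasis hD) e with hL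
  have hLb : ∀ i k, L (blockBasis hD ⟨i, k⟩) = blockBasis hD ⟨τ i, k⟩ := fun i k => by
    rw [hL, Module.Basis.equiv_apply]; rfl
  have hmaps : ∀ i, ∀ x ∈ D i, L x ∈ D (τ i) := fun i x hx => by
    rw [← pr_self hD hx]
    show L (∑ k, coord hD x i k • blockBasis hD ⟨i, k⟩) ∈ D (τ i)
    rw [map_sum]
    exact Submodule.sum_mem _ fun k _ => by rw [map_smul, hLb]; exact Submodule.smul_mem _ _ (blockBasis_mem hD _ k)
  set d := (glOf L : Matrix (Fin n) (Fin n) F).det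
  have hd0 : d ≠ 0 := ((Matrix.isUnit_iff_isUnit_det _).1 (glOf L).isUnit).ne_zero
  let i₀ : Fin t := ⟨0, by have := hD.two_le; omega⟩
  let k₀ : Fin m := ⟨0, hD.pos⟩
  set v := blockBasis hD ⟨i₀, k₀⟩
  obtain ⟨ψ, -, hψv, hψo⟩ := exists_row_in hD (v := v) (blockBasis_mem hD i₀ k₀) bot_le
    (by simp [v, (blockBasis hD).ne_zero])
  obtain ⟨u, hud, hu⟩ := LinearBlocks.exists_update ((d⁻¹ - 1) • v) ψ
    (by rw [dotProduct_smul, hψv]; simpa using hd0)
  refine ⟨glOf L * u, Aschbacher.mem_specialLinear.2 ?_, fun i x hx => ?_⟩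
  · rw [Units.val_mul, Matrix.det_mul, hud, dotProduct_smul, hψv, smul_eq_mul, mul_one, add_sub_cancel]
    exact mul_inv_cancel₀ hd0
  · rw [mulVec_mul_GL, glOf_mulVec, hu]
    refine hmaps i _ ((D i).add_mem hx ?_)
    by_cases hi : i = i₀
    · subst hi
      exact Submodule.smul_mem _ _ (Submodule.smul_mem _ _ (blockBasis_mem hD i₀ k₀))
    · rw [hψo i hi x hx, zero_smul]
      exact zero_mem _

omit hD in
/-- the permuting elements occur -/
def PermM (D : Fin t → Submodule F (Fin n → F)) (M : Subgroup (GL (Fin n) F)) : Prop :=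
  ∀ g ∈ Cfsg.Geo.specialLinear (Fin n) F,
    (∃ σ : Equiv.Perm (Fin t), ∀ i, ∀ x ∈ D i, (g : Matrix (Fin n) (Fin n) F) *ᵥ x ∈ D (σ i)) → g ∈ M

variable {M : Subgroup (GL (Fin n) F)} (hM : PermM D M)
include hM

theorem inner {l : Fin t} {a ψ : Vec} (ha : a ∈ D l) (hψ : ∀ j, j ≠ l → ∀ x ∈ D j, ψ ⬝ᵥ x = 0) (h : ψ ⬝ᵥ a = 0) :
    trv a ψ h ∈ M :=
  hM _ (trv_mem_SL _ _ h) ⟨1, fun i x hx => by
    rw [trv_mulVec, Equiv.Perm.one_apply]
    by_cases hi : i = l
    · exact (D i).add_mem hx ((D i).smul_mem _ (hi ▸ ha))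
    · rw [hψ i hi x hx, zero_smul, add_zero]; exact hx⟩

omit hD hM in
theorem trv_mem_of_eq {u φ φ' : Vec} {h : φ ⬝ᵥ u = 0} (hu : trv u φ h ∈ M) (e : φ = φ') (h' : φ' ⬝ᵥ u = 0) :
    trv u φ' h' ∈ M := by subst e; exact hu

omit hD hM in
theorem trv_add_mem {u φ φ' : Vec} {h : φ ⬝ᵥ u = 0} {h' : φ' ⬝ᵥ u = 0} (hu : trv u φ h ∈ M) (hu' : trv u φ' h' ∈ M)
    (h'' : (φ + φ') ⬝ᵥ u = 0) : trv u (φ + φ') h'' ∈ M := by
  convert mul_mem hu hu' using 1
  refine gl_ext fun x => ?_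
  rw [mulVec_mul_GL, trv_mulVec, trv_mulVec, trv_mulVec, dotProduct_add φ, dotProduct_smul, h, add_dotProduct, add_smul]
  simp
  module

omit hD hM in
theorem trv_conj_mem {u φ φ' : Vec} {h : φ ⬝ᵥ u = 0} (hu : trv u φ h ∈ M) {g : G} (hg : g ∈ M) {u' : Vec}
    (hgu : (g : Matrix (Fin n) (Fin n) F) *ᵥ u = u') (hgφ : ∀ x, φ' ⬝ᵥ ((g : Matrix (Fin n) (Fin n) F) *ᵥ x) = φ ⬝ᵥ x)
    (h' : φ' ⬝ᵥ u' = 0) : trv u' φ' h' ∈ M := by
  convert mul_mem (mul_mem hg hu) (inv_mem hg) using 1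
  rw [eq_mul_inv_iff_mul_eq]
  refine gl_ext fun x => ?_
  rw [mulVec_mul_GL, mulVec_mul_GL, trv_mulVec, trv_mulVec, mulVec_add, mulVec_smul, hgu, hgφ]

/-- joining two members -/
def Join (l j : Fin t) : Prop :=
  ∀ a ∈ D l, ∀ φ : Fin n → F, (∀ i, i ≠ j → ∀ x ∈ D i, φ ⬝ᵥ x = 0) → ∀ h : φ ⬝ᵥ a = 0, trv a φ h ∈ M

theorem join_of_one (hm : 2 ≤ m) {l j : Fin t} (hlj : l ≠ j) {a φ : Vec} (ha : a ∈ D l) (ha0 : a ≠ 0)
    (hφ : ∀ i, i ≠ j → ∀ x ∈ D i, φ ⬝ᵥ x = 0) {b : Vec} (hb : b ∈ D j) (hφb : φ ⬝ᵥ b ≠ 0) {h : φ ⬝ᵥ a = 0}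
    (hT : trv a φ h ∈ M) : Join (D := D) (M := M) l j := by
  have hva : ∀ {ψ : Vec}, (∀ i, i ≠ j → ∀ x ∈ D i, ψ ⬝ᵥ x = 0) → ψ ⬝ᵥ a = 0 := fun hψ => hψ l hlj a ha
  -- spreading over the rows
  have step : ∀ {φ : Vec} (hφ : ∀ i, i ≠ j → ∀ x ∈ D i, φ ⬝ᵥ x = 0), trv a φ (hva hφ) ∈ M → ∀ {ψ : Vec}
      (hψ : ∀ i, i ≠ j → ∀ x ∈ D i, ψ ⬝ᵥ x = 0), (∃ b ∈ D j, ψ ⬝ᵥ b = 0 ∧ φ ⬝ᵥ b ≠ 0) → trv a ψ (hva hψ) ∈ M := by
    intro φ hφ hT ψ hψ ⟨b, hb, hψb, hφb⟩
    set c := φ ⬝ᵥ b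
    have hψ' : ∀ i, i ≠ j → ∀ x ∈ D i, (c⁻¹ • ψ) ⬝ᵥ x = 0 := fun i hi x hx => by
      rw [smul_dotProduct, hψ i hi x hx, smul_zero]
    have hb' : (c⁻¹ • ψ) ⬝ᵥ b = 0 := by rw [smul_dotProduct, hψb, smul_zero]
    have hx := inner hD hM hb hψ' hb'
    have h1 : trv a (φ - ψ) (by rw [sub_dotProduct, hva hφ, hva hψ, sub_zero]) ∈ M := by
      refine trv_conj_mem hT hx ?_ (fun x => ?_) _
      · rw [trv_mulVec, hψ' l hlj a ha, zero_smul, add_zero]
      · rw [trv_mulVec, dotProduct_add, dotProduct_smul, sub_dotProduct, sub_dotProduct, hψb, smul_dotProduct,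
          smul_eq_mul, smul_eq_mul, sub_zero, mul_assoc, mul_comm (ψ ⬝ᵥ x) (φ ⬝ᵥ b), ← mul_assoc,
          inv_mul_cancel₀ hφb, one_mul, sub_add_cancel]
    have h2 : trv a (φ + -(φ - ψ)) (by rw [show φ + -(φ - ψ) = ψ by abel]; exact hva hψ) ∈ M := by
      refine trv_add_mem hT ?_ _ (h' := by rw [neg_dotProduct, sub_dotProduct, hva hφ, hva hψ, sub_zero, neg_zero])
      convert inv_mem h1 using 1
      refine eq_inv_of_mul_eq_one_right (gl_ext fun x => ?_)
      rw [mulVec_mul_GL, trv_mulVec, trv_mulVec, Units.val_one, one_mulVec, neg_dotProduct, dotProduct_add,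
        dotProduct_smul, sub_dotProduct φ ψ a, hva hφ, hva hψ]
      simp
      module
    exact trv_mem_of_eq h2 (by abel) _
  have hall : ∀ {ψ : Vec} (hψ : ∀ i, i ≠ j → ∀ x ∈ D i, ψ ⬝ᵥ x = 0), trv a ψ (hva hψ) ∈ M := by
    intro ψ hψ
    by_cases hb' : ∃ b ∈ D j, ψ ⬝ᵥ b = 0 ∧ φ ⬝ᵥ b ≠ 0
    · exact step hφ hT hψ hb'
    push Not at hb'
    obtain ⟨z, hz, hzb⟩ := exists_indep hD hm j b
    obtain ⟨ψ₁, h1b, h1z, h1o⟩ := exists_row_in hD hz (S := Submodule.span F {b})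
      ((Submodule.span_singleton_le_iff_mem _ _).2 hb) hzb
    have hT1 := step hφ hT h1o ⟨b, hb, h1b b (Submodule.mem_span_singleton_self b), hφb⟩
    refine step h1o hT1 hψ ?_
    by_cases hψb : ψ ⬝ᵥ b = 0
    · exact absurd (hb' b hb hψb) hφb
    refine ⟨z - (ψ ⬝ᵥ z / ψ ⬝ᵥ b) • b, (D j).sub_mem hz ((D j).smul_mem _ hb), ?_, ?_⟩
    · rw [dotProduct_sub, dotProduct_smul, smul_eq_mul, div_mul_cancel₀ _ hψb, sub_self]
    · rw [dotProduct_sub, dotProduct_smul, h1z, h1b b (Submodule.mem_span_singleton_self b), smul_zero, sub_zero]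
      exact one_ne_zero
  intro a' ha' ψ hψ hψa'
  by_cases hdep : a' ∈ Submodule.span F {a}
  · obtain ⟨c, rfl⟩ := Submodule.mem_span_singleton.1 hdep
    have hcψ : ∀ i, i ≠ j → ∀ x ∈ D i, (c • ψ) ⬝ᵥ x = 0 := fun i hi x hx => by
      rw [smul_dotProduct, hψ i hi x hx, smul_zero]
    convert hall hcψ using 1
    refine gl_ext fun x => ?_
    rw [trv_mulVec, trv_mulVec, smul_dotProduct, smul_smul, smul_eq_mul, mul_comm]
  · have hna : a ∉ Submodule.span F {a' - a} := fun hmem => by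
      obtain ⟨c, hc⟩ := Submodule.mem_span_singleton.1 hmem
      rcases eq_or_ne c 0 with rfl | hc0
      · exact ha0 (by rw [← hc, zero_smul])
      · refine hdep (Submodule.mem_span_singleton.2 ⟨1 + c⁻¹, ?_⟩)
        rw [add_smul, one_smul]
        nth_rewrite 2 [← hc]
        rw [inv_smul_smul₀ hc0, add_sub_cancel]
    obtain ⟨χ, h1, h2, h3⟩ := exists_row_in hD ha (S := Submodule.span F {a' - a})
      ((Submodule.span_singleton_le_iff_mem _ _).2 ((D l).sub_mem ha' ha)) hna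
    have hx := inner hD hM ((D l).sub_mem ha' ha) h3 (h1 _ (Submodule.mem_span_singleton_self _))
    refine trv_conj_mem (hall hψ) hx ?_ (fun x => ?_) hψa'
    · rw [trv_mulVec, h2, one_smul, add_sub_cancel]
    · rw [trv_mulVec, dotProduct_add, dotProduct_smul, hψ l hlj _ ((D l).sub_mem ha' ha), smul_zero, add_zero]

theorem join_all (hm : 2 ≤ m) {l j : Fin t} (hlj : l ≠ j) (hJ : Join (D := D) (M := M) l j) {p q : Fin t} (hpq : p ≠ q) :
    Join (D := D) (M := M) p q := by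
  intro a ha φ hφ h
  obtain ⟨τ, hp, hq⟩ : ∃ τ : Equiv.Perm (Fin t), τ l = p ∧ τ j = q := by
    refine ⟨Equiv.swap (Equiv.swap l p j) q * Equiv.swap l p, ?_, ?_⟩
    · rw [Equiv.Perm.mul_apply, Equiv.swap_apply_left]
      exact Equiv.swap_apply_of_ne_of_ne (fun e => hlj ((Equiv.swap l p).injective (by rw [Equiv.swap_apply_left]; exact e))) hpq
    · rw [Equiv.Perm.mul_apply, Equiv.swap_apply_left]
  obtain ⟨g, hg, hmaps⟩ := exists_perm hD τ
  have hgM := hM g hg ⟨τ, hmaps⟩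
  obtain ⟨σ, hσ⟩ := (inv_mem (stab_of_maps hD hmaps) : g⁻¹ ∈ _)
  set a₀ := ((g⁻¹ : G) : Matrix (Fin n) (Fin n) F) *ᵥ a
  set φ₀ := φ ᵥ* (g : Matrix (Fin n) (Fin n) F)
  have hdot : ∀ x, φ₀ ⬝ᵥ x = φ ⬝ᵥ ((g : Matrix (Fin n) (Fin n) F) *ᵥ x) := fun x => (dotProduct_mulVec _ _ _).symm
  have hga : (g : Matrix (Fin n) (Fin n) F) *ᵥ a₀ = a := mulVec_inv_cancel g a
  have ha₀ : a₀ ∈ D l := by
    have heq : img g (D l) = D p := Submodule.eq_of_le_of_finrank_eq
      (fun v hv => by obtain ⟨w, hw, rfl⟩ := mem_img.1 hv; exact hp ▸ hmaps l w hw)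
      (by rw [finrank_img, hD.finrank_eq, hD.finrank_eq])
    obtain ⟨w, hw, hwa⟩ := mem_img.1 (heq ▸ ha : a ∈ img g (D l))
    rw [show a₀ = w from mulVec_inj g (hga.trans hwa.symm)]
    exact hw
  refine trv_conj_mem (hJ a₀ ha₀ φ₀ (fun i hi x hx => ?_) (by rw [hdot, hga]; exact h)) hgM hga (fun x => (hdot x).symm) h
  rw [hdot]
  exact hφ (τ i) (fun e => hi (τ.injective (e.trans hq.symm))) _ (hmaps i x hx)

theorem centres_of_join (hm : 2 ≤ m) (hJ : ∀ p q, p ≠ q → Join (D := D) (M := M) p q) (u : Vec) : u ∈ centres M := by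
  classical
  have hblock : ∀ i, ∀ a ∈ D i, a ∈ centres M := by
    intro i a ha φ h
    let f : Fin t → Vec := fun l => Classical.choose (exists_row
      { toFun := fun x => φ ⬝ᵥ pr hD l x
        map_add' := fun x y => by rw [map_add, dotProduct_add]
        map_smul' := fun c x => by rw [map_smul, dotProduct_smul, RingHom.id_apply] })
    have hf : ∀ l x, f l ⬝ᵥ x = φ ⬝ᵥ pr hD l x := fun l x => Classical.choose_spec (exists_row
      { toFun := fun x => φ ⬝ᵥ pr hD l x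
        map_add' := fun x y => by rw [map_add, dotProduct_add]
        map_smul' := fun c x => by rw [map_smul, dotProduct_smul, RingHom.id_apply] }) x
    have hfo : ∀ l j, j ≠ l → ∀ x ∈ D j, f l ⬝ᵥ x = 0 := fun l j hj x hx => by
      rw [hf, pr_other hD hj.symm hx, dotProduct_zero]
    have hfa : ∀ l, f l ⬝ᵥ a = 0 := fun l => by
      by_cases hl : l = i
      · rw [hf, hl, pr_self hD ha]; exact h
      · exact hfo l i (Ne.symm hl) a ha
    have hone : ∀ l, trv a (f l) (hfa l) ∈ M := fun l => by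
      by_cases hl : l = i
      · exact inner hD hM ha (hl ▸ hfo l) (hfa l)
      · exact hJ i l (Ne.symm hl) a ha (f l) (hfo l) (hfa l)
    have hsum : ∀ s : Finset (Fin t), ∀ hh : (∑ l ∈ s, f l) ⬝ᵥ a = 0, trv a (∑ l ∈ s, f l) hh ∈ M := by
      intro s
      induction s using Finset.induction with
      | empty =>
        intro hh
        convert one_mem M using 1
        exact gl_ext fun x => by rw [trv_mulVec]; simp
      | insert l s hl ih =>
        intro hh
        have hs : (∑ l ∈ s, f l) ⬝ᵥ a = 0 := by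
          rw [sum_dotProduct]; exact Finset.sum_eq_zero fun r _ => hfa r
        refine trv_mem_of_eq (trv_add_mem (hone l) (ih hs) ?_) (Finset.sum_insert hl).symm hh
        rw [add_dotProduct, hfa, hs, add_zero]
    refine trv_mem_of_eq (hsum Finset.univ (by rw [sum_dotProduct]; exact Finset.sum_eq_zero fun r _ => hfa r)) ?_ h
    refine dotProduct_eq _ _ fun x => ?_
    rw [sum_dotProduct]
    simp only [hf]
    rw [← dotProduct_sum, sum_pr]
  by_cases hu : u = 0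
  · subst hu; exact hblock ⟨0, by have := hD.two_le; omega⟩ 0 (zero_mem _)
  obtain ⟨i, hi⟩ : ∃ i, pr hD i u ≠ 0 := by
    by_contra hc
    push Not at hc
    exact hu (by rw [← sum_pr hD u]; simp [hc])
  obtain ⟨ψ, -, hψa, hψo⟩ := exists_row_in hD (pr_mem hD i u) bot_le (by simpa using hi)
  have hw0 : ψ ⬝ᵥ (u - pr hD i u) = 0 := by
    rw [dotProduct_sub, row_pr hD hψo u, sub_self]
  have hzero : ∀ l, l ≠ i → ψ ⬝ᵥ pr hD l u = 0 := fun l hl => hψo l hl _ (pr_mem hD l u)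
  have hsum : ∀ s : Finset (Fin t), i ∉ s → ∀ hh : ψ ⬝ᵥ (∑ l ∈ s, pr hD l u) = 0, trv (∑ l ∈ s, pr hD l u) ψ hh ∈ M := by
    intro s
    induction s using Finset.induction with
    | empty =>
      intro _ hh
      convert one_mem M using 1
      exact gl_ext fun x => by rw [trv_mulVec]; simp
    | insert l s hl ih =>
      intro his hh
      simp only [Finset.mem_insert, not_or] at his
      have hs : ψ ⬝ᵥ (∑ l ∈ s, pr hD l u) = 0 := by
        rw [dotProduct_sum]; exact Finset.sum_eq_zero fun r hr => hzero r (fun e => his.2 (e ▸ hr))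
      convert mul_mem (hJ l i (Ne.symm his.1) _ (pr_mem hD l u) ψ hψo (hzero l (Ne.symm his.1))) (ih his.2 hs) using 1
      refine gl_ext fun x => ?_
      rw [mulVec_mul_GL, trv_mulVec, trv_mulVec, trv_mulVec, dotProduct_add ψ, dotProduct_smul, hs, Finset.sum_insert hl]
      simp
      module
  have hrest : ∑ l ∈ Finset.univ.erase i, pr hD l u = u - pr hD i u := by
    rw [Finset.sum_erase_eq_sub (Finset.mem_univ i), sum_pr]
  have hT : trv (u - pr hD i u) ψ hw0 ∈ M := by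
    have hh : ψ ⬝ᵥ (∑ l ∈ Finset.univ.erase i, pr hD l u) = 0 := hrest ▸ hw0
    convert hsum _ (Finset.notMem_erase i _) hh using 1
    exact gl_ext fun x => by rw [trv_mulVec, trv_mulVec, hrest]
  have := centres_map hT (hblock i _ (pr_mem hD i u))
  rwa [trv_mulVec, hψa, one_smul, add_sub_cancel] at this

theorem sl_le (hm : 2 ≤ m) (hq : m = 2 → ∃ c : F, c ≠ 0 ∧ c ≠ 1) (hn : 6 ≤ n) {g : G} (hg : g ∈ M)
    (hgs : g ∉ Cfsg.Geo.decompositionStabilizer D) : Cfsg.Geo.specialLinear (Fin n) F ≤ M := by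
  classical
  obtain ⟨i, a, ha, hga⟩ := exists_outside hD hgs
  have ha0 : a ≠ 0 := by rintro rfl; exact hga i (by rw [mulVec_zero]; exact zero_mem _)
  obtain ⟨z, hz, hza⟩ := exists_indep hD hm i a
  obtain ⟨ψ, hψa, hψz, hψo⟩ := exists_row_in hD hz (S := Submodule.span F {a})
    ((Submodule.span_singleton_le_iff_mem _ _).2 ha) hza
  set φ := ψ ᵥ* ((g⁻¹ : G) : Matrix (Fin n) (Fin n) F)
  set u := (g : Matrix (Fin n) (Fin n) F) *ᵥ a
  have hdot : ∀ x, φ ⬝ᵥ x = ψ ⬝ᵥ (((g⁻¹ : G) : Matrix (Fin n) (Fin n) F) *ᵥ x) := fun x => (dotProduct_mulVec _ _ _).symm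
  have hφu : φ ⬝ᵥ u = 0 := by
    rw [hdot, inv_mulVec_cancel]; exact hψa a (Submodule.mem_span_singleton_self a)
  have hT : trv u φ hφu ∈ M :=
    trv_conj_mem (inner hD hM ha hψo (hψa a (Submodule.mem_span_singleton_self a))) hg rfl
      (fun x => by rw [hdot, inv_mulVec_cancel]) hφu
  have hφ0 : ∃ j, ∃ b ∈ D j, φ ⬝ᵥ b ≠ 0 := by
    by_contra hc
    push Not at hc
    have : φ ⬝ᵥ ((g : Matrix (Fin n) (Fin n) F) *ᵥ z) = 0 := by
      rw [← sum_pr hD ((g : Matrix (Fin n) (Fin n) F) *ᵥ z), dotProduct_sum]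
      exact Finset.sum_eq_zero fun l _ => hc l _ (pr_mem hD l _)
    rw [hdot, inv_mulVec_cancel, hψz] at this
    exact one_ne_zero this
  -- an edge from a member meeting the centre
  have edge : ∀ {φ : Vec} {h : φ ⬝ᵥ u = 0}, trv u φ h ∈ M → ∀ l a', a' ∈ D l → φ ⬝ᵥ a' = 0 →
      pr hD l u ≠ 0 → a' ∉ Submodule.span F {pr hD l u} → ∀ j, j ≠ l → ∀ b ∈ D j, φ ⬝ᵥ b ≠ 0 →
      ∃ l j, l ≠ j ∧ Join (D := D) (M := M) l j := by
    intro φ h hT l a' ha' hφa hpu hind j hjl b hb hφb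
    have hnot : pr hD l u ∉ Submodule.span F {a'} := fun hmem => by
      obtain ⟨c, hc⟩ := Submodule.mem_span_singleton.1 hmem
      rcases eq_or_ne c 0 with rfl | hc0
      · exact hpu (by rw [← hc, zero_smul])
      · exact hind (Submodule.mem_span_singleton.2 ⟨c⁻¹, by rw [← hc, inv_smul_smul₀ hc0]⟩)
    obtain ⟨χ, hχa, hχu, hχo⟩ := exists_row_in hD (pr_mem hD l u) (S := Submodule.span F {a'})
      ((Submodule.span_singleton_le_iff_mem _ _).2 ha') hnot
    have hx := inner hD hM ha' hχo (hχa a' (Submodule.mem_span_singleton_self a'))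
    have hu' : φ ⬝ᵥ (u + a') = 0 := by rw [dotProduct_add, h, hφa, add_zero]
    have h1 : trv (u + a') φ hu' ∈ M := by
      refine trv_conj_mem hT hx ?_ (fun x => ?_) hu'
      · rw [trv_mulVec, row_pr hD hχo u, hχu, one_smul]
      · rw [trv_mulVec, dotProduct_add, dotProduct_smul, hφa, smul_zero, add_zero]
    have h2 : trv a' φ hφa ∈ M := by
      convert mul_mem h1 (inv_mem hT) using 1
      rw [eq_mul_inv_iff_mul_eq]
      refine gl_ext fun x => ?_
      rw [mulVec_mul_GL, trv_mulVec, trv_mulVec, trv_mulVec, dotProduct_add, dotProduct_smul, h]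
      simp
      module
    obtain ⟨z', hz', hzb⟩ := exists_indep hD hm j b
    obtain ⟨χ', hχb, hχz, hχo'⟩ := exists_row_in hD hz' (S := Submodule.span F {b})
      ((Submodule.span_singleton_le_iff_mem _ _).2 hb) hzb
    have hcχ : ∀ r, r ≠ j → ∀ x ∈ D r, ((φ ⬝ᵥ b) • χ') ⬝ᵥ x = 0 := fun r hr x hx => by
      rw [smul_dotProduct, hχo' r hr x hx, smul_zero]
    have hca : ((φ ⬝ᵥ b) • χ') ⬝ᵥ a' = 0 := hcχ l hjl.symm a' ha'
    have hna : (φ - (φ ⬝ᵥ b) • χ') ⬝ᵥ a' = 0 := by rw [sub_dotProduct, hφa, hca, sub_zero]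
    have hy := inner hD hM hb hχo' (hχb b (Submodule.mem_span_singleton_self b))
    have h3 : trv a' (φ - (φ ⬝ᵥ b) • χ') hna ∈ M := by
      refine trv_conj_mem h2 hy ?_ (fun x => ?_) hna
      · rw [trv_mulVec, hχo' l hjl.symm a' ha', zero_smul, add_zero]
      · rw [trv_mulVec, dotProduct_add, dotProduct_smul, sub_dotProduct, sub_dotProduct, smul_dotProduct,
          smul_dotProduct, hχb b (Submodule.mem_span_singleton_self b), smul_zero, sub_zero, smul_eq_mul, smul_eq_mul,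
          mul_comm (χ' ⬝ᵥ x), sub_add_cancel]
    have h4 : trv a' ((φ ⬝ᵥ b) • χ') hca ∈ M := by
      convert mul_mem (inv_mem h3) h2 using 1
      rw [eq_inv_mul_iff_mul_eq]
      refine gl_ext fun x => ?_
      rw [mulVec_mul_GL, trv_mulVec, trv_mulVec, trv_mulVec, dotProduct_add, dotProduct_smul, hna, sub_dotProduct]
      simp
      module
    have ha'0 : a' ≠ 0 := fun e => hind (e ▸ zero_mem _)
    exact ⟨l, j, hjl.symm, join_of_one hD hM hm hjl.symm ha' ha'0 hcχ hz'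
      (by rw [smul_dotProduct, hχz, smul_eq_mul, mul_one]; exact hφb) h4⟩
  obtain ⟨l, j, hlj, hJ⟩ : ∃ l j, l ≠ j ∧ Join (D := D) (M := M) l j := by
    obtain ⟨j₀, b₀, hb₀, hφb₀⟩ := hφ0
    by_cases hA : ∃ l, pr hD l u ≠ 0 ∧ ∃ a' ∈ D l, φ ⬝ᵥ a' = 0 ∧ a' ∉ Submodule.span F {pr hD l u} ∧
        ∃ j, j ≠ l ∧ ∃ b ∈ D j, φ ⬝ᵥ b ≠ 0
    · obtain ⟨l, hl, a', ha', h1, h2, j, hj, b, hb, h3⟩ := hA
      exact edge hT l a' ha' h1 hl h2 j hj b hb h3
    push Not at hA
    -- two members meeting the centre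
    obtain ⟨l'', hl''j, hl''⟩ := exists_two_pr hD hga j₀
    have hker : ∀ l, pr hD l u ≠ 0 → l ≠ j₀ → ∀ a' ∈ D l, φ ⬝ᵥ a' = 0 → a' ∈ Submodule.span F {pr hD l u} := by
      intro l hl hlj a' ha' h1
      by_contra h2
      exact hφb₀ (hA l hl a' ha' h1 h2 j₀ (Ne.symm hlj) b₀ hb₀)
    have hm2 : m = 2 := by
      by_contra hne
      have h3 : 3 ≤ m := by omega
      let f : D l'' →ₗ[F] F :=
        { toFun := fun x => φ ⬝ᵥ (x : Vec)
          map_add' := fun x y => by simp [dotProduct_add]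
          map_smul' := fun c x => by simp [dotProduct_smul] }
      have h4 := f.finrank_range_add_finrank_ker
      have h5 : Module.finrank F (LinearMap.range f) ≤ 1 :=
        (Submodule.finrank_le _).trans (Module.finrank_self F).le
      have h6 : (LinearMap.ker f).map (D l'').subtype ≤ Submodule.span F {pr hD l'' u} := by
        rintro _ ⟨x, hx, rfl⟩
        exact hker l'' hl'' hl''j _ x.2 hx
      have h7 := Submodule.finrank_mono h6
      rw [Submodule.finrank_map_subtype_eq] at h7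
      have h8 := finrank_span_le_card (R := F) ({pr hD l'' u} : Set Vec)
      simp at h8
      rw [hD.finrank_eq] at h4
      omega
    obtain ⟨c, hc0, hc1⟩ := hq hm2
    -- a member other than `l''` on which the row is not zero and the centre is isotropic
    obtain ⟨f, hf, hφf⟩ : ∃ f ∈ D l'', φ ⬝ᵥ f ≠ 0 := by
      by_contra hc
      push Not at hc
      obtain ⟨w, hw, hwu⟩ := exists_indep hD hm l'' (pr hD l'' u)
      exact hwu (hker l'' hl'' hl''j w hw (hc w hw))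
    have hpu0 : φ ⬝ᵥ pr hD l'' u = 0 := by
      by_contra hne
      obtain ⟨w, hw, hwu⟩ := exists_indep hD hm l'' (pr hD l'' u)
      set w' := w - (φ ⬝ᵥ w / φ ⬝ᵥ pr hD l'' u) • pr hD l'' u
      have h1 : φ ⬝ᵥ w' = 0 := by
        rw [dotProduct_sub, dotProduct_smul, smul_eq_mul, div_mul_cancel₀ _ hne, sub_self]
      have := hker l'' hl'' hl''j w' ((D l'').sub_mem hw ((D l'').smul_mem _ (pr_mem hD l'' u))) h1
      exact hwu (by
        have h2 := Submodule.add_mem _ this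
          (Submodule.smul_mem _ (φ ⬝ᵥ w / φ ⬝ᵥ pr hD l'' u) (Submodule.mem_span_singleton_self (pr hD l'' u)))
        rwa [sub_add_cancel] at h2)
    obtain ⟨l₂, hl₂, hl₂u⟩ := exists_two_pr hD hga l''
    obtain ⟨l', hl'1, hl'2⟩ : ∃ l', l' ≠ l'' ∧ l' ≠ l₂ := by
      have ht : 3 ≤ t := by
        have := card_of_decomposition hD
        rw [hm2] at this
        omega
      by_contra hc
      push Not at hc
      have h4 := Finset.card_le_card (show (Finset.univ : Finset (Fin t)) ⊆ {l'', l₂} from fun x _ => by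
        by_cases hx : x = l''
        · simp [hx]
        · simp [hc x hx])
      have h5 := h4.trans Finset.card_le_two
      rw [Finset.card_univ, Fintype.card_fin] at h5
      omega
    have hfn : f ∉ Submodule.span F {pr hD l'' u} := fun hmem => by
      obtain ⟨r, hr⟩ := Submodule.mem_span_singleton.1 hmem
      exact hφf (by rw [← hr, dotProduct_smul, hpu0, smul_zero])
    obtain ⟨χ, hχ1, hχf, hχo⟩ := exists_row_in hD hf (S := Submodule.span F {pr hD l'' u})
      ((Submodule.span_singleton_le_iff_mem _ _).2 (pr_mem hD l'' u)) hfn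
    obtain ⟨b, hb, hbn⟩ := exists_indep hD hm l' (pr hD l' u)
    obtain ⟨χ', hχ'1, hχ'b, hχ'o⟩ := exists_row_in hD hb (S := Submodule.span F {pr hD l' u})
      ((Submodule.span_singleton_le_iff_mem _ _).2 (pr_mem hD l' u)) hbn
    have hχu : χ ⬝ᵥ u = 0 := by rw [row_pr hD hχo]; exact hχ1 _ (Submodule.mem_span_singleton_self _)
    have hχ'u : χ' ⬝ᵥ u = 0 := by rw [row_pr hD hχ'o]; exact hχ'1 _ (Submodule.mem_span_singleton_self _)
    obtain ⟨g₁, hd₁, hg₁⟩ := LinearBlocks.exists_update ((c - 1) • f) χ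
      (by rw [dotProduct_smul, hχf, smul_eq_mul, mul_one, add_sub_cancel]; exact hc0)
    obtain ⟨g₂, hd₂, hg₂⟩ := LinearBlocks.exists_update ((c⁻¹ - 1) • b) χ'
      (by rw [dotProduct_smul, hχ'b, smul_eq_mul, mul_one, add_sub_cancel]; exact inv_ne_zero hc0)
    have hbχ : χ ⬝ᵥ b = 0 := hχo l' hl'1 b hb
    have hfχ' : χ' ⬝ᵥ f = 0 := hχ'o l'' hl'1.symm f hf
    have hgT : g₁ * g₂ ∈ M := by
      refine hM _ (Aschbacher.mem_specialLinear.2 ?_) ⟨1, fun i x hx => ?_⟩
      · rw [Units.val_mul, Matrix.det_mul, hd₁, hd₂, dotProduct_smul, hχf, dotProduct_smul, hχ'b]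
        simp only [smul_eq_mul, mul_one, add_sub_cancel]
        exact mul_inv_cancel₀ hc0
      · rw [mulVec_mul_GL, hg₁, hg₂, Equiv.Perm.one_apply]
        have k2 : x + (χ' ⬝ᵥ x) • ((c⁻¹ - 1) • b) ∈ D i := by
          by_cases hi : i = l'
          · exact (D i).add_mem hx ((D i).smul_mem _ ((D i).smul_mem _ (hi ▸ hb)))
          · rw [hχ'o i hi x hx, zero_smul, add_zero]; exact hx
        by_cases hi : i = l''
        · exact (D i).add_mem k2 ((D i).smul_mem _ ((D i).smul_mem _ (hi ▸ hf)))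
        · rw [hχo i hi _ k2, zero_smul, add_zero]; exact k2
    have hgx : ∀ x, ((g₁ * g₂ : G) : Matrix (Fin n) (Fin n) F) *ᵥ x =
        x + ((χ' ⬝ᵥ x) * (c⁻¹ - 1)) • b + ((χ ⬝ᵥ x) * (c - 1)) • f := fun x => by
      rw [mulVec_mul_GL, hg₁, hg₂, dotProduct_add, dotProduct_smul, dotProduct_smul, hbχ, smul_smul, smul_smul]
      simp
    set φd := ((c⁻¹ - 1) * (φ ⬝ᵥ f)) • χ + ((c - 1) * (φ ⬝ᵥ b)) • χ'
    have hdu : φd ⬝ᵥ u = 0 := by rw [add_dotProduct, smul_dotProduct, smul_dotProduct, hχu, hχ'u, smul_zero, smul_zero, add_zero]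
    have hnew : trv u (φ + φd) (by rw [add_dotProduct, hφu, hdu, add_zero]) ∈ M := by
      refine trv_conj_mem hT hgT ?_ (fun x => ?_) _
      · rw [hgx, hχu, hχ'u]; simp
      · rw [hgx]
        simp only [φd, add_dotProduct, smul_dotProduct, dotProduct_add, dotProduct_smul, hbχ, hfχ', hχf, hχ'b,
          smul_eq_mul]
        field_simp
        ring
    have hd : trv u φd hdu ∈ M := by
      have hnu : (-φ) ⬝ᵥ u = 0 := by rw [neg_dotProduct, hφu, neg_zero]
      have hneg : trv u (-φ) hnu ∈ M := by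
        convert inv_mem hT using 1
        refine eq_inv_of_mul_eq_one_right (gl_ext fun x => ?_)
        rw [mulVec_mul_GL, trv_mulVec, trv_mulVec, Units.val_one, one_mulVec, neg_dotProduct, dotProduct_add,
          dotProduct_smul, hφu]
        simp
      exact trv_mem_of_eq (trv_add_mem hnew hneg (by rw [add_dotProduct, add_dotProduct, hφu, hdu, hnu]; simp))
        (by abel) hdu
    obtain ⟨w, hw, hwu⟩ := exists_indep hD hm l₂ (pr hD l₂ u)
    refine edge hd l₂ w hw ?_ hl₂u hwu l'' hl₂.symm f hf ?_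
    · rw [add_dotProduct, smul_dotProduct, smul_dotProduct, hχo l₂ hl₂ w hw, hχ'o l₂ hl'2.symm w hw]; simp
    · rw [add_dotProduct, smul_dotProduct, smul_dotProduct, hχf, hfχ', smul_zero, add_zero, smul_eq_mul, mul_one]
      exact mul_ne_zero (sub_ne_zero.2 fun e => hc1 (inv_eq_one.1 e)) hφf
  exact specialLinear_le_of_centres fun v => centres_of_join hD hM hm (fun p q hpq => join_all hD hM hm hlj hJ hpq) v

omit hM

theorem sl_le_lines [Fintype F] (hm : m = 1) (hq : 5 ≤ Fintype.card F) (hn : 6 ≤ n) (hM : PermM D M) {g : GL (Fin n) F}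
    (hg : g ∈ M) (hgs : g ∉ Cfsg.Geo.decompositionStabilizer D) : Cfsg.Geo.specialLinear (Fin n) F ≤ M := by
  subst hm
  classical
  have htn : t = n := by have := card_of_decomposition hD; omega
  subst htn
  let e : (Σ _ : Fin t, Fin 1) ≃ Fin t := ⟨fun x => x.1, fun i => ⟨i, 0⟩, fun x => by
    obtain ⟨i, k⟩ := x; simp [Subsingleton.elim k 0], fun i => rfl⟩
  set B := (blockBasis hD).reindex e with hB
  have hBD : ∀ i, B i ∈ D i := fun i => by
    rw [hB, Module.Basis.reindex_apply]; exact blockBasis_mem hD i 0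
  set P := glOf ((Pi.basisFun F (Fin t)).equiv B (Equiv.refl _))
  have hP : ∀ i, (P : Matrix (Fin t) (Fin t) F) *ᵥ LinearMono.E F i = B i := fun i => by
    rw [glOf_mulVec, show LinearMono.E F i = Pi.basisFun F (Fin t) i from (Pi.basisFun_apply F (Fin t) i).symm,
      Module.Basis.equiv_apply]
    rfl
  have hspan : ∀ i, ∀ x ∈ D i, ∃ r : F, x = r • B i := fun i x hx => ⟨coord hD x i 0, by
    conv_lhs => rw [← pr_self hD hx]
    show ∑ k, coord hD x i k • blockBasis hD ⟨i, k⟩ = _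
    rw [Fin.sum_univ_one, hB, Module.Basis.reindex_apply]
    rfl⟩
  set M' := M.comap (MulAut.conj P).toMonoidHom
  have hdet : ∀ x : GL (Fin t) F, ((P * x * P⁻¹ : GL (Fin t) F) : Matrix (Fin t) (Fin t) F).det = (x : Matrix (Fin t) (Fin t) F).det := by
    intro x
    rw [Units.val_mul, Units.val_mul, Matrix.det_mul, Matrix.det_mul, mul_comm, ← mul_assoc, ← Matrix.det_mul,
      ← Units.val_mul, inv_mul_cancel, Units.val_one, Matrix.det_one, one_mul]
  have hmaps : ∀ (σ : Equiv.Perm (Fin t)) (s : Fin t → Fˣ), ∀ i, ∀ x ∈ D i,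
      ((P * LinearMono.mon σ s * P⁻¹ : GL (Fin t) F) : Matrix (Fin t) (Fin t) F) *ᵥ x ∈ D (σ i) := by
    intro σ s i x hx
    obtain ⟨r, rfl⟩ := hspan i x hx
    rw [← hP, ← mulVec_smul, mulVec_mul_GL, mulVec_mul_GL, inv_mulVec_cancel, mulVec_smul, mulVec_smul]
    refine Submodule.smul_mem _ _ ?_
    rw [show (LinearMono.mon σ s : Matrix (Fin t) (Fin t) F) *ᵥ LinearMono.E F i = (s i : F) • LinearMono.E F (σ i) from
      funext fun k => by
        rw [LinearMono.col_apply, LinearMono.mon_apply]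
        by_cases hk : k = σ i <;> simp [hk], mulVec_smul, hP]
    exact Submodule.smul_mem _ _ (hBD _)
  have hN : LinearMono.AboveMono M' := by
    intro x hx hmono
    obtain ⟨σ, s, rfl⟩ := hmono.exists_mon
    exact hM _ (Aschbacher.mem_specialLinear.2 (by
      show ((P * LinearMono.mon σ s * P⁻¹ : GL (Fin t) F) : Matrix (Fin t) (Fin t) F).det = 1
      rw [hdet]; exact Aschbacher.mem_specialLinear.1 hx)) ⟨σ, hmaps σ s⟩
  have hg' : P⁻¹ * g * P ∈ M' := by
    show P * (P⁻¹ * g * P) * P⁻¹ ∈ M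
    convert hg using 1
    group
  have hgm : ¬ LinearMono.Mono (P⁻¹ * g * P) := fun hmono => by
    obtain ⟨σ, s, hs⟩ := hmono.exists_mon
    refine hgs (stab_of_maps hD (σ := σ) fun i x hx => ?_)
    have := hmaps σ s i x hx
    rwa [← hs, show P * (P⁻¹ * g * P) * P⁻¹ = g by group] at this
  have hle := LinearMono.specialLinear_le hN (by simpa using hn) hq hg' hgm
  intro x hx
  have : P⁻¹ * x * P ∈ M' := hle (Aschbacher.mem_specialLinear.2 (by
    have := hdet (P⁻¹ * x * P)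
    rw [show P * (P⁻¹ * x * P) * P⁻¹ = x by group] at this
    rw [← this]; exact Aschbacher.mem_specialLinear.1 hx))
  have h2 : P * (P⁻¹ * x * P) * P⁻¹ ∈ M := this
  rwa [show P * (P⁻¹ * x * P) * P⁻¹ = x by group] at h2

/-- maximality -/
theorem decomposition_maximal [Fintype F] (hn : 6 ≤ n) (h1 : ¬ (m = 1 ∧ Fintype.card F ≤ 4))
    (h2 : ¬ (m = 2 ∧ Fintype.card F = 2)) :
    Cfsg.Geo.IsMaximalIn (Cfsg.Geo.specialLinear (Fin n) F)
      (Cfsg.Geo.decompositionStabilizer D ⊓ Cfsg.Geo.specialLinear (Fin n) F) := by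
  classical
  refine isMaximalIn_of inf_le_right (fun hle => ?_) fun N hN hNK g hgN hg => ?_
  · have htwo := hD.two_le
    let i₀ : Fin t := ⟨0, by omega⟩
    let j₀ : Fin t := ⟨1, by omega⟩
    have hij : i₀ ≠ j₀ := fun e => absurd (congrArg Fin.val e) zero_ne_one
    let k₀ : Fin m := ⟨0, hD.pos⟩
    set a := blockBasis hD ⟨i₀, k₀⟩
    set b := blockBasis hD ⟨j₀, k₀⟩
    have ha0 : a ≠ 0 := (blockBasis hD).ne_zero _
    have hb0 : b ≠ 0 := (blockBasis hD).ne_zero _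
    obtain ⟨ψ, -, hψb, hψo⟩ := exists_row_in hD (v := b) (blockBasis_mem hD j₀ k₀) bot_le (by simpa using hb0)
    have hψa : ψ ⬝ᵥ a = 0 := hψo i₀ hij a (blockBasis_mem hD i₀ k₀)
    obtain ⟨σ, hσ⟩ := (hle (trv_mem_SL a ψ hψa)).1
    have hmem : (trv a ψ hψa : Matrix (Fin n) (Fin n) F) *ᵥ b ∈ D (σ j₀) := by
      rw [← hσ j₀]; exact ⟨b, blockBasis_mem hD j₀ k₀, Matrix.toLin'_apply _ _⟩
    rw [trv_mulVec, hψb, one_smul] at hmem
    have hA := blockBasis_mem hD i₀ k₀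
    have hB := blockBasis_mem hD j₀ k₀
    rcases eq_or_ne (σ j₀) i₀ with e | e
    · have := pr_other hD (l := j₀) hij.symm (e ▸ hmem)
      rw [map_add, pr_self hD hB, pr_other hD hij.symm hA, add_zero] at this
      exact hb0 this
    · have := pr_other hD (l := i₀) e.symm hmem
      rw [map_add, pr_self hD hA, pr_other hD hij hB, zero_add] at this
      exact ha0 this
  · have hgs : g ∉ Cfsg.Geo.decompositionStabilizer D := fun h => hg ⟨h, hNK hgN⟩
    have hperm : PermM D N := fun x hx ⟨σ, hσ⟩ => hN ⟨stab_of_maps hD hσ, hx⟩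
    rcases Nat.lt_or_ge m 2 with hm | hm
    · have hm1 : m = 1 := by have := hD.pos; omega
      exact sl_le_lines hD hm1 (by by_contra h; exact h1 ⟨hm1, by omega⟩) hn hperm hgN hgs
    · refine sl_le hD hperm hm (fun hm2 => ?_) hn hgN hgs
      have h3 : 2 < Fintype.card F := by
        have := Fintype.one_lt_card (α := F)
        by_contra h
        exact h2 ⟨hm2, by omega⟩
      rw [← Finset.card_univ] at h3
      obtain ⟨x, hx⟩ : (((Finset.univ : Finset F).erase 0).erase 1).Nonempty := by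
        rw [← Finset.card_pos]
        have e2 := Finset.pred_card_le_card_erase (s := (Finset.univ : Finset F).erase 0) (a := (1 : F))
        have e3 := Finset.pred_card_le_card_erase (s := (Finset.univ : Finset F)) (a := (0 : F))
        omega
      simp only [Finset.mem_erase, Finset.mem_univ, and_true] at hx
      exact ⟨x, hx.2, hx.1⟩

end Cfsg.Agent.Forms.Max.LinearDecomp
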