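import Mathlib
import Cfsg.Agent.Lib.Forms.Max.Linear

/-!
# Symplectic similarity groups in the special linear group
-/

set_option autoImplicit false
set_option linter.unusedSectionVars false

namespace Cfsg.Agent.Forms.Max

open Matrix Cfsg.Agent.Aschbacher

variable {ι : Type} [Fintype ι] [DecidableEq ι] {F : Type*} [Field F]

/-- the pair `(u, w)` gives a root group `x ↦ x + c B(x, w) u` inside `M` -/
def RootPair (B : LinearMap.BilinForm F (ι → F)) (M : Subgroup (GL ι F)) (u w : (ι → F)) : Prop :=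
  B u w = 0 ∧ ∀ c : F, ∃ g ∈ M, ∀ x, (g : Matrix ι ι F) *ᵥ x = x + (c * B x w) • u

variable {B : LinearMap.BilinForm F (ι → F)} {M : Subgroup (GL ι F)}

theorem RootPair.add_right {u w w' : (ι → F)} (h : RootPair B M u w) (h' : RootPair B M u w') :
    RootPair B M u (w + w') := by
  refine ⟨by rw [map_add, h.1, h'.1, add_zero], fun c => ?_⟩
  obtain ⟨g, hg, eg⟩ := h.2 c
  obtain ⟨k, hk, ek⟩ := h'.2 c
  refine ⟨g * k, mul_mem hg hk, fun x => ?_⟩
  rw [mulVec_mul_GL, ek, eg]
  simp only [map_add, map_smul, LinearMap.add_apply, LinearMap.smul_apply, h.1,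
    smul_eq_mul, mul_add, add_smul, mul_zero, zero_smul, add_zero]
  abel

theorem RootPair.smul_right {u w : (ι → F)} (a : F) (h : RootPair B M u w) : RootPair B M u (a • w) := by
  refine ⟨by rw [map_smul, h.1, smul_zero], fun c => ?_⟩
  obtain ⟨g, hg, eg⟩ := h.2 (c * a)
  exact ⟨g, hg, fun x => by rw [eg, map_smul, smul_eq_mul, mul_assoc]⟩

theorem RootPair.map {u w : (ι → F)} (h : RootPair B M u w) {k : GL ι F} (hk : k ∈ M) {w' : (ι → F)}
    (hw' : ∀ x, B x w' = B (((k⁻¹ : GL ι F) : Matrix ι ι F) *ᵥ x) w) :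
    RootPair B M ((k : Matrix ι ι F) *ᵥ u) w' := by
  refine ⟨by rw [hw', inv_mulVec_cancel, h.1], fun c => ?_⟩
  obtain ⟨g, hg, eg⟩ := h.2 c
  refine ⟨k * g * k⁻¹, mul_mem (mul_mem hk hg) (inv_mem hk), fun x => ?_⟩
  rw [mulVec_mul_GL, mulVec_mul_GL, eg, mulVec_add, mulVec_smul, mulVec_inv_cancel, hw']

/-- an operator with every vector as an eigenvector is a scalar -/
theorem exists_scalar_of_forall_eigen {V : Type*} [AddCommGroup V] [Module F V] (A : V →ₗ[F] V)
    (h : ∀ v, ∃ c : F, A v = c • v) : ∃ c : F, ∀ v, A v = c • v := by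
  rcases subsingleton_or_nontrivial V with hV | hV
  · exact ⟨0, fun v => Subsingleton.elim _ _⟩
  obtain ⟨v₀, hv₀⟩ := exists_ne (0 : V)
  obtain ⟨c, hc⟩ := h v₀
  refine ⟨c, fun v => ?_⟩
  obtain ⟨a, ha⟩ := h v
  by_cases hli : LinearIndependent F ![v₀, v]
  · obtain ⟨b, hb⟩ := h (v₀ + v)
    rw [map_add, hc, ha, smul_add] at hb
    obtain ⟨h1, h2⟩ := (LinearIndependent.pair_iff.1 hli) (c - b) (a - b) (by
      rw [sub_smul, sub_smul, sub_add_sub_comm, hb, sub_self])
    rw [ha, sub_eq_zero.1 h2, sub_eq_zero.1 h1]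
  · rw [LinearIndependent.pair_iff' hv₀] at hli
    push Not at hli
    obtain ⟨t, rfl⟩ := hli
    rw [map_smul, hc, smul_comm]

theorem symp_similarity_maximal (hB : B.IsAlt) (hn : B.Nondegenerate) (h3 : 3 ≤ Fintype.card ι)
    (H : Subgroup (GL ι F)) (hH : H ≤ Cfsg.Geo.specialLinear ι F)
    (hmem : ∀ g : GL ι F, g ∈ H ↔ g ∈ Cfsg.Geo.specialLinear ι F ∧
      ∃ c : Fˣ, ∀ u v, B ((g : Matrix ι ι F) *ᵥ u) ((g : Matrix ι ι F) *ᵥ v) = (c : F) * B u v) :
    Cfsg.Geo.IsMaximalIn (Cfsg.Geo.specialLinear ι F) H := by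
  classical
  haveI : Nonempty ι := Fintype.card_pos_iff.1 (by omega)
  have hrow : ∀ w : (ι → F), ∃ φ : (ι → F), ∀ x, φ ⬝ᵥ x = B x w := fun w => exists_row (B.flip w)
  have hself : ∀ v, B v v = 0 := hB
  have hswap : ∀ u v, B v u = -B u v := fun u v => (LinearMap.IsAlt.neg hB u v).symm
  have hrepr : ∀ φ : (ι → F) →ₗ[F] F, ∃ w, ∀ x, B x w = φ x := fun φ => by
    refine ⟨-((B.toDual hn).symm φ), fun x => ?_⟩
    rw [map_neg, hswap ((B.toDual hn).symm φ) x, neg_neg]
    exact LinearMap.BilinForm.apply_toDual_symm_apply φ x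
  -- the transvections of the form belong to `H`
  have htrv : ∀ (v : (ι → F)) (c : F), ∃ g ∈ H, ∀ x, (g : Matrix ι ι F) *ᵥ x = x + (c * B x v) • v := by
    intro v c
    obtain ⟨φ, hφ⟩ := hrow (c • v)
    have h0 : φ ⬝ᵥ v = 0 := by rw [hφ, map_smul, hself, smul_zero]
    have happ : ∀ x, (trv v φ h0 : Matrix ι ι F) *ᵥ x = x + (c * B x v) • v := fun x => by
      rw [trv_mulVec, hφ, map_smul, smul_eq_mul]
    refine ⟨trv v φ h0, (hmem _).2 ⟨trv_mem_SL _ _ _, 1, fun a b => ?_⟩, happ⟩
    rw [happ, happ]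
    simp only [map_add, map_smul, LinearMap.add_apply, LinearMap.smul_apply, hself, smul_eq_mul,
      Units.val_one, one_mul, hswap b v]
    ring
  refine isMaximalIn_of hH (fun h => ?_) fun M hM hMK g hgM hg => ?_
  · -- a transvection that is no similarity
    obtain ⟨u, hu⟩ := exists_ne (0 : (ι → F))
    set U : Submodule F (ι → F) := LinearMap.ker (B.flip u) with hU
    obtain ⟨w, hw, hwu⟩ : ∃ w ∈ U, w ∉ Submodule.span F {u} := by
      by_contra hc
      push Not at hc
      have h1 := Submodule.finrank_mono (show U ≤ Submodule.span F {u} from hc)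
      rw [finrank_span_singleton hu] at h1
      have h2 := LinearMap.finrank_range_add_finrank_ker (B.flip u)
      rw [← hU, Module.finrank_fintype_fun_eq_card] at h2
      have h4 := (Submodule.finrank_le (LinearMap.range (B.flip u))).trans_eq (Module.finrank_self F)
      omega
    obtain ⟨φ, hφ⟩ := hrow w
    have hwu0 : B u w = 0 := by rw [hswap w u, show B w u = 0 from hw, neg_zero]
    obtain ⟨-, c, hc⟩ := (hmem _).1 (h (trv_mem_SL u φ (by rw [hφ, hwu0])))
    simp only [trv_mulVec, hφ] at hc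
    have hc1 : (c : F) = 1 := by
      obtain ⟨x, hx, hxw⟩ : ∃ x, B x u ≠ 0 ∧ B x w = 0 := by
        by_contra hc'
        push Not at hc'
        obtain ⟨t, ht⟩ : ∃ t : F, ∀ x, B x u = t * B x w := by
          obtain ⟨x₀, hx₀⟩ : ∃ x₀, B x₀ w ≠ 0 := by
            by_contra h0
            push Not at h0
            exact hwu (by rw [hn.2 w h0]; exact zero_mem _)
          refine ⟨B x₀ u / B x₀ w, fun x => ?_⟩
          by_contra hne
          refine hc' (x - (B x w / B x₀ w) • x₀) ?_ (by simp [hx₀])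
          simp only [map_sub, map_smul, LinearMap.sub_apply, LinearMap.smul_apply, smul_eq_mul, sub_ne_zero]
          intro e
          apply hne
          rw [e]; ring
        have h0 : u - t • w = 0 := hn.2 _ fun x => by rw [map_sub, map_smul, ht, smul_eq_mul, sub_self]
        rcases eq_or_ne t 0 with rfl | ht0
        · exact hu (by simpa using h0)
        · exact hwu (Submodule.mem_span_singleton.2 ⟨t⁻¹, by rw [sub_eq_zero.1 h0, inv_smul_smul₀ ht0]⟩)
      have := hc x u
      rw [hxw, hwu0, zero_smul, add_zero, add_zero] at this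
      exact (mul_eq_right₀ hx).1 this.symm
    have key : ∀ x y, B x w * B u y + B y w * B x u = 0 := fun x y => by
      have := hc x y
      simp only [map_add, map_smul, LinearMap.add_apply, LinearMap.smul_apply, hself, smul_eq_mul, hc1,
        one_mul, mul_zero, add_zero] at this
      linear_combination this
    obtain ⟨x, hx⟩ : ∃ x, B x w ≠ 0 := by
      by_contra h0
      push Not at h0
      exact hwu (by rw [hn.2 w h0]; exact zero_mem _)
    have h0 : u - (B x u / B x w) • w = 0 := hn.2 _ fun y => by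
      have := key x y
      rw [hswap y u] at this
      rw [map_sub, map_smul, smul_eq_mul, sub_eq_zero, div_mul_eq_mul_div, eq_div_iff hx]
      linear_combination -this
    rcases eq_or_ne (B x u / B x w) 0 with ht | ht
    · rw [ht, zero_smul, sub_zero] at h0; exact hu h0
    · exact hwu (Submodule.mem_span_singleton.2 ⟨(B x u / B x w)⁻¹,
        (congrArg ((B x u / B x w)⁻¹ • ·) (sub_eq_zero.1 h0)).trans (inv_smul_smul₀ ht w)⟩)
  -- the root groups of `M`
  have hvv : ∀ v : (ι → F), RootPair B M v v := fun v => ⟨hself v, fun c => by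
    obtain ⟨k, hk, e⟩ := htrv v c
    exact ⟨k, hM hk, e⟩⟩
  obtain ⟨u₀, w₀, hu₀, h₀, hw₀⟩ : ∃ u w, u ≠ 0 ∧ RootPair B M u w ∧ w ∉ Submodule.span F {u} := by
    by_contra hcon
    push Not at hcon
    refine hg ((hmem g).2 ⟨hMK hgM, ?_⟩)
    -- `g⁻¹` carries every hyperplane to a proportional one
    obtain ⟨G, hG⟩ : ∃ G : (ι → F) →ₗ[F] (ι → F), ∀ x, G x = (g : Matrix ι ι F) *ᵥ x :=
      ⟨Matrix.toLin' (g : Matrix ι ι F), fun x => Matrix.toLin'_apply _ x⟩
    have hadj : ∀ v, ∃ a, ∀ x, B x a = B (G x) (G v) := fun v => hrepr ((B.flip (G v)).comp G)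
    choose A hA using hadj
    have hAu : ∀ {a b : (ι → F)}, (∀ x, B x a = B x b) → a = b := fun {a b} h =>
      sub_eq_zero.1 (hn.2 _ fun x => by rw [map_sub, h, sub_self])
    let AL : (ι → F) →ₗ[F] (ι → F) :=
      { toFun := A
        map_add' := fun a b => hAu fun x => by rw [map_add, hA, hA, hA, map_add, map_add]
        map_smul' := fun t a => hAu fun x => by
          rw [RingHom.id_apply, map_smul, hA, hA, map_smul, map_smul] }
    obtain ⟨c, hc⟩ := exists_scalar_of_forall_eigen AL fun v => by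
      rcases eq_or_ne v 0 with rfl | hv
      · exact ⟨0, by rw [map_zero, zero_smul]⟩
      obtain ⟨w', hw'⟩ := hrepr ((B.flip v).comp
        (Matrix.toLin' ((g⁻¹ : GL ι F) : Matrix ι ι F)))
      have hw'' : ∀ x, B x w' = B (((g⁻¹ : GL ι F) : Matrix ι ι F) *ᵥ x) v := fun x => by
        rw [hw']; simp [Matrix.toLin'_apply]
      obtain ⟨t, ht⟩ := Submodule.mem_span_singleton.1 (hcon _ _ (mulVec_ne_zero g hv) ((hvv v).map hgM hw''))
      have ht0 : t ≠ 0 := fun h0 => hv (hn.2 v fun x => by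
        have := hw'' ((g : Matrix ι ι F) *ᵥ x)
        rw [← ht, h0, zero_smul, map_zero, inv_mulVec_cancel] at this
        exact this.symm)
      refine ⟨t⁻¹, hAu fun x => ?_⟩
      show B x (A v) = _
      rw [hA, map_smul, hG, hG]
      have := hw'' ((g : Matrix ι ι F) *ᵥ x)
      rw [← ht, map_smul, inv_mulVec_cancel, smul_eq_mul] at this
      rw [smul_eq_mul, ← this, inv_mul_cancel_left₀ ht0]
    have hc0 : c ≠ 0 := by
      rintro rfl
      obtain ⟨v, hv⟩ := exists_ne (0 : (ι → F))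
      refine mulVec_ne_zero g hv (hn.2 _ fun x => ?_)
      have := hA v (((g⁻¹ : GL ι F) : Matrix ι ι F) *ᵥ x)
      rw [show A v = 0 from (hc v).trans (zero_smul _ _), map_zero, hG, hG, mulVec_inv_cancel] at this
      exact this.symm
    refine ⟨Units.mk0 c hc0, fun a b => ?_⟩
    rw [← hG, ← hG, ← hA, show A b = c • b from hc b, map_smul]
    rfl
  -- `u₀` is a centre for every orthogonal axis
  have hall : ∀ v, B u₀ v = 0 → RootPair B M u₀ v := by
    have h1 : ∀ v, B u₀ v = 0 → B w₀ v ≠ 0 → RootPair B M u₀ v := fun v hv hne => by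
      obtain ⟨k, hk, e⟩ := htrv v ((B w₀ v)⁻¹)
      have hw' : ∀ x, B x (w₀ + v) = B (((k⁻¹ : GL ι F) : Matrix ι ι F) *ᵥ x) w₀ := fun x => by
        set y := ((k⁻¹ : GL ι F) : Matrix ι ι F) *ᵥ x with hy
        have hx : x = y + ((B w₀ v)⁻¹ * B y v) • v := by rw [← e, hy, mulVec_inv_cancel]
        rw [hx]
        simp only [map_add, map_smul, LinearMap.add_apply, LinearMap.smul_apply, hself, smul_eq_mul,
          hswap w₀ v]
        field_simp
        ring
      have h2 := h₀.map (hM hk) hw'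
      rw [e, hv, mul_zero, zero_smul, add_zero] at h2
      have := h2.add_right (h₀.smul_right (-1 : F))
      rwa [neg_one_smul, add_neg_cancel_comm] at this
    intro v hv
    by_cases hne : B w₀ v = 0
    swap
    · exact h1 v hv hne
    obtain ⟨v₁, hv₁, hv₁w⟩ : ∃ v₁, B u₀ v₁ = 0 ∧ B w₀ v₁ ≠ 0 := by
      by_contra hc
      push Not at hc
      obtain ⟨x₀, hx₀⟩ : ∃ x, B u₀ x ≠ 0 := by
        by_contra h0
        push Not at h0
        exact hu₀ (hn.1 u₀ h0)
      refine hw₀ (Submodule.mem_span_singleton.2 ⟨B w₀ x₀ / B u₀ x₀, (sub_eq_zero.1 (hn.1 _ fun x => ?_)).symm⟩)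
      have h := hc (x - (B u₀ x / B u₀ x₀) • x₀) (by simp [hx₀])
      simp only [map_sub, map_smul, smul_eq_mul] at h
      simp only [map_sub, map_smul, LinearMap.sub_apply, LinearMap.smul_apply, smul_eq_mul, sub_eq_zero]
      rw [sub_eq_zero] at h
      rw [h]
      ring
    have h2 := (h1 (v + v₁) (by rw [map_add, hv, hv₁, add_zero])
      (by rw [map_add, hne, zero_add]; exact hv₁w)).add_right ((h1 v₁ hv₁ hv₁w).smul_right (-1 : F))
    rwa [neg_one_smul, add_neg_cancel_right] at h2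
  -- and so is every vector
  have hcen : u₀ ∈ centres M := fun φ hφ => by
    let L : (ι → F) →ₗ[F] F :=
      { toFun := fun x => φ ⬝ᵥ x
        map_add' := fun a b => dotProduct_add φ a b
        map_smul' := fun t a => dotProduct_smul t φ a }
    obtain ⟨w, hw⟩ := hrepr L
    have hw' : ∀ x, B x w = φ ⬝ᵥ x := hw
    obtain ⟨k, hk, e⟩ := (hall w (by rw [hw']; exact hφ)).2 1
    have hke : k = trv u₀ φ hφ := gl_ext fun x => by rw [e, one_mul, trv_mulVec, hw']
    exact hke ▸ hk
  have hmove : ∀ a b, a ∈ centres M → B a b ≠ 0 → b ∈ centres M := fun a b ha hab => by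
    obtain ⟨k, hk, e⟩ := htrv (b - a) ((B a b)⁻¹)
    have := centres_map (hM hk) ha
    rwa [e, map_sub, hself, sub_zero, inv_mul_cancel₀ hab, one_smul, add_sub_cancel] at this
  refine specialLinear_le_of_centres fun v => ?_
  rcases eq_or_ne v 0 with rfl | hv
  · exact fun φ hφ => by
      have : trv (0 : (ι → F)) φ hφ = 1 := gl_ext fun x => by
        rw [trv_mulVec, smul_zero, add_zero, Units.val_one, one_mulVec]
      rw [this]; exact one_mem M
  have hex : ∀ a : (ι → F), a ≠ 0 → ∃ x ∈ (⊤ : Submodule F (ι → F)), B a x ≠ 0 := fun a ha => by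
    by_contra h0
    push Not at h0
    exact ha (hn.1 a fun x => h0 x trivial)
  obtain ⟨x, -, h1, h2⟩ := exists_common B ⊤ (hex u₀ hu₀) (hex v hv)
  exact hmove x v (hmove u₀ x hcen h1) (by rw [hswap, neg_ne_zero]; exact h2)

end Cfsg.Agent.Forms.Max
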