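import Mathlib
import Cfsg.Agent.Lib.Forms.Max.OrthBase
import Cfsg.Agent.Lib.Forms.Max.Linear
import Cfsg.Agent.Lib.Forms.Max.SympInLinear

/-!
# Orthogonal similarity groups in the special linear group, odd characteristic
-/

set_option autoImplicit false
set_option linter.unusedSectionVars false

namespace Cfsg.Agent.Forms.Max.OrthInLinear

open Matrix Cfsg.Agent.Aschbacher

variable {F : Type*} [Field F] [Fintype F] {ι : Type} [Fintype ι] [DecidableEq ι]
variable {Q : QuadraticForm F (ι → F)}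

local notation "Vec" => (ι → F)
local notation "B" => QuadraticMap.polar Q

theorem add_l (x y v : Vec) : B (x + y) v = B x v + B y v := QuadraticMap.polar_add_left Q x y v
theorem add_r (x v w : Vec) : B x (v + w) = B x v + B x w := QuadraticMap.polar_add_right Q x v w
theorem sub_l (x y v : Vec) : B (x - y) v = B x v - B y v := QuadraticMap.polar_sub_left Q x y v
theorem sub_r (x v w : Vec) : B x (v - w) = B x v - B x w := QuadraticMap.polar_sub_right Q x v w
theorem smul_l (c : F) (x v : Vec) : B (c • x) v = c * B x v := QuadraticMap.polar_smul_left Q c x v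
theorem smul_r (c : F) (x v : Vec) : B x (c • v) = c * B x v := QuadraticMap.polar_smul_right Q c x v
theorem symm (x y : Vec) : B x y = B y x := QuadraticMap.polar_comm _ x y
theorem zero_l (v : Vec) : B 0 v = 0 := QuadraticMap.polar_zero_left Q v
theorem zero_r (v : Vec) : B v 0 = 0 := QuadraticMap.polar_zero_right Q v
theorem self2 (x : Vec) : B x x = 2 * Q x := Classical.Orth.polar_self' x

variable (Q) in
/-- the functional `x ↦ B x w` -/
def form (w : Vec) : Vec →ₗ[F] F where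
  toFun x := B x w
  map_add' a b := add_l a b w
  map_smul' c a := smul_l c a w

theorem mem_perp_span {k : ℕ} {s : Fin k → Vec} {x : Vec} :
    x ∈ Orth.perp Q (Submodule.span F (Set.range s)) ↔ ∀ i, B x (s i) = 0 := by
  rw [Orth.mem_perp]
  refine ⟨fun h i => (symm _ _).trans (h _ (Submodule.subset_span ⟨i, rfl⟩)), fun h w hw => ?_⟩
  induction hw using Submodule.span_induction with
  | mem w hw => obtain ⟨i, rfl⟩ := hw; exact (symm _ _).trans (h i)
  | zero => exact zero_l x
  | add a b _ _ ha hb => rw [add_l, ha, hb, add_zero]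
  | smul c a _ ha => rw [smul_l, ha, mul_zero]

variable (Q) in
/-- the pair `(u, w)` gives the root group `x ↦ x + c B(x, w) u` inside `M` -/
def RP (M : Subgroup (GL ι F)) (u w : Vec) : Prop :=
  B u w = 0 ∧ ∀ c : F, ∃ g ∈ M, ∀ x, (g : Matrix ι ι F) *ᵥ x = x + (c * B x w) • u

variable {M : Subgroup (GL ι F)}

theorem RP.add_right {u w w' : Vec} (h : RP Q M u w) (h' : RP Q M u w') : RP Q M u (w + w') := by
  refine ⟨by rw [add_r, h.1, h'.1, add_zero], fun c => ?_⟩
  obtain ⟨g, hg, eg⟩ := h.2 c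
  obtain ⟨k, hk, ek⟩ := h'.2 c
  refine ⟨g * k, mul_mem hg hk, fun x => ?_⟩
  rw [mulVec_mul_GL, ek, eg, add_l, smul_l, h.1, mul_zero, add_zero, add_r, mul_add, add_smul]
  abel

theorem RP.smul_right {u w : Vec} (a : F) (h : RP Q M u w) : RP Q M u (a • w) := by
  refine ⟨by rw [smul_r, h.1, mul_zero], fun c => ?_⟩
  obtain ⟨g, hg, eg⟩ := h.2 (c * a)
  exact ⟨g, hg, fun x => by rw [eg, smul_r, mul_assoc]⟩

theorem RP.map {u w : Vec} (h : RP Q M u w) {k : GL ι F} (hk : k ∈ M) {w' : Vec}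
    (hw' : ∀ x, B x w' = B (((k⁻¹ : GL ι F) : Matrix ι ι F) *ᵥ x) w) :
    RP Q M ((k : Matrix ι ι F) *ᵥ u) w' := by
  refine ⟨by rw [hw', inv_mulVec_cancel, h.1], fun c => ?_⟩
  obtain ⟨g, hg, eg⟩ := h.2 c
  refine ⟨k * g * k⁻¹, mul_mem (mul_mem hk hg) (inv_mem hk), fun x => ?_⟩
  rw [mulVec_mul_GL, mulVec_mul_GL, eg, mulVec_add, mulVec_smul, mulVec_inv_cancel, hw']

variable (hQ : (QuadraticMap.polarBilin Q).Nondegenerate)
include hQ

theorem right_ext {a b : Vec} (e : ∀ x, B x a = B x b) : a = b :=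
  sub_eq_zero.1 (hQ.2 _ fun x => by
    show B x (a - b) = 0
    rw [sub_r, e, sub_self])

theorem exists_repr (φ : Vec →ₗ[F] F) : ∃ w, ∀ x, B x w = φ x := by
  have hn := Orth.nd hQ
  refine ⟨((Reflections.polB Q).toDual hn).symm φ, fun x => ?_⟩
  rw [symm]
  exact ((Reflections.polB Q).apply_toDual_symm_apply (hB := hn) φ x)

theorem le_finrank_perp {k : ℕ} (s : Fin k → Vec) :
    Fintype.card ι ≤ Module.finrank F (Orth.perp Q (Submodule.span F (Set.range s))) + k := by
  have h1 := Orth.finrank_perp hQ (Submodule.span F (Set.range s))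
  have h2 : Module.finrank F (Submodule.span F (Set.range s)) ≤ k :=
    (finrank_range_le_card s).trans_eq (Fintype.card_fin k)
  omega

/-- singular vectors span the subspaces with a quotient of dimension three by the radical -/
theorem exists_sing_avoid' {S T : Submodule F Vec}
    (h : Module.finrank F (S ⊓ Orth.perp Q S : Submodule F Vec) + 3 ≤ Module.finrank F S)
    (hT : ¬ S ≤ T) : ∃ v ∈ S, Q v = 0 ∧ v ∉ T := by
  by_contra hc
  push Not at hc
  obtain ⟨C, hC⟩ := Submodule.exists_isCompl (S ⊓ Orth.perp Q S)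
  have h1 := Submodule.finrank_add_eq_of_isCompl hC
  have h2 := Submodule.finrank_sup_add_finrank_inf_eq S C
  have h3 := Submodule.finrank_le (S ⊔ C)
  rw [Module.finrank_fintype_fun_eq_card] at h1 h3
  obtain ⟨e, he, he0, hQe⟩ := Orth.exists_sing hQ (S := S ⊓ C) (by omega)
  obtain ⟨y, hy, hey⟩ : ∃ y ∈ S, B e y ≠ 0 := by
    by_contra hc'
    push Not at hc'
    exact he0 (Submodule.disjoint_def.1 hC.disjoint e
      ⟨he.1, Orth.mem_perp.2 fun w hw => (symm _ _).trans (hc' w hw)⟩ he.2)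
  obtain ⟨f, hf, hQf, hef⟩ := Orth.exists_partner_in he.1 hy hQe hey
  exact hT (Orth.sing_span ⟨hQe, hQf, hef⟩ he.1 hf fun v hv hv0 => hc v hv hv0)

/-- singular vectors span the big subspaces -/
theorem exists_sing_avoid {S T : Submodule F Vec} (h : Fintype.card ι + 3 ≤ 2 * Module.finrank F S)
    (hT : ¬ S ≤ T) : ∃ v ∈ S, Q v = 0 ∧ v ∉ T := by
  refine exists_sing_avoid' hQ ?_ hT
  have h4 := Submodule.finrank_mono (inf_le_right (a := S) (b := Orth.perp Q S))
  have h5 := Orth.finrank_perp hQ S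
  omega

/-- the perpendicular space of two vectors, one of them not orthogonal to both, has small radical -/
theorem small_rad {s : Fin 2 → Vec} {i : Fin 2} (hi : ∃ j, B (s i) (s j) ≠ 0) :
    Module.finrank F (Orth.perp Q (Submodule.span F (Set.range s)) ⊓
      Orth.perp Q (Orth.perp Q (Submodule.span F (Set.range s))) : Submodule F Vec) ≤ 1 := by
  obtain ⟨j, hj⟩ := hi
  rw [Orth.perp_perp hQ]
  have hlt : Orth.perp Q (Submodule.span F (Set.range s)) ⊓ Submodule.span F (Set.range s) <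
      Submodule.span F (Set.range s) :=
    lt_of_le_of_ne inf_le_right fun e => hj (mem_perp_span.1
      ((e.symm ▸ Submodule.subset_span ⟨i, rfl⟩ : s i ∈ Orth.perp Q (Submodule.span F (Set.range s)) ⊓
        Submodule.span F (Set.range s)).1) j)
  have h1 := Submodule.finrank_lt_finrank_of_lt hlt
  have h2 : Module.finrank F (Submodule.span F (Set.range s)) ≤ 2 :=
    (finrank_range_le_card s).trans_eq (Fintype.card_fin 2)
  omega

theorem similarity_maximal (h2 : (2 : F) ≠ 0) (h9 : 6 ≤ Fintype.card ι)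
    (H : Subgroup (GL ι F)) (hH : H ≤ Cfsg.Geo.specialLinear ι F)
    (hmem : ∀ g : GL ι F, g ∈ H ↔ g ∈ Cfsg.Geo.specialLinear ι F ∧
      ∃ c : Fˣ, ∀ v, Q ((g : Matrix ι ι F) *ᵥ v) = (c : F) * Q v) :
    Cfsg.Geo.IsMaximalIn (Cfsg.Geo.specialLinear ι F) H := by
  classical
  haveI : Nonempty ι := Fintype.card_pos_iff.1 (by omega)
  have hrow : ∀ w : Vec, ∃ φ : Vec, ∀ x, φ ⬝ᵥ x = B x w := fun w => exists_row (form Q w)
  have hbig : ∀ {k : ℕ} (s : Fin k → Vec), k ≤ 1 →
      Fintype.card ι + 3 ≤ 2 * Module.finrank F (Orth.perp Q (Submodule.span F (Set.range s))) := by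
    intro k s hk
    have := le_finrank_perp hQ s
    omega
  have hmore : ∀ {k l : ℕ} (s : Fin k → Vec) (t : Fin l → Vec), k + l ≤ 5 →
      ¬ Orth.perp Q (Submodule.span F (Set.range s)) ≤ Submodule.span F (Set.range t) := by
    intro k l s t hkl hle
    have h1 := Submodule.finrank_mono hle
    have h2 := le_finrank_perp hQ s
    have h3 : Module.finrank F (Submodule.span F (Set.range t)) ≤ l :=
      (finrank_range_le_card t).trans_eq (Fintype.card_fin l)
    omega
  refine isMaximalIn_of hH (fun hle => ?_) fun M hM hMK g hgM hg => ?_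
  · -- a transvection that is no similarity
    obtain ⟨u, -, hu, hu0⟩ := exists_sing_avoid hQ (hbig (fun i : Fin 0 => i.elim0) (by omega))
      (hmore (fun i : Fin 0 => i.elim0) (fun i : Fin 0 => i.elim0) (by omega))
    have hu0' : u ≠ 0 := fun e => hu0 (e ▸ zero_mem _)
    have huu : B u u = 0 := by rw [self2, hu, mul_zero]
    obtain ⟨φ, hφ⟩ := hrow u
    obtain ⟨-, c, hc⟩ := (hmem _).1 (hle (trv_mem_SL u φ (by rw [hφ, huu])))
    have happ : ∀ x, Q ((trv u φ (by rw [hφ, huu]) : Matrix ι ι F) *ᵥ x) = Q x + B x u * B x u := by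
      intro x
      rw [trv_mulVec, hφ, Classical.Orth.map_add', Classical.Orth.map_smul', hu, smul_r]
      ring
    obtain ⟨z, hz, hQz⟩ : ∃ z ∈ Orth.perp Q (Submodule.span F (Set.range ![u])), Q z ≠ 0 := by
      by_contra hc'
      push Not at hc'
      have h1 := Orth.finrank_sing_le hQ hc'
      have := hbig ![u] (by omega)
      omega
    have hzu : B z u = 0 := mem_perp_span.1 hz 0
    have h1 := hc z
    rw [happ, hzu, mul_zero, add_zero] at h1
    have hc1 : (c : F) = 1 := (mul_eq_right₀ hQz).1 h1.symm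
    obtain ⟨x, hx⟩ := Orth.exists_ne hQ hu0'
    have h3 := hc x
    rw [happ, hc1, one_mul, add_eq_left, symm] at h3
    exact hx (mul_self_eq_zero.1 h3)
  -- Eichler elements
  have hE : ∀ u w : Vec, Q u = 0 → B u w = 0 → ∃ k ∈ M,
      (∀ x, (k : Matrix ι ι F) *ᵥ x = x + B x u • w - (B x w + Q w * B x u) • u) ∧
      ∀ x y, B ((k : Matrix ι ι F) *ᵥ x) ((k : Matrix ι ι F) *ᵥ y) = B x y := by
    intro u w hu huw
    have huu : B u u = 0 := by rw [self2, hu, mul_zero]
    have hwu : B w u = 0 := (symm _ _).trans huw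
    obtain ⟨φ₁, hφ₁⟩ := hrow u
    obtain ⟨φ₂, hφ₂⟩ := hrow (Q w • u - w)
    have h₁ : φ₁ ⬝ᵥ w = 0 := by rw [hφ₁, hwu]
    have h₂ : φ₂ ⬝ᵥ u = 0 := by rw [hφ₂, sub_r, smul_r, huu, huw, mul_zero, sub_zero]
    have happ : ∀ x, ((trv u φ₂ h₂ * trv w φ₁ h₁ : GL ι F) : Matrix ι ι F) *ᵥ x =
        x + B x u • w - (B x w + Q w * B x u) • u := fun x => by
      rw [mulVec_mul_GL, trv_mulVec, trv_mulVec, hφ₁, hφ₂]
      simp only [add_l, sub_r, smul_l, smul_r, self2 w, hwu, mul_zero, add_zero]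
      module
    have hQk : ∀ x, Q (((trv u φ₂ h₂ * trv w φ₁ h₁ : GL ι F) : Matrix ι ι F) *ᵥ x) = Q x := fun x => by
      rw [happ, sub_eq_add_neg, ← neg_smul]
      simp only [Classical.Orth.map_add', Classical.Orth.map_smul', hu, add_l, smul_l, smul_r, hwu]
      ring
    refine ⟨_, hM ((hmem _).2 ⟨mul_mem (trv_mem_SL _ _ _) (trv_mem_SL _ _ _), 1,
      fun x => by rw [hQk, Units.val_one, one_mul]⟩), happ, fun x y => ?_⟩
    simp only [QuadraticMap.polar, ← Matrix.mulVec_add, hQk]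
  -- an adjoint of `g`
  obtain ⟨G, hG⟩ : ∃ G : Vec →ₗ[F] Vec, ∀ x, G x = (g : Matrix ι ι F) *ᵥ x :=
    ⟨Matrix.toLin' (g : Matrix ι ι F), fun x => Matrix.toLin'_apply _ x⟩
  have hadj : ∀ v, ∃ a, ∀ x, B x a = B (G x) (G v) := fun v => exists_repr hQ ((form Q (G v)).comp G)
  choose A hA using hadj
  let AL : Vec →ₗ[F] Vec :=
    { toFun := A
      map_add' := fun a b => right_ext hQ fun x => by rw [add_r, hA, hA, hA, map_add, add_r]
      map_smul' := fun t a => right_ext hQ fun x => by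
        rw [RingHom.id_apply, smul_r, hA, hA, map_smul, smul_r] }
  obtain ⟨u, w, hu0, hwu0, hu, hw, huw, hmv⟩ : ∃ u w, u ≠ 0 ∧ w ∉ Submodule.span F (Set.range ![u]) ∧
      Q u = 0 ∧ Q w = 0 ∧ B u w = 0 ∧
      (A u ∉ Submodule.span F (Set.range ![u, w]) ∨ A w ∉ Submodule.span F (Set.range ![u, w])) := by
    by_contra hcon
    push Not at hcon
    refine hg ((hmem g).2 ⟨hMK hgM, ?_⟩)
    have heig : ∀ u, Q u = 0 → u ≠ 0 → ∃ r : F, A u = r • u := by
      intro u hu hu0
      obtain ⟨w, hw, hQw, hwu⟩ := exists_sing_avoid hQ (hbig ![u] (by omega)) (hmore ![u] ![u] (by omega))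
      obtain ⟨w', hw', hQw', hwu'⟩ := exists_sing_avoid hQ (hbig ![u] (by omega)) (hmore ![u] ![u, w] (by omega))
      have h1 := (hcon u w hu0 hwu hu hQw ((symm _ _).trans (mem_perp_span.1 hw 0))).1
      have h1' := (hcon u w' hu0 (fun h => hwu' (Submodule.span_mono (by simp) h)) hu hQw' ((symm _ _).trans (mem_perp_span.1 hw' 0))).1
      rw [range_cons_cons_empty, Submodule.mem_span_pair] at h1 h1'
      obtain ⟨a, b, hab⟩ := h1
      obtain ⟨a', b', hab'⟩ := h1'
      rcases eq_or_ne b' 0 with rfl | hb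
      · exact ⟨a', by rw [← hab', zero_smul, add_zero]⟩
      · refine absurd ?_ hwu'
        rw [range_cons_cons_empty, Submodule.mem_span_pair]
        refine ⟨(a - a') / b', b / b', ?_⟩
        have e : w' = b'⁻¹ • (A u - a' • u) := by rw [← hab', add_sub_cancel_left, inv_smul_smul₀ hb]
        rw [e, ← hab]
        module
    obtain ⟨e, -, hQe, he0⟩ := exists_sing_avoid hQ (hbig (fun i : Fin 0 => i.elim0) (by omega))
      (hmore (fun i : Fin 0 => i.elim0) (fun i : Fin 0 => i.elim0) (by omega))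
    have he0' : e ≠ 0 := fun h => he0 (h ▸ zero_mem _)
    obtain ⟨y, hy⟩ := Orth.exists_ne hQ he0'
    obtain ⟨f, -, hQf, hef⟩ := Orth.exists_partner_in (S := ⊤) (e := e) (y := y) trivial trivial hQe hy
    have hf0 : f ≠ 0 := fun h => by rw [h, zero_r] at hef; exact zero_ne_one hef
    obtain ⟨r, hAe⟩ := heig e hQe he0'
    have hsa : ∀ x y, B x (A y) = B (A x) y := fun x y => by rw [hA, symm (A x) y, hA, symm]
    have hmove : ∀ v x : Vec, Q v = 0 → B v x ≠ 0 → A x = r • x → A v = r • v := by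
      intro v x hv hvx hAx
      obtain ⟨s, hAv⟩ := heig v hv (fun h => hvx (by rw [h, zero_l]))
      have := hsa v x
      rw [hAx, hAv, smul_r, smul_l] at this
      rw [hAv, mul_right_cancel₀ hvx this]
    have hAf := hmove f e hQf (by rw [symm, hef]; exact one_ne_zero) hAe
    have hall : (⊤ : Submodule F Vec) ≤ LinearMap.ker (AL - r • LinearMap.id) := by
      refine Orth.sing_span (e := e) (f := f) ⟨hQe, hQf, hef⟩ trivial trivial fun v _ hv => ?_
      rw [LinearMap.mem_ker, LinearMap.sub_apply, LinearMap.smul_apply, LinearMap.id_apply, sub_eq_zero]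
      show A v = r • v
      by_cases hve : B v e = 0
      · by_cases hvf : B v f = 0
        · have h1 := hmove (v + e) f (by rw [Classical.Orth.map_add', hv, hQe, hve]; ring)
            (by rw [add_l, hvf, hef, zero_add]; exact one_ne_zero) hAf
          have h1' : AL (v + e) = r • (v + e) := h1
          rw [map_add, smul_add, show AL e = r • e from hAe, add_left_inj] at h1'
          exact h1'
        · exact hmove v f hv hvf hAf
      · exact hmove v e hv hve hAe
    have hAr : ∀ x, A x = r • x := fun x => by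
      have := hall (show x ∈ (⊤ : Submodule F Vec) from trivial)
      rwa [LinearMap.mem_ker, LinearMap.sub_apply, LinearMap.smul_apply, LinearMap.id_apply, sub_eq_zero] at this
    have hr0 : r ≠ 0 := by
      rintro rfl
      refine mulVec_ne_zero g he0' (right_ext hQ fun x => ?_)
      have := hA e (((g⁻¹ : GL ι F) : Matrix ι ι F) *ᵥ x)
      rw [hAe, zero_smul, zero_r, hG, hG, mulVec_inv_cancel] at this
      rw [zero_r]; exact this.symm
    refine ⟨Units.mk0 r hr0, fun v => mul_left_cancel₀ h2 ?_⟩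
    rw [← self2, ← hG, ← hA, hAr, smul_r, self2, Units.val_mk0]
    ring
  -- a transvection
  have hw0 : w ≠ 0 := fun e => hwu0 (e ▸ zero_mem _)
  obtain ⟨k₁, hk₁, hk₁x, -⟩ := hE u w hu huw
  set a := (g : Matrix ι ι F) *ᵥ u with ha
  set b := (g : Matrix ι ι F) *ᵥ w with hb
  obtain ⟨c, hc⟩ := exists_repr hQ ((form Q u).comp (Matrix.toLin' ((g⁻¹ : GL ι F) : Matrix ι ι F)))
  obtain ⟨d, hd⟩ := exists_repr hQ ((form Q w).comp (Matrix.toLin' ((g⁻¹ : GL ι F) : Matrix ι ι F)))
  have hc' : ∀ x, B ((g : Matrix ι ι F) *ᵥ x) c = B x u := fun x => by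
    rw [hc]; simp [form, Matrix.toLin'_apply, inv_mulVec_cancel]
  have hd' : ∀ x, B ((g : Matrix ι ι F) *ᵥ x) d = B x w := fun x => by
    rw [hd]; simp [form, Matrix.toLin'_apply, inv_mulVec_cancel]
  have hab : LinearIndependent F ![a, b] := by
    rw [LinearIndependent.pair_iff]
    intro s t h
    have h' : (g : Matrix ι ι F) *ᵥ (s • u + t • w) = (g : Matrix ι ι F) *ᵥ 0 := by
      rw [mulVec_add, mulVec_smul, mulVec_smul, mulVec_zero, ← ha, ← hb, h]
    have h'' := mulVec_inj g h'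
    have ht : t = 0 := by
      by_contra ht
      refine hwu0 ?_
      rw [Matrix.range_cons, Matrix.range_empty, Set.union_empty, Submodule.mem_span_singleton]
      refine ⟨-s / t, ?_⟩
      rw [show w = t⁻¹ • (-(s • u)) by rw [← eq_neg_of_add_eq_zero_right h'', inv_smul_smul₀ ht]]
      module
    rw [ht, zero_smul, add_zero, smul_eq_zero] at h''
    exact ⟨h''.resolve_right hu0, ht⟩
  obtain ⟨c₀, hc₀, hc₀ab⟩ : ∃ c₀, (c₀ = c ∨ c₀ = d) ∧ c₀ ∉ Submodule.span F (Set.range ![a, b]) := by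
    by_contra hcon
    push Not at hcon
    have hcd : LinearIndependent F ![c, d] := by
      rw [LinearIndependent.pair_iff]
      intro s t h
      have h'' : s • u + t • w = 0 := right_ext hQ fun x => by
        rw [add_r, smul_r, smul_r, zero_r, ← hc', ← hd', ← smul_r, ← smul_r, ← add_r, h, zero_r]
      have := (LinearIndependent.pair_iff.1 hab) s t (by
        rw [ha, hb, ← mulVec_smul, ← mulVec_smul, ← mulVec_add, h'', mulVec_zero])
      exact this
    have hle : Submodule.span F (Set.range ![c, d]) ≤ Submodule.span F (Set.range ![a, b]) := by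
      rw [Submodule.span_le]
      rintro _ ⟨i, rfl⟩
      fin_cases i
      exacts [hcon c (Or.inl rfl), hcon d (Or.inr rfl)]
    have heq := Submodule.eq_of_le_of_finrank_eq hle
      (by rw [finrank_span_eq_card hcd, finrank_span_eq_card hab])
    have key : ∀ v, (g : Matrix ι ι F) *ᵥ v ∈ Submodule.span F (Set.range ![a, b]) →
        A v ∈ Submodule.span F (Set.range ![u, w]) := by
      intro v hv
      rw [← heq, range_cons_cons_empty, Submodule.mem_span_pair] at hv
      obtain ⟨s, t, hst⟩ := hv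
      rw [range_cons_cons_empty, Submodule.mem_span_pair]
      refine ⟨s, t, right_ext hQ fun x => ?_⟩
      rw [hA, hG, hG, ← hst, add_r, smul_r, smul_r, add_r, smul_r, smul_r, hc', hd']
    rcases hmv with h | h
    · exact h (key u (Submodule.subset_span ⟨0, rfl⟩))
    · exact h (key w (Submodule.subset_span ⟨1, rfl⟩))
  have hac : B a c = 0 := by rw [ha, hc', self2, hu, mul_zero]
  have had : B a d = 0 := by rw [ha, hd', huw]
  have hbc : B b c = 0 := by rw [hb, hc', symm, huw]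
  have hbd : B b d = 0 := by rw [hb, hd', self2, hw, mul_zero]
  have hh₁ : ∀ x, ((g * k₁ * g⁻¹ : GL ι F) : Matrix ι ι F) *ᵥ x = x + B x c • b - B x d • a := fun x => by
    rw [mulVec_mul_GL, mulVec_mul_GL, hk₁x, hw, zero_mul, add_zero, mulVec_sub, mulVec_add, mulVec_smul,
      mulVec_smul, mulVec_inv_cancel, ← ha, ← hb, ← hc', ← hd', mulVec_inv_cancel]
  have hhM : g * k₁ * g⁻¹ ∈ M := mul_mem (mul_mem hgM hk₁) (inv_mem hgM)
  have hne0 : ∀ u₂, B u₂ c₀ ≠ 0 → B u₂ c • b - B u₂ d • a ≠ 0 := by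
    intro u₂ hne e
    have := (LinearIndependent.pair_iff.1 hab) (-B u₂ d) (B u₂ c) (by
      rw [neg_smul, ← sub_eq_neg_add, e])
    rcases hc₀ with rfl | rfl
    · exact hne this.2
    · exact hne (neg_eq_zero.1 this.1)
  obtain ⟨v₀, u₂, hv₀0, hu₂0, p₀⟩ : ∃ v₀ u₂, v₀ ≠ 0 ∧ u₂ ≠ 0 ∧ RP Q M v₀ u₂ := by
    by_cases hdeg : B a a = 0 ∧ B a b = 0
    · obtain ⟨haa, hab'⟩ := hdeg
      have hQa : Q a = 0 := by
        rw [self2] at haa
        exact (mul_eq_zero.1 haa).resolve_left h2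
      obtain ⟨w₂, hw₂S, hne⟩ := Orth.not_mem_perp hQ hc₀ab
      have hwa : B w₂ a = 0 := mem_perp_span.1 hw₂S 0
      have hwb : B w₂ b = 0 := mem_perp_span.1 hw₂S 1
      refine ⟨B w₂ c • b - B w₂ d • a, a, hne0 w₂ (fun e => hne ((symm _ _).trans e)),
        fun e => one_ne_zero (α := F) ((LinearIndependent.pair_iff.1 hab) 1 0 (by rw [e, smul_zero, zero_smul, add_zero])).1,
        by rw [sub_l, smul_l, smul_l, haa, symm b a, hab', mul_zero, mul_zero, sub_zero], fun t => ?_⟩
      obtain ⟨k₂, hk₂, hk₂x, -⟩ := hE a (t • w₂) hQa (by rw [smul_r, symm, hwa, mul_zero])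
      refine ⟨g * k₁ * g⁻¹ * k₂ * (k₂ * (g * k₁ * g⁻¹))⁻¹,
        mul_mem (mul_mem hhM hk₂) (inv_mem (mul_mem hk₂ hhM)), fun x => ?_⟩
      rw [mulVec_mul_GL]
      obtain ⟨y, hy⟩ : ∃ y, y = ((k₂ * (g * k₁ * g⁻¹))⁻¹ : GL ι F).val *ᵥ x := ⟨_, rfl⟩
      have hx : x = ((k₂ * (g * k₁ * g⁻¹) : GL ι F) : Matrix ι ι F) *ᵥ y := by rw [hy, mulVec_inv_cancel]
      rw [← hy, hx, mulVec_mul_GL (g * k₁ * g⁻¹) k₂, mulVec_mul_GL k₂, hh₁, hh₁, hk₂x, hk₂x]
      simp only [add_l, sub_l, smul_l, smul_r, Classical.Orth.map_smul', symm b a, haa, hab', symm a w₂, symm b w₂,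
        hwa, hwb, hac, had, hbc, hbd, mul_zero, sub_zero, add_zero]
      module
    · -- a singular vector orthogonal to the plane and moved by the conjugate
      have hi : ∃ j, B (![a, b] 0) (![a, b] j) ≠ 0 := by
        rcases not_and_or.1 hdeg with h | h
        · exact ⟨0, h⟩
        · exact ⟨1, h⟩
      have hrad := small_rad hQ (s := ![a, b]) hi
      have hdim := le_finrank_perp hQ ![a, b]
      obtain ⟨z₀, hz₀S, hz₀⟩ := Orth.not_mem_perp hQ hc₀ab
      obtain ⟨u₂, hu₂S, hu₂, hu₂c₀⟩ := exists_sing_avoid' hQ (S := Orth.perp Q (Submodule.span F (Set.range ![a, b])))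
        (T := Orth.ker Q c₀) (by omega) fun hle => hz₀ (hle hz₀S)
      have hua : B u₂ a = 0 := mem_perp_span.1 hu₂S 0
      have hub : B u₂ b = 0 := mem_perp_span.1 hu₂S 1
      have hne : B u₂ c₀ ≠ 0 := fun e => hu₂c₀ (Orth.mem_ker'.2 (by rw [symm]; exact e))
      obtain ⟨w₂, hw₂S, hw₂0⟩ : ∃ w₂ ∈ Orth.perp Q (Submodule.span F (Set.range ![a, b, c, d, u₂])), w₂ ≠ 0 := by
        refine (Submodule.ne_bot_iff _).1 fun e => ?_
        have := le_finrank_perp hQ ![a, b, c, d, u₂]
        rw [e, finrank_bot] at this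
        omega
      have hwa : B w₂ a = 0 := mem_perp_span.1 hw₂S 0
      have hwb : B w₂ b = 0 := mem_perp_span.1 hw₂S 1
      have hwc : B w₂ c = 0 := mem_perp_span.1 hw₂S 2
      have hwd : B w₂ d = 0 := mem_perp_span.1 hw₂S 3
      have hwu : B w₂ u₂ = 0 := mem_perp_span.1 hw₂S 4
      refine ⟨B u₂ c • b - B u₂ d • a, w₂, hne0 u₂ hne, hw₂0,
        by rw [sub_l, smul_l, smul_l, symm b, symm a, hwa, hwb, mul_zero, mul_zero, sub_zero], fun t => ?_⟩
      -- the family is quadratic in the parameter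
      have hfam : ∀ r : F, ∃ k ∈ M, ∀ x, (k : Matrix ι ι F) *ᵥ x =
          x + B x (r • w₂ + (r * r * Q w₂) • u₂) • (B u₂ c • b - B u₂ d • a) := by
        intro r
        obtain ⟨k₂, hk₂, hk₂x, -⟩ := hE u₂ ((-r) • w₂) hu₂ (by rw [smul_r, symm, hwu, mul_zero])
        refine ⟨g * k₁ * g⁻¹ * k₂ * (k₂ * (g * k₁ * g⁻¹))⁻¹,
          mul_mem (mul_mem hhM hk₂) (inv_mem (mul_mem hk₂ hhM)), fun x => ?_⟩
        rw [mulVec_mul_GL]
        obtain ⟨y, hy⟩ : ∃ y, y = ((k₂ * (g * k₁ * g⁻¹))⁻¹ : GL ι F).val *ᵥ x := ⟨_, rfl⟩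
        have hx : x = ((k₂ * (g * k₁ * g⁻¹) : GL ι F) : Matrix ι ι F) *ᵥ y := by rw [hy, mulVec_inv_cancel]
        rw [← hy, hx, mulVec_mul_GL (g * k₁ * g⁻¹) k₂, mulVec_mul_GL k₂, hh₁, hh₁, hk₂x, hk₂x]
        simp only [add_l, sub_l, add_r, smul_l, smul_r, Classical.Orth.map_smul', self2 w₂, self2 u₂, hu₂, symm a u₂,
          symm b u₂, symm a w₂, symm b w₂, symm u₂ w₂, hua, hub, hwa, hwb, hwc, hwd, hwu, mul_zero, sub_zero, add_zero]
        module
      obtain ⟨k, hk, hkx⟩ := hfam (t / 2)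
      obtain ⟨l, hl, hlx⟩ := hfam (-(t / 2))
      refine ⟨k * l⁻¹, mul_mem hk (inv_mem hl), fun x => ?_⟩
      obtain ⟨y, hy⟩ : ∃ y, y = ((l⁻¹ : GL ι F) : Matrix ι ι F) *ᵥ x := ⟨_, rfl⟩
      have hx : x = (l : Matrix ι ι F) *ᵥ y := by rw [hy, mulVec_inv_cancel]
      rw [mulVec_mul_GL, ← hy, hkx, hx, hlx]
      simp only [add_l, sub_l, add_r, smul_l, smul_r, symm a u₂, symm b u₂, symm a w₂, symm b w₂, hua, hub, hwa, hwb,
        mul_zero, sub_zero, add_zero]
      match_scalars <;> field_simp <;> ring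
  -- orbit of a self-paired root group
  obtain ⟨u₀, w₀, hu₀, q₀, hw₀⟩ : ∃ u w, u ≠ 0 ∧ RP Q M u w ∧ w ∉ Submodule.span F {u} := by
    by_cases hdep : u₂ ∈ Submodule.span F {v₀}
    swap
    · exact ⟨v₀, u₂, hv₀0, p₀, hdep⟩
    obtain ⟨t, ht⟩ := Submodule.mem_span_singleton.1 hdep
    have ht0 : t ≠ 0 := fun e => hu₂0 (by rw [← ht, e, zero_smul])
    have puu : RP Q M v₀ v₀ := by
      have := p₀.smul_right t⁻¹
      rwa [← ht, inv_smul_smul₀ ht0] at this
    have hQv : Q v₀ = 0 := by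
      have := puu.1
      rw [self2] at this
      exact (mul_eq_zero.1 this).resolve_left h2
    obtain ⟨y, hy⟩ := Orth.exists_ne hQ hv₀0
    obtain ⟨e, -, hQe, hve⟩ := Orth.exists_partner_in (S := ⊤) (e := v₀) (y := y) trivial trivial hQv hy
    obtain ⟨z, hz, hQz⟩ : ∃ z ∈ Orth.perp Q (Submodule.span F (Set.range ![v₀, e])), Q z ≠ 0 := by
      by_contra hc'
      push Not at hc'
      have h1 := Orth.finrank_sing_le hQ hc'
      have := le_finrank_perp hQ ![v₀, e]
      omega
    have hzv : B z v₀ = 0 := mem_perp_span.1 hz 0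
    have hze : B z e = 0 := mem_perp_span.1 hz 1
    obtain ⟨k, hk, hkx, hkB⟩ := hE e z hQe ((symm _ _).trans hze)
    set v := (k : Matrix ι ι F) *ᵥ v₀ with hv
    have hveq : v = v₀ + z - Q z • e := by
      rw [hv, hkx, hve, symm v₀ z, hzv, zero_add, mul_one, one_smul]
    have pvv : RP Q M v v := puu.map hk fun x => by
      rw [hv, ← hkB (((k⁻¹ : GL ι F) : Matrix ι ι F) *ᵥ x) v₀, mulVec_inv_cancel]
    have hvv₀ : B v v₀ = -Q z := by
      rw [hveq, sub_l, add_l, smul_l, puu.1, hzv, symm e, hve]; ring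
    obtain ⟨l, hl, hlx⟩ := puu.2 1
    have hw' : ∀ x, B x (v + Q z • v₀) = B (((l⁻¹ : GL ι F) : Matrix ι ι F) *ᵥ x) v := fun x => by
      obtain ⟨y, hy⟩ : ∃ y, y = ((l⁻¹ : GL ι F) : Matrix ι ι F) *ᵥ x := ⟨_, rfl⟩
      have hx : x = y + (1 * B y v₀) • v₀ := by rw [← hlx, hy, mulVec_inv_cancel]
      rw [← hy, hx]
      simp only [add_l, add_r, smul_l, smul_r, symm v₀ v, hvv₀, puu.1]
      ring
    refine ⟨_, v + Q z • v₀, mulVec_ne_zero l (fun h => hQz ?_), pvv.map hl hw', fun h => ?_⟩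
    · rw [h, zero_l] at hvv₀; exact neg_eq_zero.1 hvv₀.symm
    · obtain ⟨s, hs⟩ := Submodule.mem_span_singleton.1 h
      rw [hlx, one_mul, hvv₀] at hs
      have hs1 := congrArg (fun x => B x v₀) hs
      simp only [smul_l, add_l, puu.1, mul_zero, add_zero, hvv₀] at hs1
      have hs' : s = 1 := (mul_eq_right₀ (neg_ne_zero.2 hQz)).1 hs1
      rw [hs', one_smul, add_right_inj] at hs
      exact mul_ne_zero h2 hQz (by linear_combination -smul_left_injective F hv₀0 hs)
  -- `u₀` is a centre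
  let S : Submodule F Vec :=
    { carrier := {w | RP Q M u₀ w}
      add_mem' := fun h h' => h.add_right h'
      zero_mem' := by simpa using q₀.smul_right 0
      smul_mem' := fun c w h => h.smul_right c }
  -- images under the stabiliser of `u₀`
  have hmove : ∀ w ∈ S, ∀ e z, Q e = 0 → B e z = 0 → B e u₀ = 0 → B z u₀ = 0 →
      B w e • z - (B w z + Q z * B w e) • e ∈ S := by
    intro w hwS e z hQe hez heu hzu
    obtain ⟨k, hk, hkx, hkB⟩ := hE e z hQe hez
    have h1 : RP Q M u₀ ((k : Matrix ι ι F) *ᵥ w) := by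
      have := RP.map (show RP Q M u₀ w from hwS) hk (w' := (k : Matrix ι ι F) *ᵥ w) fun x => by
        rw [← hkB (((k⁻¹ : GL ι F) : Matrix ι ι F) *ᵥ x) w, mulVec_inv_cancel]
      rwa [hkx u₀, symm u₀ e, heu, symm u₀ z, hzu, mul_zero, add_zero, zero_smul,
        zero_smul, add_zero, sub_zero] at this
    rw [hkx w] at h1
    have := S.sub_mem h1 hwS
    convert this using 1
    abel
  obtain ⟨e₀, he₀, hQe₀, he₀u⟩ : ∃ e₀ ∈ S, Q e₀ = 0 ∧ e₀ ∉ Submodule.span F {u₀} := by
    by_cases hQw : Q w₀ = 0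
    · exact ⟨w₀, q₀, hQw, hw₀⟩
    have hrad := small_rad hQ (s := ![u₀, w₀]) (i := 1) ⟨1, show B w₀ w₀ ≠ 0 by rw [self2]; exact mul_ne_zero h2 hQw⟩
    have hdim := le_finrank_perp hQ ![u₀, w₀]
    obtain ⟨e, heS, hQe, heT⟩ := exists_sing_avoid' hQ (S := Orth.perp Q (Submodule.span F (Set.range ![u₀, w₀])))
      (by omega) (hmore ![u₀, w₀] ![u₀, w₀] (by omega))
    have heu : B e u₀ = 0 := mem_perp_span.1 heS 0
    have hew : B e w₀ = 0 := mem_perp_span.1 heS 1
    have hwT : w₀ ∉ Submodule.span F (Set.range ![e, u₀]) := by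
      rw [range_cons_cons_empty, Submodule.mem_span_pair]
      rintro ⟨s, t, hst⟩
      rcases eq_or_ne s 0 with rfl | hs
      · exact hw₀ (Submodule.mem_span_singleton.2 ⟨t, by rw [← hst, zero_smul, zero_add]⟩)
      · refine heT ?_
        rw [range_cons_cons_empty, Submodule.mem_span_pair]
        exact ⟨-(t / s), s⁻¹, by rw [← hst, smul_add, inv_smul_smul₀ hs]; module⟩
    obtain ⟨z, hz, hwz⟩ := Orth.not_mem_perp hQ hwT
    have h1 := hmove w₀ q₀ e z hQe ((symm _ _).trans (mem_perp_span.1 hz 0)) heu (mem_perp_span.1 hz 1)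
    rw [symm w₀ e, hew, mul_zero, add_zero, zero_smul, zero_sub] at h1
    refine ⟨e, ?_, hQe, fun h => heT (Submodule.span_mono (by simp) h)⟩
    rw [← inv_smul_smul₀ hwz e]
    exact S.smul_mem _ (neg_mem_iff.1 h1)
  -- a partner of `e₀` orthogonal to `u₀`
  have he₀u' : e₀ ∉ Submodule.span F (Set.range ![u₀]) := by
    rwa [Matrix.range_cons, Matrix.range_empty, Set.union_empty]
  have he₀0 : B e₀ u₀ = 0 := (symm _ _).trans (show RP Q M u₀ e₀ from he₀).1
  obtain ⟨y, hyS, hey⟩ := Orth.not_mem_perp hQ he₀u'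
  obtain ⟨f, hfS, hQf, hef⟩ := Orth.exists_partner_in (S := Orth.perp Q (Submodule.span F (Set.range ![u₀])))
    (mem_perp_span.2 fun i => by fin_cases i; exact he₀0) hyS hQe₀ hey
  have hfu : B f u₀ = 0 := mem_perp_span.1 hfS 0
  have hrest : ∀ z, B z u₀ = 0 → B z e₀ = 0 → B z f = 0 → z ∈ S ∧ Q z • f ∈ S := by
    intro z hzu hze hzf
    have h1 := hmove e₀ he₀ f z hQf ((symm _ _).trans hzf) hfu hzu
    have h2' := hmove e₀ he₀ f (-z) hQf (by rw [← neg_one_smul F z, smul_r, symm, hzf, mul_zero])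
      hfu (by rw [← neg_one_smul F z, smul_l, hzu, mul_zero])
    rw [hef, one_smul, symm e₀ z, hze, zero_add, mul_one] at h1
    rw [hef, one_smul, ← neg_one_smul F z, smul_r, symm e₀ z, hze, mul_zero, zero_add, mul_one,
      Classical.Orth.map_smul'] at h2'
    have h3 : z ∈ S := by
      have := S.smul_mem (2 : F)⁻¹ (S.sub_mem h1 h2')
      convert this using 1
      match_scalars <;> field_simp <;> ring
    refine ⟨h3, ?_⟩
    have := S.sub_mem h3 h1
    rwa [sub_sub_cancel] at this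
  have hf : f ∈ S := by
    obtain ⟨z, hz, hQz⟩ : ∃ z ∈ Orth.perp Q (Submodule.span F (Set.range ![u₀, e₀, f])), Q z ≠ 0 := by
      by_contra hc'
      push Not at hc'
      have h1 : Orth.perp Q (Submodule.span F (Set.range ![u₀, e₀, f])) ≤
          Submodule.span F (Set.range ![u₀]) := by
        intro z hz
        by_contra hzu
        obtain ⟨y, hy, hzy⟩ := Orth.not_mem_perp hQ hzu
        -- move `y` into the perpendicular space
        refine hzy ?_
        have hyu : B y u₀ = 0 := mem_perp_span.1 hy 0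
        set y' := y - B y f • e₀ - B y e₀ • f with hy'
        have hy'S : y' ∈ Orth.perp Q (Submodule.span F (Set.range ![u₀, e₀, f])) := mem_perp_span.2 fun i => by
          fin_cases i
          · show B y' u₀ = 0
            simp [hy', sub_l, smul_l, hyu, he₀0, hfu]
          · show B y' e₀ = 0
            simp [hy', sub_l, smul_l, self2 e₀, hQe₀, symm f e₀, hef]
          · show B y' f = 0
            simp [hy', sub_l, smul_l, self2 f, hQf, hef]
        have h0 : B z y' = 0 := by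
          rw [QuadraticMap.polar, hc' _ (add_mem hz hy'S), hc' _ hz, hc' _ hy'S]; ring
        rw [hy', sub_r, sub_r, smul_r, smul_r, show B z e₀ = 0 from mem_perp_span.1 hz 1,
          show B z f = 0 from mem_perp_span.1 hz 2, mul_zero, mul_zero, sub_zero, sub_zero] at h0
        exact h0
      have h2' := Submodule.finrank_mono h1
      have h3 := le_finrank_perp hQ ![u₀, e₀, f]
      have h4 : Module.finrank F (Submodule.span F (Set.range ![u₀])) ≤ 1 :=
        (finrank_range_le_card ![u₀]).trans_eq (Fintype.card_fin 1)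
      omega
    have := S.smul_mem (Q z)⁻¹ (hrest z (mem_perp_span.1 hz 0) (mem_perp_span.1 hz 1) (mem_perp_span.1 hz 2)).2
    rwa [inv_smul_smul₀ hQz] at this
  have hker : ∀ x, B x u₀ = 0 → x ∈ S := by
    intro x hx
    set x' := x - B x f • e₀ - B x e₀ • f with hx'
    have h1 : x' ∈ S := by
      refine (hrest x' ?_ ?_ ?_).1
      · simp [hx', sub_l, smul_l, hx, he₀0, hfu]
      · simp [hx', sub_l, smul_l, self2 e₀, hQe₀, symm f e₀, hef]
      · simp [hx', sub_l, smul_l, self2 f, hQf, hef]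
    have := S.add_mem (S.add_mem h1 (S.smul_mem (B x f) he₀)) (S.smul_mem (B x e₀) hf)
    convert this using 1
    rw [hx']; abel
  have hcen : u₀ ∈ centres M := fun φ hφ => by
    obtain ⟨w, hw'⟩ := exists_repr hQ
      { toFun := fun x => φ ⬝ᵥ x
        map_add' := fun a b => dotProduct_add φ a b
        map_smul' := fun t a => dotProduct_smul t φ a }
    have hw'' : ∀ x, B x w = φ ⬝ᵥ x := hw'
    obtain ⟨k, hk, e⟩ := (show RP Q M u₀ w from hker w (by rw [symm, hw'']; exact hφ)).2 1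
    have hke : k = trv u₀ φ hφ := gl_ext fun x => by rw [e, one_mul, trv_mulVec, hw'']
    exact hke ▸ hk
  -- every vector
  have hcadd : ∀ a b, a ∈ centres M → b ∈ centres M → a + b ∈ centres M := fun a b ha hb => by
    by_cases hm : a ∈ Submodule.span F {b}
    · obtain ⟨t, rfl⟩ := Submodule.mem_span_singleton.1 hm
      have := centres_smul (t + 1) hb
      rwa [add_smul, one_smul] at this
    · obtain ⟨φ, hφb, hφa⟩ := exists_row_of_not_mem hm
      have := centres_map (hb φ (hφb b (Submodule.mem_span_singleton_self _))) ha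
      rwa [trv_mulVec, hφa, one_smul] at this
  let C : Submodule F Vec :=
    { carrier := centres M
      add_mem' := fun ha hb => hcadd _ _ ha hb
      zero_mem' := by simpa using centres_smul 0 hcen
      smul_mem' := fun c _ h => centres_smul c h }
  have hcstep : ∀ u ∈ C, u ≠ 0 → Orth.perp Q (Submodule.span F (Set.range ![u])) ≤ C := by
    intro u huC hu0'
    by_contra hle
    obtain ⟨e, heP, hQe, he⟩ := exists_sing_avoid hQ (hbig ![u] (by omega)) hle
    have heu : B e u = 0 := mem_perp_span.1 heP 0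
    obtain ⟨z, hz, huz⟩ := Orth.not_mem_perp hQ (W := Submodule.span F (Set.range ![e])) (u := u) fun h => by
      rw [Matrix.range_cons, Matrix.range_empty, Set.union_empty, Submodule.mem_span_singleton] at h
      obtain ⟨t, ht⟩ := h
      rcases eq_or_ne t 0 with rfl | ht0
      · exact hu0' (by rw [← ht, zero_smul])
      · exact he (by rw [show e = t⁻¹ • u by rw [← ht, inv_smul_smul₀ ht0]]; exact C.smul_mem _ huC)
    obtain ⟨k, hk, hkx, -⟩ := hE e z hQe ((symm _ _).trans (mem_perp_span.1 hz 0))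
    have h1 : (k : Matrix ι ι F) *ᵥ u ∈ C := centres_map hk huC
    rw [hkx, symm u e, heu, mul_zero, add_zero, zero_smul, add_zero] at h1
    refine he ?_
    have h2' : e = (B u z)⁻¹ • (u - (u - B u z • e)) := by rw [sub_sub_cancel, inv_smul_smul₀ huz]
    rw [h2']
    exact C.smul_mem _ (C.sub_mem huC h1)
  obtain ⟨e, heP, -, heu⟩ := exists_sing_avoid hQ (hbig ![u₀] (by omega)) (hmore ![u₀] ![u₀] (by omega))
  have hu₀e : u₀ ∉ Submodule.span F (Set.range ![e]) := fun h => by
    rw [Matrix.range_cons, Matrix.range_empty, Set.union_empty, Submodule.mem_span_singleton] at h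
    obtain ⟨t, ht⟩ := h
    rcases eq_or_ne t 0 with rfl | ht0
    · exact hu₀ (by rw [← ht, zero_smul])
    · refine heu ?_
      rw [Matrix.range_cons, Matrix.range_empty, Set.union_empty, Submodule.mem_span_singleton]
      exact ⟨t⁻¹, by rw [← ht, inv_smul_smul₀ ht0]⟩
  obtain ⟨y, hy, huy⟩ := Orth.not_mem_perp hQ hu₀e
  refine specialLinear_le_of_centres fun x => ?_
  have h1 : x - (B u₀ x / B u₀ y) • y ∈ C := hcstep u₀ hcen hu₀ (mem_perp_span.2 fun i => by
    fin_cases i
    show B (x - (B u₀ x / B u₀ y) • y) u₀ = 0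
    rw [sub_l, smul_l, symm x, symm y, div_mul_cancel₀ _ huy, sub_self])
  have h2' := C.add_mem h1 (C.smul_mem (B u₀ x / B u₀ y) (hcstep e (hcstep u₀ hcen hu₀ heP) (fun h => heu (h ▸ zero_mem _)) hy))
  rwa [sub_add_cancel] at h2'

end Cfsg.Agent.Forms.Max.OrthInLinear
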