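import Mathlib
import Cfsg.Agent.Lib.Forms.Max.Linear
import Cfsg.Agent.Lib.Forms.Bases

/-!
# Unitary similarity groups in the special linear group
-/

set_option autoImplicit false
set_option linter.unusedSectionVars false

namespace Cfsg.Agent.Forms.Max.UnitaryInLinear

open Matrix Cfsg.Agent.Aschbacher

variable {ι : Type} [Fintype ι] [DecidableEq ι] {F : Type*} [Field F] [Finite F]

/-- a non-degenerate form, hermitian for an automorphism of order two -/
structure Herm (σ : F →+* F) (h : (ι → F) → (ι → F) → F) : Prop where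
  ne_id : σ ≠ RingHom.id F
  inv : ∀ a, σ (σ a) = a
  add : ∀ x y v, h (x + y) v = h x v + h y v
  smul : ∀ (c : F) x v, h (c • x) v = c * h x v
  herm : ∀ v w, h v w = σ (h w v)
  nd : ∀ v, (∀ x, h v x = 0) → v = 0

variable {σ : F →+* F} {h : (ι → F) → (ι → F) → F}

theorem add_right (hh : Herm σ h) (x v w : ι → F) : h x (v + w) = h x v + h x w := by
  rw [hh.herm, hh.add, map_add, ← hh.herm, ← hh.herm]

theorem smul_right (hh : Herm σ h) (c : F) (x v : ι → F) : h x (c • v) = σ c * h x v := by
  rw [hh.herm, hh.smul, map_mul, ← hh.herm]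

theorem self_fixed (hh : Herm σ h) (x : ι → F) : σ (h x x) = h x x := (hh.herm x x).symm

theorem comm_zero (hh : Herm σ h) {x y : ι → F} (e : h x y = 0) : h y x = 0 := by
  rw [hh.herm, e, map_zero]

theorem zero_right (hh : Herm σ h) (x : ι → F) : h x 0 = 0 := by
  simpa using smul_right hh 0 x 0

theorem neg_right (hh : Herm σ h) (x v : ι → F) : h x (-v) = -h x v := by
  simpa using smul_right hh (-1) x v

theorem sub_left (hh : Herm σ h) (x y v : ι → F) : h (x - y) v = h x v - h y v :=
  eq_sub_of_add_eq (by rw [← hh.add, sub_add_cancel])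

/-- the functional `x ↦ h x w` -/
def form (hh : Herm σ h) (w : ι → F) : (ι → F) →ₗ[F] F where
  toFun x := h x w
  map_add' a b := hh.add a b w
  map_smul' c a := hh.smul c a w

theorem right_ext (hh : Herm σ h) {a b : ι → F} (e : ∀ x, h x a = h x b) : a = b := by
  refine sub_eq_zero.1 (hh.nd _ fun x => ?_)
  rw [hh.herm, sub_eq_add_neg, add_right hh, neg_right hh, e, add_neg_cancel, map_zero]

theorem exists_repr (hh : Herm σ h) (φ : (ι → F) →ₗ[F] F) : ∃ w, ∀ x, h x w = φ x := by
  have hinj : Function.Injective (fun (w : ι → F) (i : ι) => h (Pi.single i 1) w) := fun a b e =>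
    right_ext hh fun x => by
      have : form hh a = form hh b :=
        (Pi.basisFun F ι).ext fun i => by simpa [form] using congrFun e i
      exact LinearMap.congr_fun this x
  obtain ⟨w, hw⟩ := Finite.injective_iff_surjective.1 hinj fun i => φ (Pi.single i 1)
  refine ⟨w, fun x => ?_⟩
  have : form hh w = φ := (Pi.basisFun F ι).ext fun i => by simpa [form] using congrFun hw i
  exact LinearMap.congr_fun this x

/-- a vector with a prescribed product with `v`, orthogonal to `u` -/
theorem exists_perp_value (hh : Herm σ h) {u v : ι → F} (hv : v ∉ Submodule.span F {u}) :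
    ∃ x, h x u = 0 ∧ h x v = 1 := by
  obtain ⟨φ, hφu, hφv⟩ := exists_row_of_not_mem hv
  obtain ⟨w, hw⟩ := exists_repr hh
    { toFun := fun x => φ ⬝ᵥ x
      map_add' := fun a b => dotProduct_add φ a b
      map_smul' := fun t a => dotProduct_smul t φ a }
  have hw' : ∀ x, h x w = φ ⬝ᵥ x := hw
  refine ⟨w, comm_zero hh ?_, ?_⟩
  · rw [hw', hφu u (Submodule.mem_span_singleton_self _)]
  · rw [hh.herm, hw', hφv, map_one]

theorem exists_value_one (hh : Herm σ h) {v : ι → F} (hv : v ≠ 0) : ∃ x, h x v = 1 := by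
  obtain ⟨x, -, hx⟩ := exists_perp_value hh (u := 0) (v := v) (by simpa using hv)
  exact ⟨x, hx⟩

theorem exists_trace (hh : Herm σ h) : ∃ a : F, a + σ a ≠ 0 := by
  by_contra hc
  push Not at hc
  have h1 := hc 1
  rw [map_one] at h1
  refine hh.ne_id (RingHom.ext fun a => ?_)
  have := hc a
  rw [RingHom.id_apply]
  linear_combination this - a * h1

theorem exists_skew (hh : Herm σ h) : ∃ τ : F, τ ≠ 0 ∧ σ τ = -τ := by
  obtain ⟨a, ha⟩ : ∃ a, σ a ≠ a := by
    by_contra hc
    push Not at hc
    exact hh.ne_id (RingHom.ext hc)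
  exact ⟨σ a - a, sub_ne_zero.2 ha, by rw [map_sub, hh.inv, neg_sub]⟩

theorem exists_trace_eq (hh : Herm σ h) {d : F} (hd : σ d = d) : ∃ a : F, a + σ a + d = 0 := by
  obtain ⟨e, he⟩ := exists_trace hh
  refine ⟨-d * e / (e + σ e), ?_⟩
  have he' : σ (e + σ e) = e + σ e := by rw [map_add, hh.inv, add_comm]
  rw [map_div₀, he', map_mul, map_neg, hd]
  field_simp
  ring

/-- orthogonal to a few given vectors every norm occurs -/
theorem exists_norm_perp (hh : Herm σ h) {k : ℕ} (s : Fin k → ι → F)
    (hk : 2 * k < Fintype.card ι ∨ 2 * k ≤ Fintype.card ι ∧ ∃ i j, h (s i) (s j) ≠ 0) {d : F}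
    (hd : σ d = d) : ∃ z, (∀ i, h z (s i) = 0) ∧ h z z = d := by
  classical
  let L : (ι → F) →ₗ[F] (Fin k → F) := LinearMap.pi fun i => form hh (s i)
  have hL : ∀ x, x ∈ LinearMap.ker L → ∀ i, h x (s i) = 0 := fun x hx i => congrFun hx i
  obtain ⟨z, hz, hzz⟩ : ∃ z ∈ LinearMap.ker L, h z z ≠ 0 := by
    by_contra hc
    push Not at hc
    have hiso : ∀ x ∈ LinearMap.ker L, ∀ y ∈ LinearMap.ker L, h x y = 0 := by
      intro x hx y hy
      obtain ⟨e, he⟩ := exists_trace hh
      by_contra hne
      apply he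
      have := hc _ ((LinearMap.ker L).add_mem ((LinearMap.ker L).smul_mem (e / h x y) hx) hy)
      simp only [hh.add, add_right hh, hh.smul, smul_right hh, hc x hx, hc y hy,
        map_div₀, mul_zero, zero_add, add_zero] at this
      rw [hh.herm y x] at this
      have hne' : σ (h x y) ≠ 0 := by simpa using hne
      field_simp at this
      linear_combination this
    set b := Module.finBasis F (LinearMap.ker L) with hb
    have hli : LinearIndependent F (fun i => form hh (b i : ι → F)) := by
      refine Fintype.linearIndependent_iff.2 fun c hc0 i => ?_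
      have h0 : ∑ j, σ (c j) • (b j : ι → F) = 0 := by
        refine right_ext hh fun x => ?_
        rw [zero_right hh]
        have hx := LinearMap.congr_fun hc0 x
        simp only [LinearMap.sum_apply, LinearMap.smul_apply, LinearMap.zero_apply, smul_eq_mul] at hx
        have hsum : ∀ s : Finset _, h x (∑ j ∈ s, σ (c j) • (b j : ι → F)) =
            ∑ j ∈ s, c j * h x (b j) := fun s => by
          induction s using Finset.induction with
          | empty => simpa using zero_right hh x
          | insert a s ha ih =>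
            rw [Finset.sum_insert ha, Finset.sum_insert ha, add_right hh, smul_right hh, hh.inv, ih]
        rw [hsum]; exact hx
      have h1 : ∑ j, σ (c j) • b j = 0 := Subtype.ext (by simpa using h0)
      simpa using Fintype.linearIndependent_iff.1 b.linearIndependent (fun j => σ (c j)) h1 i
    have hmem : Submodule.span F (Set.range fun i => form hh (b i : ι → F)) ≤
        (LinearMap.ker L).dualAnnihilator := by
      rw [Submodule.span_le]
      rintro _ ⟨i, rfl⟩
      rw [SetLike.mem_coe, Submodule.mem_dualAnnihilator]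
      exact fun w hw => hiso w hw _ (b i).2
    have h1 := Submodule.finrank_mono hmem
    rw [finrank_span_eq_card hli, Fintype.card_fin] at h1
    have h2 : Module.finrank F (LinearMap.ker L) + Module.finrank F (LinearMap.ker L).dualAnnihilator =
        Fintype.card ι :=
      (Subspace.finrank_add_finrank_dualAnnihilator_eq (LinearMap.ker L)).trans
        (Module.finrank_fintype_fun_eq_card F)
    have h3 := LinearMap.finrank_range_add_finrank_ker L
    have h4 := Submodule.finrank_le (LinearMap.range L)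
    rw [Module.finrank_fintype_fun_eq_card] at h3 h4
    rw [Fintype.card_fin] at h4
    have h1' : Module.finrank F (LinearMap.ker L) ≤ Module.finrank F (LinearMap.ker L).dualAnnihilator := h1
    rcases hk with hk | ⟨hk, i, j, hij⟩
    · omega
    -- the orthogonal space is Lagrangian and contains the given vectors
    have heq : Submodule.span F (Set.range fun i => form hh (b i : ι → F)) = (LinearMap.ker L).dualAnnihilator :=
      Submodule.eq_of_le_of_finrank_le hmem (by
        have h5 : Module.finrank F (LinearMap.ker L).dualAnnihilator ≤ Module.finrank F (LinearMap.ker L) := by omega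
        rw [finrank_span_eq_card hli, Fintype.card_fin]; exact h5)
    have hsi : form hh (s i) ∈ Submodule.span F (Set.range fun i => form hh (b i : ι → F)) := by
      rw [heq, Submodule.mem_dualAnnihilator]
      exact fun w hw => hL w hw i
    obtain ⟨c, hc'⟩ := (Submodule.mem_span_range_iff_exists_fun F).1 hsi
    have hsum : ∀ (x : ι → F) (s : Finset _), h x (∑ j ∈ s, σ (c j) • (b j : ι → F)) =
        ∑ j ∈ s, c j * h x (b j) := fun x s => by
      induction s using Finset.induction with
      | empty => simpa using zero_right hh x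
      | insert a s ha ih =>
        rw [Finset.sum_insert ha, Finset.sum_insert ha, add_right hh, smul_right hh, hh.inv, ih]
    have hsK : s i ∈ LinearMap.ker L := by
      have : s i = ∑ j, σ (c j) • (b j : ι → F) := right_ext hh fun x => by
        rw [hsum, show h x (s i) = form hh (s i) x from rfl, ← hc']
        simp only [LinearMap.sum_apply, LinearMap.smul_apply, smul_eq_mul]
        rfl
      rw [this]
      exact Submodule.sum_mem _ fun j _ => Submodule.smul_mem _ _ (b j).2
    exact hij (hL _ hsK j)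
  obtain ⟨c, hc⟩ := Bases.exists_norm_eq σ hh.ne_id hh.inv (d / h z z)
    (by rw [map_div₀, hd, self_fixed hh])
  refine ⟨c • z, fun i => by rw [hh.smul, hL z hz i, mul_zero], ?_⟩
  rw [hh.smul, smul_right hh, ← mul_assoc, mul_comm c, hc, div_mul_cancel₀ _ hzz]

/-- an isotropic vector with product one with `v`, orthogonal to `u` -/
theorem exists_iso_value (hh : Herm σ h) (h9 : 6 ≤ Fintype.card ι) {u v : ι → F}
    (hv : v ∉ Submodule.span F {u}) : ∃ e, h e u = 0 ∧ h e v = 1 ∧ h e e = 0 := by
  obtain ⟨x, hxu, hxv⟩ := exists_perp_value hh hv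
  obtain ⟨z, hz, hzz⟩ := exists_norm_perp hh ![u, v, x]
    (Or.inr ⟨by omega, 2, 1, show h x v ≠ 0 by rw [hxv]; exact one_ne_zero⟩) (d := -h x x)
    (by rw [map_neg, self_fixed hh])
  have h0 : h z u = 0 := hz 0
  have h1 : h z v = 0 := hz 1
  have h2 : h z x = 0 := hz 2
  refine ⟨x + z, by rw [hh.add, hxu, h0, add_zero], by rw [hh.add, hxv, h1, add_zero], ?_⟩
  rw [hh.add, add_right hh, add_right hh, comm_zero hh h2, h2, hzz]
  ring

/-- an additive set containing enough isotropic lines contains everything orthogonal to `u` -/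
theorem mem_of_iso_lines (hh : Herm σ h) (P : (ι → F) → Prop) (hadd : ∀ a b, P a → P b → P (a + b))
    {u e f : ι → F} (heu : h e u = 0) (hfu : h f u = 0) (hee : h e e = 0) (hff : h f f = 0)
    (hfe : h f e = 1) (he : ∀ c : F, P (c • e)) (hf : ∀ c : F, P (c • f))
    (hmove : ∀ v, h v u = 0 → h v v = 0 → h v e ≠ 0 → ∀ c : F, P (c • v))
    {x : ι → F} (hx : h x u = 0) : P x := by
  have hef : h e f = 1 := by rw [hh.herm, hfe, map_one]
  set z := x - h x f • e - h x e • f with hz
  have hzu : h z u = 0 := by simp [hz, sub_left hh, hh.smul, hx, heu, hfu]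
  have hze : h z e = 0 := by simp [hz, sub_left hh, hh.smul, hee, hfe]
  have hzf : h z f = 0 := by simp [hz, sub_left hh, hh.smul, hff, hef]
  obtain ⟨a, ha⟩ := exists_trace_eq hh (self_fixed hh z)
  set v := f + z + a • e with hv
  have hvu : h v u = 0 := by simp [hv, hh.add, hh.smul, hfu, hzu, heu]
  have hve : h v e = 1 := by simp [hv, hh.add, hh.smul, hfe, hze, hee]
  have hvv : h v v = 0 := by
    simp only [hv, hh.add, add_right hh, hh.smul, smul_right hh, hee, hff, hfe, hef, hze, hzf,
      comm_zero hh hze, comm_zero hh hzf]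
    linear_combination ha
  have e1 : x = (1 : F) • v + (h x f - a) • e + (h x e - 1) • f := by
    rw [hv, hz]; module
  rw [e1]
  exact hadd _ _ (hadd _ _ (hmove v hvu hvv (by rw [hve]; exact one_ne_zero) 1) (he _)) (hf _)

theorem exists_isotropic (hh : Herm σ h) (h9 : 6 ≤ Fintype.card ι) :
    ∃ v : ι → F, v ≠ 0 ∧ h v v = 0 := by
  obtain ⟨z, -, hz⟩ := exists_norm_perp hh (fun _ : Fin 1 => 0) (Or.inl (by omega)) (d := 1) (map_one σ)
  have hz0 : z ≠ 0 := fun e => by rw [e, zero_right hh] at hz; exact one_ne_zero hz.symm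
  obtain ⟨e, -, hez, hee⟩ := exists_iso_value hh h9 (u := 0) (v := z) (by simpa using hz0)
  refine ⟨e, fun e0 => ?_, hee⟩
  rw [e0] at hez
  have h0 := hh.smul 0 0 z
  rw [zero_smul, zero_mul, hez] at h0
  exact one_ne_zero h0

/-- the pair `(u, w)` gives the transvection `x ↦ x + h(x, w) u` inside `M` -/
def Pair (h : (ι → F) → (ι → F) → F) (M : Subgroup (GL ι F)) (u w : ι → F) : Prop :=
  h u w = 0 ∧ ∃ g ∈ M, ∀ x, (g : Matrix ι ι F) *ᵥ x = x + h x w • u

/-- the pair `(u, w)` gives a root group inside `M` -/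
def RP (σ : F →+* F) (h : (ι → F) → (ι → F) → F) (M : Subgroup (GL ι F)) (u w : ι → F) : Prop :=
  h u w = 0 ∧ ∀ a : F, σ a = -a → Pair h M u (a • w)

variable {M : Subgroup (GL ι F)}

theorem RP.add_right (hh : Herm σ h) {u w w' : ι → F} (p : RP σ h M u w) (p' : RP σ h M u w') :
    RP σ h M u (w + w') := by
  refine ⟨by rw [UnitaryInLinear.add_right hh, p.1, p'.1, add_zero], fun a ha => ?_⟩
  obtain ⟨h1, g, hg, eg⟩ := p.2 a ha
  obtain ⟨h2, k, hk, ek⟩ := p'.2 a ha
  refine ⟨by rw [smul_add, UnitaryInLinear.add_right hh, h1, h2, add_zero], g * k, mul_mem hg hk,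
    fun x => ?_⟩
  rw [mulVec_mul_GL, ek, eg, smul_add, UnitaryInLinear.add_right hh, hh.add, hh.smul, h1, mul_zero,
    add_zero, add_smul]
  abel

theorem RP.smul_fixed (hh : Herm σ h) {u w : ι → F} {t : F} (ht : σ t = t) (p : RP σ h M u w) :
    RP σ h M u (t • w) := by
  refine ⟨by rw [UnitaryInLinear.smul_right hh, p.1, mul_zero], fun a ha => ?_⟩
  have := p.2 (a * t) (by rw [map_mul, ha, ht, neg_mul])
  rwa [← smul_smul] at this

theorem RP.map (hh : Herm σ h) {u w : ι → F} (p : RP σ h M u w) {k : GL ι F} (hk : k ∈ M)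
    {w' : ι → F} (hw' : ∀ x, h x w' = h (((k⁻¹ : GL ι F) : Matrix ι ι F) *ᵥ x) w) :
    RP σ h M ((k : Matrix ι ι F) *ᵥ u) w' := by
  refine ⟨by rw [hw', inv_mulVec_cancel, p.1], fun a ha => ?_⟩
  obtain ⟨h1, g, hg, eg⟩ := p.2 a ha
  refine ⟨by rw [UnitaryInLinear.smul_right hh, hw', inv_mulVec_cancel, p.1, mul_zero], k * g * k⁻¹,
    mul_mem (mul_mem hk hg) (inv_mem hk), fun x => ?_⟩
  rw [mulVec_mul_GL, mulVec_mul_GL, eg, mulVec_add, mulVec_smul, mulVec_inv_cancel,
    UnitaryInLinear.smul_right hh, UnitaryInLinear.smul_right hh, hw']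

theorem similarity_maximal (hh : Herm σ h) (h9 : 6 ≤ Fintype.card ι)
    (H : Subgroup (GL ι F)) (hH : H ≤ Cfsg.Geo.specialLinear ι F)
    (hmem : ∀ g : GL ι F, g ∈ H ↔ g ∈ Cfsg.Geo.specialLinear ι F ∧
      ∃ c : Fˣ, ∀ u v, h ((g : Matrix ι ι F) *ᵥ u) ((g : Matrix ι ι F) *ᵥ v) = (c : F) * h u v) :
    Cfsg.Geo.IsMaximalIn (Cfsg.Geo.specialLinear ι F) H := by
  classical
  have hrow : ∀ w : ι → F, ∃ φ : ι → F, ∀ x, φ ⬝ᵥ x = h x w := fun w => exists_row (form hh w)
  -- transvections
  have htv : ∀ (v : ι → F) (c : F), h v v = 0 → ∃ g ∈ Cfsg.Geo.specialLinear ι F,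
      (∀ x, (g : Matrix ι ι F) *ᵥ x = x + (c * h x v) • v) ∧
      ∀ x y, h ((g : Matrix ι ι F) *ᵥ x) ((g : Matrix ι ι F) *ᵥ y) =
        h x y + (c + σ c) * (h x v * h v y) := by
    intro v c hv
    obtain ⟨φ, hφ⟩ := hrow (σ c • v)
    have h0 : φ ⬝ᵥ v = 0 := by rw [hφ, smul_right hh, hv, mul_zero]
    have happ : ∀ x, (trv v φ h0 : Matrix ι ι F) *ᵥ x = x + (c * h x v) • v := fun x => by
      rw [trv_mulVec, hφ, smul_right hh, hh.inv]
    refine ⟨trv v φ h0, trv_mem_SL _ _ _, happ, fun x y => ?_⟩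
    rw [happ, happ]
    simp only [hh.add, add_right hh, hh.smul, smul_right hh, hv, map_mul, ← hh.herm v y]
    ring
  obtain ⟨e₁, he₁⟩ := exists_trace hh
  obtain ⟨τ, hτ0, hτ⟩ := exists_skew hh
  refine isMaximalIn_of hH (fun hle => ?_) fun M hM hMK g hgM hg => ?_
  · -- a transvection that is no similarity
    obtain ⟨v, hv0, hvv⟩ := exists_isotropic hh h9
    obtain ⟨x, hxv⟩ := exists_value_one hh hv0
    obtain ⟨z, hz, hzz⟩ := exists_norm_perp hh ![v] (Or.inl (by omega)) (d := 1) (map_one σ)
    obtain ⟨k, hk, -, hform⟩ := htv v e₁ hvv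
    obtain ⟨-, c, hc⟩ := (hmem _).1 (hle hk)
    have h1 := hc z z
    rw [hform, show h z v = 0 from hz 0, zero_mul, mul_zero, add_zero, hzz, mul_one] at h1
    have h2 := hc x x
    rw [hform, ← h1, one_mul, hxv, hh.herm v x, hxv, map_one, mul_one, mul_one, add_eq_left] at h2
    exact he₁ h2
  -- unitary transvections lie in `M`
  have htH : ∀ (v : ι → F) (c : F), h v v = 0 → σ c = -c →
      ∃ g ∈ M, (∀ x, (g : Matrix ι ι F) *ᵥ x = x + (c * h x v) • v) ∧
        ∀ x y, h ((g : Matrix ι ι F) *ᵥ x) ((g : Matrix ι ι F) *ᵥ y) = h x y := by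
    intro v c hv hc
    obtain ⟨k, hk, happ, hform⟩ := htv v c hv
    refine ⟨k, hM ((hmem _).2 ⟨hk, 1, fun x y => ?_⟩), happ, fun x y => ?_⟩
    · rw [hform, hc, add_neg_cancel, zero_mul, add_zero, Units.val_one, one_mul]
    · rw [hform, hc, add_neg_cancel, zero_mul, add_zero]
  have hvv : ∀ v, h v v = 0 → RP σ h M v v := fun v hv => ⟨hv, fun a ha => by
    obtain ⟨k, hk, happ, -⟩ := htH v (σ a) hv (by rw [hh.inv, ha, neg_neg])
    exact ⟨by rw [smul_right hh, hv, mul_zero], k, hk, fun x => by rw [happ, smul_right hh]⟩⟩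
  -- an independent root pair
  obtain ⟨u₀, w₀, hu₀, p₀, hw₀⟩ : ∃ u w, u ≠ 0 ∧ RP σ h M u w ∧ w ∉ Submodule.span F {u} := by
    by_contra hcon
    push Not at hcon
    -- no full root pair
    have hfull : ∀ u, u ≠ 0 → h u u = 0 → ∀ l : F, RP σ h M u (l • u) → σ l = l := by
      intro u hu huu l pl
      by_contra hl
      have hl' : l - σ l ≠ 0 := sub_ne_zero.2 (Ne.symm hl)
      have pall : ∀ c : F, RP σ h M u (c • u) := fun c => by
        set s := (c - σ c) / (l - σ l) with hs
        have hs' : σ s = s := by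
          rw [hs, map_div₀, map_sub, map_sub, hh.inv, hh.inv, ← neg_sub c, ← neg_sub l, neg_div_neg_eq]
        have hsl : s * (l - σ l) = c - σ c := div_mul_cancel₀ _ hl'
        have hr : σ (c - s * l) = c - s * l := by
          rw [map_sub, map_mul, hs']
          linear_combination hsl
        have := ((hvv u huu).smul_fixed hh hr).add_right hh (pl.smul_fixed hh hs')
        rwa [smul_smul, ← add_smul, sub_add_cancel] at this
      obtain ⟨v, -, hvu, hv⟩ := exists_iso_value hh h9 (u := 0) (v := u) (by simpa using hu)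
      have huv : h u v = 1 := by rw [hh.herm, hvu, map_one]
      obtain ⟨-, k, hk, happ⟩ := (pall (τ⁻¹ * σ e₁)).2 τ hτ
      simp only [smul_smul, ← mul_assoc, mul_inv_cancel₀ hτ0, one_mul, smul_right hh, hh.inv] at happ
      have hw : ∀ x, h x (v - σ e₁ • u) = h (((k⁻¹ : GL ι F) : Matrix ι ι F) *ᵥ x) v := fun x => by
        set y := ((k⁻¹ : GL ι F) : Matrix ι ι F) *ᵥ x with hy
        have hx : x = y + (e₁ * h y u) • u := by rw [← happ, hy, mulVec_inv_cancel]
        rw [hx, sub_eq_add_neg, add_right hh, neg_right hh, smul_right hh, hh.inv]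
        simp only [hh.add, hh.smul, huv, huu]
        ring
      have hkv : (k : Matrix ι ι F) *ᵥ v = v + e₁ • u := by rw [happ, hvu, mul_one]
      have hne : v + e₁ • u ≠ 0 := fun e => by
        have := congrArg (fun y => h y u) e
        simp only [hh.add, hh.smul, hvu, huu, mul_zero, add_zero] at this
        have h00 := hh.smul 0 0 u
        rw [zero_smul, zero_mul] at h00
        rw [h00] at this
        exact one_ne_zero this
      obtain ⟨t, ht⟩ := Submodule.mem_span_singleton.1
        (hcon _ _ hne (hkv ▸ (hvv v hv).map hh hk hw))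
      have ht1 := congrArg (fun y => h y u) ht
      simp only [hh.add, hh.smul, sub_left hh, hvu, huu, mul_zero, add_zero, sub_zero, mul_one] at ht1
      have ht2 := congrArg (fun y => h y v) ht
      simp only [hh.add, hh.smul, sub_left hh, huv, hv, mul_one, zero_add, zero_sub, ht1, one_mul] at ht2
      exact he₁ (eq_neg_iff_add_eq_zero.1 ht2)
    -- `g` is a similarity
    refine hg ((hmem g).2 ⟨hMK hgM, ?_⟩)
    obtain ⟨G, hG⟩ : ∃ G : (ι → F) →ₗ[F] (ι → F), ∀ x, G x = (g : Matrix ι ι F) *ᵥ x :=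
      ⟨Matrix.toLin' (g : Matrix ι ι F), fun x => Matrix.toLin'_apply _ x⟩
    have hadj : ∀ v, ∃ a, ∀ x, h x a = h (G x) (G v) := fun v =>
      exists_repr hh ((form hh (G v)).comp G)
    choose A hA using hadj
    have hsa : ∀ x y, h x (A y) = h (A x) y := fun x y => by
      rw [hA, hh.herm (A x) y, hA, ← hh.herm]
    have hAadd : ∀ a b, A (a + b) = A a + A b := fun a b => right_ext hh fun x => by
      rw [add_right hh, hA, hA, hA, map_add, add_right hh]
    have hAsmul : ∀ (c : F) a, A (c • a) = c • A a := fun c a => right_ext hh fun x => by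
      rw [smul_right hh, hA, hA, map_smul, smul_right hh]
    have heig : ∀ v, h v v = 0 → v ≠ 0 → ∃ r : F, r ≠ 0 ∧ σ r = r ∧ A v = r • v := by
      intro v hv hv0
      obtain ⟨w', hw'⟩ := exists_repr hh ((form hh v).comp
        (Matrix.toLin' ((g⁻¹ : GL ι F) : Matrix ι ι F)))
      have hw'' : ∀ x, h x w' = h (((g⁻¹ : GL ι F) : Matrix ι ι F) *ᵥ x) v := fun x => by
        rw [hw']; simp [Matrix.toLin'_apply, form]
      have hgv := mulVec_ne_zero g hv0
      have pw := (hvv v hv).map hh hgM hw''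
      obtain ⟨t, ht⟩ := Submodule.mem_span_singleton.1 (hcon _ _ hgv pw)
      have ht0 : t ≠ 0 := fun h0 => hv0 (right_ext hh fun x => by
        have := hw'' ((g : Matrix ι ι F) *ᵥ x)
        rw [← ht, h0, zero_smul, zero_right hh, inv_mulVec_cancel] at this
        rw [zero_right hh]
        exact this.symm)
      have hgvv : h ((g : Matrix ι ι F) *ᵥ v) ((g : Matrix ι ι F) *ᵥ v) = 0 := by
        have := pw.1
        rw [← ht, smul_right hh] at this
        exact (mul_eq_zero.1 this).resolve_left (by simpa using ht0)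
      have htf : σ t = t := hfull _ hgv hgvv t (ht.symm ▸ pw)
      refine ⟨t⁻¹, inv_ne_zero ht0, by rw [map_inv₀, htf], right_ext hh fun x => ?_⟩
      rw [hA, hG, hG, smul_right hh, map_inv₀, htf]
      have := hw'' ((g : Matrix ι ι F) *ᵥ x)
      rw [← ht, smul_right hh, htf, inv_mulVec_cancel] at this
      rw [← this, inv_mul_cancel_left₀ ht0]
    obtain ⟨e, he0, hee⟩ := exists_isotropic hh h9
    obtain ⟨f, -, hfe, hff⟩ := exists_iso_value hh h9 (u := 0) (v := e) (by simpa using he0)
    obtain ⟨r, hr0, hr, hAe⟩ := heig e hee he0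
    have hmove : ∀ v, h v v = 0 → h v e ≠ 0 → A v = r • v := by
      intro v hv hve
      obtain ⟨s, -, hs, hAv⟩ := heig v hv (fun e0 => hve (by
        rw [e0]; simpa using hh.smul 0 0 e))
      have := hsa v e
      rw [hAe, hAv, smul_right hh, hr, hh.smul] at this
      rw [hAv, mul_right_cancel₀ hve this]
    have hall : ∀ x, A x = r • x := fun x => mem_of_iso_lines hh (fun y => A y = r • y)
      (fun a b ha hb => by rw [hAadd, ha, hb, smul_add]) (u := 0) (zero_right hh e) (zero_right hh f)
      hee hff hfe (fun c => by rw [hAsmul, hAe, smul_comm])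
      (fun c => by rw [hAsmul, hmove f hff (by rw [hfe]; exact one_ne_zero), smul_comm])
      (fun v _ hv hve c => by rw [hAsmul, hmove v hv hve, smul_comm]) (zero_right hh x)
    refine ⟨Units.mk0 r hr0, fun a b => ?_⟩
    rw [← hG, ← hG, ← hA, hall, smul_right hh, hr, Units.val_mk0]
  -- `u₀` is a centre
  have hline : ∀ w, RP σ h M u₀ w → ∀ v, h v u₀ = 0 → h v v = 0 → h w v ≠ 0 →
      ∀ c : F, RP σ h M u₀ (c • v) := by
    have hstep : ∀ w, RP σ h M u₀ w → ∀ v, h v u₀ = 0 → h v v = 0 → ∀ μ : F, σ μ = -μ →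
        RP σ h M u₀ ((μ * h w v) • v) := by
      intro w pw v hvu hv μ hμ
      obtain ⟨k, hk, happ, hform⟩ := htH v μ hv hμ
      have hw' : ∀ x, h x ((k : Matrix ι ι F) *ᵥ w) = h (((k⁻¹ : GL ι F) : Matrix ι ι F) *ᵥ x) w :=
        fun x => by rw [← hform (((k⁻¹ : GL ι F) : Matrix ι ι F) *ᵥ x) w, mulVec_inv_cancel]
      have h2 := pw.map hh hk hw'
      rw [happ u₀, comm_zero hh hvu, mul_zero, zero_smul, add_zero, happ w] at h2
      have := h2.add_right hh (pw.smul_fixed hh (t := (-1 : F)) (by simp))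
      rwa [neg_one_smul, add_neg_cancel_comm] at this
    intro w pw v hvu hv hwv c
    have hvu0 : v ∉ Submodule.span F {u₀} := by
      intro hm
      obtain ⟨t, rfl⟩ := Submodule.mem_span_singleton.1 hm
      exact hwv (by rw [smul_right hh, comm_zero hh pw.1, mul_zero])
    obtain ⟨f, hfu, hfv, hff⟩ := exists_iso_value hh h9 hvu0
    have hvf : h v f = 1 := by rw [hh.herm, hfv, map_one]
    -- choose `a` and the multiple of `z` so that the coefficient is `c`
    obtain ⟨z₁, hz₁, hzz₁⟩ := exists_norm_perp hh ![u₀, f, v]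
      (Or.inr ⟨by omega, 1, 2, show h f v ≠ 0 by rw [hfv]; exact one_ne_zero⟩) (d := 1) (map_one σ)
    obtain ⟨a₀, ha₀⟩ : ∃ x, x = σ ((c / (τ * τ) - h w f) / h w v) := ⟨_, rfl⟩
    obtain ⟨κ, hκ⟩ : ∃ x, x = σ (h w z₁ / h w v) := ⟨_, rfl⟩
    obtain ⟨e₀, he₀⟩ := Bases.exists_norm_eq σ hh.ne_id hh.inv (κ * σ κ - (a₀ + σ a₀))
      (by rw [map_sub, map_add, map_mul, hh.inv κ, hh.inv a₀, mul_comm, add_comm (σ a₀)])
    obtain ⟨lam, hlam⟩ : ∃ x, x = σ κ + e₀ := ⟨_, rfl⟩
    obtain ⟨a, ha⟩ : ∃ x, x = a₀ - lam * κ := ⟨_, rfl⟩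
    obtain ⟨z, hz'⟩ : ∃ x, x = lam • z₁ := ⟨_, rfl⟩
    have hzz : h z z = -(a + σ a) := by
      rw [hz', hh.smul, smul_right hh, hzz₁, ha, map_sub, map_mul, hlam, map_add, hh.inv]
      linear_combination he₀
    have hzu : h z u₀ = 0 := by rw [hz', hh.smul, show h z₁ u₀ = 0 from hz₁ 0, mul_zero]
    have hzf : h z f = 0 := by rw [hz', hh.smul, show h z₁ f = 0 from hz₁ 1, mul_zero]
    have hzv : h z v = 0 := by rw [hz', hh.smul, show h z₁ v = 0 from hz₁ 2, mul_zero]
    set va := f + z + a • v with hva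
    have hvau : h va u₀ = 0 := by simp [hva, hh.add, hh.smul, hfu, hzu, hvu]
    have hvav : h va v = 1 := by simp [hva, hh.add, hh.smul, hfv, hzv, hv]
    have hvaa : h va va = 0 := by
      simp only [hva, hh.add, add_right hh, hh.smul, smul_right hh, hv, hff, hfv, hvf, hzv, hzf, hzz,
        comm_zero hh hzv, comm_zero hh hzf]
      ring
    have h1 := hstep _ (hstep w pw va hvau hvaa τ hτ) v hvu hv τ hτ
    convert h1 using 2
    rw [hh.smul, hvav, mul_one, hva, add_right hh, add_right hh, smul_right hh, hz', smul_right hh, ha,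
      map_sub, map_mul, ha₀, hκ, hh.inv, hh.inv, sub_mul, div_mul_cancel₀ _ hwv, mul_assoc (σ lam),
      div_mul_cancel₀ _ hwv]
    field_simp
    ring
  have hall : ∀ x, h x u₀ = 0 → RP σ h M u₀ x := by
    have hu₀w : u₀ ∉ Submodule.span F {u₀} → False := fun e => e (Submodule.mem_span_singleton_self _)
    obtain ⟨e, heu, hew, hee⟩ := exists_iso_value hh h9 hw₀
    have hwe : h w₀ e ≠ 0 := by rw [hh.herm, hew, map_one]; exact one_ne_zero
    have he := hline w₀ p₀ e heu hee hwe
    have hene : e ∉ Submodule.span F {u₀} := by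
      intro hm
      obtain ⟨t, rfl⟩ := Submodule.mem_span_singleton.1 hm
      rw [hh.smul, p₀.1, mul_zero] at hew
      exact zero_ne_one hew
    obtain ⟨f, hfu, hfe, hff⟩ := exists_iso_value hh h9 hene
    have he1 : RP σ h M u₀ e := by simpa using he 1
    have hf := hline e he1 f hfu hff (by rw [hh.herm, hfe, map_one]; exact one_ne_zero)
    exact fun x hx => mem_of_iso_lines hh (fun y => RP σ h M u₀ y) (fun a b ha hb => ha.add_right hh hb)
      heu hfu hee hff hfe he hf
      (fun v hvu hv hve => hline e he1 v hvu hv (fun e0 => hve (comm_zero hh e0))) hx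
  have hcen : u₀ ∈ centres M := fun φ hφ => by
    obtain ⟨w, hw⟩ := exists_repr hh
      { toFun := fun x => φ ⬝ᵥ x
        map_add' := fun a b => dotProduct_add φ a b
        map_smul' := fun t a => dotProduct_smul t φ a }
    have hw' : ∀ x, h x w = φ ⬝ᵥ x := hw
    have hperp : h (τ⁻¹ • w) u₀ = 0 := by
      rw [hh.smul, comm_zero hh (show h u₀ w = 0 by rw [hw']; exact hφ), mul_zero]
    obtain ⟨-, k, hk, happ⟩ := (hall _ hperp).2 τ hτ
    have hke : k = trv u₀ φ hφ := gl_ext fun x => by
      rw [happ, smul_smul, mul_inv_cancel₀ hτ0, one_smul, trv_mulVec, hw']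
    exact hke ▸ hk
  have h0c : (0 : ι → F) ∈ centres M := by simpa using centres_smul 0 hcen
  have hcadd : ∀ a b, a ∈ centres M → b ∈ centres M → a + b ∈ centres M := fun a b ha hb => by
    by_cases hm : a ∈ Submodule.span F {b}
    · obtain ⟨t, rfl⟩ := Submodule.mem_span_singleton.1 hm
      have := centres_smul (t + 1) hb
      rwa [add_smul, one_smul] at this
    · obtain ⟨φ, hφb, hφa⟩ := exists_row_of_not_mem hm
      have := centres_map (hb φ (hφb b (Submodule.mem_span_singleton_self _))) ha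
      rwa [trv_mulVec, hφa, one_smul] at this
  have hcmove : ∀ u v, u ∈ centres M → h v v = 0 → h u v ≠ 0 → v ∈ centres M := fun u v hu hv huv => by
    obtain ⟨k, hk, happ, -⟩ := htH v τ hv hτ
    have h1 := centres_map hk hu
    rw [happ] at h1
    have h2 := centres_smul (τ * h u v)⁻¹ (hcadd _ _ h1 (centres_smul (-1) hu))
    rwa [neg_one_smul, add_neg_cancel_comm, inv_smul_smul₀ (mul_ne_zero hτ0 huv)] at h2
  obtain ⟨e, -, heu, hee⟩ := exists_iso_value hh h9 (u := 0) (v := u₀) (by simpa using hu₀)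
  have he0 : e ≠ 0 := fun e0 => by
    rw [e0, show h 0 u₀ = 0 by simpa using hh.smul 0 0 u₀] at heu
    exact zero_ne_one heu
  have hec := hcmove u₀ e hcen hee (by rw [hh.herm, heu, map_one]; exact one_ne_zero)
  obtain ⟨f, -, hfe, hff⟩ := exists_iso_value hh h9 (u := 0) (v := e) (by simpa using he0)
  have hfc := hcmove e f hec hff (by rw [hh.herm, hfe, map_one]; exact one_ne_zero)
  refine specialLinear_le_of_centres fun x => mem_of_iso_lines hh (fun y => y ∈ centres M) hcadd
    (u := 0) (zero_right hh e) (zero_right hh f) hee hff hfe (fun c => centres_smul c hec)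
    (fun c => centres_smul c hfc)
    (fun v _ hv hve c => centres_smul c (hcmove e v hec hv fun e0 => hve (comm_zero hh e0)))
    (zero_right hh x)

end Cfsg.Agent.Forms.Max.UnitaryInLinear
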