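import Cfsg.Agent.Lib.Forms.Max.SubfieldLinear
import Cfsg.Agent.Lib.Forms.Max.SympInLinear
import Cfsg.Agent.Lib.Forms.Max.UnitaryInLinear
import Cfsg.Agent.Lib.Forms.Max.OrthInLinear

/-!
# Subfield groups and classical groups are maximal in the special linear group of dimension at least six
-/

set_option autoImplicit false
open Cfsg

namespace Cfsg.Agent.Forms.Max.LinearGeometric

theorem subfield_group_maximal {F : Type*} [Field F] [Fintype F] (n : ℕ) (hn : 6 ≤ n) (F₀ : Subfield F) (r : ℕ) (hr : r.Prime) (hcard : Fintype.card F = Nat.card F₀ ^ r) (P : Matrix.GeneralLinearGroup (Fin n) F) : Cfsg.Geo.IsMaximalIn (Cfsg.Geo.specialLinear (Fin n) F) (Cfsg.Geo.subfieldSubgroup F₀ P ⊓ Cfsg.Geo.specialLinear (Fin n) F) := by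
  classical
  set e := MulAut.conj P with he
  set B := ((Matrix.GeneralLinearGroup.map (F₀.subtype : F₀ →+* F)).range ⊔ Cfsg.Geo.scalars (Fin n) F) with hB
  have hK : (Cfsg.Geo.specialLinear (Fin n) F).map e.toMonoidHom = Cfsg.Geo.specialLinear (Fin n) F :=
    by
    have hn : (Cfsg.Geo.specialLinear (Fin n) F).Normal := MonoidHom.normal_ker _
    ext g
    constructor
    · rintro ⟨x, hx, rfl⟩
      exact hn.conj_mem x hx P
    · intro hg
      exact ⟨P⁻¹ * g * P⁻¹⁻¹, hn.conj_mem g hg P⁻¹, by simp [he, mul_assoc]⟩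
  have key := Forms.Max.SubfieldLinear.subfield_maximal (ι := Fin n) (F := F) (by rw [Fintype.card_fin]; omega) F₀ hr hcard
    (B ⊓ Cfsg.Geo.specialLinear (Fin n) F) inf_le_right
    (fun g hg ⟨k, hk, hkg⟩ => by
      refine ⟨?_, hg⟩
      let A₀ : Matrix (Fin n) (Fin n) F₀ := fun i j => ⟨k * (g : Matrix (Fin n) (Fin n) F) i j, hkg i j⟩
      have hA : A₀.map F₀.subtype = k • (g : Matrix (Fin n) (Fin n) F) := rfl
      have hdet : A₀.det ≠ 0 := fun h => by
        have h' : (F₀.subtype : F₀ →+* F) A₀.det = 0 := by rw [h]; rfl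
        rw [RingHom.map_det, RingHom.mapMatrix_apply, hA, Matrix.det_smul] at h'
        rcases mul_eq_zero.1 h' with h0 | h0
        · exact hk (eq_zero_of_pow_eq_zero h0)
        · exact (g.isUnit.map Matrix.detMonoidHom).ne_zero h0
      let r₀ : Matrix.GeneralLinearGroup (Fin n) F₀ := Matrix.GeneralLinearGroup.mkOfDetNeZero A₀ hdet
      have hs : (Units.map (Matrix.scalar (Fin n) : F →+* Matrix (Fin n) (Fin n) F).toMonoidHom (Units.mk0 k⁻¹ (inv_ne_zero hk))) ∈ Cfsg.Geo.scalars (Fin n) F := ⟨_, rfl⟩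
      have hg' : g = (Matrix.GeneralLinearGroup.map (F₀.subtype : F₀ →+* F) r₀) * (Units.map (Matrix.scalar (Fin n) : F →+* Matrix (Fin n) (Fin n) F).toMonoidHom (Units.mk0 k⁻¹ (inv_ne_zero hk))) := by
        refine Units.ext ?_
        show (g : Matrix (Fin n) (Fin n) F) = A₀.map F₀.subtype * Matrix.scalar (Fin n) k⁻¹
        rw [hA]
        simp [Matrix.mul_diagonal, ← Matrix.ext_iff, hk, mul_assoc, mul_comm k]
      rw [hg']
      exact mul_mem (Subgroup.mem_sup_left ⟨r₀, rfl⟩) (Subgroup.mem_sup_right hs))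
    (fun g hg => by
      obtain ⟨x, ⟨r₀, rfl⟩, s, hs, rfl⟩ := Subgroup.mem_sup_of_normal_right.1 hg.1
      obtain ⟨c, hc⟩ := (Cfsg.Geo.mem_scalars_iff _).1 hs
      refine ⟨(c : F)⁻¹, inv_ne_zero c.ne_zero, fun i j => ?_⟩
      rw [Units.val_mul, hc, Matrix.mul_smul, Matrix.mul_one, Matrix.smul_apply, smul_eq_mul, inv_mul_cancel_left₀ c.ne_zero]
      exact ((r₀ : Matrix (Fin n) (Fin n) F₀) i j).2)
  have hmax := Forms.Max.SubfieldLinear.isMaximalIn_map e key
  rwa [Subgroup.map_inf _ _ _ e.injective, hK] at hmax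

theorem symp_group_maximal {F : Type*} [Field F] [Fintype F] (n : ℕ) (hn : 6 ≤ n) (f : (Fin n → F) → (Fin n → F) → F) (hf : Cfsg.Geo.IsSymplecticForm f) : Cfsg.Geo.IsMaximalIn (Cfsg.Geo.specialLinear (Fin n) F) (Cfsg.Geo.similarityGroup f ⊓ Cfsg.Geo.specialLinear (Fin n) F) := by
  classical
  let B : LinearMap.BilinForm F (Fin n → F) := LinearMap.mk₂ F f
    hf.bilinear.add_left hf.bilinear.smul_left hf.bilinear.add_right hf.bilinear.smul_right
  have hn' : B.Nondegenerate :=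
    ⟨fun v h => by
      by_contra h0
      obtain ⟨-, x, hx⟩ := hf.nondegenerate v h0
      exact hx (h x),
     fun v h => by
      by_contra h0
      obtain ⟨⟨x, hx⟩, -⟩ := hf.nondegenerate v h0
      exact hx (h x)⟩
  refine Forms.Max.symp_similarity_maximal (B := B) (fun v => hf.alternating v) hn'
    (by rw [Fintype.card_fin]; omega) _ inf_le_right fun g => ?_
  exact ⟨fun h => ⟨h.2, h.1⟩, fun h => ⟨h.2, h.1⟩⟩

theorem unitary_group_maximal {F : Type*} [Field F] [Fintype F] (n : ℕ) (hn : 6 ≤ n) (σ : F ≃+* F) (f : (Fin n → F) → (Fin n → F) → F) (hf : Cfsg.Geo.IsUnitaryForm σ f) : Cfsg.Geo.IsMaximalIn (Cfsg.Geo.specialLinear (Fin n) F) (Cfsg.Geo.similarityGroup f ⊓ Cfsg.Geo.specialLinear (Fin n) F) := by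
  classical
  have hh : Cfsg.Agent.Forms.Max.UnitaryInLinear.Herm (σ : F →+* F) f :=
    { ne_id := fun e => hf.ne_refl (RingEquiv.ext fun a => RingHom.congr_fun e a)
      inv := hf.involutive
      add := hf.add_left
      smul := hf.smul_left
      herm := hf.herm
      nd := fun v hv => by
        by_contra h0
        obtain ⟨x, hx⟩ := (hf.nondegenerate v h0).2
        exact hx (hv x) }
  refine Cfsg.Agent.Forms.Max.UnitaryInLinear.similarity_maximal hh ?_ _ inf_le_right fun g => ?_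
  · rw [Fintype.card_fin]; omega
  · exact ⟨fun h => ⟨h.2, h.1⟩, fun h => ⟨h.2, h.1⟩⟩

theorem quad_group_maximal {F : Type*} [Field F] [Fintype F] (n : ℕ) (hn : 6 ≤ n) (hodd : Odd (Fintype.card F)) (Q : (Fin n → F) → F) (hQ : Cfsg.Geo.IsNondegenerateQuadraticForm Q) : Cfsg.Geo.IsMaximalIn (Cfsg.Geo.specialLinear (Fin n) F) (Cfsg.Geo.quadSimilarityGroup Q ⊓ Cfsg.Geo.specialLinear (Fin n) F) := by
  classical
  obtain ⟨R, rfl, hR⟩ := Cfsg.Agent.Forms.Max.Orth.exists_form hQ
  have h2 : (2 : F) ≠ 0 := Ring.two_ne_zero fun h => by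
    have he := FiniteField.even_card_of_char_two (F := F) h
    rw [Nat.odd_iff] at hodd
    omega
  refine Cfsg.Agent.Forms.Max.OrthInLinear.similarity_maximal hR h2 ?_ _ inf_le_right fun g => ?_
  · rw [Fintype.card_fin]; omega
  · exact ⟨fun h => ⟨h.2, h.1⟩, fun h => ⟨h.2, h.1⟩⟩

end Cfsg.Agent.Forms.Max.LinearGeometric
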