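import Mathlib
import Cfsg.Agent.Aschbacher.Lists.TensorF2

/-!
# Tensor products with a plane over the field of two elements
-/

set_option autoImplicit false
set_option linter.unusedSectionVars false

namespace Cfsg.Agent.Forms.Max.LinearTensor

open Matrix Cfsg.Agent.Aschbacher
open scoped Kronecker

variable {F : Type*} [Field F] [Fintype F]

/-- `x ↦ x ⊗ 1` -/
noncomputable def slot (F : Type*) [Field F] (k : ℕ) :
    Matrix (Fin 2) (Fin 2) F →ₐ[F] Matrix (Fin 2 × Fin k) (Fin 2 × Fin k) F :=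
  AlgHom.ofLinearMap
    { toFun := fun x => x ⊗ₖ (1 : Matrix (Fin k) (Fin k) F)
      map_add' := fun x y => Matrix.add_kronecker _ _ _
      map_smul' := fun c x => Matrix.smul_kronecker _ _ _ }
    Matrix.one_kronecker_one
    (fun x y => by
      show (x * y) ⊗ₖ (1 : Matrix (Fin k) (Fin k) F) = _
      rw [← mul_one (1 : Matrix (Fin k) (Fin k) F), Matrix.mul_kronecker_mul]
      simp)

theorem slot_apply (k : ℕ) (x : Matrix (Fin 2) (Fin 2) F) :
    slot F k x = x ⊗ₖ (1 : Matrix (Fin k) (Fin k) F) := rfl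

/-- over two elements `GL_2 ⊗ GL_k` lies strictly inside the normaliser of the field of four elements -/
theorem kronecker_lt (hq : Fintype.card F = 2) {k : ℕ} (hk : 2 ≤ k) :
    Cfsg.Geo.kroneckerSubgroup 2 k F < Cfsg.Geo.subalgebraNormalizer ((fourField F).map (slot F k)) ∧
      Cfsg.Geo.subalgebraNormalizer ((fourField F).map (slot F k)) < ⊤ := by
  classical
  set p : Fin k := ⟨0, by omega⟩
  set q : Fin k := ⟨1, by omega⟩
  have hpq : p ≠ q := by simp [p, q]
  have hω : (omegaTwo F : Matrix (Fin 2) (Fin 2) F) ∈ fourField F := ⟨0, 1, by simp⟩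
  set N : Matrix (Fin 2 × Fin k) (Fin 2 × Fin k) F :=
    omegaTwo F ⊗ₖ Matrix.single p q (1 : F) with hN
  have hNN : N * N = 0 := by
    rw [hN, ← Matrix.mul_kronecker_mul, Matrix.single_mul_single_of_ne _ _ _ _ hpq.symm,
      Matrix.kronecker_zero]
  let g₀ : GL (Fin 2 × Fin k) F :=
    ⟨1 + N, 1 - N, by rw [add_mul, one_mul, mul_sub, mul_one, hNN]; abel,
      by rw [sub_mul, one_mul, mul_add, mul_one, hNN]; abel⟩
  have hle : Cfsg.Geo.kroneckerSubgroup 2 k F ≤
      Cfsg.Geo.subalgebraNormalizer ((fourField F).map (slot F k)) := by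
    rintro g ⟨a, b, hab⟩
    refine mem_subalgebraNormalizer ?_
    rintro _ ⟨x, hx, rfl⟩
    refine ⟨conjMat a x, ?_, ?_⟩
    · obtain ⟨c, d, rfl⟩ := hx
      rw [map_add, map_smul, map_smul, map_one]
      exact (fourField F).add_mem ((fourField F).smul_mem (fourField F).one_mem c)
        ((fourField F).smul_mem (conj_omega_mem hq a) d)
    · show slot F k (conjMat a x) = conjMat g (slot F k x)
      refine ((conjMat_eq_iff_mul g _ _).2 ?_).symm
      rw [slot_apply, slot_apply, hab, ← Matrix.mul_kronecker_mul, ← Matrix.mul_kronecker_mul,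
        one_mul, mul_one, (conjMat_eq_iff_mul a x _).1 rfl]
  refine ⟨lt_of_le_not_ge hle fun h => ?_, lt_top_iff_ne_top.2 fun h => ?_⟩
  · have hg₀ : g₀ ∈ Cfsg.Geo.subalgebraNormalizer ((fourField F).map (slot F k)) := by
      refine mem_subalgebraNormalizer ?_
      rintro _ ⟨x, hx, rfl⟩
      refine ⟨x, hx, ?_⟩
      show slot F k x = conjMat g₀ (slot F k x)
      refine ((conjMat_eq_self_iff g₀ _).2 ?_).symm
      obtain ⟨a, b, rfl⟩ := hx
      show (1 + N) * slot F k _ = slot F k _ * (1 + N)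
      rw [add_mul, mul_add, one_mul, mul_one, slot_apply, hN, ← Matrix.mul_kronecker_mul,
        ← Matrix.mul_kronecker_mul, one_mul, mul_one]
      congr 2
      simp [Matrix.mul_add, Matrix.add_mul]
    obtain ⟨a, b, hab⟩ := h hg₀
    have e : ∀ i j r s, (1 + N) (i, r) (j, s) = (a : Matrix (Fin 2) (Fin 2) F) i j *
        (b : Matrix (Fin k) (Fin k) F) r s := fun i j r s => by
      have := congrFun (congrFun hab (i, r)) (j, s)
      rw [Matrix.kroneckerMap_apply] at this
      exact this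
    have e1 := e 0 1 p q
    have e2 := e 0 0 p p
    have e3 := e 0 1 p p
    simp [hN, omegaTwo, Matrix.add_apply, Matrix.one_apply, Matrix.kroneckerMap_apply,
      Matrix.single_apply, hpq, hpq.symm] at e1 e2 e3
    rcases e3 with h0 | h0
    · rw [h0, zero_mul] at e1; exact one_ne_zero (α := F) (by simpa using e1)
    · rw [h0, mul_zero] at e2; exact one_ne_zero (α := F) (by simpa using e2)
  · set E : Matrix (Fin 2 × Fin k) (Fin 2 × Fin k) F := Matrix.single (0, p) (0, q) (1 : F) with hE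
    have hne : ((0 : Fin 2), q) ≠ ((0 : Fin 2), p) := by simp [hpq.symm]
    have hEE : E * E = 0 := Matrix.single_mul_single_of_ne _ _ _ _ hne 1
    let g₁ : GL (Fin 2 × Fin k) F :=
      ⟨1 + E, 1 - E, by rw [add_mul, one_mul, mul_sub, mul_one, hEE]; abel,
        by rw [sub_mul, one_mul, mul_add, mul_one, hEE]; abel⟩
    have h1 := ((h ▸ Subgroup.mem_top g₁ : g₁ ∈ Cfsg.Geo.subalgebraNormalizer
      ((fourField F).map (slot F k))) (slot F k (omegaTwo F))).1 ⟨_, hω, rfl⟩
    obtain ⟨x, ⟨a, b, rfl⟩, hx⟩ := h1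
    have h2 : (1 + E) * slot F k (omegaTwo F) = slot F k (a • 1 + b • omegaTwo F) * (1 + E) :=
      (conjMat_eq_iff_mul g₁ _ _).1 hx.symm
    have h3 := congrFun (congrFun h2 ((0 : Fin 2), p)) ((1 : Fin 2), q)
    rw [add_mul, mul_add, one_mul, mul_one, Matrix.add_apply, Matrix.add_apply, hE,
      Matrix.single_mul_apply_same] at h3
    rw [Matrix.mul_single_apply_of_ne _ _ _ _ _ (by simp)] at h3
    simp [slot_apply, omegaTwo, Matrix.kroneckerMap_apply, hpq, hpq.symm, Matrix.add_apply,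
      Matrix.one_apply] at h3

/-- the statement's form -/
theorem tensor_between {ι : Type} [Fintype ι] [DecidableEq ι] (hq : Fintype.card F = 2) {k : ℕ}
    (hk : 2 ≤ k) (e : ι ≃ Fin 2 × Fin k) (P : GL ι F) :
    ∃ K : Subgroup (GL ι F),
      Cfsg.Geo.tensorProductSubgroup 2 k e P ⊓ Cfsg.Geo.specialLinear ι F < K ∧
        K < Cfsg.Geo.specialLinear ι F := by
  have hSL : Cfsg.Geo.specialLinear ι F = ⊤ := by
    refine eq_top_iff.2 fun g _ => Aschbacher.mem_specialLinear.2 ?_
    simpa [hq] using FiniteField.pow_card_sub_one_eq_one _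
      (Matrix.GeneralLinearGroup.det g).ne_zero
  obtain ⟨h1, h2⟩ := kronecker_lt (F := F) hq hk
  let φ : GL (Fin 2 × Fin k) F ≃* GL ι F := (Cfsg.Geo.glReindex e.symm).trans (MulAut.conj P)
  have hφ : ∀ H : Subgroup (GL (Fin 2 × Fin k) F),
      (H.map (Cfsg.Geo.glReindex e.symm).toMonoidHom).map (MulAut.conj P).toMonoidHom =
        φ.mapSubgroup H := fun H => by
    rw [MulEquiv.mapSubgroup_apply, Subgroup.map_map]
    rfl
  rw [hSL, inf_top_eq]
  refine ⟨φ.mapSubgroup _, ?_, lt_of_lt_of_le (φ.mapSubgroup.strictMono h2) le_top⟩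
  rw [Cfsg.Geo.tensorProductSubgroup, hφ]
  exact φ.mapSubgroup.strictMono h1

end Cfsg.Agent.Forms.Max.LinearTensor
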