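import Mathlib
import Cfsg.Agent.Lib.Forms.Max.Linear
import Cfsg.Agent.Lib.Forms.DicksonSwap

/-!
# Subfield groups in the special linear group
-/

set_option autoImplicit false
set_option linter.unusedSectionVars false

namespace Cfsg.Agent.Forms.Max.SubfieldLinear

open Matrix Cfsg.Agent.Aschbacher

/-- maximality is invariant under isomorphisms -/
theorem isMaximalIn_map {G G' : Type*} [Group G] [Group G'] (e : G ≃* G') {K H : Subgroup G}
    (h : Cfsg.Geo.IsMaximalIn K H) :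
    Cfsg.Geo.IsMaximalIn (K.map e.toMonoidHom) (H.map e.toMonoidHom) := by
  obtain ⟨h1, h2⟩ := h
  have hinj : Function.Injective (Subgroup.map e.toMonoidHom) := Subgroup.map_injective e.injective
  refine ⟨lt_of_le_of_ne (Subgroup.map_mono h1.le) fun e' => h1.ne (hinj e'), fun M hM hMK => ?_⟩
  have hk : (M.comap e.toMonoidHom).map e.toMonoidHom = M := Subgroup.map_comap_eq_self_of_surjective e.surjective M
  rcases h2 (M.comap e.toMonoidHom) (Subgroup.map_le_iff_le_comap.1 hM) (by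
    rw [← Subgroup.map_le_map_iff_of_injective (f := e.toMonoidHom) e.injective, hk]; exact hMK) with h | h
  · exact Or.inl (by rw [← hk, h])
  · exact Or.inr (by rw [← hk, h])

variable {ι : Type} [Fintype ι] [DecidableEq ι] {F : Type*} [Field F]

/-- a vector with entries in a subfield -/
def ic (F₀ : Subfield F) (a : ι → F₀) : ι → F := fun i => (a i : F)

variable {F₀ : Subfield F}

theorem ic_dot (a b : ι → F₀) : ic F₀ a ⬝ᵥ ic F₀ b = ((a ⬝ᵥ b : F₀) : F) :=
  (RingHom.map_dotProduct F₀.subtype a b).symm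

theorem ic_smul (t : F₀) (a : ι → F₀) : ic F₀ (t • a) = (t : F) • ic F₀ a := rfl

theorem ic_single (i : ι) : ic F₀ (Pi.single i 1) = Pi.single i 1 := by
  ext j
  rcases eq_or_ne j i with rfl | h <;> simp [ic, *]

theorem ic_ne_zero {a : ι → F₀} (h : a ≠ 0) : ic F₀ a ≠ 0 := fun e =>
  h (funext fun i => Subtype.ext (congrFun e i))

/-- `(u, φ)` gives a root group with parameters in the subfield -/
def RP (F₀ : Subfield F) (M : Subgroup (GL ι F)) (u φ : ι → F) : Prop :=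
  φ ⬝ᵥ u = 0 ∧ ∀ t : F₀, ∃ m ∈ M, ∀ x, (m : Matrix ι ι F) *ᵥ x = x + ((t : F) * (φ ⬝ᵥ x)) • u

variable {M : Subgroup (GL ι F)} {u v φ ψ : ι → F}

theorem RP.smul_swap {k : F} (h : RP F₀ M u (k • φ)) (hk : k ≠ 0) : RP F₀ M (k • u) φ := by
  obtain ⟨h0, h1⟩ := h
  rw [smul_dotProduct, smul_eq_mul] at h0
  refine ⟨by rw [dotProduct_smul, (mul_eq_zero.1 h0).resolve_left hk, smul_zero], fun t => ?_⟩
  obtain ⟨m, hm, e⟩ := h1 t
  refine ⟨m, hm, fun x => ?_⟩
  rw [e, smul_dotProduct, smul_smul, smul_eq_mul]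
  ring_nf

theorem RP.smul_swap' {k : F} (h : RP F₀ M (k • u) φ) (hk : k ≠ 0) : RP F₀ M u (k • φ) := by
  obtain ⟨h0, h1⟩ := h
  rw [dotProduct_smul, smul_eq_mul] at h0
  refine ⟨by rw [smul_dotProduct, (mul_eq_zero.1 h0).resolve_left hk, smul_zero], fun t => ?_⟩
  obtain ⟨m, hm, e⟩ := h1 t
  refine ⟨m, hm, fun x => ?_⟩
  rw [e, smul_dotProduct, smul_smul, smul_eq_mul]
  ring_nf

theorem RP.map (h : RP F₀ M u φ) {k : GL ι F} (hk : k ∈ M) :
    RP F₀ M ((k : Matrix ι ι F) *ᵥ u) (φ ᵥ* ((k⁻¹ : GL ι F) : Matrix ι ι F)) := by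
  refine ⟨by rw [← dotProduct_mulVec, inv_mulVec_cancel, h.1], fun t => ?_⟩
  obtain ⟨m, hm, e⟩ := h.2 t
  refine ⟨k * m * k⁻¹, mul_mem (mul_mem hk hm) (inv_mem hk), fun x => ?_⟩
  rw [mulVec_mul_GL, mulVec_mul_GL, e, mulVec_add, mulVec_smul, mulVec_inv_cancel, dotProduct_mulVec]

/-- the commutator of two root groups -/
theorem RP.comm (h : RP F₀ M u φ) (h' : RP F₀ M v ψ) (h0 : ψ ⬝ᵥ u = 0) :
    RP F₀ M u ((φ ⬝ᵥ v) • ψ) := by
  refine ⟨by rw [smul_dotProduct, h0, smul_zero], fun t => ?_⟩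
  obtain ⟨r, hr, er⟩ := h.2 t
  obtain ⟨a, ha, ea⟩ := h'.2 1
  refine ⟨r * a * (a * r)⁻¹, mul_mem (mul_mem hr ha) (inv_mem (mul_mem ha hr)), fun x => ?_⟩
  rw [mulVec_mul_GL]
  obtain ⟨y, hy⟩ : ∃ y, y = ((a * r)⁻¹ : GL ι F).val *ᵥ x := ⟨_, rfl⟩
  have hx : x = ((a * r : GL ι F) : Matrix ι ι F) *ᵥ y := by rw [hy, mulVec_inv_cancel]
  rw [← hy, hx, mulVec_mul_GL r a, mulVec_mul_GL a r, er, ea, er, ea]
  simp only [dotProduct_add, dotProduct_smul, smul_dotProduct, h.1, h'.1, h0, smul_eq_mul, OneMemClass.coe_one]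
  module

theorem exists_sl_of_row (u φ : ι → F) (h : φ ⬝ᵥ u = 0) (t : F) :
    ∃ m ∈ Cfsg.Geo.specialLinear ι F, ∀ x, (m : Matrix ι ι F) *ᵥ x = x + (t * (φ ⬝ᵥ x)) • u :=
  ⟨trv u (t • φ) (by rw [smul_dotProduct, h, smul_zero]), trv_mem_SL _ _ _, fun x => by
    rw [trv_mulVec, smul_dotProduct, smul_eq_mul]⟩

/-- a rational functional outside a small span, killing two vectors -/
theorem exists_avoid (a b c d : ι → F₀)
    (h5 : 5 ≤ Fintype.card ι ∨ (4 ≤ Fintype.card ι ∧ a = b) ∨ (4 ≤ Fintype.card ι ∧ c = d)) :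
    ∃ γ : ι → F₀, γ ⬝ᵥ a = 0 ∧ γ ⬝ᵥ b = 0 ∧ γ ∉ Submodule.span F₀ (Set.range ![c, d]) := by
  by_contra hc
  push Not at hc
  let L : (ι → F₀) →ₗ[F₀] (Fin 2 → F₀) :=
    { toFun := fun γ => ![γ ⬝ᵥ a, γ ⬝ᵥ b]
      map_add' := fun x y => by ext i; fin_cases i <;> simp [add_dotProduct]
      map_smul' := fun t x => by ext i; fin_cases i <;> simp [smul_dotProduct] }
  have hle : LinearMap.ker L ≤ Submodule.span F₀ (Set.range ![c, d]) := fun γ hγ =>
    hc γ (congrFun hγ 0) (congrFun hγ 1)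
  have h1 := Submodule.finrank_mono hle
  have h2 : Module.finrank F₀ (Submodule.span F₀ (Set.range ![c, d])) ≤ 2 :=
    (finrank_range_le_card ![c, d]).trans_eq (Fintype.card_fin 2)
  have h3 := LinearMap.finrank_range_add_finrank_ker L
  have h4 := Submodule.finrank_le (LinearMap.range L)
  rw [Module.finrank_fintype_fun_eq_card, Fintype.card_fin] at h4
  rw [Module.finrank_fintype_fun_eq_card] at h3
  rcases h5 with h5 | ⟨h4, rfl⟩ | ⟨h4, rfl⟩
  · omega
  · -- the two conditions coincide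
    let L' : (ι → F₀) →ₗ[F₀] F₀ :=
      { toFun := fun γ => γ ⬝ᵥ a
        map_add' := fun x y => add_dotProduct x y a
        map_smul' := fun t x => smul_dotProduct t x a }
    have hker : LinearMap.ker L' ≤ LinearMap.ker L := fun γ hγ => by
      have h0 : γ ⬝ᵥ a = 0 := hγ
      show ![γ ⬝ᵥ a, γ ⬝ᵥ a] = 0
      ext i
      fin_cases i <;> simp [h0]
    have h6 := Submodule.finrank_mono hker
    have h7 := LinearMap.finrank_range_add_finrank_ker L'
    have h8 := Submodule.finrank_le (LinearMap.range L')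
    rw [Module.finrank_self] at h8
    rw [Module.finrank_fintype_fun_eq_card] at h7
    omega
  · -- the two spanning vectors coincide
    have hs : Submodule.span F₀ (Set.range ![c, c]) ≤ Submodule.span F₀ (Set.range ![c]) :=
      Submodule.span_mono (by simp)
    have h6 := Submodule.finrank_mono hs
    have h7 : Module.finrank F₀ (Submodule.span F₀ (Set.range ![c])) ≤ 1 :=
      (finrank_range_le_card ![c]).trans_eq (Fintype.card_fin 1)
    omega

/-- a rational functional outside two lines, killing two vectors -/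
theorem exists_avoid_lines (h4 : 4 ≤ Fintype.card ι) (a b c d : ι → F₀) :
    ∃ γ : ι → F₀, γ ⬝ᵥ a = 0 ∧ γ ⬝ᵥ b = 0 ∧ γ ∉ Submodule.span F₀ (Set.range ![c]) ∧
      γ ∉ Submodule.span F₀ (Set.range ![d]) := by
  obtain ⟨u, hua, hub, hu⟩ := exists_avoid a b c c (Or.inr (Or.inr ⟨h4, rfl⟩))
  obtain ⟨w, hwa, hwb, hw⟩ := exists_avoid a b d d (Or.inr (Or.inr ⟨h4, rfl⟩))
  replace hu : u ∉ Submodule.span F₀ (Set.range ![c]) := fun h => hu (Submodule.span_mono (by simp) h)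
  replace hw : w ∉ Submodule.span F₀ (Set.range ![d]) := fun h => hw (Submodule.span_mono (by simp) h)
  by_cases h1 : u ∈ Submodule.span F₀ (Set.range ![d])
  · by_cases h2 : w ∈ Submodule.span F₀ (Set.range ![c])
    · exact ⟨u + w, by rw [add_dotProduct, hua, hwa, add_zero], by rw [add_dotProduct, hub, hwb, add_zero],
        fun h => hu (by simpa using Submodule.sub_mem _ h h2), fun h => hw (by simpa using Submodule.sub_mem _ h h1)⟩
    · exact ⟨w, hwa, hwb, h2, hw⟩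
  · exact ⟨u, hua, hub, hu, h1⟩

variable (hM : ∀ a β : ι → F₀, β ⬝ᵥ a = 0 → RP F₀ M (ic F₀ a) (ic F₀ β))
include hM

/-- rational centre and irrational functional -/
theorem exists_of_rat_centre (h4 : 4 ≤ Fintype.card ι) {a : ι → F₀} (ha : a ≠ 0)
    (h : RP F₀ M (ic F₀ a) φ) {j : ι} (hj : φ j ∉ F₀) :
    ∃ (a β : ι → F₀) (c : F), a ≠ 0 ∧ β ≠ 0 ∧ β ⬝ᵥ a = 0 ∧ c ∉ F₀ ∧ RP F₀ M (ic F₀ a) (c • ic F₀ β) := by
  obtain ⟨β, hβa, hβj, hβ⟩ := exists_avoid a (Pi.single j 1) 0 0 (Or.inr (Or.inr ⟨h4, rfl⟩))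
  have hβ0 : β ≠ 0 := by rintro rfl; exact hβ (zero_mem _)
  have h1 := h.comm (hM _ β hβj) (by rw [ic_dot, hβa]; rfl)
  rw [ic_single, dotProduct_single_one] at h1
  exact ⟨a, β, φ j, ha, hβ0, hβa, hj, h1⟩

/-- irrational centre and rational functional -/
theorem exists_of_rat_functional (h4 : 4 ≤ Fintype.card ι) {β : ι → F₀} (hβ : β ≠ 0)
    (h : RP F₀ M u (ic F₀ β)) {i : ι} (hi : u i ∉ F₀) :
    ∃ (a β : ι → F₀) (c : F), a ≠ 0 ∧ β ≠ 0 ∧ β ⬝ᵥ a = 0 ∧ c ∉ F₀ ∧ RP F₀ M (ic F₀ a) (c • ic F₀ β) := by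
  obtain ⟨b, hb1, hb2, hb⟩ := exists_avoid β (Pi.single i 1) 0 0 (Or.inr (Or.inr ⟨h4, rfl⟩))
  have hb0 : b ≠ 0 := by rintro rfl; exact hb (zero_mem _)
  have h1 := (hM b (Pi.single i 1) (by rw [dotProduct_comm]; exact hb2)).comm h
    (by rw [ic_dot, dotProduct_comm, hb1]; rfl)
  rw [ic_single, single_one_dotProduct] at h1
  exact ⟨b, β, u i, hb0, hβ, by rw [dotProduct_comm]; exact hb1, hi, h1⟩

/-- a centre killed by a rational functional -/
theorem exists_of_dep (h4 : 4 ≤ Fintype.card ι) (h : RP F₀ M u φ) {β : ι → F₀} (hβ : β ≠ 0)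
    (hu : ic F₀ β ⬝ᵥ u = 0) (hR : ∃ i j, u i * φ j ∉ F₀) :
    ∃ (a β : ι → F₀) (c : F), a ≠ 0 ∧ β ≠ 0 ∧ β ⬝ᵥ a = 0 ∧ c ∉ F₀ ∧ RP F₀ M (ic F₀ a) (c • ic F₀ β) := by
  obtain ⟨i, j, hij⟩ := hR
  by_cases hex : ∃ a : ι → F₀, β ⬝ᵥ a = 0 ∧ φ ⬝ᵥ ic F₀ a ≠ 0
  · obtain ⟨a, ha, hφa⟩ := hex
    have h1 := h.comm (hM a β ha) hu
    set k := φ ⬝ᵥ ic F₀ a with hk
    by_cases hrat : ∀ l, k * u l ∈ F₀
    · -- the centre is rational
      obtain ⟨b, hb⟩ : ∃ b : ι → F₀, ic F₀ b = k • u :=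
        ⟨fun l => ⟨k * u l, hrat l⟩, rfl⟩
      have hb0 : b ≠ 0 := fun e => by
        have h0 : k * u i = 0 := (congrFun hb i).symm.trans (by rw [e]; rfl)
        rw [(mul_eq_zero.1 h0).resolve_left hφa, zero_mul] at hij
        exact hij (zero_mem _)
      have e : u = k⁻¹ • ic F₀ b := by rw [hb, inv_smul_smul₀ hφa]
      rw [e] at h
      refine exists_of_rat_centre hM h4 hb0 (h.smul_swap' (inv_ne_zero hφa)) (j := j) fun hmem => hij ?_
      have := F₀.mul_mem (hrat i) hmem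
      rwa [Pi.smul_apply, smul_eq_mul, mul_mul_mul_comm, mul_inv_cancel₀ hφa, one_mul] at this
    · push Not at hrat
      obtain ⟨l, hl⟩ := hrat
      exact exists_of_rat_functional hM h4 hβ (h1.smul_swap hφa) (i := l) hl
  · push Not at hex
    -- the functional is a multiple of `β`
    obtain ⟨l, hl⟩ := Function.ne_iff.1 hβ
    have hl' : ((β l : F₀) : F) ≠ 0 := fun e => hl (Subtype.ext e)
    have hφ : φ = (φ l / (β l : F)) • ic F₀ β := by
      funext m
      have h0 := hex (β l • Pi.single m 1 - β m • Pi.single l 1) (by simp; ring)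
      simp [ic, dotProduct, Finset.sum_sub_distrib, mul_sub, Pi.single_apply, apply_ite Subtype.val] at h0
      rw [Pi.smul_apply, smul_eq_mul, ic, div_mul_eq_mul_div, eq_div_iff hl']
      linear_combination h0
    rw [hφ] at h hij
    rcases eq_or_ne (φ l / (β l : F)) 0 with hk | hk
    · exact absurd (by rw [hk, zero_smul, Pi.zero_apply, mul_zero]; exact zero_mem _) hij
    refine exists_of_rat_functional hM h4 hβ (h.smul_swap hk) (i := i) fun hmem => hij ?_
    have := F₀.mul_mem hmem (β j).2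
    rw [Pi.smul_apply, smul_eq_mul] at this ⊢
    rwa [ic, mul_left_comm, ← mul_assoc]

end Cfsg.Agent.Forms.Max.SubfieldLinear

namespace Cfsg.Agent.Forms.Max.SubfieldLinear

open Matrix Cfsg.Agent.Aschbacher

variable {ι : Type} [Fintype ι] [DecidableEq ι] {F : Type*} [Field F] [Fintype F]

/-- two functionals with independent values at a rational vector -/
theorem exists_indep_values {F₀ : Subfield F} {ψ₁ ψ₂ : ι → F} (h0 : ψ₁ ≠ 0)
    (hnr : ∀ k : F, k ≠ 0 → ∃ i, k * ψ₁ i ∉ F₀) (hind : ∀ t : F₀, ψ₂ ≠ (t : F) • ψ₁) :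
    ∃ b : ι → F₀, ψ₁ ⬝ᵥ ic F₀ b ≠ 0 ∧ ∀ t : F₀, ψ₂ ⬝ᵥ ic F₀ b ≠ (t : F) * (ψ₁ ⬝ᵥ ic F₀ b) := by
  by_contra hc
  push Not at hc
  obtain ⟨i, hi⟩ := Function.ne_iff.1 h0
  obtain ⟨j, hj⟩ := hnr (ψ₁ i)⁻¹ (inv_ne_zero hi)
  have hval : ∀ (m : ι), ψ₁ ⬝ᵥ ic F₀ (Pi.single m 1) = ψ₁ m ∧ ψ₂ ⬝ᵥ ic F₀ (Pi.single m 1) = ψ₂ m := fun m => by
    rw [ic_single, dotProduct_single_one, dotProduct_single_one]; exact ⟨rfl, rfl⟩
  have hsum : ∀ (ψ : ι → F) (m l : ι), ψ ⬝ᵥ ic F₀ (Pi.single m 1 + Pi.single l 1) = ψ m + ψ l := fun ψ m l => by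
    rw [show ic F₀ (Pi.single m 1 + Pi.single l 1) = ic F₀ (Pi.single m 1) + ic F₀ (Pi.single l 1) from rfl,
      dotProduct_add, ic_single, ic_single, dotProduct_single_one, dotProduct_single_one]
  have hi' : ψ₁ i ≠ 0 := hi
  have hj' : ψ₁ j ≠ 0 := fun e => hj (by rw [e, mul_zero]; exact zero_mem _)
  -- proportional values at two independent places
  have pair : ∀ m l, ψ₁ m ≠ 0 → (ψ₁ m)⁻¹ * ψ₁ l ∉ F₀ → ∀ t : F₀, ψ₂ m = t * ψ₁ m → ψ₂ l = t * ψ₁ l := by
    intro m l hm hml t ht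
    have hl : ψ₁ l ≠ 0 := fun e => hml (by rw [e, mul_zero]; exact zero_mem _)
    obtain ⟨s, hs⟩ := hc _ (by rw [(hval l).1]; exact hl)
    rw [(hval l).1, (hval l).2] at hs
    have hne : ψ₁ m + ψ₁ l ≠ 0 := fun e => hml (by
      rw [eq_neg_of_add_eq_zero_right e, mul_neg, inv_mul_cancel₀ hm]; exact neg_mem (one_mem _))
    obtain ⟨r, hr⟩ := hc _ (by rw [hsum]; exact hne)
    rw [hsum, hsum, ht, hs] at hr
    have e1 : ((r : F) - t) * ψ₁ m + ((r : F) - s) * ψ₁ l = 0 := by linear_combination -hr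
    by_cases hrs : (r : F) = s
    · rw [hrs, sub_self, zero_mul, add_zero] at e1
      rw [hs, sub_eq_zero.1 ((mul_eq_zero.1 e1).resolve_right hm)]
    · refine absurd ?_ hml
      have e2 : (ψ₁ m)⁻¹ * ψ₁ l = -(((r : F) - t) / ((r : F) - s)) := by
        field_simp [sub_ne_zero.2 hrs]
        linear_combination e1
      rw [e2]
      exact neg_mem (F₀.div_mem (F₀.sub_mem r.2 t.2) (F₀.sub_mem r.2 s.2))
  obtain ⟨t, ht⟩ := hc _ (by rw [(hval i).1]; exact hi')
  rw [(hval i).1, (hval i).2] at ht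
  have htj := pair i j hi' hj t ht
  refine hind t (funext fun m => ?_)
  show ψ₂ m = (t : F) * ψ₁ m
  by_cases hm : ψ₁ m = 0
  · -- test against both places
    obtain ⟨r, hr⟩ := hc _ (by rw [hsum, hm, add_zero]; exact hi' : ψ₁ ⬝ᵥ ic F₀ (Pi.single i 1 + Pi.single m 1) ≠ 0)
    obtain ⟨s, hs⟩ := hc _ (by rw [hsum, hm, add_zero]; exact hj' : ψ₁ ⬝ᵥ ic F₀ (Pi.single j 1 + Pi.single m 1) ≠ 0)
    rw [hsum, hsum, hm, add_zero, ht] at hr
    rw [hsum, hsum, hm, add_zero, htj] at hs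
    by_cases hrt : (r : F) = t
    · rw [hm, mul_zero]
      linear_combination hr + ψ₁ i * hrt
    · refine absurd ?_ hj
      have hst : (s : F) ≠ t := fun e => hrt (sub_eq_zero.1 ((mul_eq_zero.1 (show ((r : F) - t) * ψ₁ i = 0 by
        linear_combination hs - hr + ψ₁ j * e)).resolve_right hi'))
      have e2 : (ψ₁ i)⁻¹ * ψ₁ j = ((r : F) - t) / ((s : F) - t) := by
        field_simp [sub_ne_zero.2 hst]
        linear_combination hr - hs
      rw [e2]
      exact F₀.div_mem (F₀.sub_mem r.2 t.2) (F₀.sub_mem s.2 t.2)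
  · by_cases hcase : (ψ₁ i)⁻¹ * ψ₁ m ∈ F₀
    · refine pair j m hj' (fun h => hj ?_) t htj
      have h' := F₀.div_mem hcase h
      have e2 : (ψ₁ i)⁻¹ * ψ₁ m / ((ψ₁ j)⁻¹ * ψ₁ m) = (ψ₁ i)⁻¹ * ψ₁ j := by field_simp
      rwa [e2] at h'
    · exact pair i m hi' hcase t ht

theorem le_of_root_groups {M : Subgroup (GL ι F)} (F₀ : Subfield F)
    (h : ∀ (c : F) (a β : ι → F₀), β ⬝ᵥ a = 0 → RP F₀ M (ic F₀ a) (c • ic F₀ β)) :
    Cfsg.Geo.specialLinear ι F ≤ M := by
  intro g hg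
  let S : Subgroup (SpecialLinearGroup ι F) := M.comap SpecialLinearGroup.toGL
  have hS : S = ⊤ := Classical.Linear.eq_top_of_transvection_mem S fun i j hij c => by
    obtain ⟨-, hm⟩ := h c (Pi.single i 1) (Pi.single j 1) (by simp [hij.symm])
    obtain ⟨m, hmM, hmx⟩ := hm 1
    show SpecialLinearGroup.toGL (SpecialLinearGroup.transvection hij c) ∈ M
    convert hmM using 1
    refine gl_ext fun x => ?_
    rw [hmx, ic_single, ic_single]
    show (SpecialLinearGroup.transvection hij c : Matrix ι ι F) *ᵥ x = _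
    rw [SpecialLinearGroup.transvection_coe, Matrix.add_mulVec, one_mulVec, single_mulVec]
    ext l
    rcases eq_or_ne l i with rfl | hl <;> simp [*, single_one_dotProduct]
  let x : SpecialLinearGroup ι F := ⟨(g : Matrix ι ι F), mem_specialLinear.1 hg⟩
  have hx : x ∈ S := hS ▸ Subgroup.mem_top _
  have : SpecialLinearGroup.toGL x = g := Units.ext rfl
  rw [← this]; exact hx

theorem subfield_maximal_of_four_le (h4 : 4 ≤ Fintype.card ι) (F₀ : Subfield F) {r : ℕ} (hr : r.Prime)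
    (hcard : Fintype.card F = Nat.card F₀ ^ r)
    (H : Subgroup (GL ι F)) (hH : H ≤ Cfsg.Geo.specialLinear ι F)
    (hlow : ∀ g ∈ Cfsg.Geo.specialLinear ι F,
      (∃ k : F, k ≠ 0 ∧ ∀ i j, k * (g : Matrix ι ι F) i j ∈ F₀) → g ∈ H)
    (hhigh : ∀ g ∈ H, ∃ k : F, k ≠ 0 ∧ ∀ i j, k * (g : Matrix ι ι F) i j ∈ F₀) :
    Cfsg.Geo.IsMaximalIn (Cfsg.Geo.specialLinear ι F) H := by
  classical
  obtain ⟨i₀, j₀, l₀, hij, hil, hjl⟩ : ∃ i j l : ι, i ≠ j ∧ i ≠ l ∧ j ≠ l :=
    Fintype.two_lt_card_iff.1 (by omega)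
  have hF₀ : ∃ c : F, c ∉ F₀ := by
    by_contra hc
    push Not at hc
    have e : Nat.card F₀ = Fintype.card F := by
      rw [← Nat.card_eq_fintype_card]; exact Nat.card_congr (Equiv.subtypeUnivEquiv hc)
    rw [e] at hcard
    exact absurd ((Nat.pow_eq_self_iff Fintype.one_lt_card).1 hcard.symm) hr.ne_one
  refine isMaximalIn_of hH (fun hle => ?_) fun M hM hMK g hgM hg => ?_
  · -- an irrational transvection
    obtain ⟨c, hc⟩ := hF₀
    have h0 : (c • Pi.single j₀ 1 : ι → F) ⬝ᵥ Pi.single i₀ 1 = 0 := by simp [hij]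
    obtain ⟨k, hk, hkF⟩ := hhigh _ (hle (trv_mem_SL (Pi.single i₀ 1) (c • Pi.single j₀ 1) h0))
    have h1 := hkF l₀ l₀
    have h2 := hkF i₀ j₀
    rw [trv_coe] at h1 h2
    simp [vecMulVec_apply, hil.symm, hij] at h1 h2
    refine hc ?_
    have := F₀.mul_mem (F₀.inv_mem h1) h2
    rwa [inv_mul_cancel_left₀ hk] at this
  have hrat : ∀ a β : ι → F₀, β ⬝ᵥ a = 0 → RP F₀ M (ic F₀ a) (ic F₀ β) := fun a β h => by
    have h' : ic F₀ β ⬝ᵥ ic F₀ a = 0 := by rw [ic_dot, h]; rfl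
    refine ⟨h', fun t => ?_⟩
    refine ⟨trv (ic F₀ a) ((t : F) • ic F₀ β) (by rw [smul_dotProduct, h', smul_zero]),
      hM (hlow _ (trv_mem_SL _ _ _) ⟨1, one_ne_zero, fun i j => ?_⟩),
      fun x => by rw [trv_mulVec, smul_dotProduct, smul_eq_mul]⟩
    rw [one_mul, trv_coe, Matrix.add_apply, vecMulVec_apply]
    refine F₀.add_mem ?_ (F₀.mul_mem (a i).2 (F₀.mul_mem t.2 (β j).2))
    rw [Matrix.one_apply]; split_ifs
    exacts [one_mem _, zero_mem _]
  obtain ⟨a₀, β₀, c, ha₀, hβ₀, hβa₀, hc, p₀⟩ : ∃ (a β : ι → F₀) (c : F),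
      a ≠ 0 ∧ β ≠ 0 ∧ β ⬝ᵥ a = 0 ∧ c ∉ F₀ ∧ RP F₀ M (ic F₀ a) (c • ic F₀ β) := by
    set gi : Matrix ι ι F := ((g⁻¹ : GL ι F) : Matrix ι ι F) with hgi
    obtain ⟨l, k, hlk, i, j, hR⟩ : ∃ l k, k ≠ l ∧ ∃ i j, (g : Matrix ι ι F) i l * gi k j ∉ F₀ := by
      by_contra hcon
      push Not at hcon
      refine hg (hlow g (hMK hgM) ?_)
      have hν : ∀ k, ∃ j, gi k j ≠ 0 := fun k => by
        by_contra hz
        push Not at hz
        have := inv_mulVec_cancel g (Pi.single k (1 : F))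
        have hk := congrFun this k
        rw [← hgi] at hk
        simp [Matrix.mulVec, dotProduct, hz] at hk
      choose j hj using hν
      refine ⟨gi i₀ (j i₀), hj i₀, fun m l => ?_⟩
      rcases eq_or_ne l i₀ with rfl | hl
      · -- compare with another row
        obtain ⟨m', hm'⟩ : ∃ m', (g : Matrix ι ι F) m' j₀ ≠ 0 := by
          by_contra hz
          push Not at hz
          have h0 : (g : Matrix ι ι F) *ᵥ Pi.single j₀ 1 = 0 := by
            funext m'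
            simp [hz]
          have := mulVec_inj g (h0.trans (mulVec_zero _).symm)
          simpa using congrFun this j₀
        have h1 := hcon j₀ l₀ hjl.symm m' (j l₀)
        have h2 := hcon j₀ l hij m' (j l)
        have h3 := hcon l l₀ hil.symm m (j l₀)
        have h4 := F₀.mul_mem (F₀.div_mem h2 h1) h3
        have e : (g : Matrix ι ι F) m' j₀ * gi l (j l) / ((g : Matrix ι ι F) m' j₀ * gi l₀ (j l₀)) *
            ((g : Matrix ι ι F) m l * gi l₀ (j l₀)) = gi l (j l) * (g : Matrix ι ι F) m l := by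
          field_simp [hj l₀]
        rwa [e] at h4
      · rw [mul_comm]
        exact hcon l i₀ (Ne.symm hl) m _
    set u := (g : Matrix ι ι F) *ᵥ Pi.single l 1 with hu
    have hψ : ∀ β : ι → F₀, β ⬝ᵥ Pi.single l 1 = 0 → RP F₀ M u (ic F₀ β ᵥ* gi) := fun β hβ => by
      have := (hrat _ β hβ).map hgM
      rwa [ic_single] at this
    have hu0 : ∀ m, u m = (g : Matrix ι ι F) m l := fun m => by
      rw [hu, mulVec_single_one]; rfl
    by_cases hdep : ∃ β : ι → F₀, β ≠ 0 ∧ ic F₀ β ⬝ᵥ u = 0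
    · obtain ⟨β, hβ, hβu⟩ := hdep
      refine exists_of_dep hrat h4 (hψ (Pi.single k 1) (by simp [hlk])) hβ hβu ⟨i, j, ?_⟩
      rw [hu0, ic_single, single_one_vecMul]
      exact hR
    push Not at hdep
    have hunz : u ≠ 0 := mulVec_ne_zero g (fun e => by simpa using congrFun e l)
    obtain ⟨k', hk'l, hk'k⟩ : ∃ k', k' ≠ l ∧ k' ≠ k := by
      by_contra hc'
      push Not at hc'
      have : (Finset.univ : Finset ι).card ≤ ({l, k} : Finset ι).card := Finset.card_le_card fun x _ => by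
        by_cases hx : x = l
        · simp [hx]
        · simp [hc' x hx]
      have := this.trans Finset.card_le_two
      rw [Finset.card_univ] at this
      omega
    set ψ₁ := ic F₀ (Pi.single k 1) ᵥ* gi with hψ₁
    set ψ₂ := ic F₀ (Pi.single k' 1) ᵥ* gi with hψ₂
    have hcan : ∀ v : ι → F, (v ᵥ* gi) ᵥ* (g : Matrix ι ι F) = v := fun v => by
      rw [hgi, vecMul_vecMul, ← Units.val_mul, inv_mul_cancel, Units.val_one, vecMul_one]
    have hψ₁0 : ψ₁ ≠ 0 := fun e => by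
      have h1 := congrFun (congrArg (fun v => v ᵥ* (g : Matrix ι ι F)) e) k
      simp only [hψ₁, hcan, zero_vecMul, ic_single, Pi.single_eq_same, Pi.zero_apply] at h1
      exact one_ne_zero h1
    by_cases hrat₁ : ∃ s : F, (∀ m, s * ψ₁ m ∈ F₀) ∧ s ≠ 0
    swap
    · push Not at hrat₁
      have hnr : ∀ s : F, s ≠ 0 → ∃ m, s * ψ₁ m ∉ F₀ := fun s hs0 => by
        by_contra hne
        push Not at hne
        exact hs0 (hrat₁ s hne)
      obtain ⟨b, hb1, hb2⟩ := exists_indep_values hψ₁0 hnr (ψ₂ := ψ₂) fun t e => by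
        have h1 := congrFun (congrArg (fun v => v ᵥ* (g : Matrix ι ι F)) e) k'
        simp only [hψ₁, hψ₂, smul_vecMul, hcan, ic_single, Pi.smul_apply, Pi.single_eq_same, Pi.single_eq_of_ne hk'k,
          smul_zero] at h1
        exact one_ne_zero h1
      have hb0 : b ≠ 0 := fun e => hb1 (by rw [e]; exact dotProduct_zero ψ₁)
      obtain ⟨β, hβb, -, hβ⟩ := exists_avoid b b 0 0 (Or.inr (Or.inl ⟨h4, rfl⟩))
      have hβ0 : β ≠ 0 := by rintro rfl; exact hβ (zero_mem _)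
      have hs : ic F₀ β ⬝ᵥ u ≠ 0 := hdep β hβ0
      let G : Subgroup (SpecialLinearGroup (Fin 2) F) :=
        { carrier := {X | ∃ m ∈ M, (m : Matrix ι ι F) *ᵥ u = X 0 0 • u + X 1 0 • ic F₀ b ∧
            (m : Matrix ι ι F) *ᵥ ic F₀ b = X 0 1 • u + X 1 1 • ic F₀ b ∧
            ∀ x, ∃ α δ : F, (m : Matrix ι ι F) *ᵥ x = x + α • u + δ • ic F₀ b}
          one_mem' := ⟨1, one_mem M, by simp, by simp, fun x => ⟨0, 0, by simp⟩⟩
          mul_mem' := by
            rintro X Y ⟨m, hm, e1, e2, e3⟩ ⟨n, hn, f1, f2, f3⟩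
            refine ⟨m * n, mul_mem hm hn, ?_, ?_, fun x => ?_⟩
            · rw [show ((X * Y : SpecialLinearGroup (Fin 2) F) : Matrix (Fin 2) (Fin 2) F) =
                (X : Matrix (Fin 2) (Fin 2) F) * (Y : Matrix (Fin 2) (Fin 2) F) from rfl]
              simp only [mulVec_mul_GL, f1, mulVec_add, mulVec_smul, e1, e2, Matrix.mul_apply, Fin.sum_univ_two]
              module
            · rw [show ((X * Y : SpecialLinearGroup (Fin 2) F) : Matrix (Fin 2) (Fin 2) F) =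
                (X : Matrix (Fin 2) (Fin 2) F) * (Y : Matrix (Fin 2) (Fin 2) F) from rfl]
              simp only [mulVec_mul_GL, f2, mulVec_add, mulVec_smul, e1, e2, Matrix.mul_apply, Fin.sum_univ_two]
              module
            · obtain ⟨α, δ, hα⟩ := f3 x
              obtain ⟨α', δ', hα'⟩ := e3 x
              refine ⟨α' + α * X 0 0 + δ * X 0 1, δ' + α * X 1 0 + δ * X 1 1, ?_⟩
              simp only [mulVec_mul_GL, hα, mulVec_add, mulVec_smul, e1, e2, hα']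
              module
          inv_mem' := by
            rintro X ⟨m, hm, e1, e2, e3⟩
            have hd := X.det_coe
            rw [Matrix.det_fin_two] at hd
            have ei : ((X⁻¹ : SpecialLinearGroup (Fin 2) F) : Matrix (Fin 2) (Fin 2) F) =
                !![X 1 1, -X 0 1; -X 1 0, X 0 0] := by
              show (X : Matrix (Fin 2) (Fin 2) F).adjugate = _
              exact Matrix.adjugate_fin_two _
            refine ⟨m⁻¹, inv_mem hm, mulVec_inj m ?_, mulVec_inj m ?_, fun x => ?_⟩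
            · rw [ei]
              simp [mulVec_inv_cancel, mulVec_add, mulVec_smul, mulVec_neg, e1, e2]
              match_scalars <;> first | ring1 | linear_combination hd | linear_combination -hd
            · rw [ei]
              simp [mulVec_inv_cancel, mulVec_add, mulVec_smul, mulVec_neg, e1, e2]
              match_scalars <;> first | ring1 | linear_combination hd | linear_combination -hd
            · obtain ⟨α, δ, hα⟩ := e3 (((m⁻¹ : GL ι F) : Matrix ι ι F) *ᵥ x)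
              rw [mulVec_inv_cancel] at hα
              refine ⟨-α, -δ, ?_⟩
              conv_rhs => rw [hα]
              module }
      let A : AddSubgroup F :=
        { carrier := {a | Classical.GL2.uniSL a ∈ G}
          zero_mem' := by show _ ∈ G; rw [Classical.GL2.uniSL_zero]; exact one_mem G
          add_mem' := fun {a c} ha hc => by
            show _ ∈ G; rw [← Classical.GL2.uniSL_mul]; exact mul_mem ha hc
          neg_mem' := fun {a} ha => by
            show _ ∈ G; rw [← Classical.GL2.uniSL_inv]; exact inv_mem ha }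
      have hup : ∀ ψ, RP F₀ M u ψ → ψ ⬝ᵥ ic F₀ b ∈ A := fun ψ h => by
        obtain ⟨m, hm, e⟩ := h.2 1
        refine ⟨m, hm, ?_, ?_, fun x => ⟨ψ ⬝ᵥ x, 0, by rw [e, OneMemClass.coe_one, one_mul, zero_smul, add_zero]⟩⟩ <;>
          simp [e, h.1, Classical.GL2.coe_uniSL, OneMemClass.coe_one, add_comm]
      have p1 := hψ (Pi.single k 1) (by simp [hlk])
      have p2 := hψ (Pi.single k' 1) (by simp [hk'l])
      obtain ⟨m, hm, e⟩ := (hrat b β hβb).2 1
      obtain ⟨⟨X, ⟨n, hn', f1, f2, hn3⟩, hX01, hX00⟩, -⟩ := DicksonSwap.exists_torus G A (fun a ha => ha) (hup _ p1)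
        (hup _ p2) hb1
        (fun hmem => by
          obtain ⟨z, hz⟩ := AddSubgroup.mem_zmultiples_iff.1 hmem
          exact hb2 (z : F₀) (by rw [SubringClass.coe_intCast, ← hz, zsmul_eq_mul]))
        hs (⟨m, hm, by simp [e, Classical.GL2.coe_lowSL],
          by simp [e, Classical.GL2.coe_lowSL, ic_dot, hβb],
          fun x => ⟨0, ic F₀ β ⬝ᵥ x, by rw [e, OneMemClass.coe_one, one_mul, zero_smul, add_zero]⟩⟩ : Classical.GL2.lowSL (ic F₀ β ⬝ᵥ u) ∈ G)
      rw [hX01, zero_smul, zero_add] at f2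
      set lam := X 0 0 with hlam
      set μ := X 1 1 with hμ
      have hdet : lam * μ = 1 := by
        have hd := X.det_coe
        rw [Matrix.det_fin_two, hX01, zero_mul, sub_zero] at hd
        exact hd
      have hμ0 : μ ≠ 0 := right_ne_zero_of_mul_eq_one hdet
      -- the generators move every vector inside the plane
      have hplane : ∀ a : ι → F₀, ∃ α δ : F, (n : Matrix ι ι F) *ᵥ ic F₀ a = ic F₀ a + α • u + δ • ic F₀ b :=
        fun a => hn3 (ic F₀ a)
      -- conjugates of rational transvections centred at `b`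
      by_contra hcon
      push Not at hcon
      have hγ : ∀ γ : ι → F₀, γ ⬝ᵥ b = 0 → ∃ γ' : ι → F₀, ∀ x : ι → F,
          μ * (ic F₀ γ ⬝ᵥ x) = ic F₀ γ' ⬝ᵥ ((n : Matrix ι ι F) *ᵥ x) := by
        intro γ hγb
        have p3 := (hrat b γ hγb).map hn'
        rw [f2] at p3
        have p4 := p3.smul_swap' hμ0
        set φ := μ • (ic F₀ γ ᵥ* ((n⁻¹ : GL ι F) : Matrix ι ι F)) with hφ
        have hall : ∀ mm, φ mm ∈ F₀ := by
          by_contra hne
          push Not at hne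
          obtain ⟨mm, hmm⟩ := hne
          obtain ⟨a', β', c, h1, h2, h3, h4, h5'⟩ := exists_of_rat_centre hrat h4 hb0 p4 hmm
          exact hcon a' β' c h1 h2 h3 h4 h5'
        refine ⟨fun mm => ⟨φ mm, hall mm⟩, fun x => ?_⟩
        show _ = φ ⬝ᵥ _
        rw [hφ, smul_dotProduct, ← dotProduct_mulVec, inv_mulVec_cancel, smul_eq_mul]
      -- three functionals vanishing at `b`
      obtain ⟨γ₁, g1b, -, g1⟩ := exists_avoid b b 0 0 (Or.inr (Or.inl ⟨h4, rfl⟩))
      obtain ⟨γ₂, g2b, -, g2⟩ := exists_avoid b b γ₁ γ₁ (Or.inr (Or.inl ⟨h4, rfl⟩))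
      obtain ⟨γ₃, g3b, -, g3⟩ := exists_avoid b b γ₁ γ₂ (Or.inr (Or.inl ⟨h4, rfl⟩))
      obtain ⟨δ₁, d1⟩ := hγ γ₁ g1b
      obtain ⟨δ₂, d2⟩ := hγ γ₂ g2b
      obtain ⟨δ₃, d3⟩ := hγ γ₃ g3b
      have hlam1 : lam ≠ 1 := fun h => hX00 (by rw [h, one_mul])
      -- the values at `u`
      have hu' : ∀ (γ δ : ι → F₀), γ ⬝ᵥ b = 0 → δ ⬝ᵥ b = 0 →
          (∀ x : ι → F, μ * (ic F₀ γ ⬝ᵥ x) = ic F₀ δ ⬝ᵥ ((n : Matrix ι ι F) *ᵥ x)) →
          μ * (ic F₀ γ ⬝ᵥ u) = lam * (ic F₀ δ ⬝ᵥ u) := by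
        intro γ δ hγb hδb h
        rw [h u, f1, dotProduct_add, dotProduct_smul, dotProduct_smul, ic_dot, hδb, smul_eq_mul]
        simp
      have hδb : ∀ (γ δ : ι → F₀), γ ⬝ᵥ b = 0 →
          (∀ x : ι → F, μ * (ic F₀ γ ⬝ᵥ x) = ic F₀ δ ⬝ᵥ ((n : Matrix ι ι F) *ᵥ x)) → δ ⬝ᵥ b = 0 := by
        intro γ δ hγb h
        have h1 := h (ic F₀ b)
        rw [f2, dotProduct_smul, ic_dot, ic_dot, hγb, smul_eq_mul, ZeroMemClass.coe_zero, mul_zero] at h1
        exact Subtype.ext ((mul_eq_zero.1 h1.symm).resolve_left hμ0)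
      have hlin : ∀ (x y : F₀) (γ γ' : ι → F₀),
          ic F₀ (x • γ + y • γ') ⬝ᵥ u = (x : F) * (ic F₀ γ ⬝ᵥ u) + (y : F) * (ic F₀ γ' ⬝ᵥ u) := fun x y γ γ' => by
        rw [show ic F₀ (x • γ + y • γ') = (x : F) • ic F₀ γ + (y : F) • ic F₀ γ' from rfl, add_dotProduct,
          smul_dotProduct, smul_dotProduct, smul_eq_mul, smul_eq_mul]
      have e1 := hu' γ₁ δ₁ g1b (hδb _ _ g1b d1) d1
      have e2 := hu' γ₂ δ₂ g2b (hδb _ _ g2b d2) d2
      have e3 := hu' γ₃ δ₃ g3b (hδb _ _ g3b d3) d3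
      obtain ⟨a, ha1, ha2, ha3⟩ : ∃ a : ι → F₀, γ₁ ⬝ᵥ a = 1 ∧ γ₂ ⬝ᵥ a = 0 ∧ γ₃ ⬝ᵥ a = 0 := by
        obtain ⟨a, ha, ha'⟩ := exists_row_of_not_mem (S := Submodule.span F₀ (Set.range ![γ₂, γ₃])) (v := γ₁)
          (fun h => by
            rw [range_cons_cons_empty, Submodule.mem_span_pair] at h
            obtain ⟨x, y, hxy⟩ := h
            rcases eq_or_ne y 0 with rfl | hy
            · rw [zero_smul, add_zero] at hxy
              rcases eq_or_ne x 0 with rfl | hx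
              · exact g1 (by rw [← hxy, zero_smul]; exact zero_mem _)
              · refine g2 ?_
                rw [range_cons_cons_empty, Submodule.mem_span_pair]
                exact ⟨x⁻¹, 0, by rw [← hxy, inv_smul_smul₀ hx, zero_smul, add_zero]⟩
            · refine g3 ?_
              rw [range_cons_cons_empty, Submodule.mem_span_pair]
              exact ⟨y⁻¹, -(x / y), by rw [← hxy, smul_add, inv_smul_smul₀ hy]; module⟩)
        exact ⟨a, by rw [dotProduct_comm]; exact ha',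
          by rw [dotProduct_comm]; exact ha _ (Submodule.subset_span ⟨0, rfl⟩),
          by rw [dotProduct_comm]; exact ha _ (Submodule.subset_span ⟨1, rfl⟩)⟩
      obtain ⟨α, δ', hna⟩ := hplane a
      have k1 := d1 (ic F₀ a)
      have k2 := d2 (ic F₀ a)
      have k3 := d3 (ic F₀ a)
      simp only [hna, dotProduct_add, dotProduct_smul, ic_dot, ha1, ha2, ha3, hδb _ _ g1b d1, hδb _ _ g2b d2,
        hδb _ _ g3b d3, smul_eq_mul, ZeroMemClass.coe_zero, OneMemClass.coe_one, mul_zero, mul_one, add_zero] at k1 k2 k3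
      have hf : ∀ δ : ι → F₀, δ ≠ 0 → ic F₀ δ ⬝ᵥ u ≠ 0 := fun δ h => hdep δ h
      have hδne : ∀ (γ δ : ι → F₀), γ ≠ 0 →
          (∀ x : ι → F, μ * (ic F₀ γ ⬝ᵥ x) = ic F₀ δ ⬝ᵥ ((n : Matrix ι ι F) *ᵥ x)) → δ ≠ 0 := by
        intro γ δ hγ0 h hδ
        have := h u
        rw [hδ] at this
        exact mul_ne_zero hμ0 (hf γ hγ0) (this.trans (by simp [ic, dotProduct]))
      have g20 : γ₂ ≠ 0 := by rintro rfl; exact g2 (zero_mem _)
      have g30 : γ₃ ≠ 0 := by rintro rfl; exact g3 (zero_mem _)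
      set y := δ₂ ⬝ᵥ a with hy
      set z := δ₃ ⬝ᵥ a with hz
      have hα : α ≠ 0 ∨ α = 0 := ne_or_eq α 0
      have hrel : ((y : F)) * (ic F₀ δ₃ ⬝ᵥ u) = (z : F) * (ic F₀ δ₂ ⬝ᵥ u) := by
        linear_combination (ic F₀ δ₂ ⬝ᵥ u) * k3 - (ic F₀ δ₃ ⬝ᵥ u) * k2
      have hcomb : y • δ₃ + (-z) • δ₂ = 0 := by
        by_contra h0
        refine hf _ h0 ?_
        rw [hlin, NegMemClass.coe_neg, hrel]; ring
      have hy0 : y = 0 := by
        by_contra hy0
        -- the two functionals would be proportional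
        have hd3 : δ₃ = (z / y) • δ₂ := by
          have h' : y • δ₃ = z • δ₂ := by rwa [neg_smul, ← sub_eq_add_neg, sub_eq_zero] at hcomb
          rw [div_eq_inv_mul, ← smul_smul, ← h', inv_smul_smul₀ hy0]
        have hg : ic F₀ (γ₃ + (-(z / y)) • γ₂) ⬝ᵥ u = 0 := by
          have h3' : ic F₀ δ₃ ⬝ᵥ u = ((z / y : F₀) : F) * (ic F₀ δ₂ ⬝ᵥ u) := by
            rw [hd3, ic_smul, smul_dotProduct, smul_eq_mul]
          rw [show γ₃ + (-(z / y)) • γ₂ = (1 : F₀) • γ₃ + (-(z / y)) • γ₂ by rw [one_smul], hlin,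
            NegMemClass.coe_neg, OneMemClass.coe_one]
          refine mul_left_cancel₀ hμ0 ?_
          linear_combination e3 + lam * h3' - ((z / y : F₀) : F) * e2
        refine g3 ?_
        have h0 : γ₃ + (-(z / y)) • γ₂ = 0 := by
          by_contra h0
          exact hf _ h0 hg
        rw [range_cons_cons_empty, Submodule.mem_span_pair]
        exact ⟨0, z / y, by rw [eq_neg_of_add_eq_zero_left h0]; module⟩
      -- so `α` vanishes
      have hα0 : α = 0 := by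
        rw [hy0, ZeroMemClass.coe_zero, zero_add] at k2
        exact (mul_eq_zero.1 k2.symm).resolve_right (hf _ (hδne _ _ g20 d2))
      rw [hα0, zero_mul, add_zero] at k1
      -- hence `μ` is rational
      have hμF : μ ∈ F₀ := k1 ▸ (δ₁ ⬝ᵥ a).2
      set μ₀ : F₀ := ⟨μ, hμF⟩ with hμ₀
      have hμ₀0 : μ₀ ≠ 0 := fun h => hμ0 (congrArg Subtype.val h)
      have hlamF : lam ∈ F₀ := by
        rw [eq_inv_of_mul_eq_one_left hdet]; exact F₀.inv_mem hμF
      have hcomb' : μ₀ • γ₂ + (-⟨lam, hlamF⟩ : F₀) • δ₂ = 0 := by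
        by_contra h0
        refine hf _ h0 ?_
        rw [hlin, NegMemClass.coe_neg]
        show μ * _ + -lam * _ = 0
        linear_combination e2
      have hval : ∀ x : ι → F, μ * (ic F₀ γ₂ ⬝ᵥ x) = lam * (ic F₀ δ₂ ⬝ᵥ x) := fun x => by
        have h := congrArg (fun v => ic F₀ v ⬝ᵥ x) hcomb'
        rw [show ic F₀ (μ₀ • γ₂ + (-⟨lam, hlamF⟩ : F₀) • δ₂) = μ • ic F₀ γ₂ + (-lam) • ic F₀ δ₂ from rfl,
          show ic F₀ (0 : ι → F₀) = 0 from rfl, add_dotProduct, smul_dotProduct, smul_dotProduct,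
          zero_dotProduct, smul_eq_mul, smul_eq_mul] at h
        linear_combination h
      -- evaluate at a rational vector seen by `γ₂`
      obtain ⟨a₂, ha₂⟩ : ∃ a₂ : ι → F₀, γ₂ ⬝ᵥ a₂ = 1 ∧ γ₁ ⬝ᵥ a₂ = 0 := by
        obtain ⟨a, ha, ha'⟩ := exists_row_of_not_mem (S := Submodule.span F₀ (Set.range ![γ₁])) (v := γ₂)
          (fun h => g2 (Submodule.span_mono (by simp) h))
        exact ⟨a, by rw [dotProduct_comm]; exact ha',
          by rw [dotProduct_comm]; exact ha _ (Submodule.subset_span ⟨0, rfl⟩)⟩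
      obtain ⟨α', δ'', hna'⟩ := hplane a₂
      have l1 := d1 (ic F₀ a₂)
      have l2 := d2 (ic F₀ a₂)
      have l2' := hval (ic F₀ a₂)
      simp only [hna', dotProduct_add, dotProduct_smul, ic_dot, ha₂.1, ha₂.2, hδb _ _ g1b d1, hδb _ _ g2b d2,
        smul_eq_mul, ZeroMemClass.coe_zero, OneMemClass.coe_one, mul_zero, mul_one, add_zero] at l1 l2 l2'
      have hα' : α' * (ic F₀ δ₁ ⬝ᵥ u) = -((δ₁ ⬝ᵥ a₂ : F₀) : F) := by linear_combination -l1
      have hα'' : α' * (ic F₀ δ₂ ⬝ᵥ u) = ((μ₀ - μ₀ * μ₀ : F₀) : F) := by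
        show _ = μ - μ * μ
        linear_combination -l2 + μ * (1 : F) * l2' + ((δ₂ ⬝ᵥ a₂ : F₀) : F) * hdet
      rcases eq_or_ne α' 0 with h0 | h0
      · rw [h0, zero_mul] at hα''
        have hμ1 : μ * (1 - μ) = 0 := by
          rw [show μ * (1 - μ) = μ - μ * μ by ring]; exact hα''.symm
        rw [(sub_eq_zero.1 ((mul_eq_zero.1 hμ1).resolve_left hμ0)).symm, mul_one] at hdet
        exact hlam1 hdet
      · have hδ1ne := hδne γ₁ δ₁ (by rintro rfl; exact g1 (zero_mem _)) d1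
        set s := δ₁ ⬝ᵥ a₂
        set w : F₀ := μ₀ - μ₀ * μ₀
        have hcomb2 : w • δ₁ + s • δ₂ = 0 := by
          by_contra h1
          refine hf _ h1 (mul_left_cancel₀ h0 ?_)
          rw [hlin, mul_zero]
          linear_combination (w : F) * hα' + (s : F) * hα''
        by_cases hw : w = 0
        · have hμ1 : μ * (1 - μ) = 0 := by
            rw [show μ * (1 - μ) = μ - μ * μ by ring]; exact congrArg Subtype.val hw
          rw [(sub_eq_zero.1 ((mul_eq_zero.1 hμ1).resolve_left hμ0)).symm, mul_one] at hdet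
          exact hlam1 hdet
        · -- `γ₁` and `γ₂` would be dependent
          have hd1 : δ₁ = (-(s / w)) • δ₂ := by
            rw [← inv_smul_smul₀ hw δ₁, eq_neg_of_add_eq_zero_left hcomb2]; module
          have hg : ic F₀ ((1 : F₀) • γ₁ + (s / w) • γ₂) ⬝ᵥ u = 0 := by
            have h1' : ic F₀ δ₁ ⬝ᵥ u = -((s / w : F₀) : F) * (ic F₀ δ₂ ⬝ᵥ u) := by
              rw [hd1, ic_smul, smul_dotProduct, smul_eq_mul, NegMemClass.coe_neg]
            rw [hlin, OneMemClass.coe_one]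
            refine mul_left_cancel₀ hμ0 ?_
            linear_combination e1 + lam * h1' + ((s / w : F₀) : F) * e2
          have h2 : (1 : F₀) • γ₁ + (s / w) • γ₂ = 0 := by
            by_contra h2
            exact hf _ h2 hg
          by_cases hsw : s / w = 0
          · rw [hsw, one_smul, zero_smul, add_zero] at h2
            rw [h2] at g1
            exact g1 (zero_mem _)
          · refine g2 ?_
            rw [range_cons_cons_empty, Submodule.mem_span_pair]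
            exact ⟨-((s / w)⁻¹), 0, by rw [← inv_smul_smul₀ hsw γ₂, eq_neg_of_add_eq_zero_right h2]; module⟩
    · obtain ⟨s, hs, hs0⟩ := hrat₁
      obtain ⟨γ, hγ⟩ : ∃ γ : ι → F₀, ic F₀ γ = s • ψ₁ := ⟨fun m => ⟨s * ψ₁ m, hs m⟩, rfl⟩
      have e : ψ₁ = s⁻¹ • ic F₀ γ := by rw [hγ, inv_smul_smul₀ hs0]
      have p1 := hψ (Pi.single k 1) (by simp [hlk])
      rw [← hψ₁, e] at p1
      have hγ0 : γ ≠ 0 := fun h => hψ₁0 (by rw [e, h]; funext m; simp [ic])
      obtain ⟨i', hi'⟩ : ∃ i', (s⁻¹ • u) i' ∉ F₀ := by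
        by_contra hne
        push Not at hne
        obtain ⟨β, hβ1, -, hβ⟩ := exists_avoid (fun m => ⟨(s⁻¹ • u) m, hne m⟩) (fun m => ⟨(s⁻¹ • u) m, hne m⟩) 0 0 (Or.inr (Or.inl ⟨h4, rfl⟩))
        have hβ' : ((β ⬝ᵥ fun m => (⟨(s⁻¹ • u) m, hne m⟩ : F₀) : F₀) : F) = 0 := by rw [hβ1]; rfl
        rw [← ic_dot, show ic F₀ (fun m => (⟨(s⁻¹ • u) m, hne m⟩ : F₀)) = s⁻¹ • u from rfl, dotProduct_smul] at hβ'
        exact hdep β (by rintro rfl; exact hβ (zero_mem _)) ((smul_eq_zero.1 hβ').resolve_left (inv_ne_zero hs0))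
      exact exists_of_rat_functional hrat h4 hγ0 (p1.smul_swap (inv_ne_zero hs0)) hi'
  -- the coefficients form a field
  refine le_of_root_groups F₀ fun c' a β hβa => ?_
  let Lset : Set F := {k | ∀ a β : ι → F₀, β ⬝ᵥ a = 0 → RP F₀ M (ic F₀ a) (k • ic F₀ β)}
  have hd : ∀ a b : ι → F₀, ∀ k : F, (k • ic F₀ a) ⬝ᵥ ic F₀ b = k * ((a ⬝ᵥ b : F₀) : F) := fun a b k => by
    rw [smul_dotProduct, ic_dot, smul_eq_mul]
  have stepφ : ∀ (k : F) (a β γ : ι → F₀), a ≠ 0 → RP F₀ M (ic F₀ a) (k • ic F₀ β) → γ ⬝ᵥ a = 0 →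
      β ∉ Submodule.span F₀ (Set.range ![γ]) → RP F₀ M (ic F₀ a) (k • ic F₀ γ) := by
    intro k a β γ _ h hγa hβ
    obtain ⟨b, hb, hb'⟩ := exists_row_of_not_mem hβ
    have h1 := h.comm (hrat b γ (by rw [dotProduct_comm]; exact hb _ (Submodule.subset_span ⟨0, rfl⟩)))
      (by rw [ic_dot, hγa]; rfl)
    rwa [hd, dotProduct_comm β b, hb', OneMemClass.coe_one, mul_one] at h1
  have stepu : ∀ (k : F) (a b γ : ι → F₀), RP F₀ M (ic F₀ a) (k • ic F₀ γ) → γ ⬝ᵥ b = 0 →
      a ∉ Submodule.span F₀ (Set.range ![b]) → RP F₀ M (ic F₀ b) (k • ic F₀ γ) := by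
    intro k a b γ h hγb hab
    obtain ⟨δ, hδ, hδ'⟩ := exists_row_of_not_mem hab
    have h1 := (hrat b δ (hδ _ (Submodule.subset_span ⟨0, rfl⟩))).comm h (by rw [hd, hγb]; exact mul_zero k)
    rwa [ic_dot, hδ', OneMemClass.coe_one, one_smul] at h1
  have hnotin : ∀ x y : ι → F₀, x ∉ Submodule.span F₀ (Set.range ![y]) → y ≠ 0 →
      y ∉ Submodule.span F₀ (Set.range ![x]) := by
    intro x y hxy hy hyx
    rw [Matrix.range_cons, Matrix.range_empty, Set.union_empty, Submodule.mem_span_singleton] at hxy hyx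
    obtain ⟨t, rfl⟩ := hyx
    exact hxy ⟨t⁻¹, inv_smul_smul₀ (fun h0 => hy (by rw [h0, zero_smul])) x⟩
  have hcL : c ∈ Lset := by
    intro a β hβa
    rcases eq_or_ne a 0 with rfl | ha
    · refine ⟨by rw [hd, dotProduct_zero, ZeroMemClass.coe_zero, mul_zero], fun t => ⟨1, one_mem M, fun x => ?_⟩⟩
      rw [show ic F₀ (0 : ι → F₀) = 0 from rfl, smul_zero, add_zero, Units.val_one, one_mulVec]
    rcases eq_or_ne β 0 with rfl | hβ
    · refine ⟨by rw [hd, zero_dotProduct, ZeroMemClass.coe_zero, mul_zero], fun t => ⟨1, one_mem M, fun x => ?_⟩⟩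
      rw [show ic F₀ (0 : ι → F₀) = 0 from rfl, smul_zero, zero_dotProduct, mul_zero, zero_smul, add_zero,
        Units.val_one, one_mulVec]
    -- an intermediate centre
    obtain ⟨a', -, -, ha'3, ha'4⟩ := exists_avoid_lines h4 β₀ β a₀ a
    obtain ⟨γ, hγ1, hγ2, hγ3, -⟩ := exists_avoid_lines h4 a₀ a' β₀ β
    obtain ⟨γ', hγ'1, hγ'2, hγ'3, hγ'4⟩ := exists_avoid_lines h4 a' a γ β
    have ha'0 : a' ≠ 0 := by rintro rfl; exact ha'3 (zero_mem _)
    have h1 := stepφ c a₀ β₀ γ ha₀ p₀ hγ1 (hnotin _ _ hγ3 hβ₀)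
    have h2 := stepu c a₀ a' γ h1 hγ2 (hnotin _ _ ha'3 ha₀)
    have h3 := stepφ c a' γ γ' ha'0 h2 hγ'1 (hnotin _ _ hγ'3 (by rintro rfl; exact hγ3 (zero_mem _)))
    have h4' := stepu c a' a γ' h3 hγ'2 ha'4
    exact stepφ c a γ' β ha h4' hβa hγ'4
  let L : Subalgebra F₀ F :=
    { carrier := Lset
      one_mem' := fun a β h => by rw [one_smul]; exact hrat a β h
      zero_mem' := fun a β h => by
        refine ⟨by rw [zero_smul, zero_dotProduct], fun t => ⟨1, one_mem M, fun x => by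
          rw [zero_smul, zero_dotProduct, mul_zero, zero_smul, add_zero, Units.val_one, one_mulVec]⟩⟩
      add_mem' := fun {k l} hk hl a β h => by
        obtain ⟨h0, h1⟩ := hk a β h
        refine ⟨by rw [hd, h, ZeroMemClass.coe_zero, mul_zero], fun t => ?_⟩
        obtain ⟨m, hm, e⟩ := h1 t
        obtain ⟨m', hm', e'⟩ := (hl a β h).2 t
        refine ⟨m * m', mul_mem hm hm', fun x => ?_⟩
        rw [mulVec_mul_GL, e', e, dotProduct_add, dotProduct_smul, h0]
        simp only [smul_dotProduct, smul_eq_mul, mul_zero, add_zero]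
        module
      algebraMap_mem' := fun t a β h => hrat a (t • β) (by rw [smul_dotProduct, h, smul_zero])
      mul_mem' := fun {k l} hk hl a γ h => by
        rcases eq_or_ne γ 0 with rfl | hγ
        · refine ⟨by rw [hd, zero_dotProduct, ZeroMemClass.coe_zero, mul_zero], fun t => ⟨1, one_mem M, fun x => ?_⟩⟩
          rw [show ic F₀ (0 : ι → F₀) = 0 from rfl, smul_zero, zero_dotProduct, mul_zero, zero_smul, add_zero,
            Units.val_one, one_mulVec]
        rcases eq_or_ne a 0 with rfl | ha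
        · refine ⟨by rw [hd, dotProduct_zero, ZeroMemClass.coe_zero, mul_zero], fun t => ⟨1, one_mem M, fun x => ?_⟩⟩
          rw [show ic F₀ (0 : ι → F₀) = 0 from rfl, smul_zero, add_zero, Units.val_one, one_mulVec]
        obtain ⟨β, hβa, -, hβ⟩ := exists_avoid a a γ γ (Or.inr (Or.inl ⟨h4, rfl⟩))
        obtain ⟨b, hb, hb'⟩ := exists_row_of_not_mem (S := Submodule.span F₀ (Set.range ![γ])) (v := β)
          (fun h' => hβ (Submodule.span_mono (by simp) h'))
        have h1 := (hk a β hβa).comm (hl b γ (by rw [dotProduct_comm]; exact hb _ (Submodule.subset_span ⟨0, rfl⟩)))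
          (by rw [hd, h, ZeroMemClass.coe_zero, mul_zero])
        rwa [hd, dotProduct_comm β b, hb', OneMemClass.coe_one, mul_one, smul_smul] at h1 }
  have hL : L = ⊤ := by
    have hpr : (Module.finrank F₀ F).Prime := by
      have := Module.card_eq_pow_finrank (K := F₀) (V := F)
      rw [hcard, Nat.card_eq_fintype_card] at this
      rw [← Nat.pow_right_injective Fintype.one_lt_card this]; exact hr
    haveI := Subalgebra.isSimpleOrder_of_finrank_prime F₀ F hpr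
    refine (IsSimpleOrder.eq_bot_or_eq_top L).resolve_left fun hb => hc ?_
    have : c ∈ L := hcL
    rw [hb, Algebra.mem_bot] at this
    obtain ⟨t, rfl⟩ := this
    exact t.2
  exact (show c' ∈ L by rw [hL]; trivial) a β hβa

theorem subfield_maximal (h5 : 5 ≤ Fintype.card ι) (F₀ : Subfield F) {r : ℕ} (hr : r.Prime)
    (hcard : Fintype.card F = Nat.card F₀ ^ r)
    (H : Subgroup (GL ι F)) (hH : H ≤ Cfsg.Geo.specialLinear ι F)
    (hlow : ∀ g ∈ Cfsg.Geo.specialLinear ι F,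
      (∃ k : F, k ≠ 0 ∧ ∀ i j, k * (g : Matrix ι ι F) i j ∈ F₀) → g ∈ H)
    (hhigh : ∀ g ∈ H, ∃ k : F, k ≠ 0 ∧ ∀ i j, k * (g : Matrix ι ι F) i j ∈ F₀) :
    Cfsg.Geo.IsMaximalIn (Cfsg.Geo.specialLinear ι F) H :=
  subfield_maximal_of_four_le (by omega) F₀ hr hcard H hH hlow hhigh

end Cfsg.Agent.Forms.Max.SubfieldLinear
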