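import Mathlib
import Cfsg.Agent.Lib.Forms.Max.OrthBase

/-!
# Stabilisers of pairs of complementary totally singular subspaces in orthogonal groups
-/

set_option autoImplicit false
set_option linter.unusedSectionVars false

namespace Cfsg.Agent.Forms.Max.OrthPair

open Matrix Cfsg.Agent.Forms.QuadStd Cfsg.Agent.Forms.Reflections Cfsg.Agent.Classical.Orth

variable {F : Type*} [Field F] [Fintype F] {ι : Type} [Fintype ι] [DecidableEq ι]
variable {Q : QuadraticForm F (ι → F)}

local notation "Vec" => (ι → F)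
local notation "B" => QuadraticMap.polar Q

/-- a root element lies in `M` -/
def InE (M : Subgroup (Cfsg.isometryGroup F ⇑Q)) (u w : ι → F) : Prop :=
  ∀ (hu : Q u = 0) (huw : QuadraticMap.polar Q u w = 0), eich u w hu huw ∈ M

variable {M : Subgroup (Cfsg.isometryGroup F ⇑Q)}

theorem inE_add {u w w' : Vec} (h : InE M u w) (h' : InE M u w') (huw : B u w = 0) (huw' : B u w' = 0) :
    InE M u (w + w') := fun hu h2 => by
  rw [← eich_mul hu huw huw']
  exact mul_mem (h hu huw) (h' hu huw')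

theorem inE_neg {u w : Vec} (h : InE M u w) : InE M u (-w) := fun hu h2 => by
  have huw : B u w = 0 := by
    have := h2
    rwa [QuadraticMap.polar_neg_right, neg_eq_zero] at this
  rw [← eich_inv hu huw]
  exact inv_mem (h hu huw)

theorem inE_map {u w : Vec} (h : InE M u w) {g : Cfsg.isometryGroup F ⇑Q} (hg : g ∈ M) :
    InE M (act g u) (act g w) := fun hu huw => by
  have hu' : Q u = 0 := by rwa [act_map] at hu
  have huw' : B u w = 0 := by rwa [act_polar] at huw
  rw [← eich_conj g hu' huw']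
  exact mul_mem (mul_mem hg (h hu' huw')) (inv_mem hg)

theorem inE_flip {u w : Vec} (h : InE M u w) (hu' : Q u = 0) : InE M w (-u) := fun hw hwu => by
  have huw : B u w = 0 := by
    rw [QuadraticMap.polar_comm]
    rwa [QuadraticMap.polar_neg_right, neg_eq_zero] at hwu
  refine (act_ext fun x => ?_ : eich w (-u) hw hwu = eich u w hu' huw) ▸ h hu' huw
  simp only [act_eich, QuadraticMap.map_neg, hu', hw, QuadraticMap.polar_neg_right]
  module

theorem exists_ne_zero_ker {V : Submodule F Vec} {j : ℕ} (f : Fin j → (Vec →ₗ[F] F))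
    (hj : j < Module.finrank F V) : ∃ v ∈ V, v ≠ 0 ∧ ∀ i, f i v = 0 := by
  by_contra hc
  push Not at hc
  have hinj : Function.Injective ((LinearMap.pi f).domRestrict V) := by
    rw [injective_iff_map_eq_zero]
    intro v hv
    by_contra hv0
    obtain ⟨i, hi⟩ := hc v v.2 fun e => hv0 (Subtype.ext e)
    exact hi (congrFun hv i)
  have := LinearMap.finrank_le_finrank_of_injective hinj
  rw [Module.finrank_fintype_fun_eq_card, Fintype.card_fin] at this
  omega

theorem exists_ne_line {V : Submodule F Vec} {j : ℕ} (f : Fin j → (Vec →ₗ[F] F))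
    (hj : j + 1 < Module.finrank F V) {y : Vec} :
    ∃ v ∈ V, v ∉ Submodule.span F {y} ∧ ∀ i, f i v = 0 := by
  rcases eq_or_ne y 0 with rfl | hy0
  · obtain ⟨v, hv, hv0, hvf⟩ := exists_ne_zero_ker f (V := V) (by omega)
    exact ⟨v, hv, fun h => hv0 (by simpa using h), hvf⟩
  obtain ⟨φ, -, hφy⟩ := Max.exists_row_of_not_mem (S := (⊥ : Submodule F Vec)) (v := y) (by simpa using hy0)
  let φl : Vec →ₗ[F] F :=
    { toFun := fun x => φ ⬝ᵥ x
      map_add' := fun a b => dotProduct_add _ _ _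
      map_smul' := fun c a => by rw [dotProduct_smul]; rfl }
  obtain ⟨v, hv, hv0, hvf⟩ := exists_ne_zero_ker (Fin.cons φl f : Fin (j + 1) → _) (V := V) hj
  refine ⟨v, hv, fun hm => hv0 ?_, fun i => hvf i.succ⟩
  obtain ⟨t, rfl⟩ := Submodule.mem_span_singleton.1 hm
  have h : φ ⬝ᵥ (t • y) = 0 := hvf 0
  rw [dotProduct_smul, hφy, smul_eq_mul, mul_one] at h
  rw [h, zero_smul]

/-- the hypotheses on a pair of maximal totally singular subspaces -/
structure Pair (k : ℕ) (M : Subgroup (Cfsg.isometryGroup F ⇑Q)) (W U : Submodule F (ι → F)) : Prop where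
  hQ : (QuadraticMap.polarBilin Q).Nondegenerate
  hk : 6 ≤ k
  hW : Module.finrank F W = k
  hU : Module.finrank F U = k
  hC : IsCompl W U
  hWW : ∀ x ∈ W, Q x = 0
  hUU : ∀ x ∈ U, Q x = 0
  hSg : ∀ a ∈ W, ∀ w ∈ U, InE M a w

variable {W U : Submodule F (ι → F)} {k : ℕ}

theorem Pair.symm (h : Pair k M W U) : Pair k M U W :=
  ⟨h.hQ, h.hk, h.hU, h.hW, h.hC.symm, h.hUU, h.hWW, fun a ha w hw => by
    simpa using inE_neg (inE_flip (h.hSg w hw a ha) (h.hWW w hw))⟩

theorem Pair.pWW (h : Pair k M W U) {x y : Vec} (hx : x ∈ W) (hy : y ∈ W) : B x y = 0 :=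
  Orth.polar_of_sing h.hWW hx hy

theorem Pair.eq_zero (h : Pair k M W U) {u : Vec} (hu : u ∈ U) (h0 : ∀ w ∈ W, B u w = 0) : u = 0 :=
  h.hQ.1 u fun v => by
    obtain ⟨w, hw, u', hu', rfl⟩ := Submodule.mem_sup.1 (h.hC.sup_eq_top ▸ Submodule.mem_top : v ∈ W ⊔ U)
    show B u (w + u') = 0
    rw [QuadraticMap.polar_add_right, h0 w hw, h.symm.pWW hu hu', add_zero]

theorem Pair.mem_of_perp (h : Pair k M W U) {v : Vec} (hv : ∀ w ∈ W, B v w = 0) : v ∈ W := by
  obtain ⟨w, hw, u, hu, rfl⟩ := Submodule.mem_sup.1 (h.hC.sup_eq_top ▸ Submodule.mem_top : v ∈ W ⊔ U)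
  rw [h.eq_zero hu fun w' hw' => by
    have := hv w' hw'
    rwa [QuadraticMap.polar_add_left, h.pWW hw hw', zero_add] at this, add_zero]
  exact hw

theorem Pair.exists_dual (h : Pair k M W U) {c d : Vec} (hc : c ∈ U) (hd : d ∈ U)
    (hcd : c ∉ Submodule.span F {d}) : ∃ z ∈ W, B z d = 0 ∧ B z c = 1 := by
  obtain ⟨z, hz, hcz⟩ := Orth.not_mem_perp h.hQ (u := c) (W := Submodule.span F {d} ⊔ W) fun hm => by
    obtain ⟨t, ht, w, hw, e⟩ := Submodule.mem_sup.1 hm
    obtain ⟨l, rfl⟩ := Submodule.mem_span_singleton.1 ht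
    have hw0 : w = 0 := Submodule.disjoint_def.1 h.hC.disjoint w hw (by
      rw [show w = c - l • d by rw [← e]; abel]; exact U.sub_mem hc (U.smul_mem _ hd))
    exact hcd (Submodule.mem_span_singleton.2 ⟨l, by rw [← e, hw0, add_zero]⟩)
  have hz' := Orth.mem_perp.1 hz
  have hzW : z ∈ W := h.mem_of_perp fun w hw => by
    rw [QuadraticMap.polar_comm]; exact hz' w (Submodule.mem_sup_right hw)
  refine ⟨(B c z)⁻¹ • z, W.smul_mem _ hzW, ?_, ?_⟩
  · rw [QuadraticMap.polar_smul_left, QuadraticMap.polar_comm _ z d,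
      hz' d (Submodule.mem_sup_left (Submodule.mem_span_singleton_self d)), smul_zero]
  · rw [QuadraticMap.polar_smul_left, QuadraticMap.polar_comm _ z c, smul_eq_mul, inv_mul_cancel₀ hcz]

theorem Pair.exists_both (h : Pair k M W U) {p p' : Vec} (hp : p ∈ U) (hp' : p' ∈ U)
    (h1 : p ∉ Submodule.span F {p'}) (h2 : p' ∉ Submodule.span F {p}) :
    ∃ b ∈ W, B b p = 1 ∧ B b p' = 1 := by
  obtain ⟨z₁, hz₁, hz₁', hz₁p⟩ := h.exists_dual hp hp' h1
  obtain ⟨z₂, hz₂, hz₂p, hz₂'⟩ := h.exists_dual hp' hp h2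
  exact ⟨z₁ + z₂, W.add_mem hz₁ hz₂, by rw [QuadraticMap.polar_add_left, hz₁p, hz₂p, add_zero],
    by rw [QuadraticMap.polar_add_left, hz₁', hz₂', zero_add]⟩

/-- a root element at a mixed vector produces one inside a member -/
theorem Pair.core (h : Pair k M W U) {u x y V p p' : Vec} (hx : x ∈ W) (hy : y ∈ U) (hxy : u = x + y)
    (huu : Q u = 0) (hVs : InE M u V) (hVu : B u V = 0) (hp : p ∈ W) (hp' : p' ∈ U) (hpp : V = p + p')
    (hy0 : y ≠ 0) (hp'y : p' ∉ Submodule.span F {y}) :
    ∃ w ∈ U, ∃ w' ∈ U, w ≠ 0 ∧ w' ∉ Submodule.span F {w} ∧ InE M w w' := by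
  have hk := h.hk
  obtain ⟨z, hz, hzy, hzp⟩ := h.exists_dual hp' hy hp'y
  obtain ⟨w, hw, hwy, hwf⟩ := exists_ne_line ![polB Q x, polB Q z, polB Q V] (V := U) (y := y)
    (by rw [h.hU]; omega)
  have hxw : B x w = 0 := hwf 0
  have hzw : B z w = 0 := hwf 1
  have hVw : B V w = 0 := hwf 2
  have hw0 : w ≠ 0 := fun e => hwy (e ▸ zero_mem _)
  have hwU := h.hUU w hw
  set s := eich z w (h.hWW z hz) hzw with hsdef
  have hs : s ∈ M := h.hSg z hz w hw (h.hWW z hz) hzw
  have hsx : ∀ v, act s v = v + B v z • w - B v w • z := fun v => by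
    rw [hsdef, act_eich, hwU]; simp
  have hsu : act s u = u := by
    rw [hsx, hxy]
    simp [QuadraticMap.polar_add_left, h.pWW hx hz, QuadraticMap.polar_comm _ y z, hzy, hxw, h.symm.pWW hy hw]
  set κ := B V z with hκ
  have hκ0 : κ ≠ 0 := by
    rw [hκ, hpp, QuadraticMap.polar_add_left, h.pWW hp hz, zero_add, QuadraticMap.polar_comm, hzp]
    exact one_ne_zero
  have hsV : act s V = V + κ • w := by rw [hsx, hVw, zero_smul, sub_zero]
  have h1 := inE_map hVs hs
  rw [hsu] at h1
  have h2 := inE_add h1 (inE_neg hVs) (by rw [← hsu, act_polar]; exact hVu)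
    (by rw [QuadraticMap.polar_neg_right, hVu, neg_zero])
  rw [hsV, add_neg_cancel_comm] at h2
  have hwu : B w u = 0 := by
    rw [hxy, QuadraticMap.polar_add_right, QuadraticMap.polar_comm, hxw, h.symm.pWW hw hy, add_zero]
  -- the same element seen from `w`
  have hW : InE M w (-(κ • u)) := fun hww h' => by
    have huw : B u (κ • w) = 0 := by
      rw [QuadraticMap.polar_smul_right, QuadraticMap.polar_comm, hwu, smul_zero]
    refine (act_ext fun v => ?_ : eich w (-(κ • u)) hww h' = eich u (κ • w) huu huw) ▸ h2 huu huw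
    simp only [act_eich, QuadraticMap.map_neg, Classical.Orth.map_smul', huu, hwU, QuadraticMap.polar_neg_right,
      QuadraticMap.polar_smul_right, smul_eq_mul]
    module
  have hwx : B w (κ • x) = 0 := by
    rw [QuadraticMap.polar_smul_right, QuadraticMap.polar_comm, hxw, smul_zero]
  have h3 := inE_add hW (h.symm.hSg w hw (κ • x) (W.smul_mem _ hx))
    (by rw [QuadraticMap.polar_neg_right, QuadraticMap.polar_smul_right, hwu, smul_zero, neg_zero]) hwx
  rw [show -(κ • u) + κ • x = (-κ) • y by rw [hxy]; module] at h3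
  refine ⟨w, hw, (-κ) • y, U.smul_mem _ hy, hw0, fun hm => ?_, h3⟩
  obtain ⟨t, ht⟩ := Submodule.mem_span_singleton.1 hm
  rcases eq_or_ne t 0 with rfl | ht0
  · rw [zero_smul] at ht
    exact smul_ne_zero (neg_ne_zero.2 hκ0) hy0 ht.symm
  · refine hwy (Submodule.mem_span_singleton.2 ⟨t⁻¹ * -κ, ?_⟩)
    rw [← smul_smul, ← ht, inv_smul_smul₀ ht0]

/-- a mixed image of a vector of the pair produces a root element inside a member -/
theorem Pair.exists_inside (h : Pair k M W U) {a : Vec} (ha : a ∈ W) {g : Cfsg.isometryGroup F ⇑Q}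
    (hg : g ∈ M) (hW : act g a ∉ W) (hU : act g a ∉ U) :
    ∃ A, (A = W ∨ A = U) ∧ ∃ w ∈ A, ∃ w' ∈ A, w ≠ 0 ∧ w' ∉ Submodule.span F {w} ∧ InE M w w' := by
  have hk := h.hk
  set u := act g a with hu
  obtain ⟨x, hx, y, hy, hxy⟩ := Submodule.mem_sup.1 (h.hC.sup_eq_top ▸ Submodule.mem_top : u ∈ W ⊔ U)
  have hx0 : x ≠ 0 := fun e => hU (by rw [← hxy, e, zero_add]; exact hy)
  have hy0 : y ≠ 0 := fun e => hW (by rw [← hxy, e, add_zero]; exact hx)
  have huu : Q u = 0 := by rw [hu, act_map]; exact h.hWW a ha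
  obtain ⟨v₀, hv₀, hv₀a, hV⟩ : ∃ v₀ ∈ U, B a v₀ = 0 ∧ act g v₀ ∉ Submodule.span F (Set.range ![x, y]) := by
    by_contra hc
    push Not at hc
    have hle : (U ⊓ LinearMap.ker (polB Q a)).map (act g) ≤ Submodule.span F (Set.range ![x, y]) := by
      rintro _ ⟨v', hv', rfl⟩
      exact hc v' hv'.1 hv'.2
    have h1 := Submodule.finrank_mono hle
    rw [← (Submodule.equivMapOfInjective (act g) (Classical.Orth.act_injective g) _).finrank_eq] at h1
    have h2 : Module.finrank F (Submodule.span F (Set.range ![x, y])) ≤ 2 :=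
      (finrank_range_le_card ![x, y]).trans_eq (Fintype.card_fin 2)
    have h3 := Orth.finrank_inf_ker h.hQ U a
    rw [h.hU] at h3
    have h4 : Module.finrank F ↥(U ⊓ Orth.ker Q a) = Module.finrank F ↥(U ⊓ LinearMap.ker (polB Q a)) := rfl
    omega
  have hVu : B u (act g v₀) = 0 := by rw [hu, act_polar, hv₀a]
  have hVs : InE M u (act g v₀) := inE_map (h.hSg a ha v₀ hv₀) hg
  obtain ⟨p, hp, p', hp', hpp⟩ := Submodule.mem_sup.1
    (h.hC.sup_eq_top ▸ Submodule.mem_top : act g v₀ ∈ W ⊔ U)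
  by_cases hp'y : p' ∈ Submodule.span F {y}
  · have hpx : p ∉ Submodule.span F {x} := fun hm => hV (by
      rw [← hpp]
      exact Submodule.add_mem _ (Submodule.span_mono (by simp) hm) (Submodule.span_mono (by simp) hp'y))
    exact ⟨W, Or.inl rfl, h.symm.core hy hx (by rw [add_comm]; exact hxy.symm) huu hVs hVu hp' hp
      (by rw [add_comm]; exact hpp.symm) hx0 hpx⟩
  · exact ⟨U, Or.inr rfl, h.core hx hy hxy.symm huu hVs hVu hp hp' hpp.symm hy0 hp'y⟩

/-- one root element inside a member makes the whole member consist of centres -/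
theorem Pair.all_centres (h : Pair k M W U) {w w' : Vec} (hw : w ∈ U) (hw' : w' ∈ U) (hw0 : w ≠ 0)
    (hind : w' ∉ Submodule.span F {w}) (hE : InE M w w') : ∀ p ∈ U, p ∈ Orth.centres M := by
  have hk := h.hk
  -- moving the second vector
  have hstep : ∀ p ∈ U, ∀ y ∈ U, ∀ y' ∈ U, y ∉ Submodule.span F (Set.range ![p, y']) →
      y' ∉ Submodule.span F (Set.range ![p, y]) → InE M p y → InE M p y' := by
    intro p hp y hy y' hy' h1 h2 hE'
    obtain ⟨z, hz, hpz⟩ : ∃ b ∈ W, (B b p = 0 ∧ B b y = 1 ∧ B b y' = 1) ∧ True := by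
      obtain ⟨z₁, hz₁, hz₁'⟩ : ∃ b ∈ W, B b p = 0 ∧ B b y' = 0 ∧ B b y = 1 := by
        obtain ⟨b, hb, hyb⟩ := Orth.not_mem_perp h.hQ (u := y)
          (W := Submodule.span F (Set.range ![p, y']) ⊔ W) fun hm => by
          obtain ⟨t, ht, v, hv, e⟩ := Submodule.mem_sup.1 hm
          have htU : t ∈ U := Submodule.span_le.2 (by
            rintro _ ⟨i, rfl⟩; fin_cases i <;> simp [hp, hy']) ht
          have hv0 : v = 0 := Submodule.disjoint_def.1 h.hC.disjoint v hv (by
            rw [show v = y - t by rw [← e]; abel]; exact U.sub_mem hy htU)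
          exact h1 (by rw [← e, hv0, add_zero]; exact ht)
        have hb' := Orth.mem_perp.1 hb
        refine ⟨(B y b)⁻¹ • b, W.smul_mem _ (h.mem_of_perp fun v hv => by
          rw [QuadraticMap.polar_comm]; exact hb' v (Submodule.mem_sup_right hv)), ?_, ?_, ?_⟩
        · rw [QuadraticMap.polar_smul_left, QuadraticMap.polar_comm _ b p,
            hb' p (Submodule.mem_sup_left (Submodule.subset_span ⟨0, rfl⟩)), smul_zero]
        · rw [QuadraticMap.polar_smul_left, QuadraticMap.polar_comm _ b y',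
            hb' y' (Submodule.mem_sup_left (Submodule.subset_span ⟨1, rfl⟩)), smul_zero]
        · rw [QuadraticMap.polar_smul_left, QuadraticMap.polar_comm _ b y, smul_eq_mul, inv_mul_cancel₀ hyb]
      obtain ⟨z₂, hz₂, hz₂'⟩ : ∃ b ∈ W, B b p = 0 ∧ B b y = 0 ∧ B b y' = 1 := by
        obtain ⟨b, hb, hyb⟩ := Orth.not_mem_perp h.hQ (u := y')
          (W := Submodule.span F (Set.range ![p, y]) ⊔ W) fun hm => by
          obtain ⟨t, ht, v, hv, e⟩ := Submodule.mem_sup.1 hm
          have htU : t ∈ U := Submodule.span_le.2 (by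
            rintro _ ⟨i, rfl⟩; fin_cases i <;> simp [hp, hy]) ht
          have hv0 : v = 0 := Submodule.disjoint_def.1 h.hC.disjoint v hv (by
            rw [show v = y' - t by rw [← e]; abel]; exact U.sub_mem hy' htU)
          exact h2 (by rw [← e, hv0, add_zero]; exact ht)
        have hb' := Orth.mem_perp.1 hb
        refine ⟨(B y' b)⁻¹ • b, W.smul_mem _ (h.mem_of_perp fun v hv => by
          rw [QuadraticMap.polar_comm]; exact hb' v (Submodule.mem_sup_right hv)), ?_, ?_, ?_⟩
        · rw [QuadraticMap.polar_smul_left, QuadraticMap.polar_comm _ b p,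
            hb' p (Submodule.mem_sup_left (Submodule.subset_span ⟨0, rfl⟩)), smul_zero]
        · rw [QuadraticMap.polar_smul_left, QuadraticMap.polar_comm _ b y,
            hb' y (Submodule.mem_sup_left (Submodule.subset_span ⟨1, rfl⟩)), smul_zero]
        · rw [QuadraticMap.polar_smul_left, QuadraticMap.polar_comm _ b y', smul_eq_mul, inv_mul_cancel₀ hyb]
      refine ⟨z₁ + z₂, W.add_mem hz₁ hz₂, ⟨?_, ?_, ?_⟩, trivial⟩
      · rw [QuadraticMap.polar_add_left, hz₁'.1, hz₂'.1, add_zero]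
      · rw [QuadraticMap.polar_add_left, hz₁'.2.2, hz₂'.2.1, add_zero]
      · rw [QuadraticMap.polar_add_left, hz₁'.2.1, hz₂'.2.2, zero_add]
    obtain ⟨⟨hzp, hzy, hzy'⟩, -⟩ := hpz
    have hzd : B z (y' - y) = 0 := by rw [QuadraticMap.polar_sub_right, hzy', hzy, sub_self]
    have hs := h.hSg z hz (y' - y) (U.sub_mem hy' hy) (h.hWW z hz) hzd
    have hQd := h.hUU _ (U.sub_mem hy' hy)
    have e1 : act (eich z (y' - y) (h.hWW z hz) hzd) p = p :=
      act_eich_fix _ _ (by rw [QuadraticMap.polar_comm]; exact hzp) (h.symm.pWW hp (U.sub_mem hy' hy))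
    have e2 : act (eich z (y' - y) (h.hWW z hz) hzd) y = y' := by
      rw [act_eich, QuadraticMap.polar_comm _ y z, hzy, h.symm.pWW hy (U.sub_mem hy' hy), hQd]
      simp
    have := inE_map hE' hs
    rwa [e1, e2] at this
  -- every second vector
  have hrow : ∀ p ∈ U, p ≠ 0 → ∀ y ∈ U, y ∉ Submodule.span F {p} → InE M p y → ∀ y' ∈ U, InE M p y' := by
    intro p hp hp0 y hy hyp hE' y' hy'
    by_cases hy'p : y' ∈ Submodule.span F {p}
    · obtain ⟨t, rfl⟩ := Submodule.mem_span_singleton.1 hy'p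
      intro hu huw
      have e := eich_add_self (Q := Q) (u := p) (w := 0) t hu (QuadraticMap.polar_zero_right _ p)
        (by rwa [zero_add])
      rw [eich_congr (zero_add (t • p)).symm hu huw, e, eich_zero_right]
      exact one_mem M
    obtain ⟨y'', hy'', hy''n⟩ : ∃ v ∈ U, v ∉ Submodule.span F (Set.range ![p, y, y']) := by
      refine SetLike.not_le_iff_exists.1 fun hle => ?_
      have h1 := (Submodule.finrank_mono hle).trans ((finrank_range_le_card ![p, y, y']).trans_eq (Fintype.card_fin 3))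
      rw [h.hU] at h1
      omega
    have hsub : ∀ {v₁ v₂ : Vec}, (v₁ = y ∨ v₁ = y') → v₁ ∉ Submodule.span F {p} →
        v₁ ∉ Submodule.span F (Set.range ![p, y'']) ∧ y'' ∉ Submodule.span F (Set.range ![p, v₁]) := by
      intro v₁ _ hv₁ hv₁p
      have hle : Submodule.span F (Set.range ![p, v₁]) ≤ Submodule.span F (Set.range ![p, y, y']) :=
        Submodule.span_mono (by rcases hv₁ with rfl | rfl <;> simp [Set.insert_subset_iff])
      refine ⟨fun hm => ?_, fun hm => hy''n (hle hm)⟩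
      rw [range_cons_cons_empty, Submodule.mem_span_pair] at hm
      obtain ⟨c, d, e⟩ := hm
      rcases eq_or_ne d 0 with rfl | hd
      · exact hv₁p (Submodule.mem_span_singleton.2 ⟨c, by rw [← e, zero_smul, add_zero]⟩)
      · refine hy''n (hle ?_)
        rw [range_cons_cons_empty, Submodule.mem_span_pair]
        exact ⟨-(d⁻¹ * c), d⁻¹, by rw [← e, smul_add, inv_smul_smul₀ hd]; module⟩
    obtain ⟨a1, a2⟩ := hsub (v₂ := y) (Or.inl rfl) hyp
    obtain ⟨b1, b2⟩ := hsub (v₂ := y) (Or.inr rfl) hy'p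
    exact hstep p hp y'' hy'' y' hy' b2 b1 (hstep p hp y hy y'' hy'' a1 a2 hE')
  have hfirst : ∀ p ∈ U, p ≠ 0 → ∀ y ∈ U, y ∉ Submodule.span F {p} → InE M p y → p ∈ Orth.centres M := by
    intro p hp hp0 y hy hyp hE'
    refine ⟨h.hUU p hp, fun v hu hpv => ?_⟩
    obtain ⟨a, ha, c, hc, rfl⟩ := Submodule.mem_sup.1 (h.hC.sup_eq_top ▸ Submodule.mem_top : v ∈ W ⊔ U)
    have hpc : B p c = 0 := h.symm.pWW hp hc
    have hpa : B p a = 0 := by rwa [QuadraticMap.polar_add_right, hpc, add_zero] at hpv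
    exact inE_add (h.symm.hSg p hp a ha) (hrow p hp hp0 y hy hyp hE' c hc) hpa hpc hu hpv
  have hwc := hfirst w hw hw0 w' hw' hind hE
  intro p hp
  by_cases hdep : p ∈ Submodule.span F {w}
  · obtain ⟨t, rfl⟩ := Submodule.mem_span_singleton.1 hdep
    exact Orth.centres_smul t hwc
  have hdep' : w ∉ Submodule.span F {p} := fun hm => by
    obtain ⟨t, ht⟩ := Submodule.mem_span_singleton.1 hm
    rcases eq_or_ne t 0 with rfl | ht0
    · exact hw0 (by rw [← ht, zero_smul])
    · exact hdep (Submodule.mem_span_singleton.2 ⟨t⁻¹, by rw [← ht, inv_smul_smul₀ ht0]⟩)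
  obtain ⟨b, hb, hbw, hbp⟩ := h.exists_both hw hp hdep' hdep
  obtain ⟨hh, e⟩ := Orth.exists_eich_move (Q := Q) (a := b) (u := w) (v := p) (h.hWW b hb)
    (by rw [h.hUU w hw, h.hUU p hp]) (by rw [QuadraticMap.polar_comm]; exact hbw)
    (by rw [QuadraticMap.polar_comm]; exact hbp)
  have hs := h.hSg b hb (p - w) (U.sub_mem hp hw) (h.hWW b hb) hh
  exact e ▸ Orth.centres_map hs hwc

set_option maxHeartbeats 1000000 in
/-- stabilisers of pairs of complementary totally singular subspaces are maximal -/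
theorem pair_maximal (hQ : (QuadraticMap.polarBilin Q).Nondegenerate) (hcard : 12 ≤ Fintype.card ι)
    (hk : 6 ≤ k) (hke : Even k) (hfW : Module.finrank F W = k) (hfU : Module.finrank F U = k) (hC : IsCompl W U)
    (hWW : ∀ x ∈ W, Q x = 0) (hUU : ∀ x ∈ U, Q x = 0) (G : Subgroup (GL ι F))
    (hG : G ≤ Cfsg.Geo.omegaGL ⇑Q)
    (hlow : ∀ g ∈ Cfsg.Geo.omegaGL ⇑Q,
      ((Max.img g W = W ∧ Max.img g U = U) ∨ (Max.img g W = U ∧ Max.img g U = W)) → g ∈ G)
    (hhigh : ∀ g ∈ G, (Max.img g W = W ∧ Max.img g U = U) ∨ (Max.img g W = U ∧ Max.img g U = W)) :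
    Cfsg.Geo.IsMaximalIn (Cfsg.Geo.omegaGL ⇑Q) G := by
  classical
  have hn : 9 ≤ Fintype.card ι := by omega
  have himg : ∀ (g : GL ι F) {A C : Submodule F Vec}, Module.finrank F C = Module.finrank F A →
      (∀ a ∈ A, (g : Matrix ι ι F) *ᵥ a ∈ C) → Max.img g A = C := fun g A C hfr h => by
    refine Submodule.eq_of_le_of_finrank_eq (fun v hv => ?_) (by rw [Max.finrank_img, hfr])
    obtain ⟨a, ha, rfl⟩ := Max.mem_img.1 hv
    exact h a ha
  have hlow' : ∀ g : Cfsg.isometryGroup F ⇑Q, g ∈ Cfsg.Omega F ⇑Q →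
      (((∀ x ∈ W, act g x ∈ W) ∧ ∀ x ∈ U, act g x ∈ U) ∨ ((∀ x ∈ W, act g x ∈ U) ∧ ∀ x ∈ U, act g x ∈ W)) →
      ((g : GL ι F)) ∈ G := fun g hg h => by
    refine hlow _ (Subgroup.mem_map_of_mem _ hg) ?_
    rcases h with ⟨h1, h2⟩ | ⟨h1, h2⟩
    · exact Or.inl ⟨himg _ rfl fun x hx => by rw [← act_apply]; exact h1 x hx,
        himg _ rfl fun x hx => by rw [← act_apply]; exact h2 x hx⟩
    · exact Or.inr ⟨himg _ (by rw [hfW, hfU]) fun x hx => by rw [← act_apply]; exact h1 x hx,
        himg _ (by rw [hfW, hfU]) fun x hx => by rw [← act_apply]; exact h2 x hx⟩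
  have hsplit : ∀ v : Vec, v ∈ W ⊔ U := fun v => hC.sup_eq_top ▸ Submodule.mem_top
  refine isMaximalIn_of hG (fun hle => ?_) fun M hM hMK g hgM hg => ?_
  · -- a root element inside `W`
    obtain ⟨b, hb, hb0, -⟩ := exists_ne_zero_ker (V := W) (![] : Fin 0 → (Vec →ₗ[F] F)) (by omega)
    obtain ⟨b', hb', hb'n, -⟩ := exists_ne_line (V := W) (y := b) (![] : Fin 0 → (Vec →ₗ[F] F)) (by omega)
    have hbb' : B b b' = 0 := Orth.polar_of_sing hWW hb hb'
    set e := eich b b' (hWW b hb) hbb' with he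
    have hmem := hhigh _ (hle (Subgroup.mem_map_of_mem _ (Orth.eich_omega hQ (by omega) (hWW b hb) hbb')))
    obtain ⟨c, hc, hcb⟩ : ∃ c ∈ U, B c b ≠ 0 := by
      by_contra hcon
      push Not at hcon
      refine hb0 (hQ.1 b fun v => ?_)
      obtain ⟨x, hx, y, hy, rfl⟩ := Submodule.mem_sup.1 (hsplit v)
      show B b (x + y) = 0
      rw [QuadraticMap.polar_add_right, Orth.polar_of_sing hWW hb hx, QuadraticMap.polar_comm, hcon y hy, add_zero]
    have hec : act e c = c + (B c b • b' - B c b' • b) := by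
      rw [he, act_eich, hWW b' hb', zero_mul, zero_smul, sub_zero, add_sub_assoc]
    have hdiff : B c b • b' - B c b' • b ∈ W := W.sub_mem (W.smul_mem _ hb') (W.smul_mem _ hb)
    rcases hmem with ⟨-, h2⟩ | ⟨-, h2⟩
    · have h3 : act e c ∈ U := by
        rw [act_apply, ← h2]; exact Max.mulVec_mem_img hc
      have h4 : B c b • b' - B c b' • b ∈ U := by simpa [hec] using U.sub_mem h3 hc
      have h5 := Submodule.disjoint_def.1 hC.disjoint _ hdiff h4
      refine hb'n (Submodule.mem_span_singleton.2 ⟨B c b' / B c b, ?_⟩)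
      rw [div_eq_inv_mul, ← smul_smul, ← sub_eq_zero.1 h5, inv_smul_smul₀ hcb]
    · have h3 : act e c ∈ W := by
        rw [act_apply, ← h2]; exact Max.mulVec_mem_img hc
      have h4 : c ∈ W := by simpa [hec] using W.sub_mem h3 hdiff
      exact hcb (Orth.polar_of_sing hWW h4 hb)
  set N := M.comap (Cfsg.isometryGroup F ⇑Q).subtype ⊓ Cfsg.Omega F ⇑Q with hN
  have hGN : ∀ s : Cfsg.isometryGroup F ⇑Q, s ∈ Cfsg.Omega F ⇑Q → (s : GL ι F) ∈ G → s ∈ N := fun s hs h =>
    ⟨hM h, hs⟩
  obtain ⟨g', hg', rfl⟩ := Subgroup.mem_map.1 (hMK hgM)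
  have hgN : g' ∈ N := ⟨hgM, hg'⟩
  have hSg : ∀ a ∈ W, ∀ w ∈ U, InE N a w := by
    intro a ha w hw hu huw
    have hs := Orth.eich_omega hQ (by omega) hu huw
    refine hGN _ hs (hlow' _ hs (Or.inl ⟨fun x hx => ?_, fun x hx => ?_⟩))
    · rw [act_eich, Orth.polar_of_sing hWW hx ha, hUU w hw]
      simp [W.sub_mem hx (W.smul_mem _ ha)]
    · rw [act_eich, Orth.polar_of_sing hUU hx hw, hUU w hw]
      simp [U.add_mem hx (U.smul_mem _ hw)]
  have hP : Pair k N W U := ⟨hQ, hk, hfW, hfU, hC, hWW, hUU, hSg⟩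
  -- one member consists of centres
  obtain ⟨A, hA, hAc⟩ : ∃ A, (A = W ∨ A = U) ∧ ∀ p ∈ A, p ∈ Orth.centres N := by
    by_contra hcon
    have hfin : ∀ A, (A = W ∨ A = U) → ∀ w ∈ A, ∀ w' ∈ A, w ≠ 0 → w' ∉ Submodule.span F {w} → ¬ InE N w w' := by
      rintro A (rfl | rfl) w hw w' hw' h0 h1 h2
      · exact hcon ⟨_, Or.inl rfl, hP.symm.all_centres hw hw' h0 h1 h2⟩
      · exact hcon ⟨_, Or.inr rfl, hP.all_centres hw hw' h0 h1 h2⟩
    have hA : ∀ a ∈ W, act g' a ∈ W ∨ act g' a ∈ U := fun a ha => by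
      by_contra hc
      push Not at hc
      obtain ⟨A, hA, w, hw, w', hw', h0, h1, h2⟩ := hP.exists_inside ha hgN hc.1 hc.2
      exact hfin A hA w hw w' hw' h0 h1 h2
    have hB : ∀ a ∈ U, act g' a ∈ W ∨ act g' a ∈ U := fun a ha => by
      by_contra hc
      push Not at hc
      obtain ⟨A, hA, w, hw, w', hw', h0, h1, h2⟩ := hP.symm.exists_inside ha hgN hc.2 hc.1
      exact hfin A hA.symm w hw w' hw' h0 h1 h2
    have key : ∀ {A : Submodule F Vec}, Module.finrank F A = k → (∀ a ∈ A, act g' a ∈ W ∨ act g' a ∈ U) →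
        Max.img (g' : GL ι F) A = W ∨ Max.img (g' : GL ι F) A = U := fun {A} hA' h => by
      rcases Max.le_or_le_of_forall (S := Max.img (g' : GL ι F) A) (W := W) (U := U) (fun v hv => by
        obtain ⟨a, ha, rfl⟩ := Max.mem_img.1 hv
        rw [← act_apply]
        exact h a ha) with h1 | h1
      · exact Or.inl (Submodule.eq_of_le_of_finrank_eq h1 (by rw [Max.finrank_img, hA', hfW]))
      · exact Or.inr (Submodule.eq_of_le_of_finrank_eq h1 (by rw [Max.finrank_img, hA', hfU]))
    have hne : Max.img (g' : GL ι F) W ≠ Max.img (g' : GL ι F) U := fun e => by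
      have h0 : W ≤ U := fun a ha => by
        obtain ⟨b, hb, hab⟩ := Max.mem_img.1 (e ▸ Max.mulVec_mem_img (g := (g' : GL ι F)) ha)
        exact Max.mulVec_inj _ hab ▸ hb
      have h3 : W = ⊥ := le_bot_iff.1 (hC.disjoint le_rfl h0)
      rw [h3, finrank_bot] at hfW
      omega
    refine hg (hlow _ (Subgroup.mem_map_of_mem _ hg') ?_)
    rcases key hfW hA with h1 | h1 <;> rcases key hfU hB with h3 | h3
    · exact absurd (h1.trans h3.symm) hne
    · exact Or.inl ⟨h1, h3⟩
    · exact Or.inr ⟨h1, h3⟩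
    · exact absurd (h1.trans h3.symm) hne
  -- the swap
  obtain ⟨sw, hsw, hswW, hswU⟩ : ∃ s ∈ N, (∀ x ∈ W, act s x ∈ U) ∧ ∀ x ∈ U, act s x ∈ W := by
    obtain ⟨l, hl⟩ := hke
    let b : Module.Basis (Fin l × Fin 2) F W :=
      (Module.finBasisOfFinrankEq F W hfW).reindex ((finCongr (by omega)).trans finProdFinEquiv.symm)
    let L : U →ₗ[F] (Fin l × Fin 2 → F) := (LinearMap.pi fun i => polB Q ((b i : W) : Vec)).domRestrict U
    have hL : Function.Injective L := by
      rw [injective_iff_map_eq_zero]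
      intro u hu
      refine Subtype.ext (hP.eq_zero u.2 fun w hw => ?_)
      have e : w = ((∑ i, (b.repr ⟨w, hw⟩) i • b i : W) : Vec) := by rw [b.sum_repr]
      rw [e, Submodule.coe_sum, ← polB_apply, map_sum]
      exact Finset.sum_eq_zero fun i _ => by
        rw [Submodule.coe_smul, map_smul, show polB Q (u : Vec) (b i : Vec) = 0 by
          rw [polB_apply, QuadraticMap.polar_comm]; exact congrFun hu i, smul_zero]
    have hL' : Function.Surjective L := (LinearMap.injective_iff_surjective_of_finrank_eq_finrank (by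
      rw [hfU, Module.finrank_fintype_fun_eq_card, Fintype.card_prod, Fintype.card_fin, Fintype.card_fin]
      omega)).1 hL
    choose c hc using fun i => hL' (Pi.single i 1)
    set β : Fin l × Fin 2 → Vec := fun i => (b i : Vec) with hβ
    set γ : Fin l × Fin 2 → Vec := fun i => (c i : Vec) with hγ
    have hβγ : ∀ i j, B (β j) (γ i) = (Pi.single i 1 : Fin l × Fin 2 → F) j := fun i j => congrFun (hc i) j
    have hγβ : ∀ i j, B (γ i) (β j) = (Pi.single i 1 : Fin l × Fin 2 → F) j := fun i j => by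
      rw [QuadraticMap.polar_comm, hβγ]
    have hββ : ∀ i j, B (β i) (β j) = 0 := fun i j => Orth.polar_of_sing hWW (b i).2 (b j).2
    have hγγ : ∀ i j, B (γ i) (γ j) = 0 := fun i j => Orth.polar_of_sing hUU (c i).2 (c j).2
    have hQβ : ∀ i, Q (β i) = 0 := fun i => hWW _ (b i).2
    have hQγ : ∀ i, Q (γ i) = 0 := fun i => hUU _ (c i).2
    have key : ∀ S : Finset (Fin l), ∃ s ∈ Cfsg.Omega F ⇑Q, ∀ i : Fin l,
        (i ∈ S → ∀ e : Fin 2, act s (β (i, e)) ∈ U ∧ act s (γ (i, e)) ∈ W) ∧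
        (i ∉ S → ∀ e : Fin 2, act s (β (i, e)) = β (i, e) ∧ act s (γ (i, e)) = γ (i, e)) := by
      intro S
      induction S using Finset.induction with
      | empty => exact ⟨1, one_mem _, fun i => ⟨fun h => absurd h (Finset.notMem_empty i),
          fun _ e => ⟨act_one _, act_one _⟩⟩⟩
      | @insert j S hj ih =>
        obtain ⟨s, hs, hsi⟩ := ih
        set t := eich (β (j, 0)) (β (j, 1)) (hQβ _) (hββ _ _) with ht
        set t' := eich (γ (j, 0)) (γ (j, 1)) (hQγ _) (hγγ _ _) with ht'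
        have htx : ∀ x, act t x = x + B x (β (j, 0)) • β (j, 1) - B x (β (j, 1)) • β (j, 0) := fun x => by
          rw [ht, act_eich, hQβ]; simp
        have htx' : ∀ x, act t' x = x + B x (γ (j, 0)) • γ (j, 1) - B x (γ (j, 1)) • γ (j, 0) := fun x => by
          rw [ht', act_eich, hQγ]; simp
        have h01 : ((j, 0) : Fin l × Fin 2) ≠ (j, 1) := by simp
        have hb : (∀ e : Fin 2, act (t * t' * t) (β (j, e)) ∈ U ∧ act (t * t' * t) (γ (j, e)) ∈ W) ∧
            ∀ i, i ≠ j → ∀ e : Fin 2, act (t * t' * t) (β (i, e)) = β (i, e) ∧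
              act (t * t' * t) (γ (i, e)) = γ (i, e) := by
          constructor
          · refine Fin.forall_fin_two.2 ⟨?_, ?_⟩
            · constructor
              · have : act (t * t' * t) (β (j, 0)) = γ (j, 1) := by
                  simp only [act_mul, htx, htx', QuadraticMap.polar_add_left, QuadraticMap.polar_sub_left,
                    QuadraticMap.polar_smul_left, hββ, hγγ, hγβ, hβγ, Pi.single_eq_same, Pi.single_eq_of_ne h01,
                    Pi.single_eq_of_ne h01.symm, zero_smul, smul_eq_mul, mul_zero, mul_one, add_zero, sub_zero]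
                  module
                rw [this]; exact (c _).2
              · have : act (t * t' * t) (γ (j, 0)) = β (j, 1) := by
                  simp only [act_mul, htx, htx', QuadraticMap.polar_add_left, QuadraticMap.polar_sub_left,
                    QuadraticMap.polar_smul_left, hββ, hγγ, hγβ, hβγ, Pi.single_eq_same, Pi.single_eq_of_ne h01,
                    Pi.single_eq_of_ne h01.symm, zero_smul, smul_eq_mul, mul_zero, mul_one, add_zero, sub_zero]
                  module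
                rw [this]; exact (b _).2
            · constructor
              · have : act (t * t' * t) (β (j, 1)) = -γ (j, 0) := by
                  simp only [act_mul, htx, htx', QuadraticMap.polar_add_left, QuadraticMap.polar_sub_left,
                    QuadraticMap.polar_smul_left, hββ, hγγ, hγβ, hβγ, Pi.single_eq_same, Pi.single_eq_of_ne h01,
                    Pi.single_eq_of_ne h01.symm, zero_smul, smul_eq_mul, mul_zero, mul_one, add_zero, sub_zero]
                  module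
                rw [this]; exact U.neg_mem (c _).2
              · have : act (t * t' * t) (γ (j, 1)) = -β (j, 0) := by
                  simp only [act_mul, htx, htx', QuadraticMap.polar_add_left, QuadraticMap.polar_sub_left,
                    QuadraticMap.polar_smul_left, hββ, hγγ, hγβ, hβγ, Pi.single_eq_same, Pi.single_eq_of_ne h01,
                    Pi.single_eq_of_ne h01.symm, zero_smul, smul_eq_mul, mul_zero, mul_one, add_zero, sub_zero]
                  module
                rw [this]; exact W.neg_mem (b _).2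
          · intro i hne e
            have h1 : ∀ f : Fin 2, ((i, e) : Fin l × Fin 2) ≠ (j, f) := fun f h => hne (congrArg Prod.fst h)
            simp only [act_mul, htx, htx', hββ, hγγ, hγβ, hβγ, Pi.single_eq_of_ne (h1 0), Pi.single_eq_of_ne (h1 1),
              Pi.single_eq_of_ne (h1 0).symm, Pi.single_eq_of_ne (h1 1).symm, zero_smul, add_zero, sub_zero, and_self]
        have htO : t ∈ Cfsg.Omega F ⇑Q := Orth.eich_omega hQ (by omega) _ _
        have htO' : t' ∈ Cfsg.Omega F ⇑Q := Orth.eich_omega hQ (by omega) _ _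
        refine ⟨t * t' * t * s, mul_mem (mul_mem (mul_mem htO htO') htO) hs,
          fun i => ⟨fun hi e => ?_, fun hi e => ?_⟩⟩
        · rcases Finset.mem_insert.1 hi with rfl | hi'
          · obtain ⟨h1, h3⟩ := (hsi i).2 hj e
            rw [act_mul, act_mul (t * t' * t) s, h1, h3]
            exact hb.1 e
          · obtain ⟨h1, h3⟩ := (hsi i).1 hi' e
            rw [act_mul, act_mul (t * t' * t) s]
            -- the other pair is fixed
            have hfix : ∀ x, B x (β (j, 0)) = 0 → B x (β (j, 1)) = 0 → B x (γ (j, 0)) = 0 → B x (γ (j, 1)) = 0 →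
                act (t * t' * t) x = x := fun x a1 a2 a3 a4 => by
              simp only [act_mul, htx, htx', a1, a2, a3, a4, zero_smul, add_zero, sub_zero]
            have hne : i ≠ j := fun h => hj (h ▸ hi')
            have h1' : ∀ f : Fin 2, ((i, e) : Fin l × Fin 2) ≠ (j, f) := fun f h => hne (congrArg Prod.fst h)
            have hpol : ∀ (v : Vec) (f : Fin 2), act s (β (j, f)) = β (j, f) → act s (γ (j, f)) = γ (j, f) →
                B (act s v) (β (j, f)) = B v (β (j, f)) ∧ B (act s v) (γ (j, f)) = B v (γ (j, f)) :=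
              fun v f a1 a2 => ⟨by conv_lhs => rw [← a1, act_polar], by conv_lhs => rw [← a2, act_polar]⟩
            obtain ⟨p0, p0'⟩ := (hsi j).2 hj 0
            obtain ⟨p1, p1'⟩ := (hsi j).2 hj 1
            obtain ⟨a1, a3⟩ := hpol (β (i, e)) 0 p0 p0'
            obtain ⟨a2, a4⟩ := hpol (β (i, e)) 1 p1 p1'
            obtain ⟨b1, b3⟩ := hpol (γ (i, e)) 0 p0 p0'
            obtain ⟨b2, b4⟩ := hpol (γ (i, e)) 1 p1 p1'
            rw [hfix _ (by rw [a1, hββ]) (by rw [a2, hββ])
                (by rw [a3, hβγ, Pi.single_eq_of_ne (h1' 0)]) (by rw [a4, hβγ, Pi.single_eq_of_ne (h1' 1)]),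
              hfix _ (by rw [b1, hγβ, Pi.single_eq_of_ne (h1' 0).symm]) (by rw [b2, hγβ, Pi.single_eq_of_ne (h1' 1).symm])
                (by rw [b3, hγγ]) (by rw [b4, hγγ])]
            exact ⟨h1, h3⟩
        · rw [Finset.mem_insert, not_or] at hi
          obtain ⟨h1, h3⟩ := (hsi i).2 hi.2 e
          rw [act_mul, act_mul (t * t' * t) s, h1, h3]
          exact hb.2 i hi.1 e
    obtain ⟨s, hs, hsi⟩ := key Finset.univ
    have hWU : ∀ x ∈ W, act s x ∈ U := fun w hw => by
      have e : w = ((∑ i, (b.repr ⟨w, hw⟩) i • b i : W) : Vec) := by rw [b.sum_repr]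
      rw [e, Submodule.coe_sum, map_sum]
      refine U.sum_mem fun i _ => ?_
      rw [Submodule.coe_smul, map_smul]
      exact U.smul_mem _ (((hsi i.1).1 (Finset.mem_univ _) i.2).1)
    have hUW : ∀ x ∈ U, act s x ∈ W := fun u hu => by
      have e : u = ∑ i, L ⟨u, hu⟩ i • γ i := by
        have h1 : (⟨u, hu⟩ : U) = ∑ i, L ⟨u, hu⟩ i • c i := hL (by
          simp only [map_sum, map_smul, hc]
          exact pi_eq_sum_univ' _)
        have h3 := congrArg Subtype.val h1
        simpa [hγ] using h3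
      rw [e, map_sum]
      refine W.sum_mem fun i _ => ?_
      rw [map_smul]
      exact W.smul_mem _ (((hsi i.1).1 (Finset.mem_univ _) i.2).2)
    exact ⟨s, hGN s hs (hlow' s hs (Or.inr ⟨hWU, hUW⟩)), hWU, hUW⟩
  have hsurj : ∀ {A C : Submodule F Vec}, Module.finrank F A = k → Module.finrank F C = k →
      (∀ x ∈ A, act sw x ∈ C) → ∀ y ∈ C, ∃ x ∈ A, act sw x = y := fun {A C} hA hC h y hy => by
    have e := himg (sw : GL ι F) (A := A) (C := C) (by rw [hA, hC]) (fun x hx => by rw [← act_apply]; exact h x hx)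
    obtain ⟨x, hx, hxy⟩ := Max.mem_img.1 (e.symm ▸ hy : y ∈ Max.img (sw : GL ι F) A)
    exact ⟨x, hx, by rw [act_apply]; exact hxy⟩
  have hboth : (∀ p ∈ W, p ∈ Orth.centres N) ∧ ∀ p ∈ U, p ∈ Orth.centres N := by
    rcases hA with rfl | rfl
    · refine ⟨hAc, fun p hp => ?_⟩
      obtain ⟨x, hx, rfl⟩ := hsurj hfW hfU hswW p hp
      exact Orth.centres_map hsw (hAc x hx)
    · refine ⟨fun p hp => ?_, hAc⟩
      obtain ⟨x, hx, rfl⟩ := hsurj hfU hfW hswU p hp
      exact Orth.centres_map hsw (hAc x hx)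
  -- all singular vectors
  have hle : Cfsg.Omega F ⇑Q ≤ N := Orth.omega_le_of_centres hQ (by omega) fun v hv0 hv => by
    obtain ⟨x, hx, y, hy, rfl⟩ := Submodule.mem_sup.1 (hsplit v)
    rcases eq_or_ne x 0 with rfl | hx0
    · rw [zero_add]; exact hboth.2 y hy
    obtain ⟨b, hb, hbx⟩ : ∃ b ∈ U, B x b = 1 := by
      obtain ⟨b, hb, hbx⟩ : ∃ b ∈ U, B x b ≠ 0 := by
        by_contra hc
        push Not at hc
        exact hx0 (hP.symm.eq_zero hx fun b hb => hc b hb)
      exact ⟨(B x b)⁻¹ • b, U.smul_mem _ hb, by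
        rw [QuadraticMap.polar_smul_right, smul_eq_mul, inv_mul_cancel₀ hbx]⟩
    have hxy : B x y = 0 := by
      rw [map_add', hWW x hx, hUU y hy, zero_add, zero_add] at hv
      exact hv
    have hby : B b y = 0 := Orth.polar_of_sing hUU hb hy
    have e : act (eich b y (hUU b hb) hby) x = x + y := by
      rw [act_eich, hbx, hxy, hUU y hy]; simp
    exact e ▸ Orth.centres_map ((hboth.2 b hb).2 y (hUU b hb) hby) (hboth.1 x hx)
  intro x hx
  obtain ⟨x', hx', rfl⟩ := Subgroup.mem_map.1 hx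
  exact (hle hx').1

end Cfsg.Agent.Forms.Max.OrthPair
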