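import Mathlib
import Cfsg.Agent.Lib.Forms.Max.OrthBase
import Cfsg.Agent.Lib.Forms.Max.OrthPair
import Cfsg.Agent.Lib.Forms.Max.OrthFrames

/-!
# Stabilisers of orthogonal decompositions into components of dimension at least three

Odd characteristic.  An element outside the stabiliser conjugates a root element of one component to a root
element with several components, and a few commutators turn that one into root elements joining two components.
-/

set_option autoImplicit false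
set_option linter.unusedSectionVars false

namespace Cfsg.Agent.Forms.Max.OrthBlocks

open Matrix Cfsg.Agent.Forms.QuadStd Cfsg.Agent.Forms.Reflections Cfsg.Agent.Classical.Orth
open Cfsg.Agent.Forms.Max.OrthPair (InE inE_add inE_neg inE_map inE_flip)

variable {F : Type*} [Field F] [Fintype F] {ι : Type} [Fintype ι] [DecidableEq ι]
variable {Q : QuadraticForm F (ι → F)} {t k : ℕ} {D : Fin t → Submodule F (ι → F)}

local notation "Vec" => (ι → F)
local notation "B" => QuadraticMap.polar Q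
set_option quotPrecheck false in
local notation "Iso" => Cfsg.isometryGroup F ⇑Q

/-- all multiples of a root element -/
def Dir (M : Subgroup (Cfsg.isometryGroup F ⇑Q)) (u w : ι → F) : Prop :=
  Q u = 0 ∧ QuadraticMap.polar Q u w = 0 ∧ ∀ s : F, InE M u (s • w)

variable {M : Subgroup (Cfsg.isometryGroup F ⇑Q)}

theorem Dir.add {u w w' : Vec} (h : Dir M u w) (h' : Dir M u w') : Dir M u (w + w') :=
  ⟨h.1, by rw [QuadraticMap.polar_add_right, h.2.1, h'.2.1, add_zero], fun s => by
    rw [smul_add]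
    exact inE_add (h.2.2 s) (h'.2.2 s) (by rw [QuadraticMap.polar_smul_right, h.2.1, smul_zero])
      (by rw [QuadraticMap.polar_smul_right, h'.2.1, smul_zero])⟩

theorem Dir.smul {u w : Vec} (c : F) (h : Dir M u w) : Dir M u (c • w) :=
  ⟨h.1, by rw [QuadraticMap.polar_smul_right, h.2.1, smul_zero], fun s => by rw [smul_smul]; exact h.2.2 _⟩

theorem Dir.sub {u w w' : Vec} (h : Dir M u w) (h' : Dir M u w') : Dir M u (w - w') := by
  rw [sub_eq_add_neg, ← neg_one_smul F w']
  exact h.add (h'.smul _)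

theorem Dir.map {u w : Vec} (h : Dir M u w) {g : Iso} (hg : g ∈ M) : Dir M (act g u) (act g w) :=
  ⟨by rw [act_map]; exact h.1, by rw [act_polar]; exact h.2.1, fun s => by
    rw [← map_smul]; exact inE_map (h.2.2 s) hg⟩

theorem Dir.mem {u w : Vec} (h : Dir M u w) : eich u w h.1 h.2.1 ∈ M := by
  have := h.2.2 1
  rw [one_smul] at this
  exact this _ _

theorem Dir.flip {u w : Vec} (h : Dir M u w) (hw : Q w = 0) : Dir M w u := by
  have key : ∀ c : F, c ≠ 0 → InE M w (c • u) := fun c hc => by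
    have h1 : InE M (c • w) (-u) := fun hcw hh => by
      have := inE_flip (h.2.2 c) h.1
      exact this hcw hh
    intro hw' hwu
    have hwu' : B (c • w) u = 0 := by
      rw [QuadraticMap.polar_smul_left]
      rwa [QuadraticMap.polar_smul_right] at hwu
    have hcw : Q (c • w) = 0 := by rw [Classical.Orth.map_smul', hw', mul_zero]
    have h2 := inE_neg h1 hcw (by rw [neg_neg]; exact hwu')
    have e := eich_smul c hcw hwu' hw' hwu
    simp only [neg_neg] at h2
    exact e ▸ h2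
  refine ⟨hw, by rw [QuadraticMap.polar_comm]; exact h.2.1, fun c => ?_⟩
  rcases eq_or_ne c 0 with rfl | hc
  · rw [zero_smul]
    intro hw' h0
    rw [eich_zero_right hw' h0]
    exact one_mem M
  · exact key c hc

theorem pair_in {S : Submodule F Vec} (hS : ∀ r ∈ S, r ≠ 0 → ∃ s ∈ S, B r s ≠ 0) {e : Vec} (he : e ∈ S)
    (he0 : e ≠ 0) (hQe : Q e = 0) : ∃ f ∈ S, IsPair Q e f := by
  obtain ⟨y, hy, hey⟩ := hS e he he0
  obtain ⟨f, hf, hQf, hef⟩ := Orth.exists_partner_in he hy hQe hey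
  exact ⟨f, hf, hQe, hQf, hef⟩

/-- non-singular vectors orthogonal to a pair -/
theorem exists_nonsing {S : Submodule F Vec} (hS : ∀ r ∈ S, r ≠ 0 → ∃ s ∈ S, B r s ≠ 0)
    (h3 : 3 ≤ Module.finrank F S) {e f : Vec} (hp : IsPair Q e f) (he : e ∈ S) (hf : f ∈ S) :
    ∃ y ∈ S, B e y = 0 ∧ B f y = 0 ∧ Q y ≠ 0 := by
  obtain ⟨p, hp', hp0, hpf⟩ := OrthPair.exists_ne_zero_ker ![polB Q e, polB Q f] (V := S) (by omega)
  have g0 : B e p = 0 := hpf 0
  have g1 : B f p = 0 := hpf 1
  by_cases hQp : Q p = 0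
  swap
  · exact ⟨p, hp', g0, g1, hQp⟩
  obtain ⟨s, hs, hps⟩ := hS p hp' hp0
  have hs' : proj Q e f s ∈ S := proj_mem he hf hs
  obtain ⟨h1, h2⟩ := proj_perp hp s
  rw [QuadraticMap.polar_comm] at h1 h2
  have hps' : B p (proj Q e f s) = B p s := by
    simp only [proj, QuadraticMap.polar_sub_right, QuadraticMap.polar_smul_right, QuadraticMap.polar_comm _ p e,
      QuadraticMap.polar_comm _ p f, g0, g1, smul_zero, sub_zero]
  by_cases hQs : Q (proj Q e f s) = 0
  · refine ⟨p + proj Q e f s, S.add_mem hp' hs', by rw [QuadraticMap.polar_add_right, g0, h1, add_zero],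
      by rw [QuadraticMap.polar_add_right, g1, h2, add_zero], ?_⟩
    rw [Classical.Orth.map_add', hQp, hQs, hps', zero_add, zero_add]
    exact hps
  · exact ⟨_, hs', h1, h2, hQs⟩

/-- a singular vector meeting a given one -/
theorem exists_sing_meet (hQ : (QuadraticMap.polarBilin Q).Nondegenerate) {S : Submodule F Vec}
    (hS : ∀ r ∈ S, r ≠ 0 → ∃ s ∈ S, B r s ≠ 0) (h3 : 3 ≤ Module.finrank F S) {x : Vec}
    (hx : ∃ s ∈ S, B x s ≠ 0) : ∃ a ∈ S, a ≠ 0 ∧ Q a = 0 ∧ B x a ≠ 0 := by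
  by_contra hc
  push Not at hc
  obtain ⟨s, hs, hxs⟩ := hx
  refine hxs (Orth.sing_span' hQ hS h3 (T := Orth.ker Q x) (fun a ha hQa => ?_) hs)
  rcases eq_or_ne a 0 with rfl | ha0
  · exact QuadraticMap.polar_zero_right _ _
  · exact hc a ha ha0 hQa

section Setting

variable (hQ : (QuadraticMap.polarBilin Q).Nondegenerate) (h2 : (2 : F) ≠ 0)
  (hD : Cfsg.Geo.IsOrthogonalMDecomposition (⇑Q) k D) (hk : 3 ≤ k)

include hD

theorem nd (i : Fin t) : ∀ r ∈ D i, r ≠ 0 → ∃ s ∈ D i, B r s ≠ 0 := fun _ hr h0 => Orth.nd_on hD.decomp hr h0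

include hk in
theorem three_le (i : Fin t) : 3 ≤ Module.finrank F (D i) := by rw [hD.decomp.decomp.finrank_eq]; exact hk

theorem exists_cmp (i : Fin t) : ∃ π : Vec →ₗ[F] Vec, ∀ x, π x ∈ D i ∧ ∀ y ∈ D i, B (π x) y = B x y := by
  have hnd := Max.restrict_nondeg (polB_refl (Q := Q)) (nd hD i)
  let e := LinearMap.BilinForm.toDual ((polB Q).restrict (D i)) hnd
  let r : Vec →ₗ[F] Module.Dual F (D i) :=
    { toFun := fun x => (polB Q x).domRestrict (D i)
      map_add' := fun x y => by ext z; simp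
      map_smul' := fun c x => by ext z; simp }
  refine ⟨(D i).subtype.comp (e.symm.toLinearMap.comp r), fun x => ⟨(e.symm (r x)).2, fun y hy => ?_⟩⟩
  exact LinearMap.congr_fun (e.apply_symm_apply (r x)) ⟨y, hy⟩

/-- the component in a member of the decomposition -/
noncomputable def cmp (i : Fin t) : (ι → F) →ₗ[F] (ι → F) := Classical.choose (exists_cmp hD i)

theorem cmp_mem (i : Fin t) (x : Vec) : cmp hD i x ∈ D i := (Classical.choose_spec (exists_cmp hD i) x).1

theorem cmp_pair (i : Fin t) (x : Vec) {y : Vec} (hy : y ∈ D i) : B (cmp hD i x) y = B x y :=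
  (Classical.choose_spec (exists_cmp hD i) x).2 y hy

theorem pair_cmp (i : Fin t) (x : Vec) {y : Vec} (hy : y ∈ D i) : B y (cmp hD i x) = B y x := by
  rw [QuadraticMap.polar_comm, cmp_pair hD i x hy, QuadraticMap.polar_comm]

theorem cmp_self {i : Fin t} {x : Vec} (hx : x ∈ D i) : cmp hD i x = x := by
  by_contra h
  obtain ⟨s, hs, hne⟩ := nd hD i _ ((D i).sub_mem (cmp_mem hD i x) hx) (sub_ne_zero.2 h)
  exact hne (by rw [QuadraticMap.polar_sub_left, cmp_pair hD i x hs, sub_self])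

theorem cmp_other {i j : Fin t} (hij : i ≠ j) {x : Vec} (hx : x ∈ D j) : cmp hD i x = 0 := by
  by_contra h
  obtain ⟨s, hs, hne⟩ := nd hD i _ (cmp_mem hD i x) h
  exact hne (by rw [cmp_pair hD i x hs]; exact Orth.orth_ne hD.decomp (Ne.symm hij) hx hs)

include hQ

theorem cmp_ext {x : Vec} (h : ∀ i, cmp hD i x = 0) : x = 0 := by
  refine hQ.1 x fun y => ?_
  have : iSup D ≤ Orth.ker Q x := iSup_le fun i z hz => by
    show B x z = 0
    rw [← cmp_pair hD i x hz, h i, QuadraticMap.polar_zero_left]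
  exact this (hD.decomp.decomp.iSup_eq_top ▸ Submodule.mem_top)

theorem sum_cmp (x : Vec) : ∑ i, cmp hD i x = x := by
  refine sub_eq_zero.1 (cmp_ext hQ hD fun j => ?_)
  rw [map_sub, map_sum, Finset.sum_eq_single j (fun i _ hij => cmp_other hD (Ne.symm hij) (cmp_mem hD i x))
    (fun h => absurd (Finset.mem_univ j) h), cmp_self hD (cmp_mem hD j x), sub_self]

theorem mem_of_cmp {j : Fin t} {x : Vec} (h : ∀ i, i ≠ j → cmp hD i x = 0) : x ∈ D j := by
  rw [← sum_cmp hQ hD x]
  exact Submodule.sum_mem _ fun i _ => by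
    by_cases hij : i = j
    · exact hij ▸ cmp_mem hD i x
    · rw [h i hij]; exact zero_mem _

theorem cmp_of_not_mem {j : Fin t} {x : Vec} (h : x ∉ D j) : ∃ i, i ≠ j ∧ cmp hD i x ≠ 0 := by
  by_contra hc
  push Not at hc
  exact h (mem_of_cmp hQ hD hc)

omit hQ in
theorem img_eq {g : Iso} {i j : Fin t} (h : ∀ x ∈ D i, act g x ∈ D j) :
    (D i).map (Matrix.toLin' ((g : GL ι F) : Matrix ι ι F)) = D j := by
  refine Submodule.eq_of_le_of_finrank_eq ?_ ?_
  · rintro _ ⟨x, hx, rfl⟩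
    rw [Matrix.toLin'_apply, ← act_apply]
    exact h x hx
  · show Module.finrank F (Max.img (g : GL ι F) (D i)) = _
    rw [Max.finrank_img, hD.decomp.decomp.finrank_eq, hD.decomp.decomp.finrank_eq]

end Setting

/-- the permuting elements occur -/
def PermM (D : Fin t → Submodule F (ι → F)) (M : Subgroup (Cfsg.isometryGroup F ⇑Q)) : Prop :=
  ∀ g ∈ Cfsg.Omega F ⇑Q, (∃ σ : Equiv.Perm (Fin t), ∀ i, ∀ x ∈ D i, act g x ∈ D (σ i)) → g ∈ M

/-- two components are joined -/
def Linked (D : Fin t → Submodule F (ι → F)) (M : Subgroup (Cfsg.isometryGroup F ⇑Q)) (i j : Fin t) : Prop :=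
  ∀ a ∈ D i, Q a = 0 → a ≠ 0 → ∀ x ∈ D j, Dir M a x

variable (hQ : (QuadraticMap.polarBilin Q).Nondegenerate) (h2 : (2 : F) ≠ 0)
  (hD : Cfsg.Geo.IsOrthogonalMDecomposition (⇑Q) k D) (hk : 3 ≤ k) (hn : 9 ≤ Fintype.card ι)
  (hk3 : k = 3 → 5 ≤ Fintype.card F) (hM : PermM D M)

include hQ h2 hD hk hn hk3 hM

theorem inner {j : Fin t} {a y : Vec} (ha : a ∈ D j) (hy : y ∈ D j) (hQa : Q a = 0) (hay : B a y = 0) :
    eich a y hQa hay ∈ M := hM _ (Orth.eich_omega hQ (by omega) hQa hay) ⟨1, fun i x hx => by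
  by_cases hij : i = j
  · subst hij
    rw [act_eich]
    exact (D i).sub_mem ((D i).sub_mem ((D i).add_mem hx ((D i).smul_mem _ hy)) ((D i).smul_mem _ ha))
      ((D i).smul_mem _ ha)
  · rw [act_eich_fix hQa hay (Orth.orth_ne hD.decomp hij hx ha) (Orth.orth_ne hD.decomp hij hx hy)]
    exact hx⟩

theorem dir_inner {j : Fin t} {a y : Vec} (ha : a ∈ D j) (hy : y ∈ D j) (hQa : Q a = 0) (hay : B a y = 0) :
    Dir M a y :=
  ⟨hQa, hay, fun s hu hw => inner hQ h2 hD hk hn hk3 hM ha ((D j).smul_mem s hy) hu hw⟩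

theorem dir_eich {u w : Vec} (h : Dir M u w) {j : Fin t} {a y : Vec} (ha : a ∈ D j) (hy : y ∈ D j) (hQa : Q a = 0)
    (hay : B a y = 0) (hua : B u a = 0) (huy : B u y = 0) :
    Dir M u (B w a • y - B w y • a) ∧ Dir M u ((Q y * B w a) • a) := by
  have hd : ∀ s : F, Dir M u (B w a • (s • y) - (s * B w y) • a - (s * s * Q y * B w a) • a) := fun s => by
    have hay' : B a (s • y) = 0 := by rw [QuadraticMap.polar_smul_right, hay, smul_zero]
    have hm := inner hQ h2 hD hk hn hk3 hM ha ((D j).smul_mem s hy) hQa hay'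
    have h1 := h.map hm
    rw [act_eich_fix hQa hay' hua (by rw [QuadraticMap.polar_smul_right, huy, smul_zero])] at h1
    have h3 := h1.sub h
    rwa [act_eich, QuadraticMap.polar_smul_right, Classical.Orth.map_smul', smul_eq_mul,
      show w + B w a • (s • y) - (s * B w y) • a - (s * s * Q y * B w a) • a - w =
        B w a • (s • y) - (s * B w y) • a - (s * s * Q y * B w a) • a by abel] at h3
  constructor
  · have := (hd 1).sub (hd (-1)) |>.smul (2 : F)⁻¹
    convert this using 1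
    match_scalars <;> field_simp <;> ring
  · have := (hd 1).add (hd (-1)) |>.smul (-(2 : F)⁻¹)
    convert this using 1
    match_scalars <;> field_simp <;> ring

/-- a pure singular direction -/
theorem dir_centre {u w : Vec} (h : Dir M u w) {j : Fin t} {a y : Vec} (ha : a ∈ D j) (hy : y ∈ D j) (hQa : Q a = 0)
    (hay : B a y = 0) (hua : B u a = 0) (huy : B u y = 0)
    (hc : (B w a ≠ 0 ∧ Q y ≠ 0) ∨ (B w a = 0 ∧ B w y ≠ 0)) : Dir M u a := by
  obtain ⟨h1, h1'⟩ := dir_eich hQ h2 hD hk hn hk3 hM h ha hy hQa hay hua huy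
  rcases hc with ⟨c1, c2⟩ | ⟨c1, c2⟩
  · have := h1'.smul (Q y * B w a)⁻¹
    rwa [smul_smul, inv_mul_cancel₀ (mul_ne_zero c2 c1), one_smul] at this
  · have := h1.smul (-(B w y))⁻¹
    rw [c1, zero_smul, zero_sub, ← neg_smul, smul_smul, inv_mul_cancel₀ (neg_ne_zero.2 c2), one_smul] at this
    exact this

/-- a root element joining a component to the outside -/
def Out (D : Fin t → Submodule F (ι → F)) (M : Subgroup (Cfsg.isometryGroup F ⇑Q)) : Prop :=
  ∃ j, ∃ b ∈ D j, ∃ ξ, Q b = 0 ∧ b ≠ 0 ∧ ξ ∉ D j ∧ Dir M b ξ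

/-- criterion: a component where the centre vanishes or is singular -/
theorem out_of_sing {u w : Vec} (h : Dir M u w) {j : Fin t} (hu : u ∉ D j) (hz : Q (cmp hD j u) = 0)
    (hw : cmp hD j w ∉ Submodule.span F {cmp hD j u}) : Out D M := by
  set z := cmp hD j u with hzdef
  have hzj : z ∈ D j := cmp_mem hD j u
  have hpair : ∀ {y : Vec}, y ∈ D j → B w y = B (cmp hD j w) y := fun hy => (cmp_pair hD j w hy).symm
  have h3 := three_le hD hk j
  have hnd := nd hD j
  obtain ⟨a, y, ha, hy, ha0, hQa, hay, hza, hzy, hc⟩ : ∃ a y, a ∈ D j ∧ y ∈ D j ∧ a ≠ 0 ∧ Q a = 0 ∧ B a y = 0 ∧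
      B z a = 0 ∧ B z y = 0 ∧ ((B w a ≠ 0 ∧ Q y ≠ 0) ∨ (B w a = 0 ∧ B w y ≠ 0)) := by
    have hwj0 : cmp hD j w ≠ 0 := fun e => hw (e ▸ zero_mem _)
    rcases eq_or_ne z 0 with hz0 | hz0
    · obtain ⟨a, ha, ha0, hQa, hwa⟩ := exists_sing_meet hQ hnd h3 (x := cmp hD j w) (hnd _ (cmp_mem hD j w) hwj0)
      obtain ⟨f, hf, hp⟩ := pair_in hnd ha ha0 hQa
      obtain ⟨y, hy, hay, -, hQy⟩ := exists_nonsing hnd h3 hp ha hf
      exact ⟨a, y, ha, hy, ha0, hQa, hay, by rw [hz0, QuadraticMap.polar_zero_left],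
        by rw [hz0, QuadraticMap.polar_zero_left], Or.inl ⟨by rw [hpair ha]; exact hwa, hQy⟩⟩
    obtain ⟨f, hf, hp⟩ := pair_in hnd hzj hz0 hz
    by_cases hwz : B w z = 0
    swap
    · obtain ⟨y, hy, hay, -, hQy⟩ := exists_nonsing hnd h3 hp hzj hf
      exact ⟨z, y, hzj, hy, hz0, hz, hay, polar_self_zero hz, hay, Or.inl ⟨hwz, hQy⟩⟩
    obtain ⟨y, hy, hzy, hwy⟩ : ∃ y ∈ D j, B z y = 0 ∧ B w y ≠ 0 := by
      by_contra hc
      push Not at hc
      have hd : cmp hD j w - B w f • z ∈ D j := (D j).sub_mem (cmp_mem hD j w) ((D j).smul_mem _ hzj)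
      refine hw (Submodule.mem_span_singleton.2 ⟨B w f, (sub_eq_zero.1 ?_).symm⟩)
      by_contra hd0
      obtain ⟨s, hs, hne⟩ := hnd _ hd hd0
      apply hne
      have := hc (s - B z s • f) ((D j).sub_mem hs ((D j).smul_mem _ hf))
        (by rw [QuadraticMap.polar_sub_right, QuadraticMap.polar_smul_right, hp.huv, smul_eq_mul, mul_one, sub_self])
      rw [QuadraticMap.polar_sub_right, QuadraticMap.polar_smul_right, smul_eq_mul] at this
      rw [QuadraticMap.polar_sub_left, QuadraticMap.polar_smul_left, ← hpair hs, smul_eq_mul]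
      linear_combination this
    exact ⟨z, y, hzj, hy, hz0, hz, hzy, polar_self_zero hz, hzy, Or.inr ⟨hwz, hwy⟩⟩
  have hua : B u a = 0 := by rw [← cmp_pair hD j u ha]; exact hza
  have huy : B u y = 0 := by rw [← cmp_pair hD j u hy]; exact hzy
  exact ⟨j, a, ha, u, hQa, ha0, hu, (dir_centre hQ h2 hD hk hn hk3 hM h ha hy hQa hay hua huy hc).flip hQa⟩

/-- criterion: a component where the centre is non-singular with singular orthogonal vectors -/
theorem out_of_hyp {u w : Vec} (h : Dir M u w) {j : Fin t} (hz : Q (cmp hD j u) ≠ 0) {e : Vec} (he : e ∈ D j)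
    (he0 : e ≠ 0) (hQe : Q e = 0) (hze : B (cmp hD j u) e = 0) (hwe : B w e ≠ 0) : Out D M := by
  set z := cmp hD j u with hzdef
  have hzj : z ∈ D j := cmp_mem hD j u
  have hue : B u e = 0 := by rw [← cmp_pair hD j u he]; exact hze
  have hu' : u ∉ D j := fun hmem => hz (by rw [hzdef, cmp_self hD hmem]; exact h.1)
  have hzz : B z z = 2 * Q z := polar_self' z
  -- the parameters
  obtain ⟨s, y, hs, hy, hey, hzy, hκ⟩ : ∃ s : F, ∃ y, s ≠ 0 ∧ y ∈ D j ∧ B e y = 0 ∧ B z y = -1 ∧
      Q ((s * (B w e)⁻¹) • w) - Q y ≠ 0 := by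
    set y₀ := (-(2 * Q z)⁻¹) • z with hy₀
    have hy₀j : y₀ ∈ D j := (D j).smul_mem _ hzj
    have e0 : B e y₀ = 0 := by rw [hy₀, QuadraticMap.polar_smul_right, QuadraticMap.polar_comm _ e z, hze, smul_zero]
    have z0 : B z y₀ = -1 := by
      rw [hy₀, QuadraticMap.polar_smul_right, hzz, smul_eq_mul, neg_mul, inv_mul_cancel₀ (mul_ne_zero h2 hz)]
    by_cases hk' : k = 3
    · by_contra hc
      push Not at hc
      have h5 := hk3 hk'
      set A := Q ((B w e)⁻¹ • w)
      have hA : ∀ s : F, s ≠ 0 → s * s * A = Q y₀ := fun s hs => by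
        have := sub_eq_zero.1 (hc s y₀ hs hy₀j e0 z0)
        rwa [← smul_smul, Classical.Orth.map_smul'] at this
      have hQy₀ : Q y₀ ≠ 0 := by
        rw [hy₀, Classical.Orth.map_smul']
        exact mul_ne_zero (mul_ne_zero (neg_ne_zero.2 (inv_ne_zero (mul_ne_zero h2 hz)))
          (neg_ne_zero.2 (inv_ne_zero (mul_ne_zero h2 hz)))) hz
      have hA1 := hA 1 one_ne_zero
      rw [one_mul, one_mul] at hA1
      classical
      obtain ⟨s, hs⟩ : (((Finset.univ.erase (0 : F)).erase 1).erase (-1)).Nonempty := by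
        rw [← Finset.card_pos]
        have e1 := Finset.pred_card_le_card_erase (s := (Finset.univ.erase (0 : F)).erase 1) (a := (-1 : F))
        have e2 := Finset.pred_card_le_card_erase (s := Finset.univ.erase (0 : F)) (a := (1 : F))
        have e3 := Finset.pred_card_le_card_erase (s := (Finset.univ : Finset F)) (a := (0 : F))
        rw [Finset.card_univ] at e3
        omega
      simp only [Finset.mem_erase, Finset.mem_univ, and_true] at hs
      have h1 := hA s hs.2.2
      rw [hA1] at h1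
      rcases mul_self_eq_one_iff.1 (mul_right_cancel₀ hQy₀ (h1.trans (one_mul _).symm)) with e' | e'
      · exact hs.2.1 e'
      · exact hs.1 e'
    · let P : Submodule F Vec := D j ⊓ Orth.ker Q z
      have hPnd : ∀ r ∈ P, r ≠ 0 → ∃ x ∈ P, B r x ≠ 0 := fun r hr hr0 => by
        obtain ⟨x, hx, hrx⟩ := nd hD j r hr.1 hr0
        refine ⟨x - (B z x / (2 * Q z)) • z, ⟨(D j).sub_mem hx ((D j).smul_mem _ hzj), ?_⟩, ?_⟩
        · show B z _ = 0
          rw [QuadraticMap.polar_sub_right, QuadraticMap.polar_smul_right, hzz, smul_eq_mul,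
            div_mul_cancel₀ _ (mul_ne_zero h2 hz), sub_self]
        · rw [QuadraticMap.polar_sub_right, QuadraticMap.polar_smul_right, QuadraticMap.polar_comm _ r z,
            show B z r = 0 from hr.2, smul_zero, sub_zero]
          exact hrx
      have hP3 : 3 ≤ Module.finrank F P := by
        have h1 := Orth.finrank_inf_ker hQ (D j) z
        rw [hD.decomp.decomp.finrank_eq] at h1
        show 3 ≤ Module.finrank F ↥(D j ⊓ Orth.ker Q z)
        omega
      obtain ⟨f, hf, hp⟩ := pair_in hPnd (e := e) ⟨he, hze⟩ he0 hQe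
      obtain ⟨p, hpP, hep, -, hQp⟩ := exists_nonsing hPnd hP3 hp ⟨he, hze⟩ hf
      have hy₀p : B y₀ p = 0 := by
        rw [hy₀, QuadraticMap.polar_smul_left, show B z p = 0 from hpP.2, smul_zero]
      by_cases h0 : Q ((1 * (B w e)⁻¹) • w) - Q y₀ = 0
      · refine ⟨1, y₀ + p, one_ne_zero, (D j).add_mem hy₀j hpP.1, by rw [QuadraticMap.polar_add_right, e0, hep, add_zero],
          by rw [QuadraticMap.polar_add_right, z0, show B z p = 0 from hpP.2, add_zero], ?_⟩
        rw [Classical.Orth.map_add', hy₀p, add_zero, ← sub_sub, h0, zero_sub]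
        exact neg_ne_zero.2 hQp
      · exact ⟨1, y₀, one_ne_zero, hy₀j, e0, z0, h0⟩
  set e' := s⁻¹ • e with he'
  have he'j : e' ∈ D j := (D j).smul_mem _ he
  have he'0 : e' ≠ 0 := smul_ne_zero (inv_ne_zero hs) he0
  have hQe' : Q e' = 0 := by rw [he', Classical.Orth.map_smul', hQe, mul_zero]
  set ω := (s * (B w e)⁻¹) • w with hω
  have hωd : Dir M u ω := h.smul _
  have hωe : B ω e' = 1 := by
    rw [hω, he', QuadraticMap.polar_smul_left, QuadraticMap.polar_smul_right, smul_eq_mul, smul_eq_mul]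
    field_simp
  have hey' : B e' y = 0 := by rw [he', QuadraticMap.polar_smul_left, hey, smul_zero]
  have hue' : B u e' = 0 := by rw [he', QuadraticMap.polar_smul_right, hue, smul_zero]
  have huy : B u y = -1 := by rw [← cmp_pair hD j u hy]; exact hzy
  have hd := (hωd.map (inner hQ h2 hD hk hn hk3 hM he'j hy hQe' hey')).map hωd.mem
  have hru : act (eich e' y hQe' hey') u = u + e' := by
    rw [act_eich, hue', huy]
    module
  rw [hru] at hd
  have huu : B u u = 0 := polar_self_zero h.1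
  have hXe : act (eich u ω hωd.1 hωd.2.1) (u + e') = e' := by
    rw [act_eich, QuadraticMap.polar_add_left, QuadraticMap.polar_add_left, huu, QuadraticMap.polar_comm _ e' u, hue',
      hωd.2.1, QuadraticMap.polar_comm _ e' ω, hωe]
    module
  rw [hXe] at hd
  set ξ := act (eich u ω hωd.1 hωd.2.1) (act (eich e' y hQe' hey') ω) with hξ
  have hξe : ξ = y - (B ω y + Q y) • e' - (Q ω - Q y) • u := by
    have r1 : act (eich e' y hQe' hey') ω = ω + y - (B ω y + Q y) • e' := by
      rw [act_eich, hωe]; module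
    rw [hξ, r1, act_eich]
    simp only [QuadraticMap.polar_add_left, QuadraticMap.polar_sub_left, QuadraticMap.polar_smul_left,
      QuadraticMap.polar_comm _ ω u, hωd.2.1, QuadraticMap.polar_comm _ y u, huy, QuadraticMap.polar_comm _ e' u, hue',
      QuadraticMap.polar_comm _ e' ω, hωe, polar_self' ω, QuadraticMap.polar_comm _ y ω, smul_eq_mul]
    module
  refine ⟨j, e', he'j, ξ, hQe', he'0, fun hmem => ?_, hd⟩
  obtain ⟨i, hij, hi⟩ := cmp_of_not_mem hQ hD hu'
  have := cmp_other hD hij hmem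
  rw [hξe] at this
  simp only [he', map_sub, map_smul, cmp_other hD hij hy, cmp_other hD hij he, smul_zero, sub_zero, zero_sub, neg_eq_zero, smul_eq_zero, or_iff_left hi] at this
  exact hκ this

/-- an anisotropic plane of directions -/
theorem plane_dirs {u w : Vec} (h : Dir M u w) {j : Fin t} (h5 : 5 ≤ Fintype.card F)
    (hz : Q (cmp hD j u) ≠ 0) {e f : Vec} (he : e ∈ D j) (hf : f ∈ D j) (hze : B (cmp hD j u) e = 0)
    (hzf : B (cmp hD j u) f = 0) (hef : B e f = 0) (hQe : Q e ≠ 0) (hQf : Q f ≠ 0)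
    (hwe : B w e = 2 * Q e) (hwf : B w f = 0) (hani : ∀ c : F, Q e + c * c * Q f ≠ 0) :
    ∃ α β : F, β ≠ 0 ∧ Dir M u (α • e + β • f) := by
  classical
  obtain ⟨c, hc, hc2⟩ : ∃ c : F, c ≠ 0 ∧ Q e + c * c * Q f ≠ 0 ∧ Q e - c * c * Q f ≠ 0 := by
    by_cases h1 : Q e - Q f = 0
    swap
    · exact ⟨1, one_ne_zero, hani 1, by rw [mul_one, one_mul]; exact h1⟩
    obtain ⟨s, hs⟩ : (((Finset.univ.erase (0 : F)).erase 1).erase (-1)).Nonempty := by
      rw [← Finset.card_pos]
      have e1 := Finset.pred_card_le_card_erase (s := (Finset.univ.erase (0 : F)).erase 1) (a := (-1 : F))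
      have e2 := Finset.pred_card_le_card_erase (s := Finset.univ.erase (0 : F)) (a := (1 : F))
      have e3 := Finset.pred_card_le_card_erase (s := (Finset.univ : Finset F)) (a := (0 : F))
      rw [Finset.card_univ] at e3
      omega
    simp only [Finset.mem_erase, Finset.mem_univ, and_true] at hs
    refine ⟨s, hs.2.2, hani s, fun e' => ?_⟩
    have e9 : (1 - s * s) * Q f = 0 := by linear_combination e' - h1
    rcases mul_eq_zero.1 e9 with e8 | e8
    · exact (mul_self_eq_one_iff.1 (sub_eq_zero.1 e8).symm).elim hs.2.1 hs.1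
    · exact hQf e8
  obtain ⟨hc1, hc2⟩ := hc2
  set v := e + c • f with hv
  have hvj : v ∈ D j := (D j).add_mem he ((D j).smul_mem _ hf)
  have hQv : Q v = Q e + c * c * Q f := by
    rw [hv, Classical.Orth.map_add', Classical.Orth.map_smul', QuadraticMap.polar_smul_right, hef, smul_zero, add_zero]
  set ρ := reflect Q e * reflect Q v * (reflect Q e)⁻¹ * (reflect Q v)⁻¹ with hρ
  have hinv : ∀ x : Vec, (reflect Q x : Iso)⁻¹ = reflect Q x := fun x => inv_eq_of_mul_eq_one_right (reflect_sq x)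
  have hfix : ∀ x, B e x = 0 → B v x = 0 → act ρ x = x := fun x h1 h3 => by
    simp only [hρ, hinv, act_mul, act_reflect, h1, h3, mul_zero, zero_smul, sub_zero]
  have hρΩ : ρ ∈ Cfsg.Omega F ⇑Q := Subgroup.commutator_mem_commutator (Subgroup.mem_top _) (Subgroup.mem_top _)
  have hρM : ρ ∈ M := hM ρ hρΩ ⟨1, fun i x hx => by
    by_cases hij : i = j
    · subst hij
      simp only [hρ, hinv, act_mul, act_reflect, map_sub, map_smul, Equiv.Perm.coe_one, id_eq]
      repeat' first | apply Submodule.sub_mem | apply Submodule.smul_mem | assumption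
    · rw [hfix x (Orth.orth_ne hD.decomp (Ne.symm hij) he hx) (Orth.orth_ne hD.decomp (Ne.symm hij) hvj hx)]
      exact hx⟩
  have hue : B e u = 0 := by rw [← pair_cmp hD j u he, QuadraticMap.polar_comm]; exact hze
  have huv : B v u = 0 := by
    rw [← pair_cmp hD j u hvj, QuadraticMap.polar_comm, hv, QuadraticMap.polar_add_right,
      QuadraticMap.polar_smul_right, hze, hzf, smul_zero, add_zero]
  have h1 := (h.map hρM)
  rw [hfix u hue huv] at h1
  have h3 := h1.sub h
  have hevv : B e v = 2 * Q e := by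
    rw [hv, QuadraticMap.polar_add_right, QuadraticMap.polar_smul_right, hef, smul_zero, add_zero, polar_self']
  have hwv : B v w = 2 * Q e := by
    rw [QuadraticMap.polar_comm, hv, QuadraticMap.polar_add_right, QuadraticMap.polar_smul_right, hwe, hwf, smul_zero,
      add_zero]
  have hve : B v e = 2 * Q e := by rw [QuadraticMap.polar_comm, hevv]
  have hew : B e w = 2 * Q e := by rw [QuadraticMap.polar_comm, hwe]
  have hvv : B v v = 2 * Q v := polar_self' v
  have e4 : ∃ α : F, act ρ w - w = α • e + (-(4 * Q e * c * (Q e - c * c * Q f) / (Q v * Q v))) • f := by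
    refine ⟨-8 * (Q e / Q v) + 8 * (Q e / Q v) * (Q e / Q v), ?_⟩
    simp only [hρ, hinv, act_mul, act_reflect, QuadraticMap.polar_sub_right, QuadraticMap.polar_smul_right, hwv, hve,
      hew, hevv, hvv, polar_self' e, smul_eq_mul]
    obtain ⟨q, hq⟩ : ∃ q, q = Q v := ⟨_, rfl⟩
    have hq0 : q ≠ 0 := by rw [hq, hQv]; exact hc1
    have hqe : q = Q e + c * c * Q f := hq.trans hQv
    simp only [← hq]
    rw [show v = e + c • f from hv]
    match_scalars <;> field_simp <;> (try rw [hqe]) <;> ring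
  obtain ⟨α, e4⟩ := e4
  refine ⟨α, _, ?_, e4 ▸ h3⟩
  refine neg_ne_zero.2 (div_ne_zero (mul_ne_zero (mul_ne_zero (mul_ne_zero ?_ hQe) hc) hc2) (mul_ne_zero (hQv ▸ hc1) (hQv ▸ hc1)))
  rw [show (4 : F) = 2 * 2 by norm_num]
  exact mul_ne_zero h2 h2

/-- criterion: any component where the direction is not proportional to the centre -/
theorem out_of_rich {u w : Vec} (h : Dir M u w) {j : Fin t} (hu : u ∉ D j)
    (hw : cmp hD j w ∉ Submodule.span F {cmp hD j u}) : Out D M := by
  by_cases hz : Q (cmp hD j u) = 0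
  · exact out_of_sing hQ h2 hD hk hn hk3 hM h hu hz hw
  set z := cmp hD j u with hzdef
  have hzj : z ∈ D j := cmp_mem hD j u
  by_cases hhyp : ∃ e ∈ D j, e ≠ 0 ∧ Q e = 0 ∧ B z e = 0 ∧ B w e ≠ 0
  · obtain ⟨e, he, he0, hQe, hze, hwe⟩ := hhyp
    exact out_of_hyp hQ h2 hD hk hn hk3 hM h hz he he0 hQe hze hwe
  push Not at hhyp
  let P : Submodule F Vec := D j ⊓ Orth.ker Q z
  have hzz : B z z = 2 * Q z := polar_self' z
  have hPnd : ∀ r ∈ P, r ≠ 0 → ∃ x ∈ P, B r x ≠ 0 := fun r hr hr0 => by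
    obtain ⟨x, hx, hrx⟩ := nd hD j r hr.1 hr0
    refine ⟨x - (B z x / (2 * Q z)) • z, ⟨(D j).sub_mem hx ((D j).smul_mem _ hzj), ?_⟩, ?_⟩
    · show B z _ = 0
      rw [QuadraticMap.polar_sub_right, QuadraticMap.polar_smul_right, hzz, smul_eq_mul,
        div_mul_cancel₀ _ (mul_ne_zero h2 hz), sub_self]
    · rw [QuadraticMap.polar_sub_right, QuadraticMap.polar_smul_right, QuadraticMap.polar_comm _ r z,
        show B z r = 0 from hr.2, smul_zero, sub_zero]
      exact hrx
  set p := cmp hD j w - (B z w / (2 * Q z)) • z with hp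
  have hpj : p ∈ D j := (D j).sub_mem (cmp_mem hD j w) ((D j).smul_mem _ hzj)
  have hzp : B z p = 0 := by
    rw [hp, QuadraticMap.polar_sub_right, QuadraticMap.polar_smul_right, pair_cmp hD j w hzj, hzz, smul_eq_mul,
      div_mul_cancel₀ _ (mul_ne_zero h2 hz), sub_self]
  have hp0 : p ≠ 0 := fun e => hw (Submodule.mem_span_singleton.2 ⟨_, (sub_eq_zero.1 e).symm⟩)
  have hpw : ∀ x ∈ P, B p x = B w x := fun x hx => by
    rw [hp, QuadraticMap.polar_sub_left, QuadraticMap.polar_smul_left, show B z x = 0 from hx.2, smul_zero, sub_zero,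
      cmp_pair hD j w hx.1]
  have hno : ∀ e ∈ P, Q e = 0 → e = 0 := by
    intro e he hQe
    by_contra he0
    obtain ⟨f, hf, hef⟩ := pair_in hPnd he he0 hQe
    obtain ⟨x, hx, hpx⟩ := hPnd p ⟨hpj, hzp⟩ hp0
    refine hpx (Orth.sing_span hef he hf (T := Orth.ker Q p) (fun a ha hQa => ?_) hx)
    show B p a = 0
    rcases eq_or_ne a 0 with rfl | ha0
    · exact QuadraticMap.polar_zero_right _ _
    · rw [hpw a ha, hhyp a ha.1 ha0 hQa ha.2]
  have hk' : k = 3 := by
    by_contra hk'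
    have h1 := Orth.finrank_inf_ker hQ (D j) z
    rw [hD.decomp.decomp.finrank_eq] at h1
    obtain ⟨e, he, he0, hQe⟩ := Orth.exists_sing hQ (S := P) (show 3 ≤ Module.finrank F ↥(D j ⊓ Orth.ker Q z) by omega)
    exact he0 (hno e he hQe)
  have h5 := hk3 hk'
  have hQp : Q p ≠ 0 := fun e => hp0 (hno p ⟨hpj, hzp⟩ e)
  -- an orthogonal basis
  obtain ⟨f, hfP, hpf, hf0⟩ : ∃ f ∈ P, B p f = 0 ∧ f ≠ 0 := by
    obtain ⟨f, hf, hf0, hff⟩ := OrthPair.exists_ne_zero_ker ![polB Q z, polB Q p] (V := D j)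
      (by rw [hD.decomp.decomp.finrank_eq]; omega)
    exact ⟨f, ⟨hf, hff 0⟩, hff 1, hf0⟩
  have hQf : Q f ≠ 0 := fun e => hf0 (hno f hfP e)
  have hani : ∀ x ∈ P, ∀ y ∈ P, B x y = 0 → Q x ≠ 0 → ∀ c : F, Q x + c * c * Q y ≠ 0 := by
    intro x hx y hy hxy hQx c e0
    have e1 := hno (x + c • y) (P.add_mem hx (P.smul_mem c hy)) (by
      rw [Classical.Orth.map_add', Classical.Orth.map_smul', QuadraticMap.polar_smul_right, hxy, smul_zero, add_zero,
        e0])
    have e2 := congrArg (fun z => B x z) e1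
    simp only [QuadraticMap.polar_add_right, QuadraticMap.polar_smul_right, hxy, smul_zero, add_zero,
      QuadraticMap.polar_zero_right, polar_self'] at e2
    exact mul_ne_zero h2 hQx e2
  obtain ⟨α, β, hβ, hd⟩ := plane_dirs hQ h2 hD hk hn hk3 hM h h5 hz hpj hfP.1 hzp hfP.2 hpf hQp hQf
    (by rw [← hpw p ⟨hpj, hzp⟩, polar_self']) (by rw [← hpw f hfP, hpf]) (hani p ⟨hpj, hzp⟩ f hfP hpf hQp)
  set d := α • p + β • f with hddef
  have hdj : d ∈ D j := (D j).add_mem ((D j).smul_mem _ hpj) ((D j).smul_mem _ hfP.1)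
  have hdP : d ∈ P := P.add_mem (P.smul_mem _ ⟨hpj, hzp⟩) (P.smul_mem _ hfP)
  have hd0 : d ≠ 0 := fun e => hβ (by
    have h1 := congrArg (fun x => B f x) e
    simp only [hddef, QuadraticMap.polar_add_right, QuadraticMap.polar_smul_right, QuadraticMap.polar_comm _ f p, hpf,
      polar_self', smul_eq_mul, mul_zero, zero_add, QuadraticMap.polar_zero_right] at h1
    exact (mul_eq_zero.1 h1).resolve_right (mul_ne_zero h2 hQf))
  have hQd : Q d ≠ 0 := fun e => hd0 (hno d hdP e)
  obtain ⟨d', hd'P, hdd', hd'0⟩ : ∃ d' ∈ P, B d d' = 0 ∧ d' ≠ 0 := by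
    obtain ⟨f', hf', hf'0, hff⟩ := OrthPair.exists_ne_zero_ker ![polB Q z, polB Q d] (V := D j)
      (by rw [hD.decomp.decomp.finrank_eq]; omega)
    exact ⟨f', ⟨hf', hff 0⟩, hff 1, hf'0⟩
  have hQd' : Q d' ≠ 0 := fun e => hd'0 (hno d' hd'P e)
  obtain ⟨α', β', hβ', hd'⟩ := plane_dirs hQ h2 hD hk hn hk3 hM hd h5 hz hdj hd'P.1 hdP.2 hd'P.2 hdd' hQd hQd'
    (polar_self' d) hdd' (hani d hdP d' hd'P hdd' hQd)
  have hdd : Dir M u d' := by
    have := (hd'.sub (hd.smul α')).smul β'⁻¹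
    rwa [add_sub_cancel_left, inv_smul_smul₀ hβ'] at this
  -- a second component with non-singular centre
  obtain ⟨l, hlj, hQl⟩ : ∃ l, l ≠ j ∧ Q (cmp hD l u) ≠ 0 := by
    by_contra hc
    push Not at hc
    have hsum : ∀ s : Finset (Fin t), Q (∑ i ∈ s, cmp hD i u) = ∑ i ∈ s, Q (cmp hD i u) := by
      intro s
      induction s using Finset.induction with
      | empty => simp
      | insert i s hi ih =>
        rw [Finset.sum_insert hi, Finset.sum_insert hi, Classical.Orth.map_add', ih]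
        have : B (cmp hD i u) (∑ x ∈ s, cmp hD x u) = 0 := by
          rw [← polB_apply, map_sum]
          exact Finset.sum_eq_zero fun x hx => Orth.orth_ne hD.decomp (fun e : i = x => hi (e ▸ hx))
            (cmp_mem hD i u) (cmp_mem hD x u)
        rw [this, add_zero]
    have h0 := hsum Finset.univ
    rw [sum_cmp hQ hD, h.1, Finset.sum_eq_single j (fun i _ hij => hc i hij) (fun e => absurd (Finset.mem_univ j) e)] at h0
    exact hz h0.symm
  set ul := cmp hD l u with huldef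
  have hulj : ul ∈ D l := cmp_mem hD l u
  obtain ⟨a₁, b₁, hab⟩ : ∃ a b : F, Q d * (a * a) + Q d' * (b * b) = (Q ul)⁻¹ := by
    obtain ⟨a, b, hab⟩ := FiniteField.exists_root_sum_quadratic
      (f := Polynomial.C (Q d) * Polynomial.X ^ 2 - Polynomial.C (Q ul)⁻¹)
      (g := Polynomial.C (Q d') * Polynomial.X ^ 2)
      (by compute_degree!) (by compute_degree!)
      (FiniteField.odd_card_of_char_ne_two fun h => h2 (by have : CharP F 2 := h ▸ ringChar.charP F; exact CharTwo.two_eq_zero))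
    simp only [Polynomial.eval_sub, Polynomial.eval_mul, Polynomial.eval_C, Polynomial.eval_pow, Polynomial.eval_X] at hab
    exact ⟨a, b, by linear_combination hab⟩
  set y := a₁ • d + b₁ • d' with hy
  have hyd : Dir M u y := (hd.smul a₁).add (hdd.smul b₁)
  have hyP : y ∈ P := P.add_mem (P.smul_mem _ hdP) (P.smul_mem _ hd'P)
  have hQy : Q y = (Q ul)⁻¹ := by
    rw [hy, Classical.Orth.map_add', Classical.Orth.map_smul', Classical.Orth.map_smul', QuadraticMap.polar_smul_left,
      QuadraticMap.polar_smul_right, hdd', smul_zero, smul_zero, add_zero, ← hab]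
    ring
  have hul0 : ul ≠ 0 := fun e => hQl (by rw [e, QuadraticMap.map_zero])
  obtain ⟨a', ha', ha'0, hQa', hua'⟩ := exists_sing_meet hQ (nd hD l) (three_le hD hk l) (x := ul)
    (nd hD l ul hulj hul0)
  obtain ⟨y', hy', hy'0, hyf⟩ := OrthPair.exists_ne_zero_ker ![polB Q a', polB Q ul] (V := D l)
    (by rw [hD.decomp.decomp.finrank_eq]; omega)
  have g0 : B a' y' = 0 := hyf 0
  have g1 : B ul y' = 0 := hyf 1
  have hd2 := (dir_inner hQ h2 hD hk hn hk3 hM ha' hy' hQa' g0).map hyd.mem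
  have hya' : B a' y = 0 := Orth.orth_ne hD.decomp hlj ha' hyP.1
  have hy'y : B y' y = 0 := Orth.orth_ne hD.decomp hlj hy' hyP.1
  have hy'u : B y' u = 0 := by rw [← pair_cmp hD l u hy', ← huldef, QuadraticMap.polar_comm, g1]
  rw [act_eich _ _ y', act_eich _ _ a', hy'y, hy'u, hya'] at hd2
  simp only [zero_smul, add_zero, mul_zero, sub_zero] at hd2
  set γ := B a' u with hγ
  have hγl : B a' ul = γ := by rw [huldef, pair_cmp hD l u ha']
  have hγ0 : γ ≠ 0 := by
    rw [← hγl, QuadraticMap.polar_comm]; exact hua'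
  have hcl : cmp hD l (a' + γ • y - (Q y * γ) • u) = a' - (Q y * γ) • ul := by
    rw [map_sub, map_add, map_smul, map_smul, cmp_self hD ha', cmp_other hD hlj hyP.1, smul_zero, add_zero, huldef]
  refine out_of_sing hQ h2 hD hk hn hk3 hM hd2 (j := l) (fun hmem => ?_) ?_ ?_
  · have := cmp_other hD (Ne.symm hlj) hmem
    rw [map_sub, map_add, map_smul, map_smul, cmp_other hD (Ne.symm hlj) ha', cmp_self hD hyP.1, zero_add,
      ← hzdef] at this
    have h1 := congrArg (fun x => B z x) this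
    simp only [QuadraticMap.polar_sub_right, QuadraticMap.polar_smul_right, show B z y = 0 from hyP.2, hzz,
      smul_eq_mul, mul_zero, zero_sub, QuadraticMap.polar_zero_right, neg_eq_zero, hQy] at h1
    exact mul_ne_zero (mul_ne_zero (inv_ne_zero hQl) hγ0) (mul_ne_zero h2 hz) h1
  · rw [hcl, Classical.Orth.map_sub', Classical.Orth.map_smul', QuadraticMap.polar_smul_right, hγl, hQa', hQy,
      smul_eq_mul]
    field_simp
    ring
  · rw [hcl, cmp_self hD hy']
    intro hmem
    obtain ⟨c, hc⟩ := Submodule.mem_span_singleton.1 hmem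
    have h1 := congrArg (fun x => B x ul) hc
    simp only [QuadraticMap.polar_smul_left, QuadraticMap.polar_sub_left, hγl, polar_self', hQy,
      QuadraticMap.polar_comm _ y' ul, g1, smul_eq_mul] at h1
    field_simp at h1
    rcases mul_eq_zero.1 (show c * γ = 0 by linear_combination -h1) with hc0 | hc0
    · exact hy'0 (by rw [← hc, hc0, zero_smul])
    · exact hγ0 hc0

/-- the start -/
theorem exists_out {g : Iso} (hg : g ∈ M) (hgs : ¬ ∃ σ : Equiv.Perm (Fin t), ∀ i, ∀ x ∈ D i, act g x ∈ D (σ i)) :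
    Out D M := by
  obtain ⟨i, a, ha, ha0, hQa, hga⟩ : ∃ i, ∃ a ∈ D i, a ≠ 0 ∧ Q a = 0 ∧ ∀ j, act g a ∉ D j := by
    by_contra hc
    push Not at hc
    have hblock : ∀ i, ∃ j, ∀ x ∈ D i, act g x ∈ D j := by
      intro i
      obtain ⟨e, f, he, hf, hp⟩ := Orth.exists_pair hQ (nd hD i) (three_le hD hk i)
      obtain ⟨j, hj⟩ := hc i e he hp.ne_zero.1 hp.hu
      refine ⟨j, fun x hx => ?_⟩
      have hfj : act g f ∈ D j := by
        obtain ⟨j', hj'⟩ := hc i f hf hp.ne_zero.2 hp.hv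
        rwa [Orth.index_of_pair hD.decomp hj hj' (by rw [act_polar, hp.huv]; exact one_ne_zero)]
      refine Orth.sing_span (T := (D j).comap (act g)) hp he hf (fun v hv hQv => ?_) hx
      rcases eq_or_ne v 0 with rfl | hv0
      · exact zero_mem _
      obtain ⟨l, hl⟩ := hc i v hv hv0 hQv
      by_cases hev : B e v = 0
      swap
      · show act g v ∈ D j
        rwa [Orth.index_of_pair hD.decomp hj hl (by rw [act_polar]; exact hev)]
      by_cases hfv : B f v = 0
      swap
      · show act g v ∈ D j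
        rwa [Orth.index_of_pair hD.decomp hfj hl (by rw [act_polar]; exact hfv)]
      -- orthogonal to the pair
      obtain ⟨l', hl'⟩ := hc i (e + v) ((D i).add_mem he hv)
        (fun e0 => by
          have := congrArg (fun x => B x f) e0
          simp only [QuadraticMap.polar_add_left, hp.huv, QuadraticMap.polar_comm _ v f, hfv, add_zero,
            QuadraticMap.polar_zero_left] at this
          exact one_ne_zero this)
        (by rw [Classical.Orth.map_add', hp.hu, hQv, hev, add_zero, add_zero])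
      have hjl : j = l' := Orth.index_of_pair hD.decomp hfj hl' (by
        rw [act_polar, QuadraticMap.polar_add_right, hfv, add_zero, hp.hvu]; exact one_ne_zero)
      rw [map_add] at hl'
      show act g v ∈ D j
      have := (D j).sub_mem (hjl ▸ hl') hj
      rwa [add_sub_cancel_left] at this
    choose σ hσ using hblock
    have hsurj : Function.Surjective σ := by
      intro j
      by_contra hno
      push Not at hno
      obtain ⟨x, hx, hx0⟩ := Submodule.exists_mem_ne_zero_of_ne_bot (p := D j) fun e => by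
        have := hD.decomp.decomp.finrank_eq j
        rw [e, finrank_bot] at this
        omega
      have hz : ∀ y, B x (act g y) = 0 := fun y => by
        have hle : iSup D ≤ (Orth.ker Q x).comap (act g) :=
          iSup_le fun i z hz => Orth.orth_ne hD.decomp (Ne.symm (hno i)) hx (hσ i z hz)
        exact hle (hD.decomp.decomp.iSup_eq_top ▸ Submodule.mem_top)
      refine hx0 (hQ.1 x fun y => ?_)
      obtain ⟨y', rfl⟩ : ∃ y', act g y' = y := ⟨act g⁻¹ y, act_cancel_inv g y⟩
      exact hz y'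
    exact hgs ⟨Equiv.ofBijective σ ((Finite.surjective_iff_bijective).1 hsurj), hσ⟩
  obtain ⟨f, hf, hp⟩ := pair_in (nd hD i) ha ha0 hQa
  obtain ⟨y, hy, hay, -, hQy⟩ := exists_nonsing (nd hD i) (three_le hD hk i) hp ha hf
  have h := (dir_inner hQ h2 hD hk hn hk3 hM ha hy hQa hay).map hg
  set u := act g a with hu
  set w := act g y with hw
  by_cases hrich : ∃ j, cmp hD j w ∉ Submodule.span F {cmp hD j u}
  · obtain ⟨j, hj⟩ := hrich
    exact out_of_rich hQ h2 hD hk hn hk3 hM h (hga j) hj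
  push Not at hrich
  choose lam hlam using fun j => Submodule.mem_span_singleton.1 (hrich j)
  obtain ⟨j, l, hjl, hj0, hl0, hne⟩ : ∃ j l, j ≠ l ∧ cmp hD j u ≠ 0 ∧ cmp hD l u ≠ 0 ∧ lam l - lam j - Q w ≠ 0 := by
    by_contra hc
    push Not at hc
    obtain ⟨j, hj⟩ : ∃ j, cmp hD j u ≠ 0 := by
      by_contra hc0
      push Not at hc0
      exact ha0 (act_injective g ((cmp_ext hQ hD hc0).trans (map_zero _).symm))
    obtain ⟨l, hlj, hl⟩ := cmp_of_not_mem hQ hD (hga j)
    have e1 := hc j l (Ne.symm hlj) hj hl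
    have e2 := hc l j hlj hl hj
    exact hQy (by
      have : (2 : F) * Q w = 0 := by linear_combination -e1 - e2
      rw [hw, act_map] at this
      exact (mul_eq_zero.1 this).resolve_left h2)
  obtain ⟨a', ha', ha'0, hQa', hua'⟩ := exists_sing_meet hQ (nd hD j) (three_le hD hk j) (x := cmp hD j u)
    (nd hD j _ (cmp_mem hD j u) hj0)
  obtain ⟨y', hy', hy'0, hyf⟩ := OrthPair.exists_ne_zero_ker ![polB Q a', polB Q (cmp hD j u)] (V := D j)
    (by rw [hD.decomp.decomp.finrank_eq]; omega)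
  have g0 : B a' y' = 0 := hyf 0
  have g1 : B (cmp hD j u) y' = 0 := hyf 1
  have hy'u : B y' u = 0 := by rw [← pair_cmp hD j u hy', QuadraticMap.polar_comm, g1]
  have hy'w : B y' w = 0 := by
    rw [← pair_cmp hD j w hy', ← hlam, QuadraticMap.polar_smul_right, QuadraticMap.polar_comm, g1, smul_zero]
  have hd2 := (dir_inner hQ h2 hD hk hn hk3 hM ha' hy' hQa' g0).map h.mem
  rw [act_eich _ _ y', act_eich _ _ a', hy'u, hy'w] at hd2
  simp only [zero_smul, add_zero, mul_zero, sub_zero] at hd2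
  set γ := B a' u with hγ
  have hγj : B a' (cmp hD j u) = γ := pair_cmp hD j u ha'
  have hγ0 : γ ≠ 0 := by rw [← hγj, QuadraticMap.polar_comm]; exact hua'
  have ha'w : B a' w = lam j * γ := by
    rw [← pair_cmp hD j w ha', ← hlam, QuadraticMap.polar_smul_right, hγj, smul_eq_mul]
  have hcj : cmp hD j (a' + γ • w - B a' w • u - (Q w * γ) • u) = a' - (Q w * γ) • cmp hD j u := by
    rw [map_sub, map_sub, map_add, map_smul, map_smul, map_smul, cmp_self hD ha', ← hlam j, ha'w]
    module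
  refine out_of_rich hQ h2 hD hk hn hk3 hM hd2 (j := j) (fun hmem => ?_) ?_
  · have := cmp_other hD (Ne.symm hjl) hmem
    rw [map_sub, map_sub, map_add, map_smul, map_smul, map_smul, cmp_other hD (Ne.symm hjl) ha', ← hlam l, ha'w,
      zero_add, smul_smul, ← sub_smul, ← sub_smul, smul_eq_zero, or_iff_left hl0] at this
    exact mul_ne_zero hγ0 hne (by linear_combination this)
  · rw [hcj, cmp_self hD hy']
    intro hmem
    obtain ⟨c, hc⟩ := Submodule.mem_span_singleton.1 hmem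
    have h1 := congrArg (fun x => B x a') hc
    simp only [QuadraticMap.polar_smul_left, QuadraticMap.polar_sub_left, polar_self_zero hQa',
      QuadraticMap.polar_comm _ (cmp hD j u) a', hγj, QuadraticMap.polar_comm _ y' a', g0, smul_eq_mul] at h1
    rcases mul_eq_zero.1 (show c * (Q w * γ * γ) = 0 by linear_combination -h1) with hc0 | hc0
    · exact hy'0 (by rw [← hc, hc0, zero_smul])
    · exact mul_ne_zero (mul_ne_zero (by rw [hw, act_map]; exact hQy) hγ0) hγ0 hc0

/-- filling a component -/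
theorem fill {a x : Vec} (h : Dir M a x) {i : Fin t} (hx : cmp hD i x ≠ 0) (hai : ∀ v ∈ D i, B a v = 0) :
    ∀ v ∈ D i, Dir M a v := by
  have hnd := nd hD i
  have h3 := three_le hD hk i
  obtain ⟨e, he, he0, hQe, hxe'⟩ := exists_sing_meet hQ hnd h3 (x := cmp hD i x) (hnd _ (cmp_mem hD i x) hx)
  have hxe : B x e ≠ 0 := by rwa [← cmp_pair hD i x he]
  -- one singular vector gives its orthogonal space
  have step : ∀ {x : Vec}, Dir M a x → ∀ {e : Vec}, e ∈ D i → e ≠ 0 → Q e = 0 → B x e ≠ 0 →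
      ∀ y ∈ D i, B e y = 0 → Dir M a y := by
    intro x h e he he0 hQe hxe y hy hey
    obtain ⟨f, hf, hp⟩ := pair_in hnd he he0 hQe
    obtain ⟨y₀, hy₀, hey₀, -, hQy₀⟩ := exists_nonsing hnd h3 hp he hf
    have hea := dir_centre hQ h2 hD hk hn hk3 hM h he hy₀ hQe hey₀ (hai e he) (hai y₀ hy₀) (Or.inl ⟨hxe, hQy₀⟩)
    have h1 := ((dir_eich hQ h2 hD hk hn hk3 hM h he hy hQe hey (hai e he) (hai y hy)).1.add
      (hea.smul (B x y))).smul (B x e)⁻¹
    rwa [sub_add_cancel, inv_smul_smul₀ hxe] at h1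
  obtain ⟨f, hf, hp⟩ := pair_in hnd he he0 hQe
  obtain ⟨y₀, hy₀, hey₀, -, hQy₀⟩ := exists_nonsing hnd h3 hp he hf
  have hy₀0 : y₀ ≠ 0 := fun e0 => hQy₀ (by rw [e0, QuadraticMap.map_zero])
  obtain ⟨e', he', he'0, hQe', hye'⟩ := exists_sing_meet hQ hnd h3 (x := y₀) (hnd y₀ hy₀ hy₀0)
  have hdy₀ := step h he he0 hQe hxe y₀ hy₀ hey₀
  obtain ⟨p, hp', hep⟩ : ∃ p ∈ D i, B e' p = 0 ∧ B e p ≠ 0 := by
    by_contra hc
    push Not at hc
    obtain ⟨f', hf', hp''⟩ := pair_in hnd he' he'0 hQe'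
    have hd : e - B e f' • e' ∈ D i := (D i).sub_mem he ((D i).smul_mem _ he')
    have he1 : e = B e f' • e' := sub_eq_zero.1 (by
      by_contra hd0
      obtain ⟨s, hs, hne⟩ := hnd _ hd hd0
      apply hne
      have := hc (s - B e' s • f') ((D i).sub_mem hs ((D i).smul_mem _ hf'))
        (by rw [QuadraticMap.polar_sub_right, QuadraticMap.polar_smul_right, hp''.huv, smul_eq_mul, mul_one, sub_self])
      rw [QuadraticMap.polar_sub_right, QuadraticMap.polar_smul_right, smul_eq_mul] at this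
      rw [QuadraticMap.polar_sub_left, QuadraticMap.polar_smul_left, smul_eq_mul]
      linear_combination this)
    have hz : B y₀ e = B e f' * B y₀ e' := by
      conv_lhs => rw [he1]
      rw [QuadraticMap.polar_smul_right, smul_eq_mul]
    rw [QuadraticMap.polar_comm _ y₀ e, hey₀] at hz
    rcases mul_eq_zero.1 hz.symm with h0 | h0
    · exact he0 (by rw [he1, h0, zero_smul])
    · exact hye' h0
  intro v hv
  have hc := step hdy₀ he' he'0 hQe' hye' p hp' hep.1
  have hr := step h he he0 hQe hxe (v - (B e v / B e p) • p) ((D i).sub_mem hv ((D i).smul_mem _ hp'))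
    (by rw [QuadraticMap.polar_sub_right, QuadraticMap.polar_smul_right, smul_eq_mul, div_mul_cancel₀ _ hep.2, sub_self])
  have := hr.add (hc.smul (B e v / B e p))
  rwa [sub_add_cancel] at this

theorem exists_linked (ho : Out D M) : ∃ i j, i ≠ j ∧ Linked D M i j ∧ Linked D M j i := by
  obtain ⟨j, b, hb, ξ, hQb, hb0, hξ, hd⟩ := ho
  obtain ⟨i, hij, hi⟩ := cmp_of_not_mem hQ hD hξ
  have hbi : ∀ v ∈ D i, B b v = 0 := fun v hv => Orth.orth_ne hD.decomp (Ne.symm hij) hb hv
  have h1 := fill hQ h2 hD hk hn hk3 hM hd hi hbi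
  have h2' : Linked D M i j := fun a ha hQa ha0 => by
    refine fill hQ h2 hD hk hn hk3 hM ((h1 a ha).flip hQa) (i := j) ?_
      (fun v hv => Orth.orth_ne hD.decomp hij ha hv)
    rw [cmp_self hD hb]; exact hb0
  refine ⟨i, j, hij, h2', fun b' hb' hQb' hb'0 x hx => ?_⟩
  obtain ⟨a, f, ha, hf, hp⟩ := Orth.exists_pair hQ (nd hD i) (three_le hD hk i)
  refine fill hQ h2 hD hk hn hk3 hM ((h2' a ha hp.hu hp.ne_zero.1 b' hb').flip hQb') (i := i) ?_
    (fun v hv => Orth.orth_ne hD.decomp (Ne.symm hij) hb' hv) x hx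
  rw [cmp_self hD ha]; exact hp.ne_zero.1

theorem exists_swap {a b : Fin t} (hab : a ≠ b) :
    ∃ g : Iso, (∀ x ∈ D a, act g x ∈ D b) ∧ (∀ x ∈ D b, act g x ∈ D a) ∧
      ∀ c, c ≠ a → c ≠ b → ∀ x ∈ D c, act g x = x := by
  obtain ⟨e, he⟩ := hD.isometric a b
  let E : Vec →ₗ[F] Vec := (D b).subtype.comp (e.toLinearMap.comp ((cmp hD a).codRestrict (D a) (cmp_mem hD a)))
  let E' : Vec →ₗ[F] Vec := (D a).subtype.comp (e.symm.toLinearMap.comp ((cmp hD b).codRestrict (D b) (cmp_mem hD b)))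
  let L : Vec →ₗ[F] Vec := LinearMap.id - cmp hD a - cmp hD b + E + E'
  have hEmem : ∀ x, E x ∈ D b := fun x => (e _).2
  have hE'mem : ∀ x, E' x ∈ D a := fun x => (e.symm _).2
  have hca : ∀ x, cmp hD a (L x) = E' x := fun x => by
    simp only [L, LinearMap.add_apply, LinearMap.sub_apply, LinearMap.id_apply, map_add, map_sub,
      cmp_self hD (cmp_mem hD a x), cmp_other hD hab (cmp_mem hD b x), cmp_other hD hab (hEmem x),
      cmp_self hD (hE'mem x)]
    abel
  have hcb : ∀ x, cmp hD b (L x) = E x := fun x => by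
    simp only [L, LinearMap.add_apply, LinearMap.sub_apply, LinearMap.id_apply, map_add, map_sub,
      cmp_other hD hab.symm (cmp_mem hD a x), cmp_self hD (cmp_mem hD b x), cmp_self hD (hEmem x),
      cmp_other hD hab.symm (hE'mem x)]
    abel
  have hLL : ∀ x, L (L x) = x := fun x => by
    have e1 : E (L x) = cmp hD b x := by
      show ((e ((cmp hD a).codRestrict (D a) (cmp_mem hD a) (L x)) : D b) : Vec) = _
      have : (cmp hD a).codRestrict (D a) (cmp_mem hD a) (L x) =
          e.symm ((cmp hD b).codRestrict (D b) (cmp_mem hD b) x) := Subtype.ext (hca x)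
      rw [this, e.apply_symm_apply]
      rfl
    have e2 : E' (L x) = cmp hD a x := by
      show ((e.symm ((cmp hD b).codRestrict (D b) (cmp_mem hD b) (L x)) : D a) : Vec) = _
      have : (cmp hD b).codRestrict (D b) (cmp_mem hD b) (L x) =
          e ((cmp hD a).codRestrict (D a) (cmp_mem hD a) x) := Subtype.ext (hcb x)
      rw [this, e.symm_apply_apply]
      rfl
    show L x - cmp hD a (L x) - cmp hD b (L x) + E (L x) + E' (L x) = x
    rw [hca, hcb, e1, e2]
    simp only [L, LinearMap.add_apply, LinearMap.sub_apply, LinearMap.id_apply]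
    abel
  let Le : Vec ≃ₗ[F] Vec := LinearEquiv.ofLinearMap L L (LinearMap.ext hLL) (LinearMap.ext hLL)
  have hQE : ∀ x, Q (E x) = Q (cmp hD a x) := fun x => he _
  have hQE' : ∀ x, Q (E' x) = Q (cmp hD b x) := fun x => by
    have := he (e.symm ((cmp hD b).codRestrict (D b) (cmp_mem hD b) x))
    rw [e.apply_symm_apply] at this
    exact this.symm
  have hiso : ∀ x, Q (Le x) = Q x := fun x => by
    show Q (L x) = Q x
    set r := x - cmp hD a x - cmp hD b x with hr
    have hra : ∀ y ∈ D a, B r y = 0 := fun y hy => by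
      rw [hr, QuadraticMap.polar_sub_left, QuadraticMap.polar_sub_left, cmp_pair hD a x hy,
        Orth.orth_ne hD.decomp hab.symm (cmp_mem hD b x) hy, sub_self, zero_sub, neg_zero]
    have hrb : ∀ y ∈ D b, B r y = 0 := fun y hy => by
      rw [hr, QuadraticMap.polar_sub_left, QuadraticMap.polar_sub_left, cmp_pair hD b x hy,
        Orth.orth_ne hD.decomp hab (cmp_mem hD a x) hy, sub_zero, sub_self]
    have eL : L x = r + E x + E' x := rfl
    have ex : x = r + cmp hD a x + cmp hD b x := by rw [hr]; abel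
    rw [eL]
    conv_rhs => rw [ex]
    simp only [Classical.Orth.map_add', QuadraticMap.polar_add_left, hrb _ (hEmem x), hra _ (hE'mem x),
      hra _ (cmp_mem hD a x), hrb _ (cmp_mem hD b x), Orth.orth_ne hD.decomp hab.symm (hEmem x) (hE'mem x),
      Orth.orth_ne hD.decomp hab (cmp_mem hD a x) (cmp_mem hD b x), hQE, hQE']
  have hact : ∀ x, act (isoOfEquiv ⇑Q Le hiso) x = L x := fun x => by
    rw [act_apply]
    exact isoOfEquiv_mulVec _ _ _ _
  have hE0 : ∀ x, cmp hD a x = 0 → E x = 0 := fun x hx => by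
    show ((e ((cmp hD a).codRestrict (D a) (cmp_mem hD a) x) : D b) : Vec) = 0
    rw [show (cmp hD a).codRestrict (D a) (cmp_mem hD a) x = 0 from Subtype.ext hx, map_zero, ZeroMemClass.coe_zero]
  have hE'0 : ∀ x, cmp hD b x = 0 → E' x = 0 := fun x hx => by
    show ((e.symm ((cmp hD b).codRestrict (D b) (cmp_mem hD b) x) : D a) : Vec) = 0
    rw [show (cmp hD b).codRestrict (D b) (cmp_mem hD b) x = 0 from Subtype.ext hx, map_zero, ZeroMemClass.coe_zero]
  refine ⟨isoOfEquiv ⇑Q Le hiso, fun x hx => ?_, fun x hx => ?_, fun c hca' hcb' x hx => ?_⟩ <;> rw [hact] <;>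
    simp only [L, LinearMap.add_apply, LinearMap.sub_apply, LinearMap.id_apply]
  · have e1 := cmp_other hD hab.symm hx
    rw [cmp_self hD hx, e1, hE'0 x e1, sub_self, sub_zero, zero_add, add_zero]
    exact hEmem x
  · have e1 := cmp_other hD hab hx
    rw [cmp_self hD hx, e1, hE0 x e1, sub_zero, sub_self, zero_add, zero_add]
    exact hE'mem x
  · have e1 := cmp_other hD (Ne.symm hca') hx
    have e2 := cmp_other hD (Ne.symm hcb') hx
    rw [e1, e2, hE0 x e1, hE'0 x e2, sub_zero, sub_zero, add_zero, add_zero]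

omit hQ h2 hD hk hn hk3 hM in
/-- the inverse of a permuting isometry permutes -/
theorem perm_inv {g : Iso} {σ : Equiv.Perm (Fin t)} (hg : ∀ i, ∀ x ∈ D i, act g x ∈ D (σ i)) :
    ∀ i, ∀ x ∈ D i, act g⁻¹ x ∈ D (σ⁻¹ i) := by
  have hpow : ∀ n : ℕ, ∀ i, ∀ x ∈ D i, act (g ^ n) x ∈ D ((σ ^ n) i) := by
    intro n
    induction n with
    | zero => intro i x hx; rw [pow_zero, pow_zero, act_apply]; simpa using hx
    | succ n ih =>
      intro i x hx
      rw [pow_succ', pow_succ', act_mul]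
      exact hg _ _ (ih i x hx)
  classical
  have hfin : ∃ n : ℕ, 0 < n ∧ g ^ n = 1 ∧ σ ^ n = 1 :=
    ⟨Nat.card Iso * Nat.card (Equiv.Perm (Fin t)), Nat.mul_pos Nat.card_pos Nat.card_pos,
      by rw [pow_mul, pow_card_eq_one', one_pow], by rw [mul_comm, pow_mul, pow_card_eq_one', one_pow]⟩
  obtain ⟨n, hn0, hgn, hσn⟩ := hfin
  have e1 : g⁻¹ = g ^ (n - 1) := inv_eq_of_mul_eq_one_right (by rw [← pow_succ', Nat.sub_add_cancel hn0, hgn])
  have e2 : σ⁻¹ = σ ^ (n - 1) := inv_eq_of_mul_eq_one_right (by rw [← pow_succ', Nat.sub_add_cancel hn0, hσn])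
  rw [e1, e2]
  exact hpow _

theorem linked_map {g : Iso} (hg : g ∈ M) {σ : Equiv.Perm (Fin t)} (hgσ : ∀ i, ∀ x ∈ D i, act g x ∈ D (σ i))
    {i j : Fin t} (h : Linked D M i j) : Linked D M (σ i) (σ j) := by
  intro a ha hQa ha0 x hx
  have ha' := perm_inv hgσ _ a ha
  have hx' := perm_inv hgσ _ x hx
  rw [Equiv.Perm.inv_def, Equiv.symm_apply_apply] at ha' hx'
  have := (h _ ha' (by rw [act_map]; exact hQa)
    (fun e => ha0 (by rw [← act_cancel_inv g a, e, map_zero])) _ hx').map hg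
  rwa [act_cancel_inv, act_cancel_inv] at this

theorem exists_cycle {a b c : Fin t} (hab : a ≠ b) (hbc : b ≠ c) (hac : a ≠ c) :
    ∃ g ∈ M, ∃ σ : Equiv.Perm (Fin t), (∀ i, ∀ x ∈ D i, act g x ∈ D (σ i)) ∧ σ a = c ∧ σ b = a ∧ σ c = b := by
  obtain ⟨g, hg1, hg2, hg3⟩ := exists_swap hQ h2 hD hk hn hk3 hM hab
  obtain ⟨g', hg1', hg2', hg3'⟩ := exists_swap hQ h2 hD hk hn hk3 hM hbc
  have hs : ∀ {g : Iso} {a b : Fin t}, (∀ x ∈ D a, act g x ∈ D b) → (∀ x ∈ D b, act g x ∈ D a) →
      (∀ c, c ≠ a → c ≠ b → ∀ x ∈ D c, act g x = x) → ∀ i, ∀ x ∈ D i, act g x ∈ D (Equiv.swap a b i) := by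
    intro g a b k1 k2 k3 i x hx
    rcases eq_or_ne i a with rfl | ha
    · rw [Equiv.swap_apply_left]; exact k1 x hx
    rcases eq_or_ne i b with rfl | hb
    · rw [Equiv.swap_apply_right]; exact k2 x hx
    rw [Equiv.swap_apply_of_ne_of_ne ha hb, k3 i ha hb x hx]
    exact hx
  have k := hs hg1 hg2 hg3
  have k' := hs hg1' hg2' hg3'
  have ki := perm_inv k
  have ki' := perm_inv k'
  have hc : ∀ i, ∀ x ∈ D i, act (g * g' * g⁻¹ * g'⁻¹) x ∈
      D ((Equiv.swap a b * Equiv.swap b c * (Equiv.swap a b)⁻¹ * (Equiv.swap b c)⁻¹) i) := by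
    intro i x hx
    simp only [act_mul, Equiv.Perm.mul_apply]
    exact k _ _ (k' _ _ (ki _ _ (ki' _ _ hx)))
  refine ⟨g * g' * g⁻¹ * g'⁻¹,
    hM _ (Subgroup.commutator_mem_commutator (Subgroup.mem_top _) (Subgroup.mem_top _)) ⟨_, hc⟩, _, hc, ?_, ?_, ?_⟩ <;>
    simp [Equiv.swap_apply_def, hab, hbc, hac, hab.symm, hbc.symm, hac.symm]

theorem linked_all (ho : Out D M) : ∀ p q, p ≠ q → Linked D M p q := by
  obtain ⟨i, j, hij, h1, h1'⟩ := exists_linked hQ h2 hD hk hn hk3 hM ho
  have step : ∀ {i j : Fin t}, i ≠ j → Linked D M i j → Linked D M j i → ∀ l, l ≠ i → l ≠ j →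
      Linked D M i l ∧ Linked D M l i := by
    intro i j hij h1 h1' l hli hlj
    obtain ⟨g, hg, σ, hσ, e1, e2, -⟩ := exists_cycle hQ h2 hD hk hn hk3 hM hij hlj.symm hli.symm
    have a1 := linked_map hQ h2 hD hk hn hk3 hM hg hσ h1
    have a2 := linked_map hQ h2 hD hk hn hk3 hM hg hσ h1'
    rw [e1, e2] at a1 a2
    exact ⟨a2, a1⟩
  intro p q hpq
  rcases eq_or_ne p i with rfl | hpi
  · rcases eq_or_ne q j with rfl | hqj
    · exact h1
    · exact (step hij h1 h1' q hpq.symm hqj).1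
  rcases eq_or_ne p j with rfl | hpj
  · rcases eq_or_ne q i with rfl | hqi
    · exact h1'
    · exact (step hij.symm h1' h1 q hpq.symm hqi).1
  obtain ⟨a1, a2⟩ := step hij h1 h1' p hpi hpj
  rcases eq_or_ne q i with rfl | hqi
  · exact a2
  · exact (step hpi a2 a1 q hpq.symm hqi).1

theorem omega_le {g : Iso} (hg : g ∈ M)
    (hgs : ¬ ∃ σ : Equiv.Perm (Fin t), ∀ i, ∀ x ∈ D i, act g x ∈ D (σ i)) : Cfsg.Omega F ⇑Q ≤ M := by
  have hl := linked_all hQ h2 hD hk hn hk3 hM (exists_out hQ h2 hD hk hn hk3 hM hg hgs)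
  have hblock : ∀ j, ∀ b ∈ D j, b ≠ 0 → Q b = 0 → b ∈ Orth.centres M := by
    intro j b hb hb0 hQb
    refine ⟨hQb, fun w hu huw => ?_⟩
    have hp : ∀ i, Dir M b (cmp hD i w) := fun i => by
      rcases eq_or_ne i j with rfl | hij
      · exact dir_inner hQ h2 hD hk hn hk3 hM hb (cmp_mem hD i w) hQb (by rw [pair_cmp hD i w hb]; exact huw)
      · exact hl j i hij.symm b hb hQb hb0 _ (cmp_mem hD i w)
    have hsum : ∀ s : Finset (Fin t), Dir M b (∑ i ∈ s, cmp hD i w) := by
      intro s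
      induction s using Finset.induction with
      | empty => rw [Finset.sum_empty, ← zero_smul F (cmp hD j w)]; exact (hp j).smul 0
      | insert i s hi ih => rw [Finset.sum_insert hi]; exact (hp i).add ih
    have := hsum Finset.univ
    rw [sum_cmp hQ hD] at this
    exact this.mem
  refine Orth.omega_le_of_centres hQ (by omega) fun v hv0 hQv => ?_
  obtain ⟨i, hi⟩ : ∃ i, cmp hD i v ≠ 0 := by
    by_contra hc
    push Not at hc
    exact hv0 (cmp_ext hQ hD hc)
  obtain ⟨a, ha, ha0, hQa, hva⟩ := exists_sing_meet hQ (nd hD i) (three_le hD hk i) (x := cmp hD i v)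
    (nd hD i _ (cmp_mem hD i v) hi)
  rw [cmp_pair hD i v ha] at hva
  obtain ⟨f, hf, hp⟩ := pair_in (nd hD i) ha ha0 hQa
  have ha' := hblock i a ha ha0 hQa
  obtain ⟨he, hmove⟩ := Orth.exists_eich_move (Q := Q) (a := a) (u := f) (v := (B v a)⁻¹ • v) hQa
    (by rw [hp.hv, Classical.Orth.map_smul', hQv, mul_zero]) hp.hvu
    (by rw [QuadraticMap.polar_smul_left, smul_eq_mul, inv_mul_cancel₀ hva])
  have hv' : (B v a)⁻¹ • v ∈ Orth.centres M :=
    hmove ▸ Orth.centres_map (ha'.2 _ hQa he) (hblock i f hf hp.ne_zero.2 hp.hv)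
  have := Orth.centres_smul (B v a) hv'
  rwa [smul_inv_smul₀ hva] at this

omit hQ h2 hk hn hk3 hM in
include hD in
theorem card_eq : Fintype.card ι = t * k := by
  have hd := hD.decomp
  have h := Module.finrank_eq_card_basis
    ((DirectSum.isInternal_submodule_of_iSupIndep_of_iSup_eq_top hd.decomp.indep
      hd.decomp.iSup_eq_top).collectedBasis fun i =>
        Module.finBasisOfFinrankEq F (D i) (hd.decomp.finrank_eq i))
  rw [Module.finrank_fintype_fun_eq_card, Fintype.card_sigma] at h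
  simpa using h

omit h2 hM in
include hQ hD hk hn hk3 in
/-- maximality -/
theorem maximal (h2 : (2 : F) ≠ 0) :
    Cfsg.Geo.IsMaximalIn (Cfsg.Geo.omegaGL ⇑Q)
      (Cfsg.Geo.decompositionStabilizer D ⊓ Cfsg.Geo.omegaGL ⇑Q) := by
  have hd := hD.decomp
  have hmemS : ∀ g : Iso, (g : GL ι F) ∈ Cfsg.Geo.decompositionStabilizer D →
      ∃ σ : Equiv.Perm (Fin t), ∀ i, ∀ x ∈ D i, act g x ∈ D (σ i) := by
    rintro g ⟨σ, hσ⟩
    refine ⟨σ, fun i x hx => ?_⟩
    rw [act_apply, ← Matrix.toLin'_apply, ← hσ i]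
    exact Submodule.mem_map_of_mem hx
  refine Max.isMaximalIn_of inf_le_right (fun hle => ?_) fun N hN hNK g hgN hg => ?_
  · have htwo := hd.decomp.two_le
    let i₀ : Fin t := ⟨0, by omega⟩
    let j₀ : Fin t := ⟨1, by omega⟩
    have hij : i₀ ≠ j₀ := fun e => absurd (congrArg Fin.val e) zero_ne_one
    obtain ⟨a, f, ha, hf, hp⟩ := Orth.exists_pair hQ (nd hD i₀) (three_le hD hk i₀)
    obtain ⟨a', f', ha', hf', hp'⟩ := Orth.exists_pair hQ (nd hD j₀) (three_le hD hk j₀)
    have hae : B a a' = 0 := Orth.orth_ne hd hij ha ha'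
    have h := hle (Subgroup.mem_map_of_mem _ (Orth.eich_omega hQ (by omega) hp.hu hae))
    obtain ⟨σ, hσ⟩ := hmemS (eich a a' hp.hu hae) h.1
    have hm := hσ i₀ f hf
    rw [act_eich, Orth.orth_ne hd hij hf ha', hp.hvu, hp'.hu] at hm
    simp only [mul_zero, zero_mul, zero_smul, sub_zero, one_smul] at hm
    rcases eq_or_ne (σ i₀) i₀ with e | e
    · have := cmp_other hD hij.symm (e ▸ hm)
      rw [map_add, cmp_other hD hij.symm hf, zero_add, cmp_self hD ha'] at this
      exact hp'.ne_zero.1 this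
    · have := cmp_other hD e.symm hm
      rw [map_add, cmp_self hD hf, cmp_other hD hij ha', add_zero] at this
      exact hp.ne_zero.2 this
  · obtain ⟨g', hg', rfl⟩ := Subgroup.mem_map.1 (hNK hgN)
    have hgs : ¬ ∃ σ : Equiv.Perm (Fin t), ∀ i, ∀ x ∈ D i, act g' x ∈ D (σ i) := fun ⟨σ, hσ⟩ =>
      hg ⟨⟨σ, fun i => img_eq hD (hσ i)⟩, hNK hgN⟩
    have hle := omega_le hQ h2 hD hk hn hk3 (M := N.comap (Cfsg.isometryGroup F ⇑Q).subtype ⊓ Cfsg.Omega F ⇑Q)
      (fun k hk' ⟨σ, hσ⟩ => ⟨hN ⟨⟨σ, fun i => img_eq hD (hσ i)⟩, Subgroup.mem_map_of_mem _ hk'⟩, hk'⟩)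
      ⟨hgN, hg'⟩ hgs
    intro x hx
    obtain ⟨x', hx', rfl⟩ := Subgroup.mem_map.1 hx
    exact (hle hx').1

end Cfsg.Agent.Forms.Max.OrthBlocks
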