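import Mathlib
import Cfsg.Agent.Lib.Forms.Max.OrthBase
import Cfsg.Agent.Lib.Forms.Witt

/-!
# Stabilisers of non-degenerate subspaces in the orthogonal groups
-/

set_option autoImplicit false
set_option linter.unusedSectionVars false

namespace Cfsg.Agent.Forms.Max.Orth

open Matrix Cfsg.Agent.Forms.QuadStd Cfsg.Agent.Forms.Reflections Cfsg.Agent.Classical.Orth

variable {F : Type*} [Field F] [Fintype F] {ι : Type} [Fintype ι] [DecidableEq ι]
variable {Q : QuadraticForm F (ι → F)}

local notation "Vec" => (ι → F)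
local notation "B" => QuadraticMap.polar Q
set_option quotPrecheck false in
local notation "Iso" => Cfsg.isometryGroup F ⇑Q

theorem eich_congr' {u u' w w' : Vec} (h : u = u') (h' : w = w') (hu : Q u = 0)
    (hu' : Q u' = 0) (huw : B u w = 0) (huw' : B u' w' = 0) :
    eich u w hu huw = eich u' w' hu' huw' := by
  subst h h'
  rfl

theorem act_mem_perp {W : Submodule F Vec} {k : Iso} (hk : ∀ w ∈ W, act k w ∈ W) {u : Vec}
    (hu : u ∈ perp Q W) : act k⁻¹ u ∈ perp Q W := mem_perp.2 fun w hw => by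
  rw [← act_polar k, act_cancel_inv]
  exact mem_perp.1 hu _ (hk w hw)

variable (hQ : (QuadraticMap.polarBilin Q).Nondegenerate) (hn : 5 ≤ Fintype.card ι)
include hQ hn

/-- every isometry is corrected into `Ω` by one fixing a given subspace -/
theorem exists_correct {W : Submodule F Vec}
    (hval : ∀ t : F, ∃ y ∈ perp Q W, Q y = t) (h : Iso) :
    ∃ k : Iso, (∀ w ∈ W, act k w = w) ∧ k * h ∈ Cfsg.Omega F ⇑Q := by
  obtain ⟨f⟩ := exists_frame hQ hn
  have hE := omega_eq_eGroup hQ f (by omega)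
  have hNn := eGroup_top_normal (Q := Q)
  let K : Subgroup Iso :=
    { carrier := {k | ∀ w ∈ W, act k w = w}
      one_mem' := fun w _ => act_one w
      mul_mem' := fun ha hb w hw => by rw [act_mul, hb w hw, ha w hw]
      inv_mem' := fun {a} ha w hw => by
        have := ha w hw
        conv_lhs => rw [← this]
        rw [← act_mul, inv_mul_cancel, act_one] }
  have hle : refGroup Q ≤ K ⊔ eGroup Q ⊤ := by
    refine (Subgroup.closure_le _).2 ?_
    rintro _ ⟨v, hv, rfl⟩
    obtain ⟨y, hy, hyv⟩ := hval (Q v)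
    have e := (QuotientGroup.eq).1 (reflect_mk_eq hQ f (z := y) (z' := v) (hyv ▸ hv) hyv.symm)
    have e2 : reflect Q v = reflect Q y * ((reflect Q y)⁻¹ * reflect Q v) := by group
    rw [e2]
    refine mul_mem (Subgroup.mem_sup_left fun w hw => ?_) (Subgroup.mem_sup_right e)
    rw [act_reflect, QuadraticMap.polar_comm, mem_perp.1 hy w hw]
    simp
  have hh : h ∈ K ⊔ eGroup Q ⊤ :=
    hle (refGroup_eq_top hQ (Or.inr (by omega)) ▸ Subgroup.mem_top h)
  obtain ⟨k, hk, o, ho, rfl⟩ := Subgroup.mem_sup_of_normal_right.1 hh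
  exact ⟨k⁻¹, K.inv_mem hk, by rw [inv_mul_cancel_left, hE]; exact ho⟩

omit hn in
theorem exists_split {W : Submodule F Vec} (hWn : ∀ w ∈ W, w ≠ 0 → ∃ x ∈ W, B w x ≠ 0) (x : Vec) :
    ∃ a ∈ W, ∃ b ∈ perp Q W, x = a + b := by
  have h := (@isCompl_perp _ _ _ _ _ _ (polB Q) polB_refl W hWn).sup_eq_top
  obtain ⟨a, ha, b, hb, e⟩ := Submodule.mem_sup.1 (h ▸ Submodule.mem_top (x := x))
  exact ⟨a, ha, b, hb, e.symm⟩

omit hn in
theorem eq_zero_of_both {W : Submodule F Vec} (hWn : ∀ w ∈ W, w ≠ 0 → ∃ x ∈ W, B w x ≠ 0)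
    {x : Vec} (h1 : x ∈ W) (h2 : x ∈ perp Q W) : x = 0 := by
  by_contra h0
  obtain ⟨y, hy, hxy⟩ := hWn x h1 h0
  exact hxy (perp_comm h2 hy)

variable {W : Submodule F (ι → F)}
  (hWn : ∀ w ∈ W, w ≠ 0 → ∃ x ∈ W, QuadraticMap.polar Q w x ≠ 0)
  (hd : 4 ≤ Module.finrank F ↥(perp Q W))
include hWn hd

omit hn in
theorem perp_nd : ∀ r ∈ perp Q W, r ≠ 0 → ∃ s ∈ perp Q W, B r s ≠ 0 :=
  Max.perp_nondeg (nd hQ) polB_refl hWn

theorem perp_value (t : F) : ∃ y ∈ perp Q W, Q y = t := by
  obtain ⟨e, f, he, hf, hp⟩ := exists_pair hQ (perp_nd hQ hWn hd) (by omega)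
  exact ⟨t • e + (1 : F) • f, Submodule.add_mem _ (Submodule.smul_mem _ _ he)
    (Submodule.smul_mem _ _ hf), by rw [pair_value hp, mul_one]⟩

/-- a vector of the complement meeting one of two given ones only -/
theorem exists_perp_ne_in {u z : Vec} (hu : u ∈ perp Q W) (hz : z ∈ perp Q W)
    (h : z ∉ Submodule.span F {u}) : ∃ d ∈ perp Q W, B u d = 0 ∧ B z d ≠ 0 := by
  obtain ⟨w, h1, h2⟩ := exists_perp_ne hQ h
  obtain ⟨a, ha, b, hb, rfl⟩ := exists_split hQ hWn w
  rw [QuadraticMap.polar_add_right, perp_comm hu ha, zero_add] at h1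
  rw [QuadraticMap.polar_add_right, perp_comm hz ha, zero_add] at h2
  exact ⟨b, hb, h1, h2⟩

/-- root elements at the complement transfer between its singular vectors -/
theorem transfer_one {M : Subgroup Iso}
    (hM : ∀ g ∈ Cfsg.Omega F ⇑Q, (∀ w ∈ W, act g w ∈ W) → g ∈ M) {u v a : Vec}
    (hu : u ∈ perp Q W) (hv : v ∈ perp Q W) (ha : a ∈ W) (hQu : Q u = 0) (hQv : Q v = 0)
    (huv : B u v ≠ 0) (h : eich u a hQu (perp_comm hu ha) ∈ M) :
    eich v a hQv (perp_comm hv ha) ∈ M := by
  set S := perp Q W ⊓ ker Q u ⊓ ker Q v with hS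
  have hSn : ∀ r ∈ S, r ≠ 0 → ∃ s ∈ S, B r s ≠ 0 := by
    intro r hr hr0
    obtain ⟨s, hs, hrs⟩ := perp_nd hQ hWn hd r hr.1.1 hr0
    set v' := (B u v)⁻¹ • v with hv'
    have hp : IsPair Q u v' := ⟨hQu, by rw [hv', Classical.Orth.map_smul', hQv, mul_zero], by
      rw [hv', QuadraticMap.polar_smul_right, smul_eq_mul, inv_mul_cancel₀ huv]⟩
    refine ⟨proj Q u v' s, ⟨⟨proj_mem hu (Submodule.smul_mem _ _ hv) hs, ?_⟩, ?_⟩, ?_⟩
    · rw [SetLike.mem_coe, mem_ker', QuadraticMap.polar_comm]; exact (proj_perp hp s).1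
    · have e := (proj_perp hp s).2
      rw [hv', QuadraticMap.polar_smul_right, smul_eq_mul, mul_eq_zero, inv_eq_zero] at e
      rw [SetLike.mem_coe, mem_ker', QuadraticMap.polar_comm]
      exact e.resolve_left huv
    · have e1 : B r u = 0 := by rw [QuadraticMap.polar_comm]; exact hr.1.2
      have e2 : B r v = 0 := by rw [QuadraticMap.polar_comm]; exact hr.2
      simp only [proj, hv', QuadraticMap.polar_sub_right, QuadraticMap.polar_smul_right,
        e1, e2, smul_zero, sub_zero]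
      exact hrs
  have hS2 : 2 ≤ Module.finrank F S := by
    have d2 := finrank_inf_ker hQ (perp Q W) u
    have d3 := finrank_inf_ker hQ (perp Q W ⊓ ker Q u) v
    rw [← hS] at d3
    omega
  obtain ⟨x, hxS, hQx⟩ : ∃ x ∈ S, Q x = -(B u v)⁻¹ := by
    set t := -(B u v)⁻¹ with ht
    have ht0 : t ≠ 0 := neg_ne_zero.2 (inv_ne_zero huv)
    by_cases hsing : ∃ e ∈ S, e ≠ 0 ∧ Q e = 0
    · obtain ⟨e, he, he0, hQe⟩ := hsing
      obtain ⟨y, hy, hey⟩ := hSn e he he0
      obtain ⟨f, hf, hQf, hef⟩ := exists_partner_in he hy hQe hey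
      exact ⟨t • e + (1 : F) • f, S.add_mem (S.smul_mem _ he) (S.smul_mem _ hf),
        by rw [pair_value ⟨hQe, hQf, hef⟩, mul_one]⟩
    push Not at hsing
    set y := u + v with hy
    have hQy : Q y = B u v := by rw [hy, map_add', hQu, hQv, add_zero, zero_add]
    set r := (-t / B u v) • u + v with hr
    have hQr : Q r = -t := by
      rw [hr, map_add', Classical.Orth.map_smul', hQu, hQv, QuadraticMap.polar_smul_left, smul_eq_mul]
      field_simp
      ring
    have hrS : ∀ s ∈ S, B s r = 0 := fun s hs => by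
      rw [hr, QuadraticMap.polar_add_right, QuadraticMap.polar_smul_right, QuadraticMap.polar_comm _ s u,
        QuadraticMap.polar_comm _ s v, mem_ker'.1 hs.1.2, mem_ker'.1 hs.2, smul_zero, add_zero]
    have hrn : r ∉ S := fun hm => by
      have e := hrS r hm
      rw [polar_self', hQr] at e
      obtain ⟨s, hs, hrs⟩ := hSn r hm (fun h0 => by rw [h0, map_zero', zero_eq_neg] at hQr; exact ht0 hQr)
      exact hrs (by rw [QuadraticMap.polar_comm]; exact hrS s hs)
    have hd3 : 3 ≤ Module.finrank F ↥(S ⊔ Submodule.span F {r}) := by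
      have hlt : S < S ⊔ Submodule.span F {r} := lt_of_le_of_ne le_sup_left fun h0 => hrn (by
        rw [h0]; exact Submodule.mem_sup_right (Submodule.mem_span_singleton_self r))
      have := Submodule.finrank_lt_finrank_of_lt hlt
      omega
    obtain ⟨z, hz, hz0, hQz⟩ := exists_sing hQ hd3
    obtain ⟨x, hx, w, hw, rfl⟩ := Submodule.mem_sup.1 hz
    obtain ⟨s, rfl⟩ := Submodule.mem_span_singleton.1 hw
    rw [map_add', Classical.Orth.map_smul', hQr, QuadraticMap.polar_smul_right, hrS x hx, smul_zero,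
      add_zero] at hQz
    have hs0 : s ≠ 0 := fun h0 => by
      rw [h0, zero_smul, add_zero] at hz0
      exact hsing x hx hz0 (by rw [h0] at hQz; linear_combination hQz)
    refine ⟨s⁻¹ • x, S.smul_mem _ hx, ?_⟩
    rw [Classical.Orth.map_smul', show Q x = s * s * t by linear_combination hQz]
    field_simp
  have hux : B u x = 0 := hxS.1.2
  have hvx : B v x = 0 := hxS.2
  set c := (B u v)⁻¹ with hc
  set a₀ := c • u + c • v + x with ha₀
  have hQa : Q a₀ = 0 := by
    simp only [ha₀, map_add', Classical.Orth.map_smul', hQu, hQv, hQx,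
      QuadraticMap.polar_add_left, QuadraticMap.polar_smul_left, QuadraticMap.polar_smul_right,
      hux, hvx, smul_eq_mul, hc]
    field_simp
    ring
  have ha₀P : a₀ ∈ perp Q W := Submodule.add_mem _ (Submodule.add_mem _ (Submodule.smul_mem _ _ hu)
    (Submodule.smul_mem _ _ hv)) hxS.1.1
  have h1 : B u a₀ = 1 := by
    simp [ha₀, QuadraticMap.polar_add_right, QuadraticMap.polar_smul_right, polar_self_zero hQu,
      hux, hc, huv]
  have h2 : B v a₀ = 1 := by
    simp [ha₀, QuadraticMap.polar_add_right, QuadraticMap.polar_smul_right, polar_self_zero hQv,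
      hvx, hc, QuadraticMap.polar_comm _ v u, huv]
  obtain ⟨hh, he⟩ := exists_eich_move hQa (hQu.trans hQv.symm) h1 h2
  have hfix : ∀ w ∈ W, act (eich a₀ (v - u) hQa hh) w = w := fun w hw => by
    rw [act_eich, mem_perp.1 ha₀P w hw, mem_perp.1 (Submodule.sub_mem _ hv hu) w hw]
    simp
  have hk := hM _ (eich_omega hQ hn hQa hh) fun w hw => by rw [hfix w hw]; exact hw
  have e := eich_conj (eich a₀ (v - u) hQa hh) hQu (perp_comm hu ha)
  have hmem := mul_mem (mul_mem hk h) (inv_mem hk)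
  rw [e] at hmem
  rwa [eich_congr' he (hfix a ha)] at hmem

theorem transfer {M : Subgroup Iso}
    (hM : ∀ g ∈ Cfsg.Omega F ⇑Q, (∀ w ∈ W, act g w ∈ W) → g ∈ M) {u v a : Vec}
    (hu : u ∈ perp Q W) (hv : v ∈ perp Q W) (hu0 : u ≠ 0) (ha : a ∈ W) (hQu : Q u = 0)
    (hQv : Q v = 0) (h : eich u a hQu (perp_comm hu ha) ∈ M) :
    eich v a hQv (perp_comm hv ha) ∈ M := by
  rcases eq_or_ne v 0 with rfl | hv0
  · rw [eich_zero_left]; exact one_mem M
  by_cases huv : B u v = 0
  swap
  · exact transfer_one hQ hn hWn hd hM hu hv ha hQu hQv huv h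
  obtain ⟨r, hr, hQr, hur, hvr⟩ : ∃ r ∈ perp Q W, Q r = 0 ∧ B u r ≠ 0 ∧ B v r ≠ 0 := by
    obtain ⟨y₁, hy₁, huy⟩ := perp_nd hQ hWn hd u hu hu0
    obtain ⟨a₁, ha₁, hQa₁, hua₁⟩ := exists_partner_in hu hy₁ hQu huy
    obtain ⟨y₂, hy₂, hvy⟩ := perp_nd hQ hWn hd v hv hv0
    obtain ⟨a₂, ha₂, hQa₂, hva₂⟩ := exists_partner_in hv hy₂ hQv hvy
    by_cases h1 : B v a₁ = 0
    swap
    · exact ⟨a₁, ha₁, hQa₁, by simp [hua₁], h1⟩
    by_cases h2 : B u a₂ = 0
    swap
    · exact ⟨a₂, ha₂, hQa₂, h2, by simp [hva₂]⟩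
    refine ⟨a₁ + a₂ + (-B a₁ a₂) • u, Submodule.add_mem _ (Submodule.add_mem _ ha₁ ha₂)
      (Submodule.smul_mem _ _ hu), ?_, ?_, ?_⟩
    · simp only [map_add', Classical.Orth.map_smul', QuadraticMap.polar_add_left,
        QuadraticMap.polar_smul_right, hQu, hQa₁, hQa₂, QuadraticMap.polar_comm _ a₁ u,
        QuadraticMap.polar_comm _ a₂ u, hua₁, h2, smul_eq_mul]
      ring
    · simp [QuadraticMap.polar_add_right, QuadraticMap.polar_smul_right, hua₁, h2,
        polar_self_zero hQu]
    · simp [QuadraticMap.polar_add_right, QuadraticMap.polar_smul_right, h1, hva₂,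
        QuadraticMap.polar_comm _ v u, huv]
  exact transfer_one hQ hn hWn hd hM hr hv ha hQr hQv
    (by rwa [QuadraticMap.polar_comm]) (transfer_one hQ hn hWn hd hM hu hr ha hQu hQr hur h)

omit hQ hn hWn hd in
/-- Eichler elements with two singular centres are antisymmetric -/
theorem eich_swap {z p : Vec} (hz : Q z = 0) (hp : Q p = 0) (h : B z p = 0) :
    eich z p hz h = eich p (-z) hp (by rw [QuadraticMap.polar_neg_right, QuadraticMap.polar_comm, h, neg_zero]) := by
  refine act_ext fun x => ?_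
  rw [act_eich, act_eich, hp, QuadraticMap.map_neg, hz, QuadraticMap.polar_neg_right]
  module

omit hWn hd in
/-- commutators with elements fixing the centre -/
theorem mem_delta {M : Subgroup Iso} {z w : Vec} {hz : Q z = 0} {hzw : B z w = 0}
    (hx : eich z w hz hzw ∈ M) {e : Iso} (he : e ∈ M) (hez : act e z = z) {v : Vec}
    (hv : act e w - w = v) {h : B z v = 0} : eich z v hz h ∈ M := by
  have h1 := mul_mem (mul_mem he hx) (inv_mem he)
  rw [eich_conj e hz hzw, eich_congr' hez (rfl : act e w = act e w) _ hz _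
    (by rw [← hez, act_polar]; exact hzw)] at h1
  have h2 := mul_mem h1 (inv_mem hx)
  rw [eich_inv hz hzw, eich_mul] at h2
  rwa [eich_congr' rfl (show act e w + -w = v by rw [← hv, sub_eq_add_neg]) _ hz _ h] at h2

omit hWn hd in
/-- Eichler elements inside the complement keep the subspace -/
theorem inner_perp {M : Subgroup Iso}
    (hM : ∀ g ∈ Cfsg.Omega F ⇑Q, (∀ w ∈ W, act g w ∈ W) → g ∈ M) {p q : Vec}
    (hp : p ∈ perp Q W) (hq : q ∈ perp Q W) (hQp : Q p = 0) (h : B p q = 0) :
    eich p q hQp h ∈ M :=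
  hM _ (eich_omega hQ hn hQp h) fun w hw => by
    rw [act_eich, mem_perp.1 hp w hw, mem_perp.1 hq w hw]
    simpa using hw

omit hWn hd in
/-- Eichler elements inside the subspace keep it -/
theorem inner_self {M : Subgroup Iso}
    (hM : ∀ g ∈ Cfsg.Omega F ⇑Q, (∀ w ∈ W, act g w ∈ W) → g ∈ M) {p q : Vec}
    (hp : p ∈ W) (hq : q ∈ W) (hQp : Q p = 0) (h : B p q = 0) : eich p q hQp h ∈ M :=
  hM _ (eich_omega hQ hn hQp h) fun w hw => by
    rw [act_eich]
    exact W.sub_mem (W.sub_mem (W.add_mem hw (W.smul_mem _ hq)) (W.smul_mem _ hp)) (W.smul_mem _ hp)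

/-- a vector of the complement orthogonal to two given ones only when in their span -/
theorem exists_perp_ne_two {b p x : Vec} (hb : b ∈ perp Q W) (hp : p ∈ perp Q W) (hx : x ∈ perp Q W)
    (h : x ∉ Submodule.span F {b, p}) : ∃ q ∈ perp Q W, B b q = 0 ∧ B p q = 0 ∧ B x q ≠ 0 := by
  obtain ⟨y, hy, hxy⟩ := not_mem_perp hQ h
  obtain ⟨a, ha, q, hq, rfl⟩ := exists_split hQ hWn y
  have h1 := mem_perp.1 hy b (Submodule.subset_span (by simp))
  have h2 := mem_perp.1 hy p (Submodule.subset_span (by simp))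
  rw [QuadraticMap.polar_add_right, perp_comm hb ha, zero_add] at h1
  rw [QuadraticMap.polar_add_right, perp_comm hp ha, zero_add] at h2
  rw [QuadraticMap.polar_add_right, perp_comm hx ha, zero_add] at hxy
  exact ⟨q, hq, h1, h2, hxy⟩

/-- the existence of a mixed root element -/
def Mixed (W : Submodule F (ι → F)) (M : Subgroup (Cfsg.isometryGroup F ⇑Q)) : Prop :=
  ∃ (u a : Vec) (hu : u ∈ perp Q W) (ha : a ∈ W) (hQu : Q u = 0),
    u ≠ 0 ∧ a ≠ 0 ∧ eich u a hQu (perp_comm hu ha) ∈ M

section Mixed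

variable {M : Subgroup (Cfsg.isometryGroup F ⇑Q)}
  (hM : ∀ g ∈ Cfsg.Omega F ⇑Q, (∀ w ∈ W, act g w ∈ W) → g ∈ M)
include hM

/-- a singular vector of the complement as direction at a mixed centre -/
theorem mixed_of_sing {c b p : Vec} (hc : c ∈ W) (hc0 : c ≠ 0) (hb : b ∈ perp Q W) {hz : Q (c + b) = 0}
    (hp : p ∈ perp Q W) (hQp : Q p = 0) (hp0 : p ≠ 0) {h : B (c + b) p = 0}
    (hx : eich (c + b) p hz h ∈ M) : Mixed W M := by
  have hbp : B b p = 0 := by rwa [QuadraticMap.polar_add_left, mem_perp.1 hp c hc, zero_add] at h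
  have hpb : B p b = 0 := by rw [QuadraticMap.polar_comm, hbp]
  rw [eich_swap hz hQp h] at hx
  have h2 := mul_mem hx (inner_perp hQ hn hM hp hb hQp hpb)
  rw [eich_mul] at h2
  exact ⟨p, -c, hp, W.neg_mem hc, hQp, hp0, neg_ne_zero.2 hc0,
    by rwa [eich_congr' rfl (show -(c + b) + b = -c by abel) _ hQp _ (perp_comm hp (W.neg_mem hc))] at h2⟩

/-- a root element centred in the subspace with direction in the complement -/
theorem mixed_of_rev {e a : Vec} (he : e ∈ W) (he0 : e ≠ 0) (hQe : Q e = 0) (ha : a ∈ perp Q W)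
    (ha0 : a ≠ 0) {h : B e a = 0} (hx : eich e a hQe h ∈ M) : Mixed W M := by
  have fin : ∀ (v : Vec) (hv : v ∈ perp Q W) (hv0 : v ≠ 0) (hQv : Q v = 0) (h' : B e v = 0),
      eich e v hQe h' ∈ M → Mixed W M := fun v hv hv0 hQv h' hx' => by
    rw [eich_swap hQe hQv h'] at hx'
    exact ⟨v, -e, hv, W.neg_mem he, hQv, hv0, neg_ne_zero.2 he0, hx'⟩
  by_cases hQa : Q a = 0
  · exact fin a ha ha0 hQa h hx
  obtain ⟨p, ⟨hpU, hpa⟩, hp0, hQp⟩ := exists_sing hQ (S := perp Q W ⊓ ker Q a) (by
    by_cases h2 : (2 : F) = 0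
    · have hle := finrank_inf_ker hQ (perp Q W) a
      omega
    · have hle := finrank_inf_ker hQ (perp Q W) a
      omega)
  obtain ⟨q, hq, hpq, haq⟩ := exists_perp_ne_in hQ hn hWn hd hpU ha fun hm => by
    obtain ⟨s, rfl⟩ := Submodule.mem_span_singleton.1 hm
    exact hQa (by rw [Classical.Orth.map_smul', hQp, mul_zero])
  have hinn := inner_perp hQ hn hM hpU hq hQp hpq
  have hfix : act (eich p q hQp hpq) e = e :=
    act_eich_fix hQp hpq (mem_perp.1 hpU e he) (mem_perp.1 hq e he)
  have hap : B a p = 0 := hpa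
  refine fin ((-B a q) • p) ((perp Q W).smul_mem _ hpU) (smul_ne_zero (neg_ne_zero.2 haq) hp0)
    (by rw [Classical.Orth.map_smul', hQp, mul_zero])
    (by rw [QuadraticMap.polar_smul_right, mem_perp.1 hpU e he, smul_zero])
    (mem_delta hQ hn hx hinn hfix ?_)
  rw [act_eich, hap]
  module

/-- commutator with an element centred orthogonally to the direction -/
theorem mixed_of_pair {c b w p q : Vec} (hc : c ∈ W) (hc0 : c ≠ 0) (hb : b ∈ perp Q W)
    {hz : Q (c + b) = 0} {h : B (c + b) w = 0} (hx : eich (c + b) w hz h ∈ M)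
    (hp : p ∈ perp Q W) (hQp : Q p = 0) (hp0 : p ≠ 0) (hbp : B b p = 0) (hwp : B w p = 0)
    (hq : q ∈ perp Q W) (hpq : B p q = 0) (hbq : B b q = 0) (hwq : B w q ≠ 0) : Mixed W M := by
  have ezp : B (c + b) p = 0 := by rw [QuadraticMap.polar_add_left, mem_perp.1 hp c hc, hbp, add_zero]
  have ezq : B (c + b) q = 0 := by rw [QuadraticMap.polar_add_left, mem_perp.1 hq c hc, hbq, add_zero]
  refine mixed_of_sing hQ hn hWn hd hM hc hc0 hb ((perp Q W).smul_mem (-B w q) hp)
    (by rw [Classical.Orth.map_smul', hQp, mul_zero]) (smul_ne_zero (neg_ne_zero.2 hwq) hp0)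
    (h := by rw [QuadraticMap.polar_smul_right, ezp, smul_zero])
    (mem_delta hQ hn hx (inner_perp hQ hn hM hp hq hQp hpq) (act_eich_fix hQp hpq ezp ezq) ?_)
  rw [act_eich, hwp]
  module

/-- two commutators, when the direction meets the new centre -/
theorem mixed_of_meet {c b w p q q' : Vec} (hc : c ∈ W) (hc0 : c ≠ 0) (hb : b ∈ perp Q W)
    {hz : Q (c + b) = 0} {h : B (c + b) w = 0} (hx : eich (c + b) w hz h ∈ M)
    (hp : p ∈ perp Q W) (hQp : Q p = 0) (hp0 : p ≠ 0) (hbp : B b p = 0) (hwp : B w p ≠ 0)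
    (hq : q ∈ perp Q W) (hpq : B p q = 0) (hbq : B b q = 0)
    (hq' : q' ∈ perp Q W) (hpq' : B p q' = 0) (hbq' : B b q' = 0) (hqq : B q q' ≠ 0) :
    Mixed W M := by
  have ezp : B (c + b) p = 0 := by rw [QuadraticMap.polar_add_left, mem_perp.1 hp c hc, hbp, add_zero]
  have ezq : B (c + b) q = 0 := by rw [QuadraticMap.polar_add_left, mem_perp.1 hq c hc, hbq, add_zero]
  set v := act (eich p q hQp hpq) w - w with hv
  have e : v = B w p • q - B w q • p - (Q q * B w p) • p := by rw [hv, act_eich]; module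
  have ezv : B (c + b) v = 0 := by
    simp [e, QuadraticMap.polar_sub_right, QuadraticMap.polar_smul_right, ezp, ezq]
  have hv' : eich (c + b) v hz ezv ∈ M :=
    mem_delta hQ hn hx (inner_perp hQ hn hM hp hq hQp hpq) (act_eich_fix hQp hpq ezp ezq) hv.symm
  refine mixed_of_pair hQ hn hWn hd hM hc hc0 hb hv' hp hQp hp0 hbp ?_ hq' hpq' hbq' ?_
  · rw [e]
    simp [QuadraticMap.polar_sub_left, QuadraticMap.polar_smul_left, polar_self_zero hQp,
      QuadraticMap.polar_comm _ q p, hpq]
  · rw [e]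
    simp [QuadraticMap.polar_sub_left, QuadraticMap.polar_smul_left, hpq', hwp, hqq]

/-- a fixed singular vector of the complement and a moved one orthogonal to it -/
theorem mixed_of_moved {x : Iso} (hx : x ∈ M) {u y : Vec} (huU : u ∈ perp Q W) (hQu : Q u = 0)
    (hu0 : u ≠ 0) (hfix : act x u = u) (hy : y ∈ perp Q W) (huy : B u y = 0)
    (hyx : act x y ∉ perp Q W) : Mixed W M := by
  set U := perp Q W with hU
  obtain ⟨a, ha, b', hb', hab⟩ := exists_split hQ hWn (act x y)
  have ha0 : a ≠ 0 := by rintro rfl; exact hyx (by rw [hab, zero_add]; exact hb')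
  refine ⟨u, a, huU, ha, hQu, hu0, ha0, ?_⟩
  have hub : B u b' = 0 := by
    have e : B (act x u) (act x y) = 0 := by rw [act_polar, huy]
    rw [hfix, hab, QuadraticMap.polar_add_right, perp_comm huU ha, zero_add] at e
    exact e
  have hub' : B u (-b') = 0 := by rw [QuadraticMap.polar_neg_right, hub, neg_zero]
  have huab : B u (a + b') = 0 := by
    rw [QuadraticMap.polar_add_right, perp_comm huU ha, hub, add_zero]
  have h1 : eich u (a + b') hQu huab ∈ M := by
    have := mul_mem (mul_mem hx (inner_perp hQ hn hM huU hy hQu huy)) (inv_mem hx)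
    rwa [eich_conj x hQu huy, eich_congr' hfix hab] at this
  have h2 := mul_mem h1 (inner_perp hQ hn hM huU (U.neg_mem hb') hQu hub')
  rw [eich_mul hQu huab hub'] at h2
  rwa [eich_congr' rfl (add_neg_cancel_right a b') _ hQu _ (perp_comm huU ha)] at h2

/-- the element removing a multiple of the part in the subspace -/
theorem mixed_of_shift {c b p : Vec} (hc : c ∈ W) (hc0 : c ≠ 0) (hb : b ∈ perp Q W)
    {hz : Q (c + b) = 0} (hp : p ∈ perp Q W) (hQp : Q p = 0) (hp0 : p ≠ 0) (hbp : B b p = 0)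
    {l : F} (hl : l * Q c = 1) {h : B (c + b) (l • c + p) = 0}
    (hx : eich (c + b) (l • c + p) hz h ∈ M) : Mixed W M := by
  have ezp : B (c + b) p = 0 := by rw [QuadraticMap.polar_add_left, mem_perp.1 hp c hc, hbp, add_zero]
  have ezc : B (c + b) ((-l) • c) = 0 := by
    rw [QuadraticMap.polar_add_right, ezp, add_zero, QuadraticMap.polar_smul_right] at h
    rw [QuadraticMap.polar_smul_right, neg_smul, h, neg_zero]
  have hs : eich (c + b) ((-l) • c) hz ezc ∈ M := hM _ (eich_omega hQ hn hz ezc) fun x hx => by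
    have e1 : B x (c + b) = B x c := by
      rw [QuadraticMap.polar_add_right, mem_perp.1 hb x hx, add_zero]
    have e2 : x + B x c • (-l) • c - ((-l) * B x c) • (c + b) - (-l * -l * Q c * B x c) • (c + b) =
        x + (-(l * B x c)) • c + (l * B x c * (1 - l * Q c)) • (c + b) := by module
    rw [act_eich, e1, QuadraticMap.polar_smul_right, Classical.Orth.map_smul', smul_eq_mul, e2, hl,
      sub_self, mul_zero, zero_smul, add_zero]
    exact W.add_mem hx (W.smul_mem _ hc)
  have h2 := mul_mem hx hs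
  rw [eich_mul] at h2
  rw [eich_congr' rfl (show l • c + p + (-l) • c = p by module) _ hz _ ezp] at h2
  exact mixed_of_sing hQ hn hWn hd hM hc hc0 hb hp hQp hp0 h2

/-- directions orthogonal to some singular vector at the centre -/
theorem mixed_of_zero {c b w p : Vec} (hc : c ∈ W) (hc0 : c ≠ 0) (hb : b ∈ perp Q W) (hQb : Q b ≠ 0)
    {hz : Q (c + b) = 0} {h : B (c + b) w = 0} (hx : eich (c + b) w hz h ∈ M)
    (hw : w ∉ Submodule.span F {c, b})
    (hp : p ∈ perp Q W) (hQp : Q p = 0) (hp0 : p ≠ 0) (hbp : B b p = 0) (hwp : B w p = 0) :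
    Mixed W M := by
  obtain ⟨wW, hwW, wU, hwU, hwe⟩ := exists_split hQ hWn w
  by_cases hspan : wU ∈ Submodule.span F {b, p}
  swap
  · obtain ⟨q, hq, hbq, hpq, hne⟩ := exists_perp_ne_two hQ hn hWn hd hb hp hwU hspan
    refine mixed_of_pair hQ hn hWn hd hM hc hc0 hb hx hp hQp hp0 hbp hwp hq hpq hbq ?_
    rwa [hwe, QuadraticMap.polar_add_left, mem_perp.1 hq wW hwW, zero_add]
  obtain ⟨β, γ, hβ⟩ := Submodule.mem_span_pair.1 hspan
  have hbns : b ∉ Submodule.span F {p} := fun hm => by
    obtain ⟨s, hs⟩ := Submodule.mem_span_singleton.1 hm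
    exact hQb (by rw [← hs, Classical.Orth.map_smul', hQp, mul_zero])
  have ezp : B (c + b) p = 0 := by rw [QuadraticMap.polar_add_left, mem_perp.1 hp c hc, hbp, add_zero]
  by_cases heq : wW = (β + Q w) • c
  · have e : w = Q w • c + γ • p + β • (c + b) := by
      conv_lhs => rw [hwe, heq, ← hβ]
      module
    have hγ : γ ≠ 0 := fun h0 => hw (Submodule.mem_span_pair.2 ⟨Q w + β, β, by
      conv_rhs => rw [e, h0]
      module⟩)
    have ezc : Q w * B (c + b) c = 0 := by
      rw [e, QuadraticMap.polar_add_right, QuadraticMap.polar_add_right, QuadraticMap.polar_smul_right,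
        QuadraticMap.polar_smul_right, QuadraticMap.polar_smul_right, ezp, polar_self_zero hz] at h
      simpa using h
    have e3 : B (c + b) (Q w • c + γ • p) = 0 := by
      rw [QuadraticMap.polar_add_right, QuadraticMap.polar_smul_right, QuadraticMap.polar_smul_right, ezp,
        smul_eq_mul, ezc, smul_zero, add_zero]
    have hx' : eich (c + b) (Q w • c + γ • p) hz e3 ∈ M := by
      rwa [eich_congr' rfl e _ hz _ (e ▸ h), eich_add_self] at hx
    have hQw : Q w = Q w * Q w * Q c := by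
      have e1 : B (Q w • c) (γ • p) = 0 := by
        rw [QuadraticMap.polar_smul_left, QuadraticMap.polar_smul_right, mem_perp.1 hp c hc]
        simp
      conv_lhs => rw [e, map_add', map_add', Classical.Orth.map_smul', Classical.Orth.map_smul',
        Classical.Orth.map_smul', hz, hQp, e1, QuadraticMap.polar_smul_right, QuadraticMap.polar_comm,
        e3]
      simp
    rcases eq_or_ne (Q w) 0 with h0 | h0
    · rw [eich_congr' rfl (show Q w • c + γ • p = γ • p by rw [h0]; module) _ hz _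
        (by rw [QuadraticMap.polar_smul_right, ezp, smul_zero])] at hx'
      exact mixed_of_sing hQ hn hWn hd hM hc hc0 hb ((perp Q W).smul_mem _ hp)
        (by rw [Classical.Orth.map_smul', hQp, mul_zero]) (smul_ne_zero hγ hp0) hx'
    · exact mixed_of_shift hQ hn hWn hd hM hc hc0 hb ((perp Q W).smul_mem _ hp)
        (by rw [Classical.Orth.map_smul', hQp, mul_zero]) (smul_ne_zero hγ hp0)
        (by rw [QuadraticMap.polar_smul_right, hbp, smul_zero])
        (mul_left_cancel₀ h0 (by rw [mul_one, ← mul_assoc]; exact hQw.symm)) hx'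
  have hbp' : B p b = 0 := by rw [QuadraticMap.polar_comm, hbp]
  obtain ⟨y, hy, hpy, hby⟩ := exists_perp_ne_in hQ hn hWn hd hp hb hbns
  have hwu : B p wU = 0 := by
    rw [← hβ, QuadraticMap.polar_add_right, QuadraticMap.polar_smul_right,
      QuadraticMap.polar_smul_right, hbp', polar_self_zero hQp]
    simp
  have e1 : B p w = 0 := by rw [QuadraticMap.polar_comm]; exact hwp
  have e2 : B p (c + b) = 0 := by rw [QuadraticMap.polar_comm, ezp]
  refine mixed_of_moved hQ hn hWn hd hM hx hp hQp hp0 (act_eich_fix hz h e2 e1) hy hpy fun hm => ?_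
  have eyz : B y (c + b) = B y b := by
    rw [QuadraticMap.polar_add_right, perp_comm hy hc, zero_add]
  have eyw : B y w = β * B y b := by
    rw [hwe, QuadraticMap.polar_add_right, perp_comm hy hwW, zero_add, ← hβ,
      QuadraticMap.polar_add_right, QuadraticMap.polar_smul_right, QuadraticMap.polar_smul_right,
      QuadraticMap.polar_comm _ y p, hpy]
    simp
  rw [act_eich, eyz, eyw] at hm
  have e : B y b • (wW - (β + Q w) • c) =
      (y + B y b • w - (β * B y b) • (c + b) - (Q w * B y b) • (c + b)) -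
        (y + B y b • wU - ((β + Q w) * B y b) • b) := by
    nth_rw 2 [hwe]
    module
  have h0 := eq_zero_of_both hQ hWn (W.smul_mem (B y b) (W.sub_mem hwW (W.smul_mem _ hc))) (by
    rw [e]
    exact Submodule.sub_mem _ hm (Submodule.sub_mem _ (Submodule.add_mem _ hy
      (Submodule.smul_mem _ _ hwU)) (Submodule.smul_mem _ _ hb)))
  rw [smul_eq_zero] at h0
  exact h0.elim (fun h => hby (by rwa [QuadraticMap.polar_comm])) fun h => heq (sub_eq_zero.1 h)

/-- centres with singular parts -/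
theorem mixed_of_sing_parts {c b w : Vec} (hc : c ∈ W) (hc0 : c ≠ 0) (hb : b ∈ perp Q W) (hb0 : b ≠ 0)
    (hQb : Q b = 0) {hz : Q (c + b) = 0} {h : B (c + b) w = 0} (hx : eich (c + b) w hz h ∈ M)
    (hw : w ∉ Submodule.span F {c, b}) : Mixed W M := by
  have hQc : Q c = 0 := by
    have e := hz
    rw [map_add', hQb, perp_comm hb hc |> fun e => (QuadraticMap.polar_comm _ c b).trans e] at e
    simpa using e
  have hbb : B b b = 0 := polar_self_zero hQb
  obtain ⟨wW, hwW, wU, hwU, hwe⟩ := exists_split hQ hWn w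
  have ewb : B w b = B wU b := by
    rw [hwe, QuadraticMap.polar_add_left, mem_perp.1 hb wW hwW, zero_add]
  by_cases hwb : B w b = 0
  swap
  · obtain ⟨y, hy, hby⟩ := perp_nd hQ hWn hd b hb hb0
    obtain ⟨f, hf, hQf, hbf⟩ := exists_partner_in hb hy hQb hby
    have hp : IsPair Q b f := ⟨hQb, hQf, hbf⟩
    have d1 := finrank_inf_ker hQ (perp Q W) b
    have d2 := finrank_inf_ker hQ (perp Q W ⊓ ker Q b) f
    obtain ⟨r, ⟨⟨hrU, hrb⟩, hrf⟩, hr0⟩ := Submodule.exists_mem_ne_zero_of_ne_bot
      (p := perp Q W ⊓ ker Q b ⊓ ker Q f) fun h0 => by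
        rw [h0, finrank_bot] at d2; omega
    obtain ⟨s, hs, hrs⟩ := perp_nd hQ hWn hd r hrU hr0
    refine mixed_of_meet hQ hn hWn hd hM hc hc0 hb hx hb hQb hb0 hbb hwb hrU hrb hrb
      (proj_mem (Q := Q) hb hf hs) ?_ ?_ ?_
    · rw [QuadraticMap.polar_comm]; exact (proj_perp hp s).1
    · rw [QuadraticMap.polar_comm]; exact (proj_perp hp s).1
    · simp only [proj, QuadraticMap.polar_sub_right, QuadraticMap.polar_smul_right,
        QuadraticMap.polar_comm _ r b, QuadraticMap.polar_comm _ r f,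
        mem_ker'.1 hrb, mem_ker'.1 hrf, smul_zero, sub_zero]
      exact hrs
  by_cases hspan : wU ∈ Submodule.span F {b}
  swap
  · obtain ⟨q, hq, hbq, hwq⟩ := exists_perp_ne_in hQ hn hWn hd hb hwU hspan
    refine mixed_of_pair hQ hn hWn hd hM hc hc0 hb hx hb hQb hb0 hbb hwb hq hbq hbq ?_
    rwa [hwe, QuadraticMap.polar_add_left, mem_perp.1 hq wW hwW, zero_add]
  obtain ⟨t, ht⟩ := Submodule.mem_span_singleton.1 hspan
  have hWc : B wW c = 0 := by
    have e : B w (c + b) = 0 := by rw [QuadraticMap.polar_comm, h]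
    rw [QuadraticMap.polar_add_right, hwb, add_zero, hwe, QuadraticMap.polar_add_left,
      perp_comm hwU hc, add_zero] at e
    exact e
  obtain ⟨y, h1, h2⟩ := exists_perp_ne hQ (u := c) (z := wW) fun hm => by
    obtain ⟨s, hs⟩ := Submodule.mem_span_singleton.1 hm
    exact hw (Submodule.mem_span_pair.2 ⟨s, t, by rw [hwe, hs, ht]⟩)
  obtain ⟨q, hq, q', hq', rfl⟩ := exists_split hQ hWn y
  rw [QuadraticMap.polar_add_right, mem_perp.1 hq' c hc, add_zero] at h1
  rw [QuadraticMap.polar_add_right, mem_perp.1 hq' wW hwW, add_zero] at h2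
  have ezc : B (c + b) c = 0 := by
    rw [QuadraticMap.polar_add_left, polar_self_zero hQc, perp_comm hb hc, add_zero]
  have ezq : B (c + b) q = 0 := by
    rw [QuadraticMap.polar_add_left, h1, perp_comm hb hq, add_zero]
  set s := -B wW q with hs
  have ewc : B w c = 0 := by rw [hwe, QuadraticMap.polar_add_left, hWc, perp_comm hwU hc, add_zero]
  have ewq : B w q = B wW q := by
    rw [hwe, QuadraticMap.polar_add_left, perp_comm hwU hq, add_zero]
  have ezs : B (c + b) (s • c) = 0 := by rw [QuadraticMap.polar_smul_right, ezc, smul_zero]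
  have hQs : Q (s • c) = 0 := by rw [Classical.Orth.map_smul', hQc, mul_zero]
  have h3 : eich (c + b) (s • c) hz ezs ∈ M :=
    mem_delta hQ hn hx (inner_self hQ hn hM hc hq hQc h1) (act_eich_fix hQc h1 ezc ezq)
      (by rw [act_eich, ewc, ewq, hs]; module)
  rw [eich_swap hz hQs ezs] at h3
  have hscc : B (s • c) c = 0 := by rw [QuadraticMap.polar_smul_left, polar_self_zero hQc, smul_zero]
  have h4 := mul_mem h3 (inner_self hQ hn hM (W.smul_mem s hc) hc hQs hscc)
  rw [eich_mul] at h4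
  rw [eich_congr' rfl (show -(c + b) + c = -b by abel) _ hQs _
    (mem_perp.1 ((perp Q W).neg_mem hb) _ (W.smul_mem s hc))] at h4
  exact mixed_of_rev hQ hn hWn hd hM (W.smul_mem s hc) (smul_ne_zero (neg_ne_zero.2 h2) hc0) hQs
    ((perp Q W).neg_mem hb) (neg_ne_zero.2 hb0) h4

/-- centres with non-singular parts -/
theorem mixed_of_centre {c b w : Vec} (hc : c ∈ W) (hc0 : c ≠ 0) (hb : b ∈ perp Q W) (hb0 : b ≠ 0)
    {hz : Q (c + b) = 0} {h : B (c + b) w = 0} (hx : eich (c + b) w hz h ∈ M)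
    (hw : w ∉ Submodule.span F {c, b})
    (hsmall : Fintype.card F = 2 → Module.finrank F ↥(perp Q W) = 4 → B w b = 0) : Mixed W M := by
  by_cases hQb : Q b = 0
  · exact mixed_of_sing_parts hQ hn hWn hd hM hc hc0 hb hb0 hQb hx hw
  obtain ⟨p, ⟨hp, hpb⟩, hp0, hQp⟩ := exists_sing hQ (S := perp Q W ⊓ ker Q b) (by
    have hle := finrank_inf_ker hQ (perp Q W) b
    omega)
  have hbp : B b p = 0 := hpb
  have hbp' : B p b = 0 := by rw [QuadraticMap.polar_comm, hbp]
  by_cases hwp : B w p = 0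
  · exact mixed_of_zero hQ hn hWn hd hM hc hc0 hb hQb hx hw hp hQp hp0 hbp hwp
  set R := perp Q W ⊓ ker Q b ⊓ ker Q p with hR
  by_cases hex : ∃ q ∈ R, ∃ q' ∈ R, B q q' ≠ 0
  · obtain ⟨q, ⟨⟨hq, hbq⟩, hpq⟩, q', ⟨⟨hq', hbq'⟩, hpq'⟩, hqq⟩ := hex
    exact mixed_of_meet hQ hn hWn hd hM hc hc0 hb hx hp hQp hp0 hbp hwp hq hpq hbq hq' hpq' hbq' hqq
  push Not at hex
  have hRle : R ≤ Submodule.span F {b, p} := by
    intro r hr
    by_contra hns
    obtain ⟨q, hq, h1, h2, h3⟩ := exists_perp_ne_two hQ hn hWn hd hb hp hr.1.1 hns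
    exact h3 (hex r hr q ⟨⟨hq, h1⟩, h2⟩)
  have dR : Module.finrank F ↥(perp Q W) ≤ Module.finrank F R + 2 := by
    have d1 := finrank_inf_ker hQ (perp Q W) b
    have d2 := finrank_inf_ker hQ (perp Q W ⊓ ker Q b) p
    rw [← hR] at d2
    omega
  have hb0' : ({b, p} : Set Vec).Finite := Set.toFinite _
  have dS : Module.finrank F ↥(Submodule.span F ({b, p} : Set Vec)) ≤ 2 := by
    have d3 := Submodule.finrank_add_le_finrank_add_finrank
      (Submodule.span F ({b} : Set Vec)) (Submodule.span F {p})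
    rwa [← Submodule.span_insert, finrank_span_singleton hb0, finrank_span_singleton hp0] at d3
  have hd4 : Module.finrank F ↥(perp Q W) = 4 := by
    have := Submodule.finrank_mono hRle
    omega
  have hbR : b ∈ R := by
    rw [Submodule.eq_of_le_of_finrank_le hRle (by omega)]
    exact Submodule.subset_span (by simp)
  have h2 : (2 : F) = 0 := by
    have e : B b b = 0 := hbR.1.2
    rw [polar_self'] at e
    exact (mul_eq_zero.1 e).resolve_right hQb
  have hbb : B b b = 0 := hbR.1.2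
  have ezp : B (c + b) p = 0 := by rw [QuadraticMap.polar_add_left, mem_perp.1 hp c hc, hbp, add_zero]
  have ezb : B (c + b) b = 0 := by rw [QuadraticMap.polar_add_left, mem_perp.1 hb c hc, hbb, add_zero]
  -- the commutator with the element from `p` towards a multiple of `b`
  set μ : F → F := fun t => -(t * B w b) - t * t * Q b * B w p with hμ
  have hstep : ∀ t : F, ∃ h' : B (c + b) ((t * B w p) • b + μ t • p) = 0,
      eich (c + b) ((t * B w p) • b + μ t • p) hz h' ∈ M := fun t => by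
    have hpt : B p (t • b) = 0 := by rw [QuadraticMap.polar_smul_right, hbp', smul_zero]
    refine ⟨by simp [QuadraticMap.polar_add_right, QuadraticMap.polar_smul_right, ezp, ezb],
      mem_delta hQ hn hx (inner_perp hQ hn hM hp ((perp Q W).smul_mem t hb) hQp hpt)
        (act_eich_fix hQp hpt ezp (by rw [QuadraticMap.polar_smul_right, ezb, smul_zero])) ?_⟩
    rw [act_eich, QuadraticMap.polar_smul_right, Classical.Orth.map_smul', smul_eq_mul, hμ]
    module
  by_cases hwb : B w b = -1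
  · -- a second scalar is needed
    have hq3 : Fintype.card F ≠ 2 := fun h' => by
      have := hsmall h' hd4
      rw [hwb] at this
      simp at this
    classical
    obtain ⟨t, -, ht⟩ := Finset.exists_mem_notMem_of_card_lt_card
      (s := ({0, (Q b * B w p)⁻¹} : Finset F)) (t := Finset.univ)
      (lt_of_le_of_lt Finset.card_le_two (by
        rw [Finset.card_univ]
        have := Fintype.one_lt_card (α := F)
        omega))
    simp only [Finset.mem_insert, Finset.mem_singleton, not_or] at ht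
    obtain ⟨h', hv⟩ := hstep t
    have hμt : μ t ≠ 0 := by
      rw [show μ t = t * (1 - t * (Q b * B w p)) by rw [hμ, hwb]; ring]
      refine mul_ne_zero ht.1 (sub_ne_zero.2 fun e => ht.2 ?_)
      rw [← one_div, eq_div_iff (mul_ne_zero hQb hwp)]
      exact e.symm
    refine mixed_of_zero hQ hn hWn hd hM hc hc0 hb hQb hv (fun hm => ?_) hp hQp hp0 hbp (by
      simp [QuadraticMap.polar_add_left, QuadraticMap.polar_smul_left, hbp, polar_self_zero hQp])
    obtain ⟨s, r, hsr⟩ := Submodule.mem_span_pair.1 hm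
    have hs : s • c = 0 := eq_zero_of_both hQ hWn (W.smul_mem s hc) (by
      rw [show s • c = (t * B w p) • b + μ t • p - r • b by rw [← hsr]; module]
      exact Submodule.sub_mem _ (Submodule.add_mem _ (Submodule.smul_mem _ _ hb)
        (Submodule.smul_mem _ _ hp)) (Submodule.smul_mem _ _ hb))
    rw [hs, zero_add] at hsr
    refine hQb ?_
    have hpb' : p = (μ t)⁻¹ • (r - t * B w p) • b := by
      rw [eq_inv_smul_iff₀ hμt]
      linear_combination (norm := module) -hsr
    rw [hpb', smul_smul, Classical.Orth.map_smul'] at hQp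
    have hne : (μ t)⁻¹ * (r - t * B w p) ≠ 0 := fun h0 => hp0 (by rw [hpb', smul_smul, h0, zero_smul])
    exact (mul_eq_zero.1 hQp).resolve_left (mul_ne_zero hne hne)
  set t₀ := (Q b * B w p)⁻¹ with ht₀
  obtain ⟨h', hv⟩ := hstep t₀
  have hQc : Q c = -Q b := by
    have e := hz
    rw [map_add', mem_perp.1 hb c hc, add_zero] at e
    exact eq_neg_of_add_eq_zero_left e
  have e : (t₀ * B w p) • b + μ t₀ • p = (-(Q b)⁻¹) • c + μ t₀ • p + (Q b)⁻¹ • (c + b) := by
    rw [show t₀ * B w p = (Q b)⁻¹ by rw [ht₀]; field_simp]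
    module
  have hμ0 : μ t₀ ≠ 0 := by
    rw [show μ t₀ = -t₀ * (B w b + 1) by
      rw [hμ, ht₀]; field_simp; ring]
    refine mul_ne_zero (neg_ne_zero.2 (inv_ne_zero (mul_ne_zero hQb hwp))) fun h0 => hwb ?_
    exact eq_neg_of_add_eq_zero_left h0
  have e3 : B (c + b) ((-(Q b)⁻¹) • c + μ t₀ • p) = 0 := by
    have ecc : B (c + b) c = 0 := by
      rw [QuadraticMap.polar_add_left, polar_self', h2, zero_mul, perp_comm hb hc, add_zero]
    simp [QuadraticMap.polar_add_right, QuadraticMap.polar_smul_right, ecc, ezp]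
  rw [eich_congr' rfl e _ hz _ (e ▸ h'), eich_add_self _ hz e3] at hv
  exact mixed_of_shift hQ hn hWn hd hM hc hc0 hb ((perp Q W).smul_mem _ hp)
    (by rw [Classical.Orth.map_smul', hQp, mul_zero]) (smul_ne_zero hμ0 hp0)
    (by rw [QuadraticMap.polar_smul_right, hbp, smul_zero])
    (by rw [hQc]; field_simp) hv

end Mixed

/-- moving the complement yields one mixed root element -/
theorem exists_mixed {M : Subgroup Iso}
    (hM : ∀ g ∈ Cfsg.Omega F ⇑Q, (∀ w ∈ W, act g w ∈ W) → g ∈ M)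
    (hiso : ∀ h : Iso, ∃ x ∈ perp Q W, act h x ∉ W)
    (hminus : Fintype.card F = 2 → Module.finrank F ↥(perp Q W) = 4 →
      ∀ x ∈ perp Q W, ∀ y ∈ perp Q W, Q x = 0 → Q y = 0 → B x y = 0 →
        x = 0 ∨ y ∈ Submodule.span F {x})
    {g : Iso} (hgM : g ∈ M) (hg : ∃ w ∈ W, act g w ∉ W) :
    ∃ (u a : Vec) (hu : u ∈ perp Q W) (ha : a ∈ W) (hQu : Q u = 0),
      u ≠ 0 ∧ a ≠ 0 ∧ eich u a hQu (perp_comm hu ha) ∈ M := by
  show Mixed W M
  set U := perp Q W with hU
  have hUn := perp_nd hQ hWn hd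
  have hroot : ∀ {z' w' : Vec} (hz : z' ∈ U) (hw : w' ∈ U) (hQz' : Q z' = 0) (h : B z' w' = 0),
      eich (act g z') (act g w') (by rw [act_map, hQz']) (by rw [act_polar, h]) ∈ M := by
    intro z' w' hz hw hQz' h
    exact eich_conj g hQz' h ▸ mul_mem (mul_mem hgM (inner_perp hQ hn hM hz hw hQz' h)) (inv_mem hgM)
  have hnotU : ¬ ∀ v ∈ U, Q v = 0 → act g v ∈ U := fun hall' => by
    have hle : U ≤ U.comap (act g) := sing_span' hQ hUn (by omega) hall'
    have hmap : U.map (act g) = U := Submodule.eq_of_le_of_finrank_eq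
      (Submodule.map_le_iff_le_comap.2 hle)
      (Submodule.equivMapOfInjective _ (act_injective g) U).finrank_eq.symm
    obtain ⟨w, hw, hgw⟩ := hg
    refine hgw ?_
    rw [← perp_perp hQ W]
    refine mem_perp.2 fun y hy => ?_
    have hy2 : y ∈ U.map (act g) := hmap.symm ▸ hy
    obtain ⟨y', hy', rfl⟩ := hy2
    rw [act_polar]
    exact perp_comm hy' hw
  have hnotW : ¬ ∀ v ∈ U, Q v = 0 → act g v ∈ W := fun hall => by
    have hle : U ≤ W.comap (act g) := sing_span' hQ hUn (by omega) hall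
    obtain ⟨x, hx, hxW⟩ := hiso g
    exact hxW (hle hx)
  by_cases hsmall : Fintype.card F = 2 ∧ Module.finrank F U = 4
  · obtain ⟨hq, hd4⟩ := hsmall
    by_cases hgood : ∃ (z' w' c b : Vec), z' ∈ U ∧ w' ∈ U ∧ Q z' = 0 ∧ B z' w' = 0 ∧ c ∈ W ∧ b ∈ U ∧
        c ≠ 0 ∧ b ≠ 0 ∧ act g z' = c + b ∧ act g w' ∉ Submodule.span F {c, b} ∧ B (act g w') b = 0
    · obtain ⟨z', w', c, b, hz', hw', hQz', hzw, hc, hb, hc0, hb0, e, hns, hwb⟩ := hgood
      have hx := hroot hz' hw' hQz' hzw
      rw [eich_congr' e rfl _ (by rw [← e, act_map, hQz']) _ (by rw [← e, act_polar, hzw])] at hx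
      exact mixed_of_centre hQ hn hWn hd hM hc hc0 hb hb0 hx hns fun _ _ => hwb
    push Not at hgood
    set G := U.map (act g) with hG
    have dG : Module.finrank F G = Module.finrank F U :=
      (Submodule.equivMapOfInjective _ (act_injective g) U).finrank_eq.symm
    have hparts : ∀ v ∈ U, Q v = 0 → act g v ∈ (G ⊓ W) ⊔ (G ⊓ U) := by
      intro v hv hQv
      have hgv : act g v ∈ G := Submodule.mem_map_of_mem hv
      obtain ⟨c, hc, b, hb, e⟩ := exists_split hQ hWn (act g v)
      rcases eq_or_ne c 0 with rfl | hc0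
      · exact Submodule.mem_sup_right ⟨hgv, by rw [e, zero_add]; exact hb⟩
      rcases eq_or_ne b 0 with rfl | hb0
      · exact Submodule.mem_sup_left ⟨hgv, by rw [e, add_zero]; exact hc⟩
      set L := U ⊓ ker Q v ⊓ (ker Q b).comap (act g) with hL
      have dL : 2 ≤ Module.finrank F L := by
        have d1 := finrank_inf_ker hQ U v
        have d2 := finrank_inf_ker hQ (U ⊓ ker Q v) (act g⁻¹ b)
        have e4 : (ker Q b).comap (act g) = ker Q (act g⁻¹ b) := by
          ext x
          rw [Submodule.mem_comap, mem_ker', mem_ker', ← act_polar g (act g⁻¹ b) x, act_cancel_inv]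
        rw [hL, e4]
        omega
      have hle : L.map (act g) ≤ Submodule.span F {c, b} := by
        rw [Submodule.map_le_iff_le_comap]
        rintro w' ⟨⟨hw', hvw⟩, hwb⟩
        by_contra hns
        refine hgood v w' c b hv hw' hQv hvw hc hb hc0 hb0 e hns ?_
        rw [QuadraticMap.polar_comm]
        exact hwb
      have heq := Submodule.eq_of_le_of_finrank_le hle (by
        rw [← (Submodule.equivMapOfInjective _ (act_injective g) L).finrank_eq]
        have d3 := Submodule.finrank_add_le_finrank_add_finrank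
          (Submodule.span F ({c} : Set Vec)) (Submodule.span F {b})
        rw [← Submodule.span_insert, finrank_span_singleton hc0, finrank_span_singleton hb0] at d3
        omega)
      have hLG : L.map (act g) ≤ G := Submodule.map_mono (inf_le_left.trans inf_le_left)
      rw [heq] at hLG
      rw [e]
      exact Submodule.add_mem_sup ⟨hLG (Submodule.subset_span (by simp)), hc⟩
        ⟨hLG (Submodule.subset_span (by simp)), hb⟩
    have hGle : G ≤ (G ⊓ W) ⊔ (G ⊓ U) :=
      Submodule.map_le_iff_le_comap.2 (sing_span' hQ hUn (by omega) hparts)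
    obtain ⟨a₁, ha₁, ha₁0⟩ := Submodule.exists_mem_ne_zero_of_ne_bot (p := G ⊓ W) fun h0 => by
      refine hnotU fun v hv _ => ?_
      have h1 := hGle (Submodule.mem_map_of_mem (f := act g) hv)
      rw [h0, bot_sup_eq] at h1
      exact h1.2
    obtain ⟨b₁, hb₁, hb₁0⟩ := Submodule.exists_mem_ne_zero_of_ne_bot (p := G ⊓ U) fun h0 => by
      refine hnotW fun v hv _ => ?_
      have h1 := hGle (Submodule.mem_map_of_mem (f := act g) hv)
      rw [h0, sup_bot_eq] at h1
      exact h1.2
    have hab : ∀ {x y : Vec}, x ∈ G ⊓ W → y ∈ G ⊓ U → ∃ x' y', x' ∈ U ∧ y' ∈ U ∧ act g x' = x ∧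
        act g y' = y ∧ B x' y' = 0 := by
      rintro x y ⟨⟨x', hx', rfl⟩, hxW⟩ ⟨⟨y', hy', rfl⟩, hyU⟩
      exact ⟨x', y', hx', hy', rfl, rfl, by rw [← act_polar g]; exact mem_perp.1 hyU _ hxW⟩
    by_cases hsA : ∃ e ∈ G ⊓ W, e ≠ 0 ∧ Q e = 0
    · obtain ⟨e, he, he0, hQe⟩ := hsA
      obtain ⟨e', y', he', hy', rfl, rfl, hey⟩ := hab he hb₁
      exact mixed_of_rev hQ hn hWn hd hM he.2 he0 hQe hb₁.2 hb₁0
        (hroot he' hy' (by rw [← act_map g]; exact hQe) hey)
    by_cases hsB : ∃ e ∈ G ⊓ U, e ≠ 0 ∧ Q e = 0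
    · obtain ⟨e, he, he0, hQe⟩ := hsB
      obtain ⟨y', e', hy', he', rfl, rfl, hye⟩ := hab ha₁ he
      exact ⟨_, _, he.2, ha₁.2, hQe, he0, ha₁0,
        hroot he' hy' (by rw [← act_map g]; exact hQe) (by rw [QuadraticMap.polar_comm, hye])⟩
    exfalso
    push Not at hsA hsB
    have hone : ∀ {x : F}, x ≠ 0 → x = 1 := fun {x} hx0 => by
      have := FiniteField.pow_card_sub_one_eq_one x hx0
      simpa [hq] using this
    have hA : Module.finrank F ↥(G ⊓ W) ≤ 2 := by
      by_contra hlt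
      obtain ⟨e, he, he0, hQe⟩ := exists_sing hQ (S := G ⊓ W) (by omega)
      exact hsA e he he0 hQe
    have hB : Module.finrank F ↥(G ⊓ U) ≤ 2 := by
      by_contra hlt
      obtain ⟨e, he, he0, hQe⟩ := exists_sing hQ (S := G ⊓ U) (by omega)
      exact hsB e he he0 hQe
    have dsum : 4 ≤ Module.finrank F ↥(G ⊓ W) + Module.finrank F ↥(G ⊓ U) := by
      have d1 := (Submodule.finrank_mono hGle).trans (Submodule.finrank_add_le_finrank_add_finrank _ _)
      omega
    have two : ∀ (S : Submodule F Vec), Module.finrank F S = 2 →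
        (∀ e ∈ S, e ≠ 0 → Q e ≠ 0) → ∀ s ∈ S, s ≠ 0 →
        ∃ r ∈ S, r ∉ Submodule.span F {s} ∧ Q s = 1 ∧ Q r = 1 ∧ B s r = 1 := by
      intro S hS han s hs hs0
      obtain ⟨r, hr, hrs⟩ : ∃ r ∈ S, r ∉ Submodule.span F {s} := SetLike.not_le_iff_exists.1 fun hle => by
        have := Submodule.finrank_mono hle
        rw [finrank_span_singleton hs0] at this
        omega
      have hr0 : r ≠ 0 := by rintro rfl; exact hrs (Submodule.zero_mem _)
      have hsr0 : s + r ≠ 0 := fun h0 => hrs (by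
        rw [eq_neg_of_add_eq_zero_right h0]
        exact Submodule.neg_mem _ (Submodule.mem_span_singleton_self _))
      have h1 := hone (han s hs hs0)
      have h2 := hone (han r hr hr0)
      have h3 := hone (han (s + r) (S.add_mem hs hr) hsr0)
      rw [map_add', h1, h2] at h3
      exact ⟨r, hr, hrs, h1, h2, hone fun h0 => by
        rw [h0] at h3; simp at h3⟩
    obtain ⟨a₂, ha₂, ha₂n, qa₁, qa₂, qa⟩ := two _ (by omega) hsA a₁ ha₁ ha₁0
    obtain ⟨b₂, hb₂, hb₂n, qb₁, qb₂, qb⟩ := two _ (by omega) hsB b₁ hb₁ hb₁0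
    have h2 : (1 : F) + 1 = 0 := by
      by_contra h0
      have := hone h0
      simp at this
    obtain ⟨x', hx', ex⟩ := (G.add_mem ha₁.1 hb₁.1 : a₁ + b₁ ∈ G)
    obtain ⟨y', hy', ey⟩ := (G.add_mem ha₂.1 hb₂.1 : a₂ + b₂ ∈ G)
    have hx0 : Q x' = 0 := by
      rw [← act_map g, ex, map_add', mem_perp.1 hb₁.2 a₁ ha₁.2, qa₁, qb₁, add_zero, h2]
    have hy0 : Q y' = 0 := by
      rw [← act_map g, ey, map_add', mem_perp.1 hb₂.2 a₂ ha₂.2, qa₂, qb₂, add_zero, h2]
    have hxy : B x' y' = 0 := by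
      rw [← act_polar g, ex, ey, QuadraticMap.polar_add_left, QuadraticMap.polar_add_right,
        QuadraticMap.polar_add_right, qa, qb, mem_perp.1 hb₂.2 a₁ ha₁.2, perp_comm hb₁.2 ha₂.2,
        add_zero, zero_add, h2]
    rcases hminus hq hd4 x' hx' y' hy' hx0 hy0 hxy with h0 | h0
    · rw [h0, map_zero] at ex
      refine ha₁0 (eq_zero_of_both hQ hWn ha₁.2 ?_)
      rw [eq_neg_of_add_eq_zero_left ex.symm]
      exact Submodule.neg_mem _ hb₁.2
    · obtain ⟨s, hs⟩ := Submodule.mem_span_singleton.1 h0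
      rw [← hs, map_smul, ex] at ey
      refine ha₂n (Submodule.mem_span_singleton.2 ⟨s, sub_eq_zero.1 (eq_zero_of_both hQ hWn
        (W.sub_mem (W.smul_mem s ha₁.2) ha₂.2) ?_)⟩)
      rw [show s • a₁ - a₂ = b₂ - s • b₁ by
        have e5 : s • a₁ + s • b₁ = a₂ + b₂ := by rw [← smul_add]; exact ey
        linear_combination (norm := module) e5]
      exact Submodule.sub_mem _ hb₂.2 (Submodule.smul_mem _ _ hb₁.2)
  obtain ⟨z', hz'U, hQz', hz'W, hz'P⟩ :
      ∃ v ∈ U, Q v = 0 ∧ act g v ∉ W ∧ act g v ∉ U := by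
    by_contra hc
    push Not at hc
    by_cases hall : ∀ v ∈ U, Q v = 0 → act g v ∈ W
    · exact hnotW hall
    push Not at hall
    obtain ⟨f, hfU, hQf, hfW⟩ := hall
    have hfP : act g f ∈ U := hc f hfU hQf hfW
    refine hnotU fun e heU hQe => ?_
    by_contra heP
    have heW : act g e ∈ W := by_contra fun h => heP (hc e heU hQe h)
    have hef : B e f = 0 := by rw [← act_polar g]; exact mem_perp.1 hfP _ heW
    have hQef : Q (e + f) = 0 := by rw [map_add', hQe, hQf, hef, add_zero, add_zero]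
    by_cases hW' : act g (e + f) ∈ W
    · rw [map_add, W.add_mem_iff_right heW] at hW'
      exact hfW hW'
    · have h1 := hc _ (U.add_mem heU hfU) hQef hW'
      rw [map_add, U.add_mem_iff_left hfP] at h1
      exact heP h1
  obtain ⟨c, hc, b, hb, hzcb⟩ := exists_split hQ hWn (act g z')
  have hb0 : b ≠ 0 := by rintro rfl; exact hz'W (by rw [hzcb, add_zero]; exact hc)
  have hc0 : c ≠ 0 := by rintro rfl; exact hz'P (by rw [hzcb, zero_add]; exact hb)
  obtain ⟨w', hw', hw'span⟩ : ∃ w' ∈ U ⊓ ker Q z', act g w' ∉ Submodule.span F {c, b} := by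
    by_contra hc'
    push Not at hc'
    have h1 : (U ⊓ ker Q z').map (act g) ≤ Submodule.span F {c, b} :=
      Submodule.map_le_iff_le_comap.2 hc'
    have d1 := Submodule.finrank_mono h1
    rw [← (Submodule.equivMapOfInjective _ (act_injective g) (U ⊓ ker Q z')).finrank_eq] at d1
    have d2 := finrank_inf_ker hQ U z'
    have d3 := Submodule.finrank_add_le_finrank_add_finrank
      (Submodule.span F ({c} : Set Vec)) (Submodule.span F {b})
    rw [← Submodule.span_insert, finrank_span_singleton hc0, finrank_span_singleton hb0] at d3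
    omega
  have hx := hroot hz'U hw'.1 hQz' hw'.2
  rw [eich_congr' hzcb rfl _ (by rw [← hzcb, act_map, hQz']) _
    (by rw [← hzcb, act_polar]; exact hw'.2)] at hx
  exact mixed_of_centre hQ hn hWn hd hM hc hc0 hb hb0 hx hw'span
    fun h1 h2 => absurd ⟨h1, h2⟩ hsmall

/-- two vectors of the subspace of the same non-zero value are exchanged by an isometry keeping it -/
theorem exists_level {a b : Vec} (ha : a ∈ W) (hb : b ∈ W) (hQab : Q a = Q b) (ha0 : a ≠ 0)
    (hb0 : b ≠ 0) : ∃ h : Iso, (∀ w ∈ W, act h w ∈ W) ∧ act h a = b := by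
  set U := perp Q W with hU
  have haU : a ∉ U := fun h => ha0 (eq_zero_of_both hQ hWn ha h)
  obtain ⟨φ, hφU, hφa⟩ := exists_row_of_not_mem haU
  obtain ⟨L, hL⟩ : ∃ L : Vec →ₗ[F] Vec, ∀ v, L v = v + (φ ⬝ᵥ v) • (b - a) :=
    ⟨{ toFun := fun v => v + (φ ⬝ᵥ v) • (b - a)
       map_add' := fun v w => by rw [dotProduct_add]; module
       map_smul' := fun t v => by rw [dotProduct_smul, smul_eq_mul, RingHom.id_apply]; module },
      fun v => rfl⟩
  set X := U ⊔ Submodule.span F {a} with hX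
  have key : ∀ v ∈ X, ∃ u ∈ U, ∃ t : F, v = u + t • a ∧ L v = u + t • b := by
    intro v hv
    obtain ⟨u, hu, r, hr, rfl⟩ := Submodule.mem_sup.1 hv
    obtain ⟨t, rfl⟩ := Submodule.mem_span_singleton.1 hr
    refine ⟨u, hu, t, rfl, ?_⟩
    rw [hL, dotProduct_add, hφU u hu, dotProduct_smul, hφa, zero_add, smul_eq_mul, mul_one]
    module
  obtain ⟨e, he, heX⟩ := Witt.witt_quad Q hQ X (L.domRestrict X) (by
      rw [injective_iff_map_eq_zero]
      rintro ⟨v, hv⟩ h0
      obtain ⟨u, hu, t, rfl, hLv⟩ := key v hv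
      have h1 : u + t • b = 0 := hLv.symm.trans h0
      have h2 : t • b = 0 := eq_zero_of_both hQ hWn (W.smul_mem _ hb) (by
        rw [eq_neg_of_add_eq_zero_right h1]; exact U.neg_mem hu)
      rw [smul_eq_zero, or_iff_left hb0] at h2
      rw [h2, zero_smul, add_zero] at h1
      exact Subtype.ext (by simp [h1, h2]))
    (fun v => by
      obtain ⟨u, hu, t, hv, hLv⟩ := key v.1 v.2
      show Q (L v.1) = Q v.1
      rw [hLv, hv, map_add', map_add', Classical.Orth.map_smul', Classical.Orth.map_smul', hQab,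
        QuadraticMap.polar_smul_right, QuadraticMap.polar_smul_right, perp_comm hu ha,
        perp_comm hu hb])
  have hact : ∀ v, act (isoOfEquiv ⇑Q e he) v = e v := fun v => by
    rw [act_apply]; exact isoOfEquiv_mulVec _ _ _ v
  refine ⟨isoOfEquiv ⇑Q e he, fun w hw => ?_, ?_⟩
  · rw [← perp_perp hQ W]
    refine mem_perp.2 fun y hy => ?_
    have e1 : act (isoOfEquiv ⇑Q e he) y = y := by
      rw [hact, heX ⟨y, Submodule.mem_sup_left hy⟩]
      show L y = y
      rw [hL, hφU y hy, zero_smul, add_zero]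
    calc B y (act (isoOfEquiv ⇑Q e he) w)
        = B (act (isoOfEquiv ⇑Q e he) y) (act (isoOfEquiv ⇑Q e he) w) := by rw [e1]
      _ = 0 := by rw [act_polar]; exact perp_comm hy hw
  · rw [hact, heX ⟨a, Submodule.mem_sup_right (Submodule.mem_span_singleton_self a)⟩]
    show L a = b
    rw [hL, hφa, one_smul, add_sub_cancel]

/-- the isometries of a non-degenerate space act irreducibly -/
theorem eq_of_invariant (hexW : ¬(Fintype.card F ≤ 3 ∧ Module.finrank F W = 2 ∧
      ∃ w ∈ W, w ≠ 0 ∧ Q w = 0))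
    {A : Submodule F Vec} (hAW : A ≤ W) (hA0 : A ≠ ⊥)
    (hinv : ∀ h : Iso, (∀ w ∈ W, act h w ∈ W) → ∀ a ∈ A, act h a ∈ A) : A = W := by
  classical
  refine le_antisymm hAW fun v hv => by_contra fun hvA => ?_
  have haniso : ∀ x ∈ W, Q x ≠ 0 → x ∈ A ∨ x ∈ perp Q A := by
    intro x hx hQx
    by_cases hA : ∀ a ∈ A, B a x = 0
    · exact Or.inr (mem_perp.2 hA)
    push Not at hA
    obtain ⟨a, ha, hax⟩ := hA
    have h1 := hinv (reflect Q x) (fun w hw => by
      rw [act_reflect]
      exact W.sub_mem hw (W.smul_mem _ hx)) a ha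
    rw [act_reflect, A.sub_mem_iff_right ha] at h1
    have hne : (Q x)⁻¹ * B x a ≠ 0 := mul_ne_zero (inv_ne_zero hQx)
      (by rwa [QuadraticMap.polar_comm])
    have h2 := A.smul_mem ((Q x)⁻¹ * B x a)⁻¹ h1
    rw [smul_smul, inv_mul_cancel₀ hne, one_smul] at h2
    exact Or.inl h2
  obtain ⟨a, ha, ha0⟩ := Submodule.exists_mem_ne_zero_of_ne_bot hA0
  set A' := W ⊓ perp Q A with hA'
  have hdA' : Module.finrank F W ≤ Module.finrank F A' + Module.finrank F A := by
    have d1 := Submodule.finrank_sup_add_finrank_inf_eq W (perp Q A)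
    have d2 := Submodule.finrank_le (W ⊔ perp Q A)
    have d3 := finrank_perp hQ A
    rw [Module.finrank_fintype_fun_eq_card] at d2
    rw [← hA'] at d1
    omega
  by_cases hR : A ⊓ perp Q A = ⊥
  swap
  · obtain ⟨r, ⟨hrA, hrP⟩, hr0⟩ := Submodule.exists_mem_ne_zero_of_ne_bot hR
    obtain ⟨w₁, hw₁, hrw₁⟩ := hWn r (hAW hrA) hr0
    have hout : ∀ y ∈ W, B r y ≠ 0 → Q y = 0 := by
      intro y hy hry
      by_contra hQy
      rcases haniso y hy hQy with h | h
      · exact hry (perp_comm hrP h |>.trans rfl)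
      · exact hry (mem_perp.1 h r hrA)
    have hQw : Q w₁ = 0 := hout w₁ hw₁ hrw₁
    have hrr : B r r = 0 := mem_perp.1 hrP r hrA
    have key : ∀ t : F, t * t * Q r + t * B r w₁ = 0 := by
      intro t
      have := hout (w₁ + t • r) (W.add_mem hw₁ (W.smul_mem _ (hAW hrA))) (by
        rw [QuadraticMap.polar_add_right, QuadraticMap.polar_smul_right, hrr, smul_zero, add_zero]
        exact hrw₁)
      rw [map_add', hQw, Classical.Orth.map_smul', QuadraticMap.polar_smul_right,
        QuadraticMap.polar_comm _ w₁ r, smul_eq_mul, zero_add] at this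
      exact this
    have hQr : Q r = -B r w₁ := by linear_combination key 1
    have ht : ∀ t : F, t ≠ 0 → t = 1 := by
      intro t ht0
      have h := key t
      rw [hQr] at h
      have : t * (1 - t) * B r w₁ = 0 := by linear_combination h
      simp only [mul_eq_zero, ht0, hrw₁, false_or, or_false, sub_eq_zero] at this
      exact this.symm
    have hcard : Fintype.card F ≤ 2 := by
      refine (Finset.card_le_card (s := Finset.univ) (t := {0, 1}) fun t _ => ?_).trans
        Finset.card_le_two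
      rcases eq_or_ne t 0 with rfl | ht0
      · simp
      · simp [ht t ht0]
    have h2 : (2 : F) = 0 := by
      by_contra h2
      exact one_ne_zero (α := F) (by linear_combination ht 2 h2)
    have hK : ∀ x ∈ W, B r x = 0 → ∀ y ∈ W, B r y = 0 → B x y = 0 := by
      intro x hx hrx y hy hry
      have q1 := hout (w₁ + x) (W.add_mem hw₁ hx) (by
        rw [QuadraticMap.polar_add_right, hrx, add_zero]; exact hrw₁)
      have q2 := hout (w₁ + y) (W.add_mem hw₁ hy) (by
        rw [QuadraticMap.polar_add_right, hry, add_zero]; exact hrw₁)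
      have q3 := hout (w₁ + x + y) (W.add_mem (W.add_mem hw₁ hx) hy) (by
        rw [QuadraticMap.polar_add_right, QuadraticMap.polar_add_right, hrx, hry, add_zero,
          add_zero]
        exact hrw₁)
      rw [map_add', hQw] at q1 q2
      rw [map_add', map_add', hQw, QuadraticMap.polar_add_left] at q3
      linear_combination q3 - q1 - q2
    have hB1 : B r w₁ = 1 := ht _ hrw₁
    have hle : W ≤ Submodule.span F {r} ⊔ Submodule.span F {w₁} := by
      intro x hx
      set x' := x + (-B r x) • w₁ with hx'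
      set x'' := x' + (-B w₁ x') • r with hx''
      have hx'W : x' ∈ W := W.add_mem hx (W.smul_mem _ hw₁)
      have hx''W : x'' ∈ W := W.add_mem hx'W (W.smul_mem _ (hAW hrA))
      have e1 : B r x'' = 0 := by
        simp [hx'', hx', QuadraticMap.polar_add_right, QuadraticMap.polar_smul_right, hrr, hB1]
      have e2 : B w₁ x'' = 0 := by
        simp [hx'', QuadraticMap.polar_add_right, QuadraticMap.polar_smul_right,
          QuadraticMap.polar_comm _ w₁ r, hB1]
      have hx0 : x'' = 0 := by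
        by_contra h0
        obtain ⟨y, hy, hxy⟩ := hWn x'' hx''W h0
        refine hxy ?_
        set y' := y + (-B r y) • w₁ with hy'
        have hy'W : y' ∈ W := W.add_mem hy (W.smul_mem _ hw₁)
        have e3 := hK x'' hx''W e1 y' hy'W (by
          simp [hy', QuadraticMap.polar_add_right, QuadraticMap.polar_smul_right, hB1])
        rw [hy', QuadraticMap.polar_add_right, QuadraticMap.polar_smul_right,
          QuadraticMap.polar_comm _ x'' w₁, e2, smul_zero, add_zero] at e3
        exact e3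
      rw [hx'', hx'] at hx0
      have e : x = B w₁ (x + (-B r x) • w₁) • r + B r x • w₁ := by
        rw [← sub_eq_zero, ← hx0]; module
      rw [e]
      exact Submodule.add_mem_sup (Submodule.smul_mem _ _ (Submodule.mem_span_singleton_self r))
        (Submodule.smul_mem _ _ (Submodule.mem_span_singleton_self w₁))
    have hw₁0 : w₁ ≠ 0 := by rintro rfl; simp at hrw₁
    have d1 := (Submodule.finrank_mono hle).trans
      (Submodule.finrank_add_le_finrank_add_finrank _ _)
    rw [finrank_span_singleton hr0, finrank_span_singleton hw₁0] at d1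
    have d2 : Submodule.span F {r} < W := by
      refine lt_of_le_not_ge ((Submodule.span_singleton_le_iff_mem _ _).2 (hAW hrA)) fun h => ?_
      obtain ⟨c, hc⟩ := Submodule.mem_span_singleton.1 (h hw₁)
      exact hrw₁ (by rw [← hc, QuadraticMap.polar_smul_right, hrr, smul_zero])
    have d3 := Submodule.finrank_lt_finrank_of_lt d2
    rw [finrank_span_singleton hr0] at d3
    exact hexW ⟨by omega, by omega, w₁, hw₁, hw₁0, hQw⟩
  have hA'0 : A' ≠ ⊥ := by
    intro h
    rw [h, finrank_bot, zero_add] at hdA'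
    exact hvA ((Submodule.eq_of_le_of_finrank_le hAW hdA') ▸ hv)
  have hboth : ∀ x ∈ A, x ∈ perp Q A → x = 0 := fun x h h' => by
    have : x ∈ A ⊓ perp Q A := ⟨h, h'⟩
    rwa [hR, Submodule.mem_bot] at this
  obtain ⟨b, ⟨hbW, hbP⟩, hb0⟩ := Submodule.exists_mem_ne_zero_of_ne_bot hA'0
  have hsum : ∀ x ∈ A, x ≠ 0 → ∀ y ∈ A', y ≠ 0 → Q x + Q y = 0 := by
    intro x hx hx0 y hy hy0
    by_contra hne
    have hxy : B x y = 0 := mem_perp.1 hy.2 x hx
    rcases haniso (x + y) (W.add_mem (hAW hx) hy.1) (by rwa [map_add', hxy, add_zero]) with h | h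
    · exact hy0 (hboth y ((A.add_mem_iff_right hx).1 h) hy.2)
    · exact hx0 (hboth x hx (((perp Q A).add_mem_iff_left hy.2).1 h))
  have hQa : ∀ x ∈ A, x ≠ 0 → Q x = -Q b := fun x hx hx0 =>
    eq_neg_of_add_eq_zero_left (hsum x hx hx0 b ⟨hbW, hbP⟩ hb0)
  have hQb : Q b ≠ 0 := by
    intro h0
    refine ha0 (hboth a ha (mem_perp.2 fun y hy => ?_))
    have hs : ∀ z ∈ A, Q z = 0 := fun z hz => by
      rcases eq_or_ne z 0 with rfl | hz0
      · exact map_zero'
      · rw [hQa z hz hz0, h0, neg_zero]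
    exact polar_of_sing hs hy ha
  have ht : ∀ t : F, t ≠ 0 → t * t = 1 := by
    intro t ht0
    have h := hQa _ (A.smul_mem t ha) (smul_ne_zero ht0 ha0)
    rw [Classical.Orth.map_smul', hQa a ha ha0] at h
    have : (t * t - 1) * -Q b = 0 := by linear_combination h
    simp only [mul_eq_zero, neg_eq_zero, hQb, or_false, sub_eq_zero] at this
    exact this
  have hne : Q b ≠ Q a := by
    intro h
    obtain ⟨k, hk, hka⟩ := exists_level hQ hn hWn hd (hAW ha) hbW h.symm ha0 hb0
    have := hinv k hk a ha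
    rw [hka] at this
    exact hb0 (hboth b this hbP)
  have h2 : (2 : F) ≠ 0 := by
    intro h2
    refine hne ?_
    rw [hQa a ha ha0]
    linear_combination (Q b) * h2
  have hcard : Fintype.card F ≤ 3 := by
    refine (Finset.card_le_card (s := Finset.univ) (t := {0, 1, -1}) fun t _ => ?_).trans
      Finset.card_le_three
    rcases eq_or_ne t 0 with rfl | ht0
    · simp
    · rcases mul_self_eq_one_iff.1 (ht t ht0) with h | h <;> simp [h]
  have hline : ∀ (S : Submodule F Vec) (c : F), c ≠ 0 → ∀ s₀ ∈ S, s₀ ≠ 0 →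
      (∀ x ∈ S, x ≠ 0 → Q x = c) → S ≤ Submodule.span F {s₀} := by
    intro S c hc s₀ hs₀ hs₀0 hS x hx
    by_contra hxs
    have hx0 : x ≠ 0 := by rintro rfl; exact hxs (Submodule.zero_mem _)
    have h1 : x + s₀ ≠ 0 := fun h => hxs (by
      rw [eq_neg_of_add_eq_zero_left h]
      exact Submodule.neg_mem _ (Submodule.mem_span_singleton_self _))
    have h3 : x - s₀ ≠ 0 := fun h => hxs (by
      rw [sub_eq_zero.1 h]; exact Submodule.mem_span_singleton_self _)
    have e1 := hS _ (S.add_mem hx hs₀) h1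
    have e2 := hS _ (S.sub_mem hx hs₀) h3
    rw [map_add', hS x hx hx0, hS s₀ hs₀ hs₀0] at e1
    rw [Classical.Orth.map_sub', hS x hx hx0, hS s₀ hs₀ hs₀0] at e2
    exact hc ((mul_eq_zero.1 (show (2 : F) * c = 0 by linear_combination e1 + e2)).resolve_left h2)
  have hQa' : ∀ y ∈ A', y ≠ 0 → Q y = Q b := fun y hy hy0 => by
    have := hsum a ha ha0 y hy hy0
    rw [hQa a ha ha0] at this
    linear_combination this
  have dA := (Submodule.finrank_mono (hline A (-Q b) (neg_ne_zero.2 hQb) a ha ha0 hQa))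
  have dA' := (Submodule.finrank_mono (hline A' (Q b) hQb b ⟨hbW, hbP⟩ hb0 hQa'))
  rw [finrank_span_singleton ha0] at dA
  rw [finrank_span_singleton hb0] at dA'
  have d3 : Submodule.span F {a} < W := by
    refine lt_of_le_not_ge ((Submodule.span_singleton_le_iff_mem _ _).2 (hAW ha)) fun h => ?_
    have hbA : b ∈ A := (Submodule.span_singleton_le_iff_mem _ _).2 ha (h hbW)
    exact hb0 (hboth b hbA hbP)
  have d4 := Submodule.finrank_lt_finrank_of_lt d3
  rw [finrank_span_singleton ha0] at d4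
  refine hexW ⟨hcard, by omega, a + b, W.add_mem (hAW ha) hbW, fun h => ?_, ?_⟩
  · refine hb0 (hboth b ?_ hbP)
    rw [eq_neg_of_add_eq_zero_right h]
    exact A.neg_mem ha
  · rw [map_add', show B a b = 0 from mem_perp.1 hbP a ha, hQa a ha ha0]
    ring

/-- the stabiliser of a non-degenerate subspace is maximal -/
theorem nondeg_maximal (hW0 : W ≠ ⊥) (hiso : ∀ h : Iso, ∃ x ∈ perp Q W, act h x ∉ W)
    (hminus : Fintype.card F = 2 → Module.finrank F ↥(perp Q W) = 4 →
      ∀ x ∈ perp Q W, ∀ y ∈ perp Q W, Q x = 0 → Q y = 0 → B x y = 0 →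
        x = 0 ∨ y ∈ Submodule.span F {x})
    (hexW : ¬(Fintype.card F ≤ 3 ∧ Module.finrank F W = 2 ∧ ∃ w ∈ W, w ≠ 0 ∧ Q w = 0)) :
    Cfsg.Geo.IsMaximalIn (Cfsg.Geo.omegaGL ⇑Q)
      (Cfsg.Geo.subspaceStabilizer W ⊓ Cfsg.Geo.omegaGL ⇑Q) := by
  obtain ⟨w₀, hw₀, hw₀0⟩ := Submodule.exists_mem_ne_zero_of_ne_bot hW0
  set U := perp Q W with hU
  have hUn := perp_nd hQ hWn hd
  refine isMaximalIn_omega W ?_ fun M hM _ g hgM hg => omega_le_of_centres hQ hn ?_
  · obtain ⟨u, hu, hu0, hQu⟩ := exists_sing hQ (S := U) (by omega)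
    have h := perp_comm hu hw₀
    obtain ⟨w, hw, hww⟩ := hWn w₀ hw₀ hw₀0
    refine ⟨eich u w₀ hQu h, eich_omega hQ hn hQu h, w, hw, fun hmem => hu0 ?_⟩
    rw [act_eich, mem_perp.1 hu w hw] at hmem
    simp only [zero_smul, add_zero, mul_zero, sub_zero] at hmem
    rw [W.sub_mem_iff_right hw] at hmem
    have h2 := W.smul_mem (B w w₀)⁻¹ hmem
    rw [smul_smul, inv_mul_cancel₀ (by rwa [QuadraticMap.polar_comm]), one_smul] at h2
    exact eq_zero_of_both hQ hWn h2 hu
  obtain ⟨u₁, a₁, hu₁, ha₁, hQu₁, hu₁0, ha₁0, hmix⟩ := exists_mixed hQ hn hWn hd hM hiso hminus hgM hg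
  let A : Submodule F Vec :=
    { carrier := {a | a ∈ W ∧ ∀ (u : Vec) (_ : u ∈ U) (hu : Q u = 0) (h : B u a = 0),
        eich u a hu h ∈ M}
      zero_mem' := ⟨W.zero_mem, fun u _ hu h => by rw [eich_zero_right]; exact one_mem M⟩
      add_mem' := fun {a b} ha hb => ⟨W.add_mem ha.1 hb.1, fun u hu' hu h => by
        have e := mul_mem (ha.2 u hu' hu (perp_comm hu' ha.1)) (hb.2 u hu' hu (perp_comm hu' hb.1))
        rwa [eich_mul] at e⟩
      smul_mem' := fun t a ha => ⟨W.smul_mem t ha.1, fun u hu' hu h => by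
        have h1 : Q (t • u) = 0 := by rw [Classical.Orth.map_smul', hu, mul_zero]
        have h2 : B (t • u) a = 0 := perp_comm (U.smul_mem t hu') ha.1
        exact eich_smul t h1 h2 hu h ▸ ha.2 _ (U.smul_mem t hu') h1 h2⟩ }
  have hA : A = W := by
    refine eq_of_invariant hQ hn hWn hd hexW (fun a ha => ha.1) (fun h0 => ha₁0 ?_)
      fun h hh a ha => ⟨hh a ha.1, fun u hu' hu hha => ?_⟩
    · have : a₁ ∈ A := ⟨ha₁, fun u hu hQu _ => transfer hQ hn hWn hd hM hu₁ hu hu₁0 ha₁ hQu₁ hQu hmix⟩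
      rwa [h0, Submodule.mem_bot] at this
    · obtain ⟨n, hn', hnh⟩ := exists_correct hQ hn (perp_value hQ hn hWn hd) h
      set k := n * h with hk
      have hkW : ∀ w ∈ W, act k w = act h w := fun w hw => by rw [hk, act_mul, hn' _ (hh w hw)]
      have hkW' : ∀ w ∈ W, act k w ∈ W := fun w hw => by rw [hkW w hw]; exact hh w hw
      have hkM := hM k hnh hkW'
      have hu2 : act k⁻¹ u ∈ U := act_mem_perp hkW' hu'
      have hQu2 : Q (act k⁻¹ u) = 0 := by rw [act_map, hu]
      have e := mul_mem (mul_mem hkM (ha.2 _ hu2 hQu2 (perp_comm hu2 ha.1))) (inv_mem hkM)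
      rwa [eich_conj, eich_congr' (act_cancel_inv k u) (hkW a ha.1) _ hu _ hha] at e
  have hUC : ∀ u ∈ U, Q u = 0 → u ∈ centres M := by
    intro u hu hQu
    refine ⟨hQu, fun x _ hux => ?_⟩
    obtain ⟨a, ha, b, hb, rfl⟩ := exists_split hQ hWn x
    have hub : B u b = 0 := by
      rwa [QuadraticMap.polar_add_right, perp_comm hu ha, zero_add] at hux
    have h1 : eich u b hQu hub ∈ M := hM _ (eich_omega hQ hn hQu hub) fun w hw => by
      rw [act_eich, mem_perp.1 hu w hw, mem_perp.1 hb w hw]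
      simpa using hw
    have haA : a ∈ A := by rw [hA]; exact ha
    have e := mul_mem (haA.2 u hu hQu (perp_comm hu ha)) h1
    rwa [eich_mul] at e
  have hmixed : ∀ z, Q z = 0 → z ∉ W → z ∈ centres M := by
    intro z hQz hzW
    obtain ⟨c, hc, b, hb, rfl⟩ := exists_split hQ hWn z
    have hb0 : b ≠ 0 := by rintro rfl; exact hzW (by rwa [add_zero])
    obtain ⟨u', hu', hQu', hub'⟩ : ∃ u ∈ U, Q u = 0 ∧ B u b ≠ 0 := by
      by_contra hc'
      push Not at hc'
      obtain ⟨y, hy, hby⟩ := hUn b hb hb0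
      have hle : U ≤ ker Q b := sing_span' hQ hUn (by omega) fun v hv hQv => by
        rw [mem_ker', QuadraticMap.polar_comm]; exact hc' v hv hQv
      exact hby (hle hy)
    set u := (B u' b)⁻¹ • u' with hu
    have huU : u ∈ U := U.smul_mem _ hu'
    have hQu : Q u = 0 := by rw [hu, Classical.Orth.map_smul', hQu', mul_zero]
    have hzu : B (c + b) u = 1 := by
      rw [QuadraticMap.polar_add_left, mem_perp.1 huU c hc, zero_add, hu,
        QuadraticMap.polar_smul_right, QuadraticMap.polar_comm _ b u', smul_eq_mul,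
        inv_mul_cancel₀ hub']
    have hu0 : B u b ≠ 0 := by
      rw [QuadraticMap.polar_add_left, mem_perp.1 huU c hc, zero_add,
        QuadraticMap.polar_comm] at hzu
      rw [hzu]; exact one_ne_zero
    obtain ⟨v, hvU, hQv, huv⟩ := exists_partner_in huU hb hQu hu0
    obtain ⟨h, he⟩ := exists_eich_move (a := u) (u := c + b) (v := v) hQu (hQz.trans hQv.symm) hzu
      (by rw [QuadraticMap.polar_comm]; exact huv)
    have hk := (hUC u huU hQu).2 _ hQu h
    have e2 := congrArg (act (eich u (v - (c + b)) hQu h)⁻¹) he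
    rw [← act_mul, inv_mul_cancel, act_one] at e2
    exact e2.symm ▸ centres_map (inv_mem hk) (hUC v hvU hQv)
  intro z hz hQz
  by_cases hzW : z ∈ W
  swap
  · exact hmixed z hQz hzW
  obtain ⟨a, ha, hza⟩ := hWn z hzW hz
  obtain ⟨u, hu, hu0, hQu⟩ := exists_sing hQ (S := U) (by omega)
  have hua := perp_comm hu ha
  have hk := (hUC u hu hQu).2 a hQu hua
  have hC : act (eich u a hQu hua) z ∈ centres M := by
    refine hmixed _ (by rw [act_map, hQz]) fun hmem => hu0 ?_
    rw [act_eich, mem_perp.1 hu z hzW] at hmem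
    simp only [zero_smul, add_zero, mul_zero, sub_zero] at hmem
    rw [W.sub_mem_iff_right hzW] at hmem
    have h2 := W.smul_mem (B z a)⁻¹ hmem
    rw [smul_smul, inv_mul_cancel₀ hza, one_smul] at h2
    exact eq_zero_of_both hQ hWn h2 hu
  have := centres_map (inv_mem hk) hC
  rwa [← act_mul, inv_mul_cancel, act_one] at this

end Cfsg.Agent.Forms.Max.Orth
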