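import Mathlib
import Cfsg.Agent.Lib.Forms.Max.OrthNondeg
import Cfsg.Agent.Lib.Classical.QuadClass

/-!
# Maximality for the non-degenerate subspaces: the statements' hypotheses
-/

set_option autoImplicit false
set_option linter.unusedSectionVars false

namespace Cfsg.Agent.Forms.Max.Orth

open Matrix Cfsg.Agent.Forms.QuadStd Cfsg.Agent.Forms.Reflections Cfsg.Agent.Classical.Orth

variable {F : Type*} [Field F] [Fintype F] {ι : Type} [Fintype ι] [DecidableEq ι]
variable {Q : QuadraticForm F (ι → F)}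

local notation "Vec" => (ι → F)
local notation "B" => QuadraticMap.polar Q
set_option quotPrecheck false in
local notation "Iso" => Cfsg.isometryGroup F ⇑Q

theorem isPlusTypeOn_plane {P : Submodule F Vec} (hP : Module.finrank F P = 2) {w : Vec}
    (hw : w ∈ P) (hw0 : w ≠ 0) (hQw : Q w = 0) : Cfsg.Geo.IsPlusTypeOn (⇑Q) P := by
  refine ⟨Submodule.span F {w}, (Submodule.span_singleton_le_iff_mem _ _).2 hw, fun x hx => ?_, ?_⟩
  · obtain ⟨c, rfl⟩ := Submodule.mem_span_singleton.1 hx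
    rw [Classical.Orth.map_smul', hQw, mul_zero]
  · rw [finrank_span_singleton hw0, hP]

variable (hQ : (QuadraticMap.polarBilin Q).Nondegenerate)
include hQ

theorem map_mem_perp_iff {W : Submodule F Vec} {g : Iso} :
    (∀ w ∈ W, act g w ∈ W) ↔ ∀ u ∈ perp Q W, act g u ∈ perp Q W := by
  have key : ∀ S : Submodule F Vec, (∀ w ∈ S, act g w ∈ S) →
      ∀ u ∈ perp Q S, act g u ∈ perp Q S := by
    intro S h u hu
    have hmap : S.map (act g) = S := Submodule.eq_of_le_of_finrank_eq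
      (Submodule.map_le_iff_le_comap.2 h)
      (Submodule.equivMapOfInjective _ (act_injective g) S).finrank_eq.symm
    refine mem_perp.2 fun w hw => ?_
    have hw2 : w ∈ S.map (act g) := hmap.symm ▸ hw
    obtain ⟨w', hw', rfl⟩ := hw2
    rw [act_polar]
    exact mem_perp.1 hu w' hw'
  refine ⟨key W, fun h => ?_⟩
  have := key _ h
  rwa [perp_perp hQ W] at this

theorem stab_perp (W : Submodule F Vec) :
    Cfsg.Geo.subspaceStabilizer W ⊓ Cfsg.Geo.omegaGL ⇑Q =
      Cfsg.Geo.subspaceStabilizer (perp Q W) ⊓ Cfsg.Geo.omegaGL ⇑Q := by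
  ext x
  refine and_congr_left fun hx => ?_
  obtain ⟨g, -, rfl⟩ := Subgroup.mem_map.1 hx
  have e := map_mem_perp_iff hQ (W := W) (g := g)
  simp only [act_apply] at e
  exact ⟨fun h => stab_of_forall (e.1 fun w hw => map_of_stab h hw),
    fun h => stab_of_forall (e.2 fun w hw => map_of_stab h hw)⟩

/-- a space that is the orthogonal sum of two isometric halves of even dimension is of plus type -/
theorem plus_of_halves {W : Submodule F Vec}
    (hWn : ∀ w ∈ W, w ≠ 0 → ∃ x ∈ W, B w x ≠ 0) (hhalf : 2 * Module.finrank F W = Fintype.card ι)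
    (hev : Even (Module.finrank F W)) {h : Iso} (hh : ∀ x ∈ perp Q W, act h x ∈ W) :
    ∃ T : Submodule F Vec, (∀ x ∈ T, Q x = 0) ∧ 2 * Module.finrank F T = Fintype.card ι := by
  obtain ⟨m, hm⟩ := hev
  set e₀ := (Module.finBasis F W).equivFun with he₀
  let P : QuadraticForm F (Fin (Module.finrank F W) → F) :=
    Q.comp (W.subtype ∘ₗ e₀.symm.toLinearMap)
  have hP : (QuadraticMap.polarBilin P).Nondegenerate := by
    have hr : ((polB Q).restrict W).Nondegenerate :=
      @restrict_nondeg _ _ _ _ _ _ (polB Q) polB_refl W hWn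
    refine ⟨fun x hx => ?_, fun y hy => ?_⟩
    · refine e₀.symm.injective ((hr.1 (e₀.symm x) fun y => ?_).trans (map_zero e₀.symm).symm)
      have := hx (e₀ y)
      simpa [P, QuadraticMap.polar, polB_apply, LinearMap.domRestrict₁₂_apply] using this
    · refine e₀.symm.injective ((hr.2 (e₀.symm y) fun x => ?_).trans (map_zero e₀.symm).symm)
      have := hy (e₀ x)
      simpa [P, QuadraticMap.polar, polB_apply, LinearMap.domRestrict₁₂_apply] using this
  have hN : (QuadraticMap.polarBilin (-P)).Nondegenerate := by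
    have e : ∀ x y, QuadraticMap.polarBilin (-P) x y = -QuadraticMap.polarBilin P x y := fun x y => by
      simp [QuadraticMap.polarBilin_apply_apply, QuadraticMap.polar]
      ring
    exact ⟨fun x hx => hP.1 x fun y => neg_eq_zero.1 ((e x y).symm.trans (hx y)),
      fun y hy => hP.2 y fun x => neg_eq_zero.1 ((e x y).symm.trans (hy x))⟩
  obtain ⟨e, he⟩ := Classical.QuadClass.exists_isometry_of_zeros (m := m) P (-P)
    (by rw [Fintype.card_fin]; omega) (by rw [Fintype.card_fin]; omega) hP hN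
    (Nat.card_congr (Equiv.subtypeEquivRight fun x => by
      show P x = 0 ↔ (-P) x = 0
      simp))
  obtain ⟨θ, hθ⟩ : ∃ θ : W →ₗ[F] Vec, ∀ a : W, θ a ∈ W ∧ Q (θ a) = -Q (a : Vec) := by
    refine ⟨W.subtype ∘ₗ e₀.symm.toLinearMap ∘ₗ e.toLinearMap ∘ₗ e₀.toLinearMap,
      fun a => ⟨(e₀.symm (e (e₀ a))).2, ?_⟩⟩
    have h1 := he (e₀ a)
    simp [P] at h1 ⊢
    linear_combination -h1
  let hr : perp Q W →ₗ[F] W := ((act h).domRestrict (perp Q W)).codRestrict W fun x => hh x.1 x.2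
  let φ : perp Q W →ₗ[F] Vec := (perp Q W).subtype + θ.comp hr
  have hφ : Function.Injective φ := by
    rw [injective_iff_map_eq_zero]
    intro u hu
    refine Subtype.ext (eq_zero_of_both hQ hWn ?_ u.2)
    rw [show (u : Vec) = -θ (hr u) from eq_neg_of_add_eq_zero_left hu]
    exact W.neg_mem (hθ (hr u)).1
  refine ⟨LinearMap.range φ, ?_, ?_⟩
  · rintro _ ⟨u, rfl⟩
    show Q ((u : Vec) + θ (hr u)) = 0
    rw [map_add', (hθ (hr u)).2, perp_comm u.2 (hθ (hr u)).1]
    show Q (u : Vec) + -Q (act h u) + 0 = 0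
    rw [act_map]; ring
  · rw [LinearMap.finrank_range_of_inj hφ]
    have := finrank_perp hQ W
    omega

/-- the stabiliser of a proper non-degenerate subspace is maximal, small planes aside -/
theorem nondeg_maximal_of_card (hn : 7 ≤ Fintype.card ι) (hq : Fintype.card F = 2 → 9 ≤ Fintype.card ι)
    {W : Submodule F Vec} (hW0 : W ≠ ⊥)
    (hW1 : W ≠ ⊤) (hW : Cfsg.Geo.IsNondegenerateOn (QuadraticMap.polar ⇑Q) W)
    (hhalf : 2 * Module.finrank F W = Fintype.card ι → ∀ h : Iso, ∃ x ∈ perp Q W, act h x ∉ W)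
    (hex : ∀ P : Submodule F Vec, Module.finrank F P = 2 →
      Cfsg.Geo.IsNondegenerateOn (QuadraticMap.polar ⇑Q) P → Cfsg.Geo.IsPlusTypeOn (⇑Q) P →
      (P = W ∨ P = perp Q W) → ¬ Fintype.card F ≤ 3) :
    Cfsg.Geo.IsMaximalIn (Cfsg.Geo.omegaGL ⇑Q)
      (Cfsg.Geo.subspaceStabilizer W ⊓ Cfsg.Geo.omegaGL ⇑Q) := by
  have hWn : ∀ w ∈ W, w ≠ 0 → ∃ x ∈ W, B w x ≠ 0 := fun w h h' => (hW w h h').2
  have hUn : ∀ r ∈ perp Q W, r ≠ 0 → ∃ s ∈ perp Q W, B r s ≠ 0 :=
    Max.perp_nondeg (nd hQ) polB_refl hWn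
  have hn9 : 5 ≤ Fintype.card ι := by omega
  have d0 := finrank_perp hQ W
  have hlt : ∀ (S T : Submodule F Vec), Module.finrank F T < Module.finrank F S →
      ∀ h : Iso, ∃ x ∈ S, act h x ∉ T := by
    intro S T hST h
    by_contra hc
    push Not at hc
    have d := Submodule.finrank_mono (Submodule.map_le_iff_le_comap.2 (fun x hx => hc x hx) :
      S.map (act h) ≤ T)
    rw [← (Submodule.equivMapOfInjective _ (act_injective h) S).finrank_eq] at d
    omega
  have hnd : ∀ S : Submodule F Vec, (∀ r ∈ S, r ≠ 0 → ∃ s ∈ S, B r s ≠ 0) →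
      Cfsg.Geo.IsNondegenerateOn (QuadraticMap.polar ⇑Q) S := fun S h r hr hr0 =>
    let ⟨s, hs, hrs⟩ := h r hr hr0
    ⟨⟨s, hs, by rwa [QuadraticMap.polar_comm]⟩, s, hs, hrs⟩
  by_cases hle : Module.finrank F W ≤ Module.finrank F ↥(perp Q W)
  · refine nondeg_maximal hQ hn9 hWn (by omega) hW0 ?_
      (fun h' h => absurd h (by have := hq h'; omega)) fun ⟨hq, h2, w, hw, hw0, hQw⟩ =>
      hex W h2 hW (isPlusTypeOn_plane h2 hw hw0 hQw) (Or.inl rfl) hq
    rcases lt_or_eq_of_le hle with h | h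
    · exact hlt _ _ h
    · exact hhalf (by omega)
  · rw [stab_perp hQ W]
    refine nondeg_maximal hQ hn9 hUn (by rw [perp_perp hQ W]; omega) (fun h => hW1 ?_)
      (by rw [perp_perp hQ W]; exact hlt _ _ (by omega))
      (by rw [perp_perp hQ W]; exact fun h' h => absurd h (by have := hq h'; omega)) fun ⟨hq, h2, w, hw, hw0, hQw⟩ =>
      hex _ h2 (hnd _ hUn) (isPlusTypeOn_plane h2 hw hw0 hQw) (Or.inr rfl) hq
    refine Submodule.eq_top_of_finrank_eq ?_
    rw [h, finrank_bot] at d0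
    rw [Module.finrank_fintype_fun_eq_card]
    omega

/-- the stabiliser of a proper non-degenerate subspace is maximal, in dimension at least nine -/
theorem nondeg_maximal' (hn : 9 ≤ Fintype.card ι) {W : Submodule F Vec} (hW0 : W ≠ ⊥)
    (hW1 : W ≠ ⊤) (hW : Cfsg.Geo.IsNondegenerateOn (QuadraticMap.polar ⇑Q) W)
    (hhalf : 2 * Module.finrank F W = Fintype.card ι → ∀ h : Iso, ∃ x ∈ perp Q W, act h x ∉ W)
    (hex : ∀ P : Submodule F Vec, Module.finrank F P = 2 →
      Cfsg.Geo.IsNondegenerateOn (QuadraticMap.polar ⇑Q) P → Cfsg.Geo.IsPlusTypeOn (⇑Q) P →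
      (P = W ∨ P = perp Q W) → ¬ Fintype.card F ≤ 3) :
    Cfsg.Geo.IsMaximalIn (Cfsg.Geo.omegaGL ⇑Q)
      (Cfsg.Geo.subspaceStabilizer W ⊓ Cfsg.Geo.omegaGL ⇑Q) :=
  nondeg_maximal_of_card hQ (by omega) (fun _ => hn) hW0 hW1 hW hhalf hex

end Cfsg.Agent.Forms.Max.Orth
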