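import Mathlib
import Cfsg.Agent.Lib.Forms.Max.OrthBase

/-!
# Stabilisers of totally singular subspaces in the orthogonal groups
-/

set_option autoImplicit false
set_option linter.unusedSectionVars false

namespace Cfsg.Agent.Forms.Max.Orth

open Matrix Cfsg.Agent.Forms.QuadStd Cfsg.Agent.Forms.Reflections Cfsg.Agent.Classical.Orth

variable {F : Type*} [Field F] [Fintype F] {ι : Type} [Fintype ι] [DecidableEq ι]
variable {Q : QuadraticForm F (ι → F)}

local notation "Vec" => (ι → F)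
local notation "B" => QuadraticMap.polar Q
set_option quotPrecheck false in
local notation "Iso" => Cfsg.isometryGroup F ⇑Q

variable (hQ : (QuadraticMap.polarBilin Q).Nondegenerate) (hn : 5 ≤ Fintype.card ι)
  {W : Submodule F (ι → F)} (hW : ∀ x ∈ W, Q x = 0)

include hQ hn hW

/-- the stabiliser contains the root subgroups centred in the subspace -/
theorem mem_centres_of_mem {M : Subgroup Iso}
    (hM : ∀ g ∈ Cfsg.Omega F ⇑Q, (∀ w ∈ W, act g w ∈ W) → g ∈ M) {u : Vec} (hu : u ∈ W) :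
    u ∈ centres M := by
  refine ⟨hW u hu, fun w h h' => hM _ (eich_omega hQ hn h h') fun x hx => ?_⟩
  rw [act_eich, polar_of_sing hW hx hu]
  simp only [zero_smul, add_zero, mul_zero, sub_zero]
  exact W.sub_mem hx (W.smul_mem _ hu)

/-- singular vectors outside the orthogonal complement are conjugate -/
theorem centres_outer {M : Subgroup Iso}
    (hM : ∀ g ∈ Cfsg.Omega F ⇑Q, (∀ w ∈ W, act g w ∈ W) → g ∈ M) {u v : Vec} (hu : u ∉ perp Q W)
    (hQv : Q v = 0) (hv : v ∉ perp Q W) (huC : u ∈ centres M) : v ∈ centres M := by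
  obtain ⟨a₁, ha₁, hua⟩ : ∃ a ∈ W, B u a ≠ 0 := by
    by_contra hc
    push Not at hc
    exact hu (mem_perp.2 fun w hw => by rw [QuadraticMap.polar_comm]; exact hc w hw)
  obtain ⟨a₂, ha₂, hva⟩ : ∃ a ∈ W, B v a ≠ 0 := by
    by_contra hc
    push Not at hc
    exact hv (mem_perp.2 fun w hw => by rw [QuadraticMap.polar_comm]; exact hc w hw)
  obtain ⟨a, ha, hu', hv'⟩ :=
    exists_common (polB Q) W ⟨a₁, ha₁, hua⟩ ⟨a₂, ha₂, hva⟩
  rw [polB_apply] at hu' hv'
  set a' := (B u a)⁻¹ • a with ha'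
  set t := B u a / B v a with ht
  have ht0 : t ≠ 0 := div_ne_zero hu' hv'
  have h1 : B u a' = 1 := by
    rw [ha', QuadraticMap.polar_smul_right, smul_eq_mul, inv_mul_cancel₀ hu']
  have h2 : B (t • v) a' = 1 := by
    rw [ha', ht, QuadraticMap.polar_smul_right, QuadraticMap.polar_smul_left, smul_eq_mul,
      smul_eq_mul]
    field_simp
  have haW : a' ∈ W := W.smul_mem _ ha
  obtain ⟨h, he⟩ := exists_eich_move (a := a') (u := u) (v := t • v) (hW a' haW)
    (by rw [huC.1, Classical.Orth.map_smul', hQv, mul_zero]) h1 h2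
  have hC := centres_map ((mem_centres_of_mem hQ hn hW hM haW).2 _ (hW a' haW) h) huC
  rw [he] at hC
  simpa [smul_smul, inv_mul_cancel₀ ht0] using centres_smul t⁻¹ hC

variable (hex : ∀ T : Submodule F (ι → F), (∀ x ∈ T, Q x = 0) →
  2 * Module.finrank F T = Fintype.card ι → Fintype.card ι ≠ 2 * (Module.finrank F W + 1))
include hex

/-- a singular vector of the complement pairing with two given ones -/
theorem exists_common_partner {u v : Vec} (huP : u ∈ perp Q W) (huW : u ∉ W) (hQu : Q u = 0)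
    (hvP : v ∈ perp Q W) (hvW : v ∉ W) (hQv : Q v = 0) :
    ∃ a ∈ perp Q W, Q a = 0 ∧ B u a ≠ 0 ∧ B v a ≠ 0 := by
  obtain ⟨y₁, hy₁, huy⟩ := not_mem_perp hQ huW
  obtain ⟨a₁, ha₁, hQa₁, hua₁⟩ := exists_partner_in huP hy₁ hQu huy
  obtain ⟨y₂, hy₂, hvy⟩ := not_mem_perp hQ hvW
  obtain ⟨a₂, ha₂, hQa₂, hva₂⟩ := exists_partner_in hvP hy₂ hQv hvy
  by_cases h1 : B v a₁ = 0
  swap
  · exact ⟨a₁, ha₁, hQa₁, by simp [hua₁], h1⟩
  by_cases h2 : B u a₂ = 0
  swap
  · exact ⟨a₂, ha₂, hQa₂, h2, by simp [hva₂]⟩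
  by_cases h3 : B u v = 0
  · refine ⟨a₁ + a₂ + (-B a₁ a₂) • u, Submodule.add_mem _ (Submodule.add_mem _ ha₁ ha₂)
      (Submodule.smul_mem _ _ huP), ?_, ?_, ?_⟩
    · simp only [map_add', Classical.Orth.map_smul', QuadraticMap.polar_add_left,
        QuadraticMap.polar_smul_right, hQu, hQa₁, hQa₂, QuadraticMap.polar_comm _ a₁ u,
        QuadraticMap.polar_comm _ a₂ u, hua₁, h2, smul_eq_mul]
      ring
    · simp [QuadraticMap.polar_add_right, QuadraticMap.polar_smul_right, hua₁, h2,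
        polar_self_zero hQu]
    · simp [QuadraticMap.polar_add_right, QuadraticMap.polar_smul_right, h1, hva₂,
        QuadraticMap.polar_comm _ v u, h3]
  obtain ⟨x, hx, hQx⟩ : ∃ x ∈ perp Q W ⊓ ker Q u ⊓ ker Q v, Q x ≠ 0 := by
    by_contra hc
    push Not at hc
    set S := perp Q W ⊓ ker Q u ⊓ ker Q v with hS
    have hWS : W ≤ S := fun w hw => ⟨⟨mem_perp.2 fun w' hw' => polar_of_sing hW hw' hw,
      perp_comm huP hw⟩, perp_comm hvP hw⟩
    have huS : u ∉ S := fun h => h3 (by rw [QuadraticMap.polar_comm]; exact h.2)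
    have hT : ∀ y ∈ S ⊔ Submodule.span F {u}, Q y = 0 := by
      intro y hy
      obtain ⟨s, hs, c, hc', rfl⟩ := Submodule.mem_sup.1 hy
      obtain ⟨c, rfl⟩ := Submodule.mem_span_singleton.1 hc'
      rw [map_add', Classical.Orth.map_smul', hc s hs, hQu, QuadraticMap.polar_smul_right,
        QuadraticMap.polar_comm _ s u, (show B u s = 0 from hs.1.2)]
      simp
    have hlt : S < S ⊔ Submodule.span F {u} := lt_of_le_not_ge le_sup_left
      fun h => huS (h (Submodule.mem_sup_right (Submodule.mem_span_singleton_self u)))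
    have d0 := Submodule.finrank_lt_finrank_of_lt hlt
    have d1 := finrank_sing_le hQ hT
    have d2 := finrank_inf_ker hQ (perp Q W) u
    have d3 := finrank_inf_ker hQ (perp Q W ⊓ ker Q u) v
    have d4 := finrank_perp hQ W
    have d5 := Submodule.finrank_mono hWS
    rw [← hS] at d3
    exact hex _ hT (by omega) (by omega)
  set v' := (B u v)⁻¹ • v with hv'
  have e1 : B u x = 0 := hx.1.2
  have e2 : B v x = 0 := hx.2
  have e3 : B u v' = 1 := by
    rw [hv', QuadraticMap.polar_smul_right, smul_eq_mul, inv_mul_cancel₀ h3]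
  refine ⟨v' + x + (-Q x) • u, Submodule.add_mem _ (Submodule.add_mem _
    (Submodule.smul_mem _ _ hvP) hx.1.1) (Submodule.smul_mem _ _ huP), ?_, ?_, ?_⟩
  · have e4 : B v' x = 0 := by rw [hv', QuadraticMap.polar_smul_left, e2, smul_zero]
    have e5 : Q v' = 0 := by rw [hv', Classical.Orth.map_smul', hQv, mul_zero]
    simp only [map_add', Classical.Orth.map_smul', QuadraticMap.polar_add_left,
      QuadraticMap.polar_smul_right, hQu, e4, e5, QuadraticMap.polar_comm _ v' u,
      QuadraticMap.polar_comm _ x u, e1, e3, smul_eq_mul]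
    ring
  · simp [QuadraticMap.polar_add_right, QuadraticMap.polar_smul_right, e3, e1,
      polar_self_zero hQu]
  · rw [hv']
    simp [QuadraticMap.polar_add_right, QuadraticMap.polar_smul_right, e2, polar_self_zero hQv,
      QuadraticMap.polar_comm _ v u, h3, hQx]

/-- singular vectors of the complement outside the subspace are conjugate -/
theorem centres_inner {M : Subgroup Iso}
    (hM : ∀ g ∈ Cfsg.Omega F ⇑Q, (∀ w ∈ W, act g w ∈ W) → g ∈ M) {u v : Vec}
    (huP : u ∈ perp Q W) (huW : u ∉ W) (hvP : v ∈ perp Q W) (hvW : v ∉ W) (hQv : Q v = 0)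
    (huC : u ∈ centres M) : v ∈ centres M := by
  obtain ⟨a, ha, hQa, hu', hv'⟩ :=
    exists_common_partner hQ hn hW hex huP huW huC.1 hvP hvW hQv
  set a' := (B u a)⁻¹ • a with ha'
  set t := B u a / B v a with ht
  have ht0 : t ≠ 0 := div_ne_zero hu' hv'
  have h1 : B u a' = 1 := by
    rw [ha', QuadraticMap.polar_smul_right, smul_eq_mul, inv_mul_cancel₀ hu']
  have h2 : B (t • v) a' = 1 := by
    rw [ha', ht, QuadraticMap.polar_smul_right, QuadraticMap.polar_smul_left, smul_eq_mul,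
      smul_eq_mul]
    field_simp
  have haP : a' ∈ perp Q W := Submodule.smul_mem _ _ ha
  have hQa' : Q a' = 0 := by rw [ha', Classical.Orth.map_smul', hQa, mul_zero]
  obtain ⟨h, he⟩ := exists_eich_move (a := a') (u := u) (v := t • v) hQa'
    (by rw [huC.1, Classical.Orth.map_smul', hQv, mul_zero]) h1 h2
  have hk : eich a' (t • v - u) hQa' h ∈ M := hM _ (eich_omega hQ hn hQa' h) fun w hw => by
    rw [act_eich, mem_perp.1 haP w hw, mem_perp.1
      (Submodule.sub_mem _ (Submodule.smul_mem _ _ hvP) huP) w hw]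
    simpa using hw
  have hC := centres_map hk huC
  rw [he] at hC
  simpa [smul_smul, inv_mul_cancel₀ ht0] using centres_smul t⁻¹ hC

/-- the stabiliser of a totally singular subspace is maximal -/
theorem singular_maximal (hW0 : W ≠ ⊥) :
    Cfsg.Geo.IsMaximalIn (Cfsg.Geo.omegaGL ⇑Q)
      (Cfsg.Geo.subspaceStabilizer W ⊓ Cfsg.Geo.omegaGL ⇑Q) := by
  obtain ⟨w₀, hw₀, hw00⟩ := Submodule.exists_mem_ne_zero_of_ne_bot hW0
  refine isMaximalIn_omega W ?_ fun M hM _ g hgM ⟨w, hw, hgw⟩ => omega_le_of_centres hQ hn ?_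
  · obtain ⟨y₀, hy₀⟩ := exists_ne hQ hw00
    obtain ⟨y, -, hQy, hwy⟩ := exists_partner_in (S := ⊤) (e := w₀) (Submodule.mem_top)
      (Submodule.mem_top (x := y₀)) (hW _ hw₀) hy₀
    obtain ⟨x, hx, hQx⟩ : ∃ x ∈ ker Q w₀ ⊓ ker Q y, Q x ≠ 0 := by
      by_contra hc
      push Not at hc
      have d1 := finrank_sing_le hQ hc
      have d2 := finrank_inf_ker hQ ⊤ w₀
      have d3 := finrank_inf_ker hQ (ker Q w₀) y
      rw [top_inf_eq, finrank_top, Module.finrank_fintype_fun_eq_card] at d2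
      omega
    have hxy : B y x = 0 := hx.2
    refine ⟨eich y x hQy hxy, eich_omega hQ hn hQy hxy, w₀, hw₀, fun hmem => hQx ?_⟩
    have e := polar_of_sing hW hw₀ hmem
    rw [act_eich, hwy] at e
    simpa [QuadraticMap.polar_add_right, QuadraticMap.polar_sub_right,
      QuadraticMap.polar_smul_right, polar_self_zero (hW _ hw₀), (hx.1 : B w₀ x = 0), hwy] using e
  intro z hz hQz
  have hwC := mem_centres_of_mem hQ hn hW hM hw
  obtain ⟨y, hyC, hyP⟩ : ∃ y ∈ centres M, y ∉ perp Q W := by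
    have huC := centres_map hgM hwC
    by_cases huP : act g w ∈ perp Q W
    swap
    · exact ⟨_, huC, huP⟩
    set u := act g w with hu
    obtain ⟨y', hy', huy'⟩ := not_mem_perp hQ hgw
    obtain ⟨u', hu', hQu', huu'⟩ := exists_partner_in huP hy' huC.1 huy'
    have hu'W : u' ∉ W := fun h => one_ne_zero (huu'.symm.trans (perp_comm huP h))
    have hu'C := centres_inner hQ hn hW hex hM huP hgw hu' hu'W hQu' huC
    obtain ⟨x, hux, hwx⟩ := exists_perp_ne hQ (u := u) (z := w₀)
      (not_mem_span hw₀ hw00 hgw)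
    have hw₀C := mem_centres_of_mem hQ hn hW hM hw₀
    have hy1 := centres_map (huC.2 x huC.1 hux) hw₀C
    obtain ⟨x', hux', hwx'⟩ := exists_perp_ne hQ (u := u') (z := w₀)
      (not_mem_span hw₀ hw00 hu'W)
    refine ⟨_, centres_map (hu'C.2 x' hu'C.1 hux') hy1, fun hmem => ?_⟩
    have e := mem_perp.1 hmem w₀ hw₀
    have e0 : B w₀ u = 0 := mem_perp.1 huP _ hw₀
    have e1 : B w₀ u' = 0 := mem_perp.1 hu' _ hw₀
    rw [act_eich, act_eich, e0] at e
    simp only [zero_smul, add_zero, mul_zero, sub_zero, QuadraticMap.polar_add_right,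
      QuadraticMap.polar_sub_right, QuadraticMap.polar_smul_right, QuadraticMap.polar_sub_left,
      QuadraticMap.polar_smul_left, e0, e1, huu', smul_eq_mul, polar_self_zero (hW _ hw₀),
      zero_sub, mul_one, neg_mul, zero_add, neg_eq_zero, mul_eq_zero] at e
    exact e.elim hwx hwx'
  have hout : ∀ v, Q v = 0 → v ∉ perp Q W → v ∈ centres M := fun v h1 h2 =>
    centres_outer hQ hn hW hM hyP h1 h2 hyC
  by_cases hzW : z ∈ W
  · exact mem_centres_of_mem hQ hn hW hM hzW
  by_cases hzP : z ∈ perp Q W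
  swap
  · exact hout z hQz hzP
  obtain ⟨s₀, hzs₀, hws₀⟩ := exists_perp_ne hQ (u := z) (z := w₀)
      (not_mem_span hw₀ hw00 hzW)
  set s := s₀ + (-Q s₀ / B w₀ s₀) • w₀ with hs
  have hsw : B w₀ s = B w₀ s₀ := by
    simp [hs, QuadraticMap.polar_add_right, QuadraticMap.polar_smul_right,
      polar_self_zero (hW _ hw₀)]
  have hQs : Q s = 0 := by
    simp only [hs, map_add', Classical.Orth.map_smul', hW _ hw₀, QuadraticMap.polar_smul_right,
      QuadraticMap.polar_comm _ s₀ w₀, smul_eq_mul]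
    field_simp
    ring
  have hzs : B z s = 0 := by
    simp [hs, QuadraticMap.polar_add_right, QuadraticMap.polar_smul_right, hzs₀,
      perp_comm hzP hw₀]
  have hsP : s ∉ perp Q W := fun h => hws₀ (by rw [← hsw]; exact mem_perp.1 h _ hw₀)
  obtain ⟨x, hsx, hzx⟩ := exists_perp_ne hQ (u := s) (z := z)
    (not_mem_span hzP hz hsP)
  have hh := (hout s hQs hsP).2 x hQs hsx
  have hC : act (eich s x hQs hsx) z ∈ centres M := by
    refine hout _ (by rw [act_map, hQz]) fun hmem => ?_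
    have e := mem_perp.1 hmem w₀ hw₀
    rw [act_eich, hzs] at e
    simp only [zero_smul, add_zero, mul_zero, sub_zero, QuadraticMap.polar_sub_right,
      QuadraticMap.polar_smul_right, mem_perp.1 hzP _ hw₀, zero_sub, neg_eq_zero, smul_eq_mul,
      mul_eq_zero, hsw] at e
    exact e.elim hzx hws₀
  have := centres_map (inv_mem hh) hC
  rwa [← act_mul, inv_mul_cancel, act_one] at this

end Cfsg.Agent.Forms.Max.Orth
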