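import Mathlib
import Cfsg.Agent.Lib.Forms.Max.OrthBase

/-!
# Stabilisers of non-singular lines in characteristic two
-/

set_option autoImplicit false
set_option linter.unusedSectionVars false

namespace Cfsg.Agent.Forms.Max.Orth

open Matrix Cfsg.Agent.Forms.QuadStd Cfsg.Agent.Forms.Reflections Cfsg.Agent.Classical.Orth

variable {F : Type*} [Field F] [Fintype F] {ι : Type} [Fintype ι] [DecidableEq ι]
variable {Q : QuadraticForm F (ι → F)}

local notation "Vec" => (ι → F)
local notation "B" => QuadraticMap.polar Q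
set_option quotPrecheck false in
local notation "Iso" => Cfsg.isometryGroup F ⇑Q

theorem eich_subst {u u' w w' : Vec} (h : u = u') (h' : w = w') (hu : Q u = 0)
    (hu' : Q u' = 0) (huw : B u w = 0) (huw' : B u' w' = 0) :
    eich u w hu huw = eich u' w' hu' huw' := by
  subst h h'
  rfl

variable (hQ : (QuadraticMap.polarBilin Q).Nondegenerate) (hn : 7 ≤ Fintype.card ι) [CharP F 2]
  {v : ι → F} (hv : Q v ≠ 0)
include hQ hn hv

theorem exists_meet {u : Vec} (hu : u ∉ Submodule.span F {v}) :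
    ∃ y ∈ ker Q v, B u y ≠ 0 := by
  obtain ⟨y, h1, h2⟩ := exists_perp_ne hQ hu
  exact ⟨y, h1, h2⟩

omit hn in
theorem not_span_of_sing {u : Vec} (hQu : Q u = 0) (hu : u ≠ 0) : u ∉ Submodule.span F {v} := by
  intro h
  obtain ⟨c, rfl⟩ := Submodule.mem_span_singleton.1 h
  rw [Classical.Orth.map_smul'] at hQu
  rcases mul_eq_zero.1 hQu with h | h
  · exact hu (by rw [mul_self_eq_zero.1 h, zero_smul])
  · exact hv h

theorem exists_vpair : ∃ e f, e ∈ ker Q v ∧ f ∈ ker Q v ∧ IsPair Q e f := by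
  have d1 := finrank_inf_ker hQ ⊤ v
  rw [top_inf_eq, finrank_top, Module.finrank_fintype_fun_eq_card] at d1
  obtain ⟨e, he, he0, hQe⟩ := exists_sing hQ (S := ker Q v) (by omega)
  obtain ⟨y, hy, hey⟩ := exists_meet hQ hn hv (not_span_of_sing hQ hv hQe he0)
  obtain ⟨f, hf, hQf, hef⟩ := exists_partner_in he hy hQe hey
  exact ⟨e, f, he, hf, hQe, hQf, hef⟩

omit hn in
theorem vtransfer_one {M : Subgroup Iso}
    (hM : ∀ g ∈ Cfsg.Omega F ⇑Q, act g v = v → g ∈ M) (hn : 7 ≤ Fintype.card ι) {u u' : Vec}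
    (hu : u ∈ ker Q v) (hu' : u' ∈ ker Q v) (hQu : Q u = 0) (hQu' : Q u' = 0)
    (huv : B u u' ≠ 0) : ∃ k ∈ M, act k v = v ∧ act k u = u' := by
  set c := (B u u')⁻¹ with hc
  obtain ⟨s, hs⟩ := (FiniteField.isSquare_of_char_two (ringChar.eq F 2) (-c / Q v) :
    IsSquare (-c / Q v))
  set a₀ := c • u + c • u' + s • v with ha₀
  have hvu : B u v = 0 := by rw [QuadraticMap.polar_comm]; exact hu
  have hvu' : B u' v = 0 := by rw [QuadraticMap.polar_comm]; exact hu'
  have hQa : Q a₀ = 0 := by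
    simp only [ha₀, map_add', Classical.Orth.map_smul', hQu, hQu', ← hs,
      QuadraticMap.polar_add_left, QuadraticMap.polar_smul_left, QuadraticMap.polar_smul_right,
      hvu, hvu', smul_eq_mul, hc]
    field_simp
    ring
  have hvv : B v v = 0 := by rw [polar_self', show (2 : F) = 0 from CharTwo.two_eq_zero, zero_mul]
  have ha₀U : B v a₀ = 0 := by
    simp [ha₀, QuadraticMap.polar_add_right, QuadraticMap.polar_smul_right, hvv,
      mem_ker'.1 hu, mem_ker'.1 hu']
  have h1 : B u a₀ = 1 := by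
    simp [ha₀, QuadraticMap.polar_add_right, QuadraticMap.polar_smul_right, polar_self_zero hQu,
      hvu, hc, huv]
  have h2 : B u' a₀ = 1 := by
    simp [ha₀, QuadraticMap.polar_add_right, QuadraticMap.polar_smul_right, polar_self_zero hQu',
      hvu', hc, QuadraticMap.polar_comm _ u' u, huv]
  obtain ⟨hh, he⟩ := exists_eich_move hQa (hQu.trans hQu'.symm) h1 h2
  have hfix : act (eich a₀ (u' - u) hQa hh) v = v := by
    refine act_eich_fix hQa hh ha₀U ?_
    rw [QuadraticMap.polar_sub_right, mem_ker'.1 hu, mem_ker'.1 hu', sub_zero]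
  exact ⟨_, hM _ (eich_omega hQ (by omega) hQa hh) hfix, hfix, he⟩

theorem vtransfer {M : Subgroup Iso} (hM : ∀ g ∈ Cfsg.Omega F ⇑Q, act g v = v → g ∈ M)
    {u u' : Vec} (hu : u ∈ ker Q v) (hu' : u' ∈ ker Q v) (hQu : Q u = 0) (hQu' : Q u' = 0)
    (hu0 : u ≠ 0) (hu'0 : u' ≠ 0) : ∃ k ∈ M, act k v = v ∧ act k u = u' := by
  by_cases huv : B u u' = 0
  swap
  · exact vtransfer_one hQ hv hM hn hu hu' hQu hQu' huv
  obtain ⟨r, hr, hQr, hur, hvr⟩ : ∃ r ∈ ker Q v, Q r = 0 ∧ B u r ≠ 0 ∧ B u' r ≠ 0 := by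
    obtain ⟨y₁, hy₁, huy⟩ := exists_meet hQ hn hv (not_span_of_sing hQ hv hQu hu0)
    obtain ⟨a₁, ha₁, hQa₁, hua₁⟩ := exists_partner_in hu hy₁ hQu huy
    obtain ⟨y₂, hy₂, hvy⟩ := exists_meet hQ hn hv (not_span_of_sing hQ hv hQu' hu'0)
    obtain ⟨a₂, ha₂, hQa₂, hva₂⟩ := exists_partner_in hu' hy₂ hQu' hvy
    by_cases h1 : B u' a₁ = 0
    swap
    · exact ⟨a₁, ha₁, hQa₁, by simp [hua₁], h1⟩
    by_cases h2 : B u a₂ = 0
    swap
    · exact ⟨a₂, ha₂, hQa₂, h2, by simp [hva₂]⟩
    refine ⟨a₁ + a₂ + (-B a₁ a₂) • u, Submodule.add_mem _ (Submodule.add_mem _ ha₁ ha₂)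
      (Submodule.smul_mem _ _ hu), ?_, ?_, ?_⟩
    · simp only [map_add', Classical.Orth.map_smul', QuadraticMap.polar_add_left,
        QuadraticMap.polar_smul_right, hQu, hQa₁, hQa₂, QuadraticMap.polar_comm _ a₁ u,
        QuadraticMap.polar_comm _ a₂ u, hua₁, h2, smul_eq_mul]
      ring
    · simp [QuadraticMap.polar_add_right, QuadraticMap.polar_smul_right, hua₁, h2,
        polar_self_zero hQu]
    · simp [QuadraticMap.polar_add_right, QuadraticMap.polar_smul_right, h1, hva₂,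
        QuadraticMap.polar_comm _ u' u, huv]
  obtain ⟨k, hk, hkv, hku⟩ := vtransfer_one hQ hv hM hn hu hr hQu hQr hur
  obtain ⟨k', hk', hk'v, hk'r⟩ := vtransfer_one hQ hv hM hn hr hu' hQr hQu'
    (by rwa [QuadraticMap.polar_comm])
  exact ⟨k' * k, mul_mem hk' hk, by rw [act_mul, hkv, hk'v], by rw [act_mul, hku, hk'r]⟩

/-- the stabiliser of a non-singular line is maximal -/
theorem vector_maximal :
    Cfsg.Geo.IsMaximalIn (Cfsg.Geo.omegaGL ⇑Q)
      (Cfsg.Geo.subspaceStabilizer (Submodule.span F {v}) ⊓ Cfsg.Geo.omegaGL ⇑Q) := by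
  set U := ker Q v with hU
  have hv0 : v ≠ 0 := by rintro rfl; exact hv map_zero'
  have hvv : B v v = 0 := by rw [polar_self', show (2 : F) = 0 from CharTwo.two_eq_zero, zero_mul]
  obtain ⟨e, f, heU, hfU, hp⟩ := exists_vpair hQ hn hv
  have he0 : e ≠ 0 := hp.ne_zero.1
  refine isMaximalIn_omega _ ?_ fun M hM' _ g hgM ⟨w, hw, hgw⟩ => omega_le_of_centres hQ (by omega) ?_
  · obtain ⟨w, hew, hvw⟩ := exists_perp_ne hQ (u := e) (z := v) fun h => by
      obtain ⟨c, rfl⟩ := Submodule.mem_span_singleton.1 h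
      exact hv (by rw [Classical.Orth.map_smul', hp.hu, mul_zero])
    refine ⟨eich e w hp.hu hew, eich_omega hQ (by omega) hp.hu hew, v, Submodule.mem_span_singleton_self v,
      fun hmem => not_span_of_sing hQ hv hp.hu he0 ?_⟩
    rw [act_eich, mem_ker'.1 heU] at hmem
    simp only [zero_smul, add_zero, mul_zero, sub_zero] at hmem
    rw [Submodule.sub_mem_iff_right _ (Submodule.mem_span_singleton_self v)] at hmem
    have h2 := Submodule.smul_mem _ (B v w)⁻¹ hmem
    rwa [smul_smul, inv_mul_cancel₀ hvw, one_smul] at h2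
  have hM : ∀ k ∈ Cfsg.Omega F ⇑Q, act k v = v → k ∈ M := fun k hk hkv => hM' k hk fun x hx => by
    obtain ⟨c, rfl⟩ := Submodule.mem_span_singleton.1 hx
    rw [map_smul, hkv]; exact hx
  have hgv : act g v ∉ Submodule.span F {v} := by
    intro h
    obtain ⟨c, rfl⟩ := Submodule.mem_span_singleton.1 hw
    exact hgw (by rw [map_smul]; exact Submodule.smul_mem _ _ h)
  have hinner : ∀ (p q : Vec) (_ : p ∈ U) (_ : q ∈ U) (hp : Q p = 0) (h : B p q = 0),
      eich p q hp h ∈ M := fun p q hpU hqU hp h =>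
    hM _ (eich_omega hQ (by omega) hp h) (act_eich_fix hp h hpU hqU)
  obtain ⟨z', hz'U, hQz', hz'⟩ : ∃ z' ∈ U, Q z' = 0 ∧ B v (act g z') ≠ 0 := by
    by_contra hc
    push Not at hc
    have hle : U ≤ U.comap (act g) := sing_span hp heU hfU hc
    have hmap : U.map (act g) = U := Submodule.eq_of_le_of_finrank_eq
      (Submodule.map_le_iff_le_comap.2 hle)
      (Submodule.equivMapOfInjective _ (act_injective g) U).finrank_eq.symm
    refine hgv (by_contra fun hns => ?_)
    obtain ⟨y, hy, hne⟩ := exists_meet hQ hn hv hns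
    have hy2 : y ∈ U.map (act g) := hmap.symm ▸ hy
    obtain ⟨y', hy', rfl⟩ := hy2
    rw [act_polar] at hne
    exact hne hy'
  set z := act g z' with hz
  have hQz : Q z = 0 := by rw [hz, act_map, hQz']
  have dU : Fintype.card ι ≤ Module.finrank F U + 1 := by
    have d1 := finrank_inf_ker hQ ⊤ v
    rwa [top_inf_eq, finrank_top, Module.finrank_fintype_fun_eq_card] at d1
  obtain ⟨w', hw', hw'span⟩ : ∃ w' ∈ U ⊓ ker Q z', act g w' ∉ Submodule.span F {v, z} := by
    by_contra hc'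
    push Not at hc'
    have h1 : (U ⊓ ker Q z').map (act g) ≤ Submodule.span F {v, z} :=
      Submodule.map_le_iff_le_comap.2 hc'
    have d1 := Submodule.finrank_mono h1
    rw [← (Submodule.equivMapOfInjective _ (act_injective g) (U ⊓ ker Q z')).finrank_eq] at d1
    have d2 := finrank_inf_ker hQ U z'
    have d3 := Submodule.finrank_add_le_finrank_add_finrank
      (Submodule.span F ({v} : Set Vec)) (Submodule.span F {z})
    have hz0 : z ≠ 0 := fun h => hz' (by rw [h, QuadraticMap.polar_zero_right])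
    rw [← Submodule.span_insert, finrank_span_singleton hv0, finrank_span_singleton hz0] at d3
    omega
  have hz'w' : B z' w' = 0 := hw'.2
  have hzw : B z (act g w') = 0 := by rw [hz, act_polar, hz'w']
  have hx : eich z (act g w') hQz hzw ∈ M := by
    have hin := hinner z' w' hz'U hw'.1 hQz' hz'w'
    exact eich_conj g hQz' hz'w' ▸ mul_mem (mul_mem hgM hin) (inv_mem hgM)
  set w₁ := act g w' with hw₁
  set x := eich z w₁ hQz hzw with hxdef
  have hxv : act x v ∉ Submodule.span F {v} := by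
    intro h
    obtain ⟨c, hc⟩ := Submodule.mem_span_singleton.1 h
    rw [hxdef, act_eich] at hc
    refine hw'span (Submodule.mem_span_pair.2
      ⟨(B v z)⁻¹ * (c - 1), (B v z)⁻¹ * (B v w₁ + Q w₁ * B v z), ?_⟩)
    rw [mul_smul, mul_smul, ← smul_add]
    have : B v z • w₁ = (c - 1) • v + (B v w₁ + Q w₁ * B v z) • z := by
      rw [sub_smul, hc, one_smul]; module
    rw [← this, smul_smul, inv_mul_cancel₀ hz', one_smul]
  obtain ⟨y₁, hy₁, hy₁x⟩ : ∃ y ∈ U, act x y ∉ U := by
    by_contra hc'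
    push Not at hc'
    have hle : U ≤ U.comap (act x) := hc'
    have hmap : U.map (act x) = U := Submodule.eq_of_le_of_finrank_eq
      (Submodule.map_le_iff_le_comap.2 hle)
      (Submodule.equivMapOfInjective _ (act_injective x) U).finrank_eq.symm
    refine hxv (by_contra fun hns => ?_)
    obtain ⟨y, hy, hne⟩ := exists_meet hQ hn hv hns
    have hy2 : y ∈ U.map (act x) := hmap.symm ▸ hy
    obtain ⟨y', hy', rfl⟩ := hy2
    rw [act_polar] at hne
    exact hne hy'
  obtain ⟨u₁, hu₁, u₂, hu₂, hu₁0, hQu₁, hQu₂, hind⟩ :=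
    exists_two_sing hQ (S := U ⊓ ker Q z ⊓ ker Q w₁) (by
      have d1 := finrank_inf_ker hQ U z
      have d2 := finrank_inf_ker hQ (U ⊓ ker Q z) w₁
      omega)
  have hu₂0 : u₂ ≠ 0 := by rintro rfl; exact hind (Submodule.zero_mem _)
  obtain ⟨u, hu, hu0, hQu, y, hy, huy, hyx⟩ :
      ∃ u ∈ U ⊓ ker Q z ⊓ ker Q w₁, u ≠ 0 ∧ Q u = 0 ∧ ∃ y ∈ U, B u y = 0 ∧ act x y ∉ U := by
    by_contra hc'
    push Not at hc'
    obtain ⟨d, hd, h2d⟩ := not_mem_perp hQ (W := Submodule.span F {u₁, v}) (u := u₂) (by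
      intro h
      obtain ⟨a, b, hab⟩ := Submodule.mem_span_pair.1 h
      have hb : b = 0 := by
        rw [← hab] at hQu₂
        have e1 : B u₁ v = 0 := by rw [QuadraticMap.polar_comm]; exact hu₁.1.1
        rw [map_add', Classical.Orth.map_smul', Classical.Orth.map_smul', hQu₁,
          QuadraticMap.polar_smul_left, QuadraticMap.polar_smul_right, e1] at hQu₂
        simpa [hv] using hQu₂
      exact hind (Submodule.mem_span_singleton.2 ⟨a, by rw [← hab, hb, zero_smul, add_zero]⟩))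
    have hdU : d ∈ U := mem_perp.1 hd v (Submodule.subset_span (by simp))
    have h1d : B u₁ d = 0 := mem_perp.1 hd u₁ (Submodule.subset_span (by simp))
    set t := B u₂ y₁ / B u₂ d with ht
    refine hy₁x ?_
    have e1 := hc' u₁ hu₁ hu₁0 hQu₁ (t • d) (U.smul_mem _ hdU)
      (by rw [QuadraticMap.polar_smul_right, h1d, smul_zero])
    have e2 := hc' u₂ hu₂ hu₂0 hQu₂ (y₁ - t • d) (U.sub_mem hy₁ (U.smul_mem _ hdU)) (by
      rw [QuadraticMap.polar_sub_right, QuadraticMap.polar_smul_right, ht, smul_eq_mul,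
        div_mul_cancel₀ _ h2d, sub_self])
    have := U.add_mem e2 e1
    rwa [← map_add, sub_add_cancel] at this
  have huU : u ∈ U := hu.1.1
  have hfix : act x u = u := by
    have e1 : B u z = 0 := by rw [QuadraticMap.polar_comm]; exact hu.1.2
    have e2 : B u w₁ = 0 := by rw [QuadraticMap.polar_comm]; exact hu.2
    exact act_eich_fix hQz hzw e1 e2
  set w₀ := act x y with hw₀
  have huw₀ : B u w₀ = 0 := by rw [← hfix, hw₀, act_polar, huy]
  have hmix : eich u w₀ hQu huw₀ ∈ M := by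
    have := mul_mem (mul_mem hx (hinner u y huU hy hQu huy)) (inv_mem hx)
    rwa [eich_conj x hQu huy, eich_subst hfix hw₀.symm _ hQu _ huw₀] at this
  have hβ : B v w₀ ≠ 0 := hyx
  have hUC : ∀ p ∈ U, Q p = 0 → p ∈ centres M := by
    intro p hpU hQp
    refine ⟨hQp, fun q _ hpq => ?_⟩
    rcases eq_or_ne p 0 with rfl | hp0
    · rw [eich_zero_left]; exact one_mem M
    set t := B v q / B v w₀ with ht
    by_cases hq : B v q = 0
    · exact hinner p q hpU hq hQp hpq
    have ht0 : t ≠ 0 := div_ne_zero hq hβ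
    have hQtp : Q (t • p) = 0 := by rw [Classical.Orth.map_smul', hQp, mul_zero]
    obtain ⟨k, hk, hkv, hku⟩ := vtransfer hQ hn hv hM huU (U.smul_mem t hpU) hQu hQtp hu0
      (smul_ne_zero ht0 hp0)
    have h1 : B (t • p) (act k w₀) = 0 := by rw [← hku, act_polar, huw₀]
    have h2 : B p (t • act k w₀) = 0 := by
      rw [QuadraticMap.polar_smul_right]
      rwa [QuadraticMap.polar_smul_left] at h1
    have e1 : eich p (t • act k w₀) hQp h2 ∈ M := by
      rw [← eich_smul t hQtp h1 hQp h2]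
      have e := mul_mem (mul_mem hk hmix) (inv_mem hk)
      rwa [eich_conj k hQu huw₀, eich_subst hku rfl _ hQtp _ h1] at e
    have h3 : B p (q - t • act k w₀) = 0 := by rw [QuadraticMap.polar_sub_right, hpq, h2, sub_zero]
    have h4 : q - t • act k w₀ ∈ U := by
      have : B v (act k w₀) = B v w₀ := by conv_lhs => rw [← hkv, act_polar]
      rw [hU, mem_ker', QuadraticMap.polar_sub_right, QuadraticMap.polar_smul_right, this, ht,
        smul_eq_mul, div_mul_cancel₀ _ hβ, sub_self]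
    have e2 := mul_mem (hinner p _ hpU h4 hQp h3) e1
    rwa [eich_mul hQp h3 h2, eich_subst rfl (sub_add_cancel q _) _ hQp _ hpq] at e2
  intro s hs hQs
  by_cases hsU : s ∈ U
  · exact hUC s hsU hQs
  obtain ⟨u', hu', hQu', hsu'⟩ : ∃ u' ∈ U, Q u' = 0 ∧ B s u' ≠ 0 := by
    by_contra hc'
    push Not at hc'
    obtain ⟨y, hy, hsy⟩ := exists_meet hQ hn hv (not_span_of_sing hQ hv hQs hs)
    exact hsy (sing_span hp heU hfU (T := ker Q s) hc' hy)
  set a := (B s u')⁻¹ • u' with ha
  have haU : a ∈ U := U.smul_mem _ hu'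
  have hQa : Q a = 0 := by rw [ha, Classical.Orth.map_smul', hQu', mul_zero]
  have hsa : B s a = 1 := by
    rw [ha, QuadraticMap.polar_smul_right, smul_eq_mul, inv_mul_cancel₀ hsu']
  have ha0 : a ≠ 0 := fun h => by
    rw [h, QuadraticMap.polar_zero_right] at hsa
    exact zero_ne_one hsa
  obtain ⟨y', hy', hay'⟩ := exists_meet hQ hn hv (not_span_of_sing hQ hv hQa ha0)
  obtain ⟨s', hs'U, hQs', has'⟩ := exists_partner_in haU hy' hQa hay'
  obtain ⟨h, he⟩ := exists_eich_move (a := a) (u := s) (v := s') hQa (hQs.trans hQs'.symm) hsa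
    (by rw [QuadraticMap.polar_comm]; exact has')
  have hk := (hUC a haU hQa).2 _ hQa h
  have e2 := congrArg (act (eich a (s' - s) hQa h)⁻¹) he
  rw [← act_mul, inv_mul_cancel, act_one] at e2
  exact e2.symm ▸ centres_map (inv_mem hk) (hUC s' hs'U hQs')

end Cfsg.Agent.Forms.Max.Orth
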