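import Mathlib
import Cfsg.Agent.Lib.Forms.Max.OrthPair
import Cfsg.Agent.Lib.Forms.Max.SubfieldLinear
import Cfsg.Agent.Lib.Forms.DicksonUni

/-!
# Orthogonal groups over subfields of prime index
-/

set_option autoImplicit false
set_option linter.unusedSectionVars false

namespace Cfsg.Agent.Forms.Max.SubfieldOrth

open Matrix Cfsg.Agent.Forms.QuadStd Cfsg.Agent.Forms.Reflections Cfsg.Agent.Classical.Orth
open Cfsg.Agent.Forms.Max.OrthPair (InE)

section generic

variable {K : Type*} [Field K] [Fintype K] {ι : Type} [Fintype ι] [DecidableEq ι]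
variable {Q : QuadraticForm K (ι → K)} (hQ : (QuadraticMap.polarBilin Q).Nondegenerate)

local notation "B" => QuadraticMap.polar Q

theorem mem_perp_range {j : ℕ} {f : Fin j → ι → K} {x : ι → K} :
    x ∈ Orth.perp Q (Submodule.span K (Set.range f)) ↔ ∀ i, B (f i) x = 0 := by
  refine ⟨fun h i => Orth.mem_perp.1 h _ (Submodule.subset_span ⟨i, rfl⟩), fun h => Orth.mem_perp.2 fun w hw => ?_⟩
  induction hw using Submodule.span_induction with
  | mem y hy => obtain ⟨i, rfl⟩ := hy; exact h i
  | zero => simp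
  | add y z _ _ hy hz => rw [QuadraticMap.polar_add_left, hy, hz, add_zero]
  | smul t y _ hy => rw [QuadraticMap.polar_smul_left, hy, smul_zero]

include hQ

/-- a hyperbolic pair orthogonal to given vectors -/
theorem exists_pair_fin {j : ℕ} (f : Fin j → ι → K) (h : 2 * j + 3 ≤ Fintype.card ι) :
    ∃ z z', IsPair Q z z' ∧ ∀ i, B (f i) z = 0 ∧ B (f i) z' = 0 := by
  set W := Submodule.span K (Set.range f)
  have hW : Module.finrank K W ≤ j := (finrank_range_le_card f).trans_eq (Fintype.card_fin j)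
  have hP := Orth.finrank_perp hQ W
  obtain ⟨C, hC⟩ := Submodule.exists_isCompl W
  have h3 : 3 ≤ Module.finrank K ↥(Orth.perp Q W ⊓ C) := by
    have h1 := Submodule.finrank_sup_add_finrank_inf_eq (Orth.perp Q W) C
    have h2 := Submodule.finrank_le (Orth.perp Q W ⊔ C)
    have h4 := Submodule.finrank_add_eq_of_isCompl hC
    rw [Module.finrank_fintype_fun_eq_card] at h2 h4
    omega
  obtain ⟨z, hz, hz0, hQz⟩ := Orth.exists_sing hQ h3
  obtain ⟨y, hy, hzy⟩ := Orth.not_mem_perp hQ (u := z) (W := W) fun hm =>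
    hz0 (Submodule.disjoint_def.1 hC.disjoint z hm hz.2)
  obtain ⟨z', hz', hQz', hzz'⟩ := Orth.exists_partner_in hz.1 hy hQz hzy
  exact ⟨z, z', ⟨hQz, hQz', hzz'⟩, fun i => ⟨mem_perp_range.1 hz.1 i, mem_perp_range.1 hz' i⟩⟩

/-- the orthogonal of `f` modulo its radical, which lies in the span of `R` -/
theorem exists_mod_radical {j r : ℕ} (f : Fin j → ι → K) (R : Fin r → ι → K)
    (hrad : ∀ t : Fin j → K, (∀ i, B (f i) (∑ l, t l • f l) = 0) → ∑ l, t l • f l ∈ Submodule.span K (Set.range R)) :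
    ∃ S : Submodule K (ι → K), Fintype.card ι ≤ Module.finrank K S + j + r ∧ (∀ x ∈ S, ∀ i, B (f i) x = 0) ∧
      ∀ x ∈ S, x ≠ 0 → ∃ y, (∀ i, B (f i) y = 0) ∧ B x y ≠ 0 := by
  set W := Submodule.span K (Set.range f)
  have hW : Module.finrank K W ≤ j := (finrank_range_le_card f).trans_eq (Fintype.card_fin j)
  have hP := Orth.finrank_perp hQ W
  have hR : Orth.perp Q W ⊓ W ≤ Submodule.span K (Set.range R) := fun x hx => by
    obtain ⟨t, rfl⟩ := (Submodule.mem_span_range_iff_exists_fun K).1 hx.2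
    exact hrad t (mem_perp_range.1 hx.1)
  obtain ⟨C, hC⟩ := Submodule.exists_isCompl (Orth.perp Q W ⊓ W)
  refine ⟨Orth.perp Q W ⊓ C, ?_, fun x hx => mem_perp_range.1 hx.1, fun x hx hx0 => ?_⟩
  · have h0 := (Submodule.finrank_mono hR).trans ((finrank_range_le_card R).trans_eq (Fintype.card_fin r))
    have h1 := Submodule.finrank_sup_add_finrank_inf_eq (Orth.perp Q W) C
    have h2 := Submodule.finrank_le (Orth.perp Q W ⊔ C)
    have h4 := Submodule.finrank_add_eq_of_isCompl hC
    rw [Module.finrank_fintype_fun_eq_card] at h2 h4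
    omega
  · obtain ⟨y, hy, hxy⟩ := Orth.not_mem_perp hQ (u := x) (W := W) fun hm =>
      hx0 (Submodule.disjoint_def.1 hC.disjoint x ⟨hx.1, hm⟩ hx.2)
    exact ⟨y, mem_perp_range.1 hy, hxy⟩

/-- a hyperbolic pair orthogonal to given vectors with small radical -/
theorem exists_pair_rad {j r : ℕ} (f : Fin j → ι → K) (R : Fin r → ι → K)
    (hrad : ∀ t : Fin j → K, (∀ i, B (f i) (∑ l, t l • f l) = 0) → ∑ l, t l • f l ∈ Submodule.span K (Set.range R))
    (h : j + r + 3 ≤ Fintype.card ι) :
    ∃ z z', IsPair Q z z' ∧ ∀ i, B (f i) z = 0 ∧ B (f i) z' = 0 := by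
  obtain ⟨S, hS, hSf, hSy⟩ := exists_mod_radical hQ f R hrad
  obtain ⟨z, hz, hz0, hQz⟩ := Orth.exists_sing hQ (S := S) (by omega)
  obtain ⟨y, hy, hzy⟩ := hSy z hz hz0
  obtain ⟨z', hz', hQz', hzz'⟩ := Orth.exists_partner_in (S := Orth.perp Q (Submodule.span K (Set.range f)))
    (mem_perp_range.2 (hSf z hz)) (mem_perp_range.2 hy) hQz hzy
  exact ⟨z, z', ⟨hQz, hQz', hzz'⟩, fun i => ⟨hSf z hz i, mem_perp_range.1 hz' i⟩⟩

/-- two hyperbolic pairs leave room for a third -/
theorem exists_pair_two {a a' b b' : ι → K} (hp : IsPair Q a a') (hq : IsPair Q b b')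
    (h0 : B a b = 0) (h1 : B a b' = 0) (h2 : B a' b = 0) (h3 : B a' b' = 0) (h : 7 ≤ Fintype.card ι) :
    ∃ z z', IsPair Q z z' ∧ ∀ i, B (![a, a', b, b'] i) z = 0 ∧ B (![a, a', b, b'] i) z' = 0 := by
  refine exists_pair_rad hQ ![a, a', b, b'] (![] : Fin 0 → ι → K) (fun t ht => ?_) (by omega)
  rw [Fin.sum_univ_four] at ht ⊢
  have u0 := ht 0; have u1 := ht 1; have u2 := ht 2; have u3 := ht 3
  simp only [Fin.isValue, cons_val_zero, cons_val_one, cons_val, QuadraticMap.polar_add_right,
    QuadraticMap.polar_smul_right, smul_eq_mul, polar_self_zero hp.hu, polar_self_zero hp.hv, polar_self_zero hq.hu,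
    polar_self_zero hq.hv, hp.huv, hq.huv, hp.hvu, hq.hvu, h0, h1, h2, h3,
    QuadraticMap.polar_comm _ b a, QuadraticMap.polar_comm _ b' a, QuadraticMap.polar_comm _ b a',
    QuadraticMap.polar_comm _ b' a', mul_zero, mul_one, add_zero, zero_add] at u0 u1 u2 u3
  simp [u0, u1, u2, u3]

/-- a pair and a singular vector orthogonal to it leave room for a pair -/
theorem exists_pair_line {a b b' : ι → K} (ha : Q a = 0) (hq : IsPair Q b b') (h0 : B a b = 0) (h1 : B a b' = 0)
    (h : 7 ≤ Fintype.card ι) :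
    ∃ z z', IsPair Q z z' ∧ ∀ i, B (![a, b, b'] i) z = 0 ∧ B (![a, b, b'] i) z' = 0 := by
  refine exists_pair_rad hQ ![a, b, b'] ![a] (fun t ht => ?_) (by omega)
  rw [Fin.sum_univ_three] at ht ⊢
  have u1 := ht 1; have u2 := ht 2
  simp only [Fin.isValue, cons_val_one, cons_val, cons_val_zero, QuadraticMap.polar_add_right,
    QuadraticMap.polar_smul_right, smul_eq_mul, polar_self_zero hq.hu, polar_self_zero hq.hv, hq.huv, hq.hvu,
    QuadraticMap.polar_comm _ b a, QuadraticMap.polar_comm _ b' a, h0, h1, mul_zero, mul_one, add_zero, zero_add] at u1 u2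
  simp only [Fin.isValue, cons_val_zero, cons_val_one, cons_val, u1, u2, zero_smul, add_zero]
  exact Submodule.smul_mem _ _ (Submodule.subset_span ⟨0, rfl⟩)

/-- singular vectors span the orthogonal of a few vectors -/
theorem span_sing_fin {j : ℕ} (f : Fin j → ι → K) (h : 2 * j + 3 ≤ Fintype.card ι)
    {T : Submodule K (ι → K)} (hT : ∀ x, (∀ i, B (f i) x = 0) → Q x = 0 → x ∈ T) {x : ι → K}
    (hx : ∀ i, B (f i) x = 0) : x ∈ T := by
  obtain ⟨z, z', hp, hzf⟩ := exists_pair_fin hQ f h
  exact Orth.sing_span hp (mem_perp_range.2 fun i => (hzf i).1) (mem_perp_range.2 fun i => (hzf i).2)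
    (fun v hv hQv => hT v (mem_perp_range.1 hv) hQv) (mem_perp_range.2 hx)

theorem exists_partner {a : ι → K} (ha : a ≠ 0) (hQa : Q a = 0) : ∃ f, IsPair Q a f := by
  obtain ⟨y, hy⟩ := Orth.exists_ne hQ ha
  obtain ⟨f, -, h1, h2⟩ := Orth.exists_partner_in (S := (⊤ : Submodule K (ι → K))) Submodule.mem_top Submodule.mem_top hQa hy
  exact ⟨f, hQa, h1, h2⟩

end generic

variable {F : Type*} [Field F] [Fintype F] {ι : Type} [Fintype ι] [DecidableEq ι]

/-- a rational structure of a quadratic space over a subfield of prime index -/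
structure Data (Q : QuadraticForm F (ι → F)) where
  F₀ : Subfield F
  P : GL ι F
  ζ : F
  r : ℕ
  hQ : (QuadraticMap.polarBilin Q).Nondegenerate
  hn : 7 ≤ Fintype.card ι
  hr : r.Prime
  hcard : Fintype.card F = Nat.card F₀ ^ r
  hζ : ζ ≠ 0
  hP : Cfsg.Geo.IsQuadFormRationalStructure (fun v => ζ * Q v) F₀ P

variable {Q : QuadraticForm F (ι → F)}

local notation "Vec" => (ι → F)
local notation "B" => QuadraticMap.polar Q

theorem act_inj (g : Cfsg.isometryGroup F ⇑Q) : Function.Injective (act g) :=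
  Function.LeftInverse.injective (g := act g⁻¹) fun x => by rw [← act_mul, inv_mul_cancel, act_one]

variable (D : Data Q)

noncomputable instance fintypeBase : Fintype D.F₀ := Fintype.ofFinite _

/-- a rational vector -/
def rv (a : ι → D.F₀) : Vec := (D.P : Matrix ι ι F) *ᵥ SubfieldLinear.ic D.F₀ a

theorem rv_add (a b : ι → D.F₀) : rv D (a + b) = rv D a + rv D b := by
  rw [rv, rv, rv, ← mulVec_add]; rfl

theorem rv_smul (t : D.F₀) (a : ι → D.F₀) : rv D (t • a) = (t : F) • rv D a := by
  rw [rv, rv, SubfieldLinear.ic_smul, mulVec_smul]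

theorem rv_zero : rv D 0 = 0 := by
  rw [rv, show SubfieldLinear.ic D.F₀ (0 : ι → D.F₀) = 0 from rfl, mulVec_zero]

theorem rv_sub (a b : ι → D.F₀) : rv D (a - b) = rv D a - rv D b := by
  rw [eq_sub_iff_add_eq, ← rv_add, sub_add_cancel]

theorem rv_neg (a : ι → D.F₀) : rv D (-a) = -rv D a := by
  rw [← zero_sub, rv_sub, rv_zero, zero_sub]

theorem rv_eq_zero {a : ι → D.F₀} (h : rv D a = 0) : a = 0 := by
  by_contra hne
  exact Max.mulVec_ne_zero D.P (SubfieldLinear.ic_ne_zero hne) h

theorem decomp (v : Vec) : ∃ w : ι → F, v = ∑ i, w i • rv D (Pi.single i 1) := by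
  refine ⟨((D.P⁻¹ : GL ι F) : Matrix ι ι F) *ᵥ v, ?_⟩
  conv_lhs => rw [← Max.mulVec_inv_cancel D.P v, pi_eq_sum_univ' (((D.P⁻¹ : GL ι F) : Matrix ι ι F) *ᵥ v)]
  rw [mulVec_sum]
  refine Finset.sum_congr rfl fun i _ => ?_
  rw [mulVec_smul, rv, SubfieldLinear.ic_single]

theorem ext_rat {v : Vec} (h : ∀ x, B (rv D x) v = 0) : v = 0 := by
  refine D.hQ.2 v fun y => ?_
  obtain ⟨w, rfl⟩ := decomp D y
  rw [map_sum, LinearMap.sum_apply]
  refine Finset.sum_eq_zero fun i _ => ?_
  show B (w i • rv D (Pi.single i 1)) v = 0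
  rw [QuadraticMap.polar_smul_left, h, smul_zero]

/-- the rational quadratic form -/
noncomputable def q0 : QuadraticForm D.F₀ (ι → D.F₀) :=
  QuadraticMap.ofPolar (fun x => ⟨D.ζ * Q (rv D x), D.hP _ fun i => (x i).2⟩)
    (fun c x => Subtype.ext (by
      show D.ζ * Q (rv D (c • x)) = (c : F) * c * (D.ζ * Q (rv D x))
      rw [rv_smul, Classical.Orth.map_smul']; ring))
    (fun x x' y => Subtype.ext (by
      simp only [QuadraticMap.polar, Subfield.coe_add, Subfield.coe_sub, rv_add]
      simp only [map_add', QuadraticMap.polar_add_left]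
      ring))
    (fun c x y => Subtype.ext (by
      simp only [QuadraticMap.polar, Subfield.coe_sub, rv_add, rv_smul, smul_eq_mul, Subfield.coe_mul]
      simp only [map_add', Classical.Orth.map_smul', QuadraticMap.polar_smul_left, smul_eq_mul]
      ring))

local notation "B₀" => QuadraticMap.polar (q0 D)

theorem coe_q0 (x : ι → D.F₀) : ((q0 D x : D.F₀) : F) = D.ζ * Q (rv D x) := rfl

theorem coe_b (x y : ι → D.F₀) : ((B₀ x y : D.F₀) : F) = D.ζ * B (rv D x) (rv D y) := by
  simp only [QuadraticMap.polar, Subfield.coe_sub, coe_q0, rv_add]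
  ring

theorem sing_iff {x : ι → D.F₀} : q0 D x = 0 ↔ Q (rv D x) = 0 := by
  refine ⟨fun h => ?_, fun h => Subtype.ext (by rw [coe_q0, h, mul_zero]; rfl)⟩
  have := congrArg Subtype.val h
  rw [coe_q0] at this
  exact (mul_eq_zero.1 this).resolve_left D.hζ

theorem orth_iff {x y : ι → D.F₀} : B₀ x y = 0 ↔ B (rv D x) (rv D y) = 0 := by
  refine ⟨fun h => ?_, fun h => Subtype.ext (by rw [coe_b, h, mul_zero]; rfl)⟩
  have := congrArg Subtype.val h
  rw [coe_b] at this
  exact (mul_eq_zero.1 this).resolve_left D.hζ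

theorem one_eq {x y : ι → D.F₀} (h : B₀ x y = 1) : D.ζ * B (rv D x) (rv D y) = 1 := by
  rw [← coe_b, h]; rfl

theorem nd0 : (QuadraticMap.polarBilin (q0 D)).Nondegenerate := by
  refine ⟨fun x hx => rv_eq_zero D (ext_rat D fun y => ?_), fun y hy => rv_eq_zero D (ext_rat D fun x => (orth_iff D).1 (hy x))⟩
  rw [QuadraticMap.polar_comm]; exact (orth_iff D).1 (hx y)

/-- representation of rational functionals -/
theorem rep (f : (ι → D.F₀) →ₗ[D.F₀] D.F₀) : ∃ d, ∀ x, B₀ x d = f x := by
  have hinj : Function.Injective fun (d : ι → D.F₀) i => B₀ (Pi.single i 1) d := by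
    intro d d' hd
    refine sub_eq_zero.1 ((nd0 D).2 _ fun x => ?_)
    have hl : (polB (q0 D)).flip (d - d') = 0 := by
      refine LinearMap.pi_ext fun i t => ?_
      rw [show (Pi.single i t : ι → D.F₀) = t • Pi.single i 1 by ext j; simp [Pi.single_apply]]
      rw [map_smul]
      show t • B₀ (Pi.single i 1) (d - d') = (0 : (ι → D.F₀) →ₗ[D.F₀] D.F₀) _
      rw [QuadraticMap.polar_sub_right, show B₀ (Pi.single i 1) d = B₀ (Pi.single i 1) d' from congrFun hd i, sub_self]
      simp
    exact LinearMap.congr_fun hl x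
  obtain ⟨d, hd⟩ := Finite.injective_iff_surjective.1 hinj fun i => f (Pi.single i 1)
  refine ⟨d, fun x => ?_⟩
  have : (polB (q0 D)).flip d = f := LinearMap.pi_ext fun i t => by
    rw [show (Pi.single i t : ι → D.F₀) = t • Pi.single i 1 by ext j; simp [Pi.single_apply]]
    rw [map_smul, map_smul]
    show t • B₀ (Pi.single i 1) d = _
    rw [show B₀ (Pi.single i 1) d = f (Pi.single i 1) from congrFun hd i]
  exact LinearMap.congr_fun this x

theorem prime_deg : (Module.finrank D.F₀ F).Prime := by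
  have := Module.card_eq_pow_finrank (K := D.F₀) (V := F)
  rw [← Nat.card_eq_fintype_card (α := D.F₀)] at this
  have h := Nat.pow_right_injective (Finite.one_lt_card (α := D.F₀)) (this.symm.trans D.hcard)
  exact h ▸ D.hr

theorem base_ne_top : D.F₀ ≠ ⊤ := fun e => by
  have h : Nat.card D.F₀ = Fintype.card F := by
    rw [← Nat.card_eq_fintype_card]
    exact Nat.card_congr (Equiv.subtypeUnivEquiv fun x => e ▸ Subfield.mem_top x)
  have h2 := D.hcard
  rw [h] at h2
  have h3 := Nat.pow_right_injective (Fintype.one_lt_card (α := F)) (((pow_one _).trans h2) : Fintype.card F ^ 1 = _)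
  exact D.hr.ne_one h3.symm

/-- a field containing the base and an irrational element is everything -/
theorem eq_top_of (S : Subfield F) (hS : ∀ x ∈ D.F₀, x ∈ S) {q : F} (hq : q ∈ S) (hq0 : q ∉ D.F₀) : S = ⊤ := by
  haveI := Subalgebra.isSimpleOrder_of_finrank_prime D.F₀ F (prime_deg D)
  let A : Subalgebra D.F₀ F := { S.toSubring.toSubsemiring with algebraMap_mem' := fun t => hS _ t.2 }
  rcases IsSimpleOrder.eq_bot_or_eq_top A with h | h
  · have : q ∈ A := hq
    rw [h, Algebra.mem_bot] at this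
    obtain ⟨t, rfl⟩ := this
    exact absurd t.2 hq0
  · refine eq_top_iff.2 fun x _ => ?_
    have : x ∈ A := h ▸ Algebra.mem_top
    exact this

/-- the vectors that are orthogonal to a rational subspace -/
def ann (S : Submodule D.F₀ (ι → D.F₀)) : Submodule F Vec where
  carrier := {w | ∀ x ∈ S, B (rv D x) w = 0}
  zero_mem' := fun x _ => by simp
  add_mem' := fun {w w'} h h' x hx => by rw [QuadraticMap.polar_add_right, h x hx, h' x hx, add_zero]
  smul_mem' := fun t w h x hx => by rw [QuadraticMap.polar_smul_right, h x hx, smul_zero]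

theorem finrank_ann (S : Submodule D.F₀ (ι → D.F₀)) :
    Module.finrank F (ann D S) + Module.finrank D.F₀ S ≤ Fintype.card ι := by
  obtain ⟨C, hC⟩ := Submodule.exists_isCompl S
  let b := Module.finBasis D.F₀ C
  let L : ann D S →ₗ[F] (Fin (Module.finrank D.F₀ C) → F) :=
    (LinearMap.pi fun i => polB Q (rv D (b i : ι → D.F₀))).domRestrict (ann D S)
  have hL : Function.Injective L := (injective_iff_map_eq_zero L).2 fun w hw => Subtype.ext (ext_rat D fun x => by
    have hx : x ∈ S ⊔ C := hC.sup_eq_top ▸ Submodule.mem_top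
    obtain ⟨s, hs, c, hc, rfl⟩ := Submodule.mem_sup.1 hx
    rw [rv_add, QuadraticMap.polar_add_left, w.2 s hs, zero_add]
    let T : Submodule D.F₀ C :=
      { carrier := {c | B (rv D (c : ι → D.F₀)) (w : Vec) = 0}
        zero_mem' := by simp [rv_zero]
        add_mem' := fun {c c'} h h' => by
          show B (rv D ((c : ι → D.F₀) + c')) _ = 0
          rw [rv_add, QuadraticMap.polar_add_left, h, h', add_zero]
        smul_mem' := fun t c h => by
          show B (rv D (t • (c : ι → D.F₀))) _ = 0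
          rw [rv_smul, QuadraticMap.polar_smul_left, h, smul_zero] }
    have : T = ⊤ := eq_top_iff.2 (b.span_eq.symm.le.trans (Submodule.span_le.2 (by
      rintro _ ⟨i, rfl⟩; exact congrFun hw i)))
    exact (this ▸ Submodule.mem_top : (⟨c, hc⟩ : C) ∈ T))
  have h1 := LinearMap.finrank_le_finrank_of_injective hL
  rw [Module.finrank_fintype_fun_eq_card, Fintype.card_fin] at h1
  have h2 := Submodule.finrank_add_eq_of_isCompl hC
  rw [Module.finrank_fintype_fun_eq_card] at h2
  omega

/-- not proportional to a rational vector -/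
def Irr (u : Vec) : Prop := ∀ (k : F) (b : ι → D.F₀), u ≠ k • rv D b

theorem Irr.finrank_lt {D : Data Q} {u : Vec} (hu : Irr D u) {S : Submodule D.F₀ (ι → D.F₀)} (hS : u ∈ ann D S) :
    Module.finrank D.F₀ S + 2 ≤ Fintype.card ι := by
  by_contra hc
  have h1 := finrank_ann D S
  have h2 := Orth.finrank_perp (nd0 D) S
  rcases eq_or_ne (Orth.perp (q0 D) S) ⊥ with hb | hb
  · rw [hb, finrank_bot] at h2
    have h0 : ann D S = ⊥ := Submodule.finrank_eq_zero.1 (by omega)
    rw [h0, Submodule.mem_bot] at hS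
    exact hu 0 0 (by rw [hS, zero_smul])
  obtain ⟨ρ, hρ, hρ0⟩ := Submodule.exists_mem_ne_zero_of_ne_bot hb
  have hρann : rv D ρ ∈ ann D S := fun x hx => (orth_iff D).1 (Orth.mem_perp.1 hρ x hx)
  obtain ⟨k, hk⟩ := (finrank_le_one_iff.1 (show Module.finrank F (ann D S) ≤ 1 by omega))
  obtain ⟨c, hc1⟩ := hk ⟨_, hρann⟩
  obtain ⟨c', hc2⟩ := hk ⟨_, hS⟩
  have hc0 : c ≠ 0 := fun e => hρ0 (rv_eq_zero D (by
    have := congrArg Subtype.val hc1
    rw [e] at this
    simpa using this.symm))
  refine hu (c' / c) ρ ?_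
  have e1 : c • (k : Vec) = rv D ρ := congrArg Subtype.val hc1
  have e2 : c' • (k : Vec) = u := congrArg Subtype.val hc2
  rw [← e1, ← e2, smul_smul, div_mul_cancel₀ _ hc0]

section plane

variable (u v : ι → F)

/-- the plane coordinate -/
def om (x y : ι → D.F₀) : F :=
  B (rv D x) u * B (rv D y) v - B (rv D x) v * B (rv D y) u

theorem om_swap (x y : ι → D.F₀) : om D u v y x = -om D u v x y := by simp only [om]; ring

theorem om_add_right (x y y' : ι → D.F₀) : om D u v x (y + y') = om D u v x y + om D u v x y' := by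
  simp only [om, rv_add, QuadraticMap.polar_add_left]; ring

theorem om_sub_right (x y y' : ι → D.F₀) : om D u v x (y - y') = om D u v x y - om D u v x y' := by
  simp only [om, rv_sub, QuadraticMap.polar_sub_left]; ring

theorem om_smul_right (x y : ι → D.F₀) (t : D.F₀) : om D u v x (t • y) = t * om D u v x y := by
  simp only [om, rv_smul, QuadraticMap.polar_smul_left, smul_eq_mul]; ring

theorem om_add_left (x x' y : ι → D.F₀) : om D u v (x + x') y = om D u v x y + om D u v x' y := by
  simp only [om, rv_add, QuadraticMap.polar_add_left]; ring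

theorem om_zero_right (x : ι → D.F₀) : om D u v x 0 = 0 := by simp [om, rv_zero]

/-- the ratios of the coordinate are rational on singular triples -/
def RatioRat : Prop :=
  ∀ d c c', q0 D d = 0 → q0 D c = 0 → q0 D c' = 0 → B₀ d c = 0 → B₀ d c' = 0 →
    om D u v d c ≠ 0 → om D u v d c' / om D u v d c ∈ D.F₀

variable (hR : RatioRat D u v) {d c : ι → D.F₀} (hd : q0 D d = 0) (hc : q0 D c = 0) (hdc : QuadraticMap.polar (q0 D) d c = 0)
  (hμ : om D u v d c ≠ 0)

include hR hd hc hdc hμ

theorem om_left {x : ι → D.F₀} (hx : q0 D x = 0) (hdx : B₀ d x = 0) : om D u v d x / om D u v d c ∈ D.F₀ :=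
  hR d c x hd hc hx hdc hdx hμ

theorem om_right {x : ι → D.F₀} (hx : q0 D x = 0) (hcx : B₀ c x = 0) : om D u v x c / om D u v d c ∈ D.F₀ := by
  have h := hR c d x hc hd hx (by rwa [QuadraticMap.polar_comm]) hcx (by rw [om_swap]; exact neg_ne_zero.2 hμ)
  rw [om_swap D u v d c, om_swap D u v x c, neg_div_neg_eq] at h
  exact h

theorem coord_perp {x : ι → D.F₀} (hdx : B₀ d x = 0) (hcx : B₀ c x = 0) :
    om D u v x c / om D u v d c ∈ D.F₀ ∧ om D u v d x / om D u v d c ∈ D.F₀ := by
  let T : Submodule D.F₀ (ι → D.F₀) :=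
    { carrier := {x | om D u v x c / om D u v d c ∈ D.F₀ ∧ om D u v d x / om D u v d c ∈ D.F₀}
      zero_mem' := by
        simp [om_zero_right, show om D u v (0 : ι → D.F₀) c = 0 by rw [om_swap, om_zero_right, neg_zero]]
      add_mem' := fun {x y} hx hy => by
        constructor
        · rw [om_add_left, add_div]; exact add_mem hx.1 hy.1
        · rw [om_add_right, add_div]; exact add_mem hx.2 hy.2
      smul_mem' := fun t x hx => by
        constructor
        · rw [om_swap D u v c, om_smul_right, ← mul_neg, ← om_swap, mul_div_assoc]; exact mul_mem t.2 hx.1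
        · rw [om_smul_right, mul_div_assoc]; exact mul_mem t.2 hx.2 }
  exact span_sing_fin (nd0 D) ![d, c] (by have := D.hn; omega) (T := T)
    (fun y hy hQy => ⟨om_right D u v hR hd hc hdc hμ hQy (hy 1), om_left D u v hR hd hc hdc hμ hQy (hy 0)⟩)
    (Fin.forall_fin_two.2 ⟨hdx, hcx⟩)

theorem coord_dual {e : ι → D.F₀} (he : q0 D e = 0) (hde : B₀ d e = 1) (hce : B₀ c e = 0) :
    om D u v d e / om D u v d c ∈ D.F₀ := by
  have hn := D.hn
  set μ := om D u v d c with hμdef
  obtain ⟨y₀, z₀, hp, hyz₀⟩ := exists_pair_line (nd0 D) hc ⟨hd, he, hde⟩ (by rwa [QuadraticMap.polar_comm]) hce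
    (by omega)
  have g0 := hyz₀ 1; have g1 := hyz₀ 0; have g2 := hyz₀ 2
  simp only [Fin.isValue, cons_val_zero, cons_val_one, cons_val] at g0 g1 g2
  let al : (ι → D.F₀) → F := fun y => om D u v y c / μ
  have hal_add : ∀ x y, al (x + y) = al x + al y := fun x y => by simp only [al, om_add_left, add_div]
  have hal_smul : ∀ (t : D.F₀) x, al (t • x) = t * al x := fun t x => by
    simp only [al]
    rw [om_swap D u v c, om_smul_right, ← mul_neg, ← om_swap, mul_div_assoc]
  obtain ⟨y, z, hQy, hQz, hyzB, hyd, hyc, hye, hzd, hzc, hze, hy⟩ : ∃ y z, q0 D y = 0 ∧ q0 D z = 0 ∧ B₀ y z = -1 ∧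
      B₀ d y = 0 ∧ B₀ c y = 0 ∧ B₀ e y = 0 ∧ B₀ d z = 0 ∧ B₀ c z = 0 ∧ B₀ e z = 0 ∧ al y ≠ -1 := by
    by_contra hcon
    have hbad : ∀ y z, IsPair (q0 D) y z → (∀ w ∈ [d, c, e], B₀ w y = 0 ∧ B₀ w z = 0) → al y = -1 := by
      intro y z hyz hw
      simp only [List.mem_cons, List.not_mem_nil, or_false, forall_eq_or_imp, forall_eq] at hw
      by_contra hne
      exact hcon ⟨y, -z, hyz.hu, by rw [QuadraticMap.map_neg, hyz.hv], by rw [QuadraticMap.polar_neg_right, hyz.huv],
        hw.1.1, hw.2.1.1, hw.2.2.1, by rw [QuadraticMap.polar_neg_right, hw.1.2, neg_zero],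
        by rw [QuadraticMap.polar_neg_right, hw.2.1.2, neg_zero],
        by rw [QuadraticMap.polar_neg_right, hw.2.2.2, neg_zero], hne⟩
    have hy0 : al y₀ = -1 := hbad y₀ z₀ hp (by simp [g0, g1, g2])
    have hz0 : al z₀ = -1 := hbad z₀ y₀ hp.symm (by simp [g0, g1, g2])
    obtain ⟨S, hS, hSf, hSy⟩ := exists_mod_radical (nd0 D) ![c, d, e, y₀, z₀] ![c] fun t ht => by
      rw [Fin.sum_univ_five] at ht ⊢
      have u1 := ht 1; have u2 := ht 2; have u3 := ht 3; have u4 := ht 4
      simp only [Fin.isValue, cons_val_zero, cons_val_one, cons_val, QuadraticMap.polar_add_right,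
        QuadraticMap.polar_smul_right, smul_eq_mul, polar_self_zero hd, polar_self_zero he, polar_self_zero hp.hu,
        polar_self_zero hp.hv, hde, hdc, QuadraticMap.polar_comm _ e d, hp.huv, hp.hvu, g0.1, g0.2, g2.1, g2.2,
        QuadraticMap.polar_comm _ y₀ d, QuadraticMap.polar_comm _ z₀ d, QuadraticMap.polar_comm _ y₀ e,
        QuadraticMap.polar_comm _ z₀ e, QuadraticMap.polar_comm _ y₀ c, QuadraticMap.polar_comm _ z₀ c, g1.1, g1.2,
        QuadraticMap.polar_comm _ e c, hce, mul_zero, mul_one, add_zero, zero_add] at u1 u2 u3 u4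
      simp only [Fin.isValue, cons_val_zero, cons_val_one, cons_val, u1, u2, u3, u4, zero_smul, add_zero]
      exact Submodule.smul_mem _ _ (Submodule.subset_span ⟨0, rfl⟩)
    obtain ⟨γ, hγ, hγ0⟩ := (Submodule.ne_bot_iff S).1 fun hb => by
      rw [hb, finrank_bot] at hS
      omega
    obtain ⟨δ, hδ, hγδ⟩ := hSy γ hγ hγ0
    have key : ∀ x, (∀ i, B₀ (![c, d, e, y₀, z₀] i) x = 0) → al x = -((q0 D x : D.F₀) : F) := by
      intro x hx
      have x0 := hx 0; have x1 := hx 1; have x2 := hx 2; have x3 := hx 3; have x4 := hx 4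
      simp only [Fin.isValue, cons_val_zero, cons_val_one, cons_val] at x0 x1 x2 x3 x4
      have h := hbad (x + (-q0 D x) • y₀ + z₀) y₀
        ⟨by simp [map_add', Classical.Orth.map_smul', hp.hu, hp.hv, QuadraticMap.polar_add_left,
            QuadraticMap.polar_smul_left, QuadraticMap.polar_smul_right, QuadraticMap.polar_comm _ x y₀, x3,
            QuadraticMap.polar_comm _ x z₀, x4, hp.huv],
          hp.hu, by simp [QuadraticMap.polar_add_left, QuadraticMap.polar_smul_left,
            QuadraticMap.polar_comm _ x y₀, x3, hp.hvu, polar_self_zero hp.hu]⟩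
        (by simp [QuadraticMap.polar_add_right, QuadraticMap.polar_smul_right, x0, x1, x2, g0, g1, g2])
      rw [hal_add, hal_add, hal_smul, hy0, hz0, NegMemClass.coe_neg] at h
      linear_combination h
    have h1 := key γ (hSf γ hγ)
    have h2 := key δ hδ
    have h3 := key (γ + δ) fun i => by rw [QuadraticMap.polar_add_right, hSf γ hγ i, hδ i, add_zero]
    rw [hal_add, h1, h2, map_add', AddMemClass.coe_add, AddMemClass.coe_add] at h3
    exact hγδ (Subtype.ext (by rw [ZeroMemClass.coe_zero]; linear_combination h3))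
  obtain ⟨hay, hby⟩ := coord_perp D u v hR hd hc hdc hμ hyd hyc
  obtain ⟨haz, hbz⟩ := coord_perp D u v hR hd hc hdc hμ hzd hzc
  have hae := om_right D u v hR hd hc hdc hμ he hce
  rw [← hμdef] at hay hby haz hbz hae
  set ay := om D u v y c / μ with hay'
  have hd' : q0 D (d + y) = 0 := by rw [map_add', hd, hQy, hyd, add_zero, add_zero]
  have he' : q0 D (e + z) = 0 := by rw [map_add', he, hQz, hze, add_zero, add_zero]
  have hd'c : B₀ (d + y) c = 0 := by
    rw [QuadraticMap.polar_add_left, hdc, QuadraticMap.polar_comm _ y c, hyc, add_zero]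
  have hd'e' : B₀ (d + y) (e + z) = 0 := by
    simp only [QuadraticMap.polar_add_left, QuadraticMap.polar_add_right, hde, hzd, QuadraticMap.polar_comm _ y e,
      hye, hyzB, add_zero, zero_add, add_neg_cancel]
  have hμ' : om D u v (d + y) c = μ * (1 + ay) := by
    rw [om_add_left, hay', mul_add, mul_one, mul_div_cancel₀ _ hμ]
  have h1a : 1 + ay ≠ 0 := fun h => hy (by linear_combination h)
  have h1 := hR _ _ _ hd' hc he' hd'c hd'e' (by rw [hμ']; exact mul_ne_zero hμ h1a)
  rw [hμ'] at h1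
  have h2 : om D u v (d + y) (e + z) / μ ∈ D.F₀ := by
    rw [show om D u v (d + y) (e + z) / μ = om D u v (d + y) (e + z) / (μ * (1 + ay)) * (1 + ay) by field_simp]
    exact mul_mem h1 (add_mem (one_mem _) hay)
  have e1 : om D u v (d + y) (e + z) / μ = (1 + ay) * (om D u v d e / μ) + om D u v d z / μ -
      om D u v d y / μ * (om D u v e c / μ) + (ay * (om D u v d z / μ) - om D u v d y / μ * (om D u v z c / μ)) := by
    rw [hay']
    field_simp
    simp only [om, rv_add, QuadraticMap.polar_add_left, hμdef]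
    ring
  rw [e1] at h2
  rw [show om D u v d e / μ = ((1 + ay) * (om D u v d e / μ)) / (1 + ay) by field_simp]
  refine D.F₀.div_mem ?_ (add_mem (one_mem _) hay)
  have h3 := sub_mem h2 (add_mem (sub_mem hbz (mul_mem hby hae)) (sub_mem (mul_mem hay hbz) (mul_mem hby haz)))
  convert h3 using 1
  ring

theorem coord_all (x : ι → D.F₀) : om D u v x c / om D u v d c ∈ D.F₀ ∧ om D u v d x / om D u v d c ∈ D.F₀ := by
  have hdual : ∀ {p p' : ι → D.F₀}, om D u v p p' ≠ 0 → q0 D p = 0 → B₀ p p' = 0 →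
      ∃ e, q0 D e = 0 ∧ B₀ p e = 1 ∧ B₀ p' e = 0 := by
    intro p p' hw hp hpp'
    have hmem : p ∉ Submodule.span D.F₀ (Set.range ![p']) := fun hm => hw (by
      rw [range_cons, range_empty, Set.union_empty] at hm
      obtain ⟨t, rfl⟩ := Submodule.mem_span_singleton.1 hm
      rw [om_swap, om_smul_right]
      simp [om]
      exact Or.inr (by ring))
    obtain ⟨y, hy, hpy⟩ := Orth.not_mem_perp (nd0 D) hmem
    obtain ⟨e, he, h1, h2⟩ := Orth.exists_partner_in (mem_perp_range.2 (fun i => by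
      fin_cases i; simpa [QuadraticMap.polar_comm _ p' p] using hpp')) hy hp hpy
    exact ⟨e, h1, h2, by simpa using mem_perp_range.1 he 0⟩
  obtain ⟨e, he, hde, hce⟩ := hdual hμ hd hdc
  obtain ⟨f, hf, hcf, hdf⟩ := hdual (p := c) (p' := d) (by rw [om_swap]; exact neg_ne_zero.2 hμ) hc
    (by rwa [QuadraticMap.polar_comm])
  have he1 := om_right D u v hR hd hc hdc hμ he hce
  have he2 := coord_dual D u v hR hd hc hdc hμ he hde hce
  have hf2 := om_left D u v hR hd hc hdc hμ hf hdf
  have hf1 : om D u v f c / om D u v d c ∈ D.F₀ := by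
    have h := coord_dual D u v hR hc hd (by rwa [QuadraticMap.polar_comm]) (by rw [om_swap]; exact neg_ne_zero.2 hμ) hf hcf hdf
    rwa [om_swap D u v f c, om_swap D u v d c, neg_div_neg_eq] at h
  obtain ⟨hx1, hx2⟩ := coord_perp D u v hR hd hc hdc hμ (x := x - B₀ d x • e - B₀ c x • f)
    (by simp [QuadraticMap.polar_sub_right, QuadraticMap.polar_smul_right, hde, hdf])
    (by simp [QuadraticMap.polar_sub_right, QuadraticMap.polar_smul_right, hce, hcf])
  constructor
  · rw [show om D u v x c / om D u v d c = om D u v (x - B₀ d x • e - B₀ c x • f) c / om D u v d c + (B₀ d x : F) * (om D u v e c / om D u v d c) +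
        (B₀ c x : F) * (om D u v f c / om D u v d c) by
      simp only [om, rv_sub, rv_smul, QuadraticMap.polar_sub_left, QuadraticMap.polar_smul_left, smul_eq_mul]
      field_simp
      ring]
    exact add_mem (add_mem hx1 (mul_mem (B₀ d x).2 he1)) (mul_mem (B₀ c x).2 hf1)
  · rw [show om D u v d x / om D u v d c = om D u v d (x - B₀ d x • e - B₀ c x • f) / om D u v d c + (B₀ d x : F) * (om D u v d e / om D u v d c) +
        (B₀ c x : F) * (om D u v d f / om D u v d c) by
      simp only [om, rv_sub, rv_smul, QuadraticMap.polar_sub_left, QuadraticMap.polar_smul_left, smul_eq_mul]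
      field_simp
      ring]
    exact add_mem (add_mem hx2 (mul_mem (B₀ d x).2 he2)) (mul_mem (B₀ c x).2 hf2)

end plane

/-- a rational plane -/
theorem exists_kernel {u v : Vec} (hu : u ≠ 0) (huv : ∀ k : F, v ≠ k • u) (hR : RatioRat D u v) :
    ∃ S : Submodule D.F₀ (ι → D.F₀), Fintype.card ι ≤ Module.finrank D.F₀ S + 2 ∧ u ∈ ann D S ∧ v ∈ ann D S := by
  classical
  have hn := D.hn
  by_cases hex : ∃ d c, q0 D d = 0 ∧ q0 D c = 0 ∧ B₀ d c = 0 ∧ om D u v d c ≠ 0
  · obtain ⟨d, c, hd, hc, hdc, hμ⟩ := hex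
    set μ := om D u v d c with hμdef
    let L : (ι → D.F₀) →ₗ[D.F₀] (Fin 2 → D.F₀) :=
      { toFun := fun x => ![⟨_, (coord_all D u v hR hd hc hdc hμ x).1⟩, ⟨_, (coord_all D u v hR hd hc hdc hμ x).2⟩]
        map_add' := fun x y => by
          funext i; fin_cases i <;> refine Subtype.ext ?_ <;> simp [om_add_left, om_add_right, add_div]
        map_smul' := fun t x => by
          funext i; fin_cases i <;> refine Subtype.ext ?_ <;>
            simp [om, rv_smul, QuadraticMap.polar_smul_left] <;> ring }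
    refine ⟨LinearMap.ker L, ?_, fun x hx => ?_, fun x hx => ?_⟩
    · have h3 := LinearMap.finrank_range_add_finrank_ker L
      have h4 := Submodule.finrank_le (LinearMap.range L)
      rw [Module.finrank_fintype_fun_eq_card, Fintype.card_fin] at h4
      rw [Module.finrank_fintype_fun_eq_card] at h3
      omega
    all_goals
      have h := LinearMap.mem_ker.1 hx
      have h1 : om D u v x c / μ = 0 := congrArg Subtype.val (congrFun h 0)
      have h2 : om D u v d x / μ = 0 := congrArg Subtype.val (congrFun h 1)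
      rw [div_eq_zero_iff, or_iff_left hμ] at h1 h2
    · refine (mul_eq_zero.1 (?_ : μ * B (rv D x) u = 0)).resolve_left hμ
      simp only [om] at h1 h2 hμdef
      linear_combination B (rv D x) u * hμdef + B (rv D d) u * h1 + B (rv D c) u * h2
    · refine (mul_eq_zero.1 (?_ : μ * B (rv D x) v = 0)).resolve_left hμ
      simp only [om] at h1 h2 hμdef
      linear_combination B (rv D x) v * hμdef + B (rv D d) v * h1 + B (rv D c) v * h2
  exfalso
  push Not at hex
  obtain ⟨d, hd, hdu⟩ : ∃ d, q0 D d = 0 ∧ B (rv D d) u ≠ 0 := by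
    by_contra hc
    push Not at hc
    let T : Submodule D.F₀ (ι → D.F₀) :=
      { carrier := {x | B (rv D x) u = 0}
        zero_mem' := by simp [rv_zero]
        add_mem' := fun {x y} hx hy => by
          show B (rv D (x + y)) u = 0
          rw [rv_add, QuadraticMap.polar_add_left, hx, hy, add_zero]
        smul_mem' := fun t x hx => by
          show B (rv D (t • x)) u = 0
          rw [rv_smul, QuadraticMap.polar_smul_left, hx, smul_zero] }
    exact hu (ext_rat D fun x => span_sing_fin (nd0 D) (![] : Fin 0 → ι → D.F₀) (by omega) (T := T)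
      (fun y _ hy => hc y hy) (fun i => i.elim0))
  have hd0 : d ≠ 0 := fun e => hdu (by rw [e, rv_zero, QuadraticMap.polar_zero_left])
  obtain ⟨y, hy⟩ := exists_partner (nd0 D) hd0 hd
  have hperp : ∀ x, B₀ d x = 0 → om D u v d x = 0 := by
    intro x hx
    let T : Submodule D.F₀ (ι → D.F₀) :=
      { carrier := {x | om D u v d x = 0}
        zero_mem' := om_zero_right D u v d
        add_mem' := fun {x y} hx hy => by
          show om D u v d (x + y) = 0
          rw [om_add_right, hx, hy, add_zero]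
        smul_mem' := fun t x hx => by
          show om D u v d (t • x) = 0
          rw [om_smul_right, hx, mul_zero] }
    exact span_sing_fin (nd0 D) ![d] (by omega) (T := T) (fun w hw hQw => hex d w hd hQw (hw 0))
      (fun i => by fin_cases i; exact hx)
  have hlin : ∀ x, om D u v d x = (B₀ d x : F) * om D u v d y := fun x => by
    have := hperp (x - B₀ d x • y) (by simp [QuadraticMap.polar_sub_right, QuadraticMap.polar_smul_right, hy.huv])
    rw [om_sub_right, om_smul_right, sub_eq_zero] at this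
    exact this
  have ht : om D u v d y ≠ 0 := fun h0 => huv (B (rv D d) v / B (rv D d) u) (sub_eq_zero.1 (ext_rat D fun x => by
    have := hlin x
    rw [h0, mul_zero, om] at this
    rw [QuadraticMap.polar_sub_right, QuadraticMap.polar_smul_right, smul_eq_mul]
    field_simp
    linear_combination this))
  obtain ⟨z, z', hp, hzz⟩ := exists_pair_fin (nd0 D) ![d, y] (by omega)
  have g0 := hzz 0; have g1 := hzz 1
  simp only [Fin.isValue, cons_val_zero, cons_val_one] at g0 g1
  have hvan : ∀ y' x, q0 D y' = 0 → q0 D x = 0 → B₀ x y' = 0 → B₀ d x = 0 → B₀ d y' = 1 →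
      B (rv D x) u = 0 := by
    intro y' x hy' hx hxy hdx hdy'
    have h1 := hex x y' hx hy' hxy
    have h2 := hlin x
    have h3 := hlin y'
    rw [hdx] at h2
    rw [hdy'] at h3
    simp only [ZeroMemClass.coe_zero, zero_mul, OneMemClass.coe_one, one_mul] at h2 h3
    refine (mul_eq_zero.1 (?_ : B (rv D x) u * om D u v d y = 0)).resolve_right ht
    rw [← h3]
    simp only [om] at h1 h2 ⊢
    linear_combination B (rv D d) u * h1 + B (rv D y') u * h2
  have hz' := hvan y z' hy.hv hp.hv (by rw [QuadraticMap.polar_comm]; exact g1.2) g0.2 hy.huv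
  have hdz := hvan (y + z) (d - z') (by rw [map_add', hy.hv, hp.hu, g1.1, add_zero, add_zero])
    (by rw [sub_eq_add_neg, map_add', hd, QuadraticMap.map_neg, hp.hv, QuadraticMap.polar_neg_right, g0.2, neg_zero,
      add_zero, add_zero])
    (by simp [QuadraticMap.polar_sub_left, QuadraticMap.polar_add_right, hy.huv, g0.1,
      QuadraticMap.polar_comm _ z' y, g1.2, QuadraticMap.polar_comm _ z' z, hp.huv])
    (by rw [QuadraticMap.polar_sub_right, g0.2, sub_zero, polar_self_zero hd])
    (by rw [QuadraticMap.polar_add_right, hy.huv, g0.1, add_zero])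
  rw [rv_sub, QuadraticMap.polar_sub_left, hz', sub_zero] at hdz
  exact hdu hdz

/-- a set of vectors killed by few others is small -/
theorem exists_bad_plane {u : Vec} (hu : Irr D u) (g : Cfsg.isometryGroup F ⇑Q) {a : ι → D.F₀} (ha : q0 D a = 0)
    (hua : u = act g (rv D a)) :
    ∃ b d c c', q0 D b = 0 ∧ B₀ a b = 0 ∧ q0 D d = 0 ∧ q0 D c = 0 ∧ q0 D c' = 0 ∧ B₀ d c = 0 ∧ B₀ d c' = 0 ∧
      om D u (act g (rv D b)) d c ≠ 0 ∧
      om D u (act g (rv D b)) d c' / om D u (act g (rv D b)) d c ∉ D.F₀ := by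
  have hn := D.hn
  by_contra hcon
  push Not at hcon
  have hu0 : u ≠ 0 := fun e => hu 0 0 (by rw [e, zero_smul])
  have ha0 : a ≠ 0 := fun e => hu0 (by rw [hua, e, rv_zero, map_zero])
  obtain ⟨ya, hya⟩ := exists_partner (nd0 D) ha0 ha
  obtain ⟨b, yb, hpb, hb⟩ := exists_pair_fin (nd0 D) ![a, ya] (by omega)
  have g0 := hb 0; have g1 := hb 1
  simp only [Fin.isValue, cons_val_zero, cons_val_one] at g0 g1
  obtain ⟨b', yb', hpb', hb'⟩ := exists_pair_two (nd0 D) hya hpb g0.1 g0.2 g1.1 g1.2 (by omega)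
  have k0 := (hb' 0).1; have k1 := (hb' 1).1; have k2 := (hb' 2).1; have k3 := (hb' 3).1
  have l0 := (hb' 0).2
  simp only [Fin.isValue, cons_val_zero, cons_val_one, cons_val] at k0 k1 k2 k3 l0
  have hinj : ∀ {x y : Vec}, act g x = act g y → x = y := fun {x y} h => act_inj g h
  have hne : ∀ (q yq : ι → D.F₀), IsPair (q0 D) q yq → B₀ a yq = 0 → ∀ k : F, act g (rv D q) ≠ k • u := by
    intro q yq hq hyq k hk
    rw [hua, ← map_smul] at hk
    have := congrArg (fun x => B x (rv D yq)) (hinj hk)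
    simp only [QuadraticMap.polar_smul_left, (orth_iff D).1 hyq, smul_zero] at this
    exact one_ne_zero (hq.huv.symm.trans ((orth_iff D).2 this))
  have hker : ∀ q yq, IsPair (q0 D) q yq → B₀ a q = 0 → B₀ a yq = 0 → ∃ S : Submodule D.F₀ (ι → D.F₀),
      Fintype.card ι ≤ Module.finrank D.F₀ S + 2 ∧ u ∈ ann D S ∧ act g (rv D q) ∈ ann D S :=
    fun q yq hq haq hyq => exists_kernel D hu0 (hne q yq hq hyq) fun d c c' hd hc hc' hdc hdc' hω =>
      hcon q d c c' hq.hu haq hd hc hc' hdc hdc' hω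
  obtain ⟨S, hS, huS, hvS⟩ := hker b yb hpb g0.1 g0.2
  obtain ⟨S', hS', huS', hvS'⟩ := hker b' yb' hpb' k0 l0
  by_cases hSS : S' ≤ S ∧ S ≤ S'
  · obtain rfl := le_antisymm hSS.1 hSS.2
    have h1 := finrank_ann D S'
    have hli : LinearIndependent F ![act g (rv D a), act g (rv D b), act g (rv D b')] := by
      rw [Fintype.linearIndependent_iff]
      intro t ht
      rw [Fin.sum_univ_three] at ht
      simp only [Fin.isValue, cons_val_zero, cons_val_one, cons_val, ← map_smul, ← map_add] at ht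
      have e0 : t 0 • rv D a + t 1 • rv D b + t 2 • rv D b' = 0 := hinj (by rw [ht, map_zero])
      have e : ∀ y, t 0 * B (rv D a) (rv D y) + t 1 * B (rv D b) (rv D y) + t 2 * B (rv D b') (rv D y) = 0 := by
        intro y
        have := congrArg (fun x => B x (rv D y)) e0
        simpa [QuadraticMap.polar_add_left, QuadraticMap.polar_smul_left] using this
      have hne1 : ∀ {x y}, B₀ x y = 1 → B (rv D x) (rv D y) ≠ 0 := fun h e => by
        have := one_eq D h
        rw [e, mul_zero] at this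
        exact zero_ne_one this
      have ea := e ya
      rw [(orth_iff D).1 (show B₀ b ya = 0 by rw [QuadraticMap.polar_comm]; exact g1.1),
        (orth_iff D).1 (show B₀ b' ya = 0 by rw [QuadraticMap.polar_comm]; exact k1), mul_zero, add_zero, mul_zero,
        add_zero] at ea
      have t0 := (mul_eq_zero.1 ea).resolve_right (hne1 hya.huv)
      have eb := e yb
      rw [(orth_iff D).1 (show B₀ b' yb = 0 by rw [QuadraticMap.polar_comm]; exact k3), t0, zero_mul, zero_add, mul_zero,
        add_zero] at eb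
      have t1 := (mul_eq_zero.1 eb).resolve_right (hne1 hpb.huv)
      have eb' := e yb'
      rw [t0, t1, zero_mul, zero_mul, zero_add, zero_add] at eb'
      have t2 := (mul_eq_zero.1 eb').resolve_right (hne1 hpb'.huv)
      intro i
      fin_cases i <;> assumption
    have h2 : Submodule.span F (Set.range ![act g (rv D a), act g (rv D b), act g (rv D b')]) ≤ ann D S' := by
      rw [Submodule.span_le]
      rintro _ ⟨i, rfl⟩
      fin_cases i
      · simpa [← hua] using huS'
      · simpa using hvS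
      · simpa using hvS'
    have h3 := Submodule.finrank_mono h2
    rw [finrank_span_eq_card hli, Fintype.card_fin] at h3
    omega
  · have hu' : u ∈ ann D (S ⊔ S') := fun x hx => by
      obtain ⟨s, hs, s', hs', rfl⟩ := Submodule.mem_sup.1 hx
      rw [rv_add, QuadraticMap.polar_add_left, huS s hs, huS' s' hs', add_zero]
    have h1 := hu.finrank_lt hu'
    rw [not_and_or] at hSS
    rcases hSS with h | h
    · have := Submodule.finrank_lt_finrank_of_lt (lt_of_le_of_ne (le_sup_left : S ≤ S ⊔ S') fun e => h (e ▸ le_sup_right))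
      omega
    · have := Submodule.finrank_lt_finrank_of_lt (lt_of_le_of_ne (le_sup_right : S' ≤ S ⊔ S') fun e => h (e ▸ le_sup_left))
      omega

/-- an element that is not semirational moves some singular rational vector to an irrational one -/
theorem exists_irr (g : Cfsg.isometryGroup F ⇑Q)
    (hg : ¬ ∃ k : F, k ≠ 0 ∧ ∀ a, ∃ b, k • act g (rv D a) = rv D b) :
    ∃ a, q0 D a = 0 ∧ Irr D (act g (rv D a)) := by
  have hn := D.hn
  by_contra hc
  simp only [not_exists, not_and, Irr, not_forall, not_not] at hc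
  choose k b hkb using hc
  have hk0 : ∀ a (ha : q0 D a = 0), a ≠ 0 → k a ha ≠ 0 := fun a ha ha0 e => ha0 (rv_eq_zero D (act_inj g (by
    rw [hkb a ha, e, zero_smul, map_zero])))
  have hprod : ∀ a f (ha : q0 D a = 0) (hf : q0 D f = 0), B₀ a f ≠ 0 → k a ha * k f hf ∈ D.F₀ := by
    intro a f ha hf hne
    have h := act_polar g (rv D a) (rv D f)
    rw [hkb a ha, hkb f hf, QuadraticMap.polar_smul_left, QuadraticMap.polar_smul_right, smul_eq_mul, smul_eq_mul] at h
    have h2 : k a ha * k f hf * (B₀ (b a ha) (b f hf) : F) = (B₀ a f : F) := by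
      rw [coe_b, coe_b, ← h]; ring
    have hne' : (B₀ a f : F) ≠ 0 := fun e => hne (Subtype.ext e)
    rw [show k a ha * k f hf = (B₀ a f : F) / (B₀ (b a ha) (b f hf) : F) by
      rw [eq_div_iff (fun e => hne' (by rw [← h2, e, mul_zero])), h2]]
    exact D.F₀.div_mem (B₀ a f).2 (B₀ _ _).2
  have hratio0 : ∀ a b (ha : q0 D a = 0) (hb : q0 D b = 0), a ≠ 0 → b ≠ 0 → B₀ a b = 0 → k a ha / k b hb ∈ D.F₀ := by
    intro a b ha hb ha0 hb0 hab
    obtain ⟨fa, hfa⟩ := exists_partner (nd0 D) ha0 ha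
    obtain ⟨fb, hfb⟩ := exists_partner (nd0 D) hb0 hb
    obtain ⟨f, hf, haf, hbf⟩ : ∃ f, q0 D f = 0 ∧ B₀ a f ≠ 0 ∧ B₀ b f ≠ 0 := by
      by_cases h1 : B₀ b fa = 0
      swap
      · exact ⟨fa, hfa.hv, by rw [hfa.huv]; exact one_ne_zero, h1⟩
      by_cases h2 : B₀ a fb = 0
      swap
      · exact ⟨fb, hfb.hv, h2, by rw [hfb.huv]; exact one_ne_zero⟩
      refine ⟨fa + fb + (-B₀ fa fb) • a, ?_, ?_, ?_⟩
      · simp only [map_add', Classical.Orth.map_smul', QuadraticMap.polar_add_left, QuadraticMap.polar_smul_right, smul_eq_mul,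
          hfa.hv, hfb.hv, ha, QuadraticMap.polar_comm _ fa a, QuadraticMap.polar_comm _ fb a, hfa.huv, h2]
        ring
      · simp [QuadraticMap.polar_add_right, QuadraticMap.polar_smul_right, hfa.huv, h2, polar_self_zero ha]
      · simp [QuadraticMap.polar_add_right, QuadraticMap.polar_smul_right, hfb.huv, h1, QuadraticMap.polar_comm _ b a, hab]
    have hf0 : f ≠ 0 := fun e => haf (by rw [e, QuadraticMap.polar_zero_right])
    rw [show k a ha / k b hb = (k a ha * k f hf) / (k b hb * k f hf) from (mul_div_mul_right _ _ (hk0 f hf hf0)).symm]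
    exact D.F₀.div_mem (hprod a f ha hf haf) (hprod b f hb hf hbf)
  obtain ⟨a₀, f₀, hp, -⟩ := exists_pair_fin (nd0 D) (![] : Fin 0 → ι → D.F₀) (by omega)
  have ha₀ : a₀ ≠ 0 := fun e => zero_ne_one (α := D.F₀) (by rw [← hp.huv, e, QuadraticMap.polar_zero_left])
  set k₀ := k a₀ hp.hu
  refine hg ⟨k₀⁻¹, inv_ne_zero (hk0 a₀ hp.hu ha₀), fun x => ?_⟩
  let T : Submodule D.F₀ (ι → D.F₀) :=
    { carrier := {x | ∃ b, k₀⁻¹ • act g (rv D x) = rv D b}
      zero_mem' := ⟨0, by simp [rv_zero]⟩
      add_mem' := fun {x y} ⟨b, hb⟩ ⟨b', hb'⟩ => ⟨b + b', by rw [rv_add, map_add, smul_add, hb, hb', rv_add]⟩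
      smul_mem' := fun t x ⟨b, hb⟩ => ⟨t • b, by rw [rv_smul, map_smul, smul_comm, hb, rv_smul]⟩ }
  refine span_sing_fin (nd0 D) (![] : Fin 0 → ι → D.F₀) (by omega) (T := T) (fun y _ hy => ?_) (fun i => i.elim0)
  rcases eq_or_ne y 0 with rfl | hy0
  · exact T.zero_mem
  have hr : k y hy / k₀ ∈ D.F₀ := by
    obtain ⟨c, c', hc, hcc⟩ := exists_pair_fin (nd0 D) ![y, a₀] (by omega)
    have hc0 : c ≠ 0 := fun e => zero_ne_one (α := D.F₀) (by rw [← hc.huv, e, QuadraticMap.polar_zero_left])
    rw [show k y hy / k₀ = (k y hy / k c hc.hu) * (k c hc.hu / k₀) from (div_mul_div_cancel₀ (hk0 c hc.hu hc0)).symm]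
    exact mul_mem (hratio0 y c hy hc.hu hy0 hc0 (hcc 0).1)
      (hratio0 c a₀ hc.hu hp.hu hc0 ha₀ (by rw [QuadraticMap.polar_comm]; exact (hcc 1).1))
  exact ⟨(⟨_, hr⟩ : D.F₀) • b y hy, by
    rw [rv_smul, hkb y hy, smul_smul]
    congr 1
    rw [inv_mul_eq_div]⟩

section roots

variable {M : Subgroup (Cfsg.isometryGroup F ⇑Q)}

theorem inE_of_smul_left {u w : Vec} {t : F} (h : InE M (t • u) w) : InE M u (t • w) := fun hu huw => by
  have hu' : Q (t • u) = 0 := by rw [Classical.Orth.map_smul', hu, mul_zero]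
  have huw' : B (t • u) w = 0 := by
    rw [QuadraticMap.polar_smul_left]; rwa [QuadraticMap.polar_smul_right] at huw
  exact eich_smul t hu' huw' hu huw ▸ h hu' huw'

theorem sing_rv {a : ι → D.F₀} (ha : q0 D a = 0) : Q (rv D a) = 0 := (sing_iff D).1 ha

theorem orth_scaled {a w : ι → D.F₀} (h : B₀ a w = 0) (t : F) : B (rv D a) (t • rv D w) = 0 := by
  rw [QuadraticMap.polar_smul_right, (orth_iff D).1 h, smul_zero]

/-- rational Eichler transformations on rational vectors -/
theorem lift_eich {c w : ι → D.F₀} (hc : q0 D c = 0) (hcw : B₀ c w = 0) (x : ι → D.F₀) :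
    act (eich (rv D c) (D.ζ • rv D w) (sing_rv D hc) (orth_scaled D hcw D.ζ)) (rv D x) =
      rv D (act (eich c w hc hcw) x) := by
  simp only [act_eich, rv_sub, rv_add, rv_smul, QuadraticMap.polar_smul_right, Classical.Orth.map_smul',
    smul_eq_mul, Subfield.coe_mul, coe_b, coe_q0]
  module

/-- the rational root elements -/
def RatRoots (M : Subgroup (Cfsg.isometryGroup F ⇑Q)) : Prop :=
  ∀ a w, q0 D a = 0 → B₀ a w = 0 → InE M (rv D a) (D.ζ • rv D w)

theorem rat_elem (hS : RatRoots D M) {a w : ι → D.F₀} (ha : q0 D a = 0) (hw : B₀ a w = 0) :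
    eich (rv D a) (D.ζ • rv D w) (sing_rv D ha) (orth_scaled D hw D.ζ) ∈ M :=
  hS a w ha hw _ _

set_option maxHeartbeats 1000000 in
/-- an irrational root element with rational centre -/
theorem exists_irr_root (hS : RatRoots D M) {g : Cfsg.isometryGroup F ⇑Q} (hg : g ∈ M)
    (hns : ¬ ∃ k : F, k ≠ 0 ∧ ∀ a, ∃ b, k • act g (rv D a) = rv D b) :
    ∃ d z W, d ≠ 0 ∧ q0 D d = 0 ∧ q0 D z = 0 ∧ B₀ d z = 0 ∧ B (rv D d) W = 0 ∧ InE M (rv D d) W ∧ B (rv D z) W ∉ D.F₀ := by
  have hn := D.hn
  obtain ⟨a, ha, hirr⟩ := exists_irr D g hns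
  obtain ⟨b, d, c, c', hb, hab, hd, hc, hc', hdc, hdc', hω, hq⟩ := exists_bad_plane D hirr g ha rfl
  set u := act g (rv D a) with hu
  set v := act g (rv D b) with hv
  set μ := om D u v d c with hμ
  set q := om D u v d c' / μ with hqdef
  have huu : Q u = 0 := by rw [hu, act_map, sing_rv D ha]
  have hvv : Q v = 0 := by rw [hv, act_map, sing_rv D hb]
  have huv : B u v = 0 := by rw [hu, hv, act_polar, (orth_iff D).1 hab]
  have hdd : Q (rv D d) = 0 := sing_rv D hd
  obtain ⟨f, hf⟩ : ∃ f : Vec, f = μ⁻¹ • (B (rv D d) u • v - B (rv D d) v • u) := ⟨_, rfl⟩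
  have hfd : B f (rv D d) = 0 := by
    simp only [hf, QuadraticMap.polar_smul_left, QuadraticMap.polar_sub_left, smul_eq_mul,
      QuadraticMap.polar_comm _ v (rv D d), QuadraticMap.polar_comm _ u (rv D d)]
    ring
  have hfx : ∀ x, B f (rv D x) = om D u v d x / μ := fun x => by
    simp only [hf, om, QuadraticMap.polar_smul_left, QuadraticMap.polar_sub_left, smul_eq_mul,
      QuadraticMap.polar_comm _ v (rv D x), QuadraticMap.polar_comm _ u (rv D x)]
    field_simp
  let G2 : Subgroup (SpecialLinearGroup (Fin 2) F) :=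
    { carrier := {X | ∃ s ∈ M, act s (rv D d) = X 0 0 • rv D d + X 1 0 • f ∧ act s f = X 0 1 • rv D d + X 1 1 • f}
      one_mem' := ⟨1, one_mem M, by simp [act_one], by simp [act_one]⟩
      mul_mem' := by
        rintro X Y ⟨s, hs, e1, e2⟩ ⟨t, ht, f1, f2⟩
        refine ⟨s * t, mul_mem hs ht, ?_, ?_⟩
        · rw [show ((X * Y : SpecialLinearGroup (Fin 2) F) : Matrix (Fin 2) (Fin 2) F) =
            (X : Matrix (Fin 2) (Fin 2) F) * (Y : Matrix (Fin 2) (Fin 2) F) from rfl]
          simp only [act_mul, f1, map_add, map_smul, e1, e2, Matrix.mul_apply, Fin.sum_univ_two]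
          module
        · rw [show ((X * Y : SpecialLinearGroup (Fin 2) F) : Matrix (Fin 2) (Fin 2) F) =
            (X : Matrix (Fin 2) (Fin 2) F) * (Y : Matrix (Fin 2) (Fin 2) F) from rfl]
          simp only [act_mul, f2, map_add, map_smul, e1, e2, Matrix.mul_apply, Fin.sum_univ_two]
          module
      inv_mem' := by
        rintro X ⟨s, hs, e1, e2⟩
        have hdet := X.det_coe
        rw [Matrix.det_fin_two] at hdet
        have ei : ((X⁻¹ : SpecialLinearGroup (Fin 2) F) : Matrix (Fin 2) (Fin 2) F) =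
            !![X 1 1, -X 0 1; -X 1 0, X 0 0] := by
          show (X : Matrix (Fin 2) (Fin 2) F).adjugate = _
          exact Matrix.adjugate_fin_two _
        refine ⟨s⁻¹, inv_mem hs, act_inj s ?_, act_inj s ?_⟩
        all_goals
          rw [← act_mul, mul_inv_cancel, act_one, ei]
          simp [map_add, map_smul, e1, e2]
          match_scalars <;> first | ring1 | linear_combination hdet | linear_combination -hdet }
  have huni : ∀ x, q0 D x = 0 → B₀ d x = 0 → Classical.GL2.uniSL (-(D.ζ * (om D u v d x / μ))) ∈ G2 := by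
    intro x hx hdx
    refine ⟨_, rat_elem D hS hd hdx, ?_, ?_⟩
    · rw [act_eich_self, Classical.GL2.coe_uniSL]; simp
    · rw [act_eich, hfd, Classical.GL2.coe_uniSL]
      simp [QuadraticMap.polar_smul_right, hfx]
      module
  have hlow : Classical.GL2.lowSL (D.ζ * μ) ∈ G2 := by
    have h1 := mul_mem (mul_mem hg (rat_elem D hS ha hab)) (inv_mem hg)
    rw [eich_conj] at h1
    refine ⟨_, h1, ?_, ?_⟩
    · rw [act_eich, Classical.GL2.coe_lowSL, map_smul, ← hv, ← hu, Classical.Orth.map_smul', hvv, hf]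
      simp [QuadraticMap.polar_smul_right, smul_smul, smul_sub]
      match_scalars <;> field_simp
    · rw [act_eich_fix, Classical.GL2.coe_lowSL]
      · simp
      · rw [← hu, hf, QuadraticMap.polar_smul_left, QuadraticMap.polar_sub_left, QuadraticMap.polar_smul_left,
          QuadraticMap.polar_smul_left, QuadraticMap.polar_comm _ v u, huv, polar_self_zero huu]
        simp
      · rw [map_smul, ← hv, hf, QuadraticMap.polar_smul_left, QuadraticMap.polar_sub_left,
          QuadraticMap.polar_smul_left, QuadraticMap.polar_smul_left, QuadraticMap.polar_smul_right,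
          QuadraticMap.polar_smul_right, huv, polar_self_zero hvv]
        simp
  let A : AddSubgroup F :=
    { carrier := {x | Classical.GL2.uniSL x ∈ G2}
      zero_mem' := by show _ ∈ G2; rw [Classical.GL2.uniSL_zero]; exact one_mem G2
      add_mem' := fun {x y} hx hy => by
        show _ ∈ G2; rw [← Classical.GL2.uniSL_mul]; exact mul_mem hx hy
      neg_mem' := fun {x} hx => by
        show _ ∈ G2; rw [← Classical.GL2.uniSL_inv]; exact inv_mem hx }
  have hA : ∀ t : D.F₀, -(D.ζ * (t : F)) ∈ A := fun t => by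
    have := huni (t • c) (by rw [Classical.Orth.map_smul', hc, mul_zero]) (by rw [QuadraticMap.polar_smul_right, hdc, smul_zero])
    rwa [om_smul_right, ← hμ, mul_div_cancel_right₀ _ hω] at this
  have hA1 : -D.ζ ∈ A := by simpa using hA 1
  have hA2 : -(D.ζ * q) ∈ A := huni c' hc' hdc'
  have hq' : -(D.ζ * q) ∉ AddSubgroup.zmultiples (-D.ζ) := fun hm => hq (by
    obtain ⟨j, hj⟩ := AddSubgroup.mem_zmultiples_iff.1 hm
    rw [zsmul_eq_mul] at hj
    rw [show q = (j : F) from mul_left_cancel₀ D.hζ (by linear_combination hj)]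
    exact intCast_mem _ j)
  have htop := DicksonUni.map_pi_eq_top G2 A (fun x hx => hx) hA1 hA2 (neg_ne_zero.2 D.hζ) hq'
    (mul_ne_zero D.hζ hω) hlow fun S hS' => by
      refine eq_top_of D S (fun x hx => ?_) (q := q) ?_ hq
      · simpa [neg_div_neg_eq, D.hζ] using hS' _ (hA ⟨x, hx⟩)
      · simpa [neg_div_neg_eq, D.hζ] using hS' _ hA2
  obtain ⟨X, ⟨s, hs, e1, -⟩, hX10, hl⟩ := DicksonUni.exists_diag G2 htop D.F₀ (base_ne_top D)
  rw [hX10, zero_smul, add_zero] at e1
  set l := X 0 0 with hldef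
  -- the images of the rational directions
  by_contra hcon
  push Not at hcon
  have hperp : ∀ w, B₀ d w = 0 → B (rv D d) (l • act s (D.ζ • rv D w)) = 0 := fun w hw => by
    rw [QuadraticMap.polar_smul_right, ← QuadraticMap.polar_smul_left, ← e1, act_polar, orth_scaled D hw]
  have hd0 : d ≠ 0 := fun h0 => hω (by simp [hμ, om, h0, rv_zero])
  obtain ⟨e, he⟩ := exists_partner (nd0 D) hd0 hd
  have hproj : ∀ w, B₀ d w = 0 → ∃ (ρ : ι → D.F₀) (k : F), B₀ d ρ = 0 ∧
      l • act s (D.ζ • rv D w) = D.ζ • rv D ρ + k • rv D d := by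
    intro w hw
    set W := l • act s (D.ζ • rv D w) with hW
    have hIn : InE M (rv D d) W := by
      refine inE_of_smul_left ?_
      rw [← e1]
      exact OrthPair.inE_map (hS d w hd hw) hs
    let T : Submodule D.F₀ (ι → D.F₀) :=
      { carrier := {x | B (rv D x) W ∈ D.F₀}
        zero_mem' := by simp [rv_zero]
        add_mem' := fun {x y} hx hy => by
          show B (rv D (x + y)) W ∈ D.F₀
          rw [rv_add, QuadraticMap.polar_add_left]; exact add_mem hx hy
        smul_mem' := fun t x hx => by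
          show B (rv D (t • x)) W ∈ D.F₀
          rw [rv_smul, QuadraticMap.polar_smul_left]; exact mul_mem t.2 hx }
    have hT : ∀ x, B₀ d x = 0 → B (rv D x) W ∈ D.F₀ := fun x hx =>
      span_sing_fin (nd0 D) ![d] (by omega) (T := T)
        (fun z hz hQz => hcon d z W hd0 hd hQz (hz 0) (hperp w hw) hIn) (fun i => by fin_cases i; exact hx)
    have hpr : ∀ x, B₀ d (x - B₀ d x • e) = 0 := fun x => by
      rw [QuadraticMap.polar_sub_right, QuadraticMap.polar_smul_right, he.huv, smul_eq_mul, mul_one, sub_self]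
    let fl : (ι → D.F₀) →ₗ[D.F₀] D.F₀ :=
      { toFun := fun x => ⟨B (rv D (x - B₀ d x • e)) W, hT _ (hpr x)⟩
        map_add' := fun x y => Subtype.ext (by
          simp [rv_add, rv_sub, rv_smul, QuadraticMap.polar_add_left, QuadraticMap.polar_sub_left,
            QuadraticMap.polar_smul_left, QuadraticMap.polar_add_right]
          ring)
        map_smul' := fun t x => Subtype.ext (by
          simp [rv_sub, rv_smul, QuadraticMap.polar_sub_left, QuadraticMap.polar_smul_left,
            QuadraticMap.polar_smul_right]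
          ring) }
    obtain ⟨ρ, hρ⟩ := rep D fl
    have hρ' : ∀ x, D.ζ * B (rv D x) (rv D ρ) = B (rv D (x - B₀ d x • e)) W := fun x => by rw [← coe_b, hρ]; rfl
    refine ⟨ρ, D.ζ * B (rv D e) W, ?_, sub_eq_zero.1 (ext_rat D fun x => ?_)⟩
    · rw [hρ]
      exact Subtype.ext (by
        show B (rv D (d - B₀ d d • e)) W = 0
        rw [polar_self_zero hd, zero_smul, sub_zero, hperp w hw])
    · have h1 := hρ' x
      rw [rv_sub, rv_smul, QuadraticMap.polar_sub_left, QuadraticMap.polar_smul_left, coe_b, smul_eq_mul] at h1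
      simp only [QuadraticMap.polar_sub_right, QuadraticMap.polar_add_right, QuadraticMap.polar_smul_right,
        smul_eq_mul, QuadraticMap.polar_comm _ (rv D x) (rv D d)]
      linear_combination -h1
  obtain ⟨w, w', hp, hww⟩ := exists_pair_fin (nd0 D) ![d] (by omega)
  obtain ⟨ρ, k, hρ, e2⟩ := hproj w (hww 0).1
  obtain ⟨ρ', k', hρ', e3⟩ := hproj w' (hww 0).2
  have h := congrArg₂ (fun x y => B x y) e2 e3
  simp only [QuadraticMap.polar_smul_left, QuadraticMap.polar_smul_right, act_polar, QuadraticMap.polar_add_left,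
    QuadraticMap.polar_add_right, smul_eq_mul, (orth_iff D).1 hρ', polar_self_zero hdd,
    QuadraticMap.polar_comm _ (rv D ρ) (rv D d), (orth_iff D).1 hρ] at h
  refine hl ?_
  have h1 := one_eq D hp.huv
  rw [show l * l = D.ζ * B (rv D ρ) (rv D ρ') from mul_left_cancel₀ D.hζ (by
    linear_combination h - l * l * D.ζ * h1)]
  rw [← coe_b]
  exact (B₀ ρ ρ').2

set_option maxHeartbeats 1000000 in
/-- an irrational root element in a rational direction -/
theorem exists_pair_root (hS : RatRoots D M) {g : Cfsg.isometryGroup F ⇑Q} (hg : g ∈ M)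
    (hns : ¬ ∃ k : F, k ≠ 0 ∧ ∀ a, ∃ b, k • act g (rv D a) = rv D b) :
    ∃ d w y β, d ≠ 0 ∧ q0 D d = 0 ∧ B₀ d w = 0 ∧ B₀ d y = 0 ∧ IsPair (q0 D) w y ∧ β ∉ D.F₀ ∧
      InE M (rv D d) ((β * D.ζ) • rv D w) := by
  have hn := D.hn
  obtain ⟨d, z, W, hd0, hd, hz, hdz, hdW, hW, hβ⟩ := exists_irr_root D hS hg hns
  obtain ⟨w, z', hp, hwz⟩ := exists_pair_fin (nd0 D) ![d, z] (by omega)
  have a0 := hwz 0; have a1 := hwz 1
  simp only [Fin.isValue, cons_val_zero, cons_val_one] at a0 a1
  have hzd : z ∉ Submodule.span D.F₀ (Set.range ![d]) := fun hm => hβ (by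
    rw [range_cons, range_empty, Set.union_empty] at hm
    obtain ⟨t, rfl⟩ := Submodule.mem_span_singleton.1 hm
    rw [rv_smul, QuadraticMap.polar_smul_left, hdW, smul_zero]
    exact zero_mem _)
  obtain ⟨x, hx, hzx⟩ := Orth.not_mem_perp (nd0 D) hzd
  obtain ⟨y, hy, hQy, hzy⟩ := Orth.exists_partner_in (mem_perp_range.2 fun i => by
    fin_cases i; simpa using hdz) hx hz hzx
  obtain ⟨w', hw'⟩ : ∃ w', w' = z := ⟨z, rfl⟩
  have hp' : IsPair (q0 D) w' y := hw' ▸ ⟨hz, hQy, hzy⟩
  have b0 : B₀ d w' = 0 ∧ B₀ d y = 0 := ⟨hw' ▸ hdz, by simpa using mem_perp_range.1 hy 0⟩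
  have b1 : B₀ z w' = 0 := by rw [hw']; exact polar_self_zero hz
  have b2 : B₀ w w' = 0 := by rw [hw', QuadraticMap.polar_comm]; exact a1.1
  have b3 : B₀ z' w' = 0 := by rw [hw', QuadraticMap.polar_comm]; exact a1.2
  have hdiff : ∀ (p r : ι → D.F₀) (hpq : q0 D p = 0) (hpr : B₀ p r = 0), B₀ d p = 0 → B₀ d r = 0 → ∀ V : Vec,
      B (rv D d) V = 0 → InE M (rv D d) V →
      B (rv D d) (act (eich (rv D p) (D.ζ • rv D r) (sing_rv D hpq) (orth_scaled D hpr D.ζ)) V - V) = 0 ∧
      InE M (rv D d) (act (eich (rv D p) (D.ζ • rv D r) (sing_rv D hpq) (orth_scaled D hpr D.ζ)) V - V) := by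
    intro p r hpq hpr hdp hdr V hV hIn
    set s := eich (rv D p) (D.ζ • rv D r) (sing_rv D hpq) (orth_scaled D hpr D.ζ)
    have hsd : act s (rv D d) = rv D d := act_eich_fix _ _ ((orth_iff D).1 hdp) (orth_scaled D hdr D.ζ)
    have h1 := OrthPair.inE_map hIn (rat_elem D hS hpq hpr)
    rw [hsd] at h1
    have h2 : B (rv D d) (act s V) = 0 := by
      conv_lhs => rw [← hsd]
      rw [act_polar, hV]
    refine ⟨by rw [QuadraticMap.polar_sub_right, h2, hV, sub_zero], ?_⟩
    rw [sub_eq_add_neg]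
    exact OrthPair.inE_add h1 (OrthPair.inE_neg hIn) h2 (by rw [QuadraticMap.polar_neg_right, hV, neg_zero])
  obtain ⟨h1, h1'⟩ := hdiff z w hz a1.1 hdz a0.1 W hdW hW
  have hzz' : B₀ z' w' = 0 := b3
  obtain ⟨-, h2⟩ := hdiff z' w' hp.hv hzz' a0.2 b0.1 _ h1 h1'
  set β := B (rv D z) W
  refine ⟨d, w', y, β, hd0, hd, b0.1, b0.2, hp', hβ, ?_⟩
  convert h2 using 1
  set sW := act (eich (rv D z) (D.ζ • rv D w) (sing_rv D hz) (orth_scaled D a1.1 D.ζ)) W - W with hsW
  have e1 : sW = β • (D.ζ • rv D w) - B W (D.ζ • rv D w) • rv D z := by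
    rw [hsW, act_eich, Classical.Orth.map_smul', sing_rv D hp.hu, QuadraticMap.polar_comm _ W (rv D z)]
    simp only [mul_zero, zero_mul, zero_smul, sub_zero]
    module
  have e2 : B sW (rv D z') = β := by
    rw [e1]
    simp only [QuadraticMap.polar_sub_left, QuadraticMap.polar_smul_left, smul_eq_mul, (orth_iff D).1 a1.2,
      mul_zero, sub_zero, one_eq D hp.huv, mul_one]
  have e3 : B sW (D.ζ • rv D w') = 0 := by
    rw [e1]
    simp [QuadraticMap.polar_sub_left, QuadraticMap.polar_smul_left, (orth_iff D).1 b2, (orth_iff D).1 b1]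
  rw [act_eich, e2, e3, Classical.Orth.map_smul', sing_rv D hp'.hu]
  simp [smul_smul]

/-- the coefficient `k` occurs with centre `a` -/
def InK (M : Subgroup (Cfsg.isometryGroup F ⇑Q)) (k : F) (a : ι → D.F₀) : Prop :=
  ∀ w, B₀ a w = 0 → InE M (rv D a) ((k * D.ζ) • rv D w)

theorem inK_of (hS : RatRoots D M) {a w y : ι → D.F₀} {k : F} (ha : q0 D a = 0) (hp : IsPair (q0 D) w y)
    (haw : B₀ a w = 0) (hay : B₀ a y = 0) (h : InE M (rv D a) ((k * D.ζ) • rv D w)) : InK D M k a := by
  have hn := D.hn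
  let P : (ι → D.F₀) → Prop := fun x => InE M (rv D a) ((k * D.ζ) • rv D x)
  have hmove : ∀ p p' c, q0 D p = 0 → q0 D p' = 0 → q0 D c = 0 → B₀ a p = 0 → B₀ a p' = 0 → B₀ a c = 0 →
      B₀ p c = 1 → B₀ p' c = 1 → P p → P p' := by
    intro p p' c hp hp' hc hap hap' hac hpc hp'c hP
    obtain ⟨hh, e⟩ := Orth.exists_eich_move (Q := q0 D) (a := c) (u := p) (v := p') hc (by rw [hp, hp']) hpc hp'c
    have h1 := OrthPair.inE_map hP (rat_elem D hS hc hh)
    rw [map_smul, lift_eich D hc hh, lift_eich D hc hh, e,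
      act_eich_fix _ _ hac (by rw [QuadraticMap.polar_sub_right, hap', hap, sub_zero])] at h1
    exact h1
  have hscale : ∀ p c (t : D.F₀), q0 D p = 0 → q0 D c = 0 → B₀ a p = 0 → B₀ a c = 0 → B₀ p c = 1 → t ≠ 0 →
      P p → P (t • p) := by
    intro p c t hp hc hap hac hpc ht hP
    obtain ⟨z, z', hz, hzz⟩ := exists_pair_line (nd0 D) ha ⟨hp, hc, hpc⟩ hap hac (by omega)
    have g0 := hzz 0; have g1 := hzz 1; have g2 := hzz 2
    simp only [Fin.isValue, cons_val_zero, cons_val_one, cons_val] at g0 g1 g2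
    have hx : q0 D (p + z) = 0 := by rw [map_add', hp, hz.hu, g1.1, add_zero, add_zero]
    have h1 := hmove p (p + z) c hp hx hc hap (by rw [QuadraticMap.polar_add_right, hap, g0.1, add_zero]) hac hpc
      (by rw [QuadraticMap.polar_add_left, hpc, QuadraticMap.polar_comm _ z c, g2.1, add_zero]) hP
    refine hmove (p + z) (t • p) (t⁻¹ • c + (1 - t⁻¹) • z') hx
      (by rw [Classical.Orth.map_smul', hp, mul_zero]) ?_ (by rw [QuadraticMap.polar_add_right, hap, g0.1, add_zero])
      (by rw [QuadraticMap.polar_smul_right, hap, smul_zero]) ?_ ?_ ?_ h1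
    · simp [map_add', Classical.Orth.map_smul', hc, hz.hv, QuadraticMap.polar_smul_left, QuadraticMap.polar_smul_right, g2.2]
    · simp [QuadraticMap.polar_add_right, QuadraticMap.polar_smul_right, hac, g0.2]
    · simp only [QuadraticMap.polar_add_left, QuadraticMap.polar_add_right, QuadraticMap.polar_smul_right, hpc, g1.2,
        QuadraticMap.polar_comm _ z c, g2.1, hz.huv, smul_eq_mul]
      ring
    · simp only [QuadraticMap.polar_add_right, QuadraticMap.polar_smul_left, QuadraticMap.polar_smul_right, hpc, g1.2,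
        smul_eq_mul]
      field_simp
      ring
  have hcase1 : ∀ x, q0 D x = 0 → B₀ a x = 0 → B₀ x y ≠ 0 → P x := by
    intro x hx hax hm
    set m := B₀ x y
    have hx' : q0 D (m⁻¹ • x) = 0 := by rw [Classical.Orth.map_smul', hx, mul_zero]
    have hax' : B₀ a (m⁻¹ • x) = 0 := by rw [QuadraticMap.polar_smul_right, hax, smul_zero]
    have hxy : B₀ (m⁻¹ • x) y = 1 := by rw [QuadraticMap.polar_smul_left, smul_eq_mul, inv_mul_cancel₀ hm]
    have h1 := hscale _ y m hx' hp.hv hax' hay hxy hm (hmove w _ y hp.hu hx' hp.hv haw hax' hay hp.huv hxy h)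
    rwa [smul_smul, mul_inv_cancel₀ hm, one_smul] at h1
  have hPy : P y := by
    obtain ⟨z, z', hz, hzz⟩ := exists_pair_line (nd0 D) ha hp haw hay (by omega)
    have g0 := hzz 0; have g1 := hzz 1; have g2 := hzz 2
    simp only [Fin.isValue, cons_val_zero, cons_val_one, cons_val] at g0 g1 g2
    refine hmove (w + z) y (w + z') ?_ hp.hv ?_ ?_ hay ?_ ?_ ?_ (hmove w _ y hp.hu ?_ hp.hv haw ?_ hay hp.huv ?_ h)
    all_goals simp [map_add', hp.hu, hz.hu, hz.hv, QuadraticMap.polar_add_left, QuadraticMap.polar_add_right,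
      QuadraticMap.polar_comm _ z w, QuadraticMap.polar_comm _ y w, QuadraticMap.polar_comm _ z y,
      polar_self_zero hp.hu, hp.huv, hz.huv, haw, g0.1, g0.2, g1.1, g1.2, g2.1, g2.2]
  have hPsub : ∀ x x', B₀ a x = 0 → B₀ a x' = 0 → P x → P x' → P (x + x') := fun x x' hx hx' h1 h2 => by
    show InE M _ _
    rw [rv_add, smul_add]
    exact OrthPair.inE_add h1 h2 (orth_scaled D hx _) (orth_scaled D hx' _)
  have hPneg : ∀ x, P x → P (-x) := fun x h1 => by
    show InE M _ _
    rw [rv_neg, smul_neg]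
    exact OrthPair.inE_neg h1
  have hsing : ∀ x, q0 D x = 0 → B₀ a x = 0 → P x := by
    intro x hx hax
    by_cases hxy : B₀ x y = 0
    swap
    · exact hcase1 x hx hax hxy
    set m := B₀ x w with hm
    have hax' : B₀ a (x + w + (-m) • y) = 0 := by
      simp [QuadraticMap.polar_add_right, QuadraticMap.polar_smul_right, hax, haw, hay]
    have h1 := hcase1 (x + w + (-m) • y) (by
        simp [map_add', Classical.Orth.map_smul', hx, hp.hu, hp.hv, QuadraticMap.polar_add_left,
          QuadraticMap.polar_smul_right, hxy, hp.huv, ← hm]) hax' (by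
        simp [QuadraticMap.polar_add_left, QuadraticMap.polar_smul_left, hxy, hp.huv, polar_self_zero hp.hv])
    have h2 : P (m • y) := by
      rcases eq_or_ne m 0 with h0 | h0
      · show InE M _ _
        rw [h0, zero_smul, rv_zero, smul_zero]
        intro hu huw
        rw [eich_zero_right]
        exact one_mem M
      · exact hscale y w m hp.hv hp.hu hay haw (by rw [QuadraticMap.polar_comm]; exact hp.huv) h0 hPy
    have hay' : B₀ a (m • y) = 0 := by rw [QuadraticMap.polar_smul_right, hay, smul_zero]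
    have := hPsub _ _ (by rw [QuadraticMap.polar_add_right, hax', QuadraticMap.polar_neg_right, haw, neg_zero, add_zero])
      hay' (hPsub _ _ hax' (by rw [QuadraticMap.polar_neg_right, haw, neg_zero]) h1 (hPneg w h)) h2
    rwa [show x + w + (-m) • y + -w + m • y = x by module] at this
  let T : Submodule D.F₀ (ι → D.F₀) :=
    { carrier := {x | B₀ a x = 0 ∧ ∀ t : D.F₀, P (t • x)}
      zero_mem' := ⟨by simp, fun t => by
        show InE M _ _
        rw [smul_zero, rv_zero, smul_zero]
        intro hu huw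
        rw [eich_zero_right]
        exact one_mem M⟩
      add_mem' := fun {x x'} hx hx' => ⟨by rw [QuadraticMap.polar_add_right, hx.1, hx'.1, add_zero], fun t => by
        rw [smul_add]
        exact hPsub _ _ (by rw [QuadraticMap.polar_smul_right, hx.1, smul_zero])
          (by rw [QuadraticMap.polar_smul_right, hx'.1, smul_zero]) (hx.2 t) (hx'.2 t)⟩
      smul_mem' := fun s x hx => ⟨by rw [QuadraticMap.polar_smul_right, hx.1, smul_zero], fun t => by
        rw [smul_smul]; exact hx.2 _⟩ }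
  intro x hx
  have hxT : x ∈ T := span_sing_fin (nd0 D) ![a] (by omega) (T := T) (fun z hz hQz => ⟨hz 0, fun t =>
      hsing _ (by rw [Classical.Orth.map_smul', hQz, mul_zero])
        (by rw [QuadraticMap.polar_smul_right, show B₀ a z = 0 from hz 0, smul_zero])⟩)
    (fun i => by fin_cases i; exact hx)
  have := hxT.2 1
  rwa [one_smul] at this

theorem inK_zero {k : F} : InK D M k 0 := fun w _ => by
  rw [rv_zero]
  intro hu huw
  rw [eich_zero_left]
  exact one_mem M

theorem inK_spread (hS : RatRoots D M) {a b : ι → D.F₀} {k : F} (ha0 : a ≠ 0) (ha : q0 D a = 0) (hb : q0 D b = 0)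
    (h : InK D M k a) : InK D M k b := by
  have hn := D.hn
  have step : ∀ {p r f : ι → D.F₀}, q0 D r = 0 → IsPair (q0 D) p f → B₀ r p = 0 → B₀ r f = 0 → InK D M k p →
      InK D M k r := by
    intro p r f hr hpf hrp hrf hk
    have h1 := OrthPair.inE_flip (hk r (by rwa [QuadraticMap.polar_comm])) (sing_rv D hpf.hu)
    have h2 := inE_of_smul_left h1
    rw [← rv_neg] at h2
    exact inK_of D hS (w := -p) (y := -f) hr
      ⟨by rw [QuadraticMap.map_neg, hpf.hu], by rw [QuadraticMap.map_neg, hpf.hv],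
        by rw [QuadraticMap.polar_neg_left, QuadraticMap.polar_neg_right, neg_neg, hpf.huv]⟩
      (by rw [QuadraticMap.polar_neg_right, hrp, neg_zero]) (by rw [QuadraticMap.polar_neg_right, hrf, neg_zero]) h2
  obtain ⟨w, z, hp, hwz⟩ := exists_pair_fin (nd0 D) ![a, b] (by omega)
  have g0 := hwz 0; have g1 := hwz 1
  simp only [Fin.isValue, cons_val_zero, cons_val_one] at g0 g1
  have hnm : a ∉ Submodule.span D.F₀ (Set.range ![w]) := fun hm => by
    rw [range_cons, range_empty, Set.union_empty] at hm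
    obtain ⟨t, rfl⟩ := Submodule.mem_span_singleton.1 hm
    have := g0.2
    rw [QuadraticMap.polar_smul_left, hp.huv, smul_eq_mul, mul_one] at this
    exact ha0 (by rw [this, zero_smul])
  obtain ⟨y, hy, hay⟩ := Orth.not_mem_perp (nd0 D) hnm
  obtain ⟨f, hf, hQf, haf⟩ := Orth.exists_partner_in (mem_perp_range.2 fun i => by
    fin_cases i; simpa [QuadraticMap.polar_comm _ w a] using g0.1) hy ha hay
  have hw := step (r := w) hp.hu ⟨ha, hQf, haf⟩ (by rw [QuadraticMap.polar_comm]; exact g0.1)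
    (by simpa using mem_perp_range.1 hf 0) h
  exact step hb hp g1.1 g1.2 hw

set_option maxHeartbeats 1000000 in
theorem inK_mul (hS : RatRoots D M) {k l : F} (hk : ∀ a, q0 D a = 0 → InK D M k a)
    (hl : ∀ a, q0 D a = 0 → InK D M l a) : ∀ a, q0 D a = 0 → InK D M (k * l) a := by
  have hn := D.hn
  obtain ⟨e₁, f₁, p₁, -⟩ := exists_pair_fin (nd0 D) (![] : Fin 0 → ι → D.F₀) (by omega)
  obtain ⟨e₂, f₂, p₂, h₂⟩ := exists_pair_fin (nd0 D) ![e₁, f₁] (by omega)
  have a0 := h₂ 0; have a1 := h₂ 1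
  simp only [Fin.isValue, cons_val_zero, cons_val_one] at a0 a1
  obtain ⟨e₃, f₃, p₃, h₃⟩ := exists_pair_two (nd0 D) p₁ p₂ a0.1 a0.2 a1.1 a1.2 (by omega)
  have b0 := (h₃ 0).2; have b1 := (h₃ 1).2; have b2 := (h₃ 2).2; have b3 := (h₃ 3).2
  simp only [Fin.isValue, cons_val_zero, cons_val_one, cons_val] at b0 b1 b2 b3
  set s := eich (rv D e₁) ((k * D.ζ) • rv D f₂) (sing_rv D p₁.hu) (orth_scaled D a0.2 _)
  have hs : s ∈ M := hk e₁ p₁.hu f₂ a0.2 _ _
  have hse : act s (rv D e₂) = rv D e₂ - k • rv D e₁ := by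
    rw [act_eich, Classical.Orth.map_smul', sing_rv D p₂.hv, QuadraticMap.polar_smul_right, smul_eq_mul, mul_assoc,
      one_eq D p₂.huv, mul_one, QuadraticMap.polar_comm _ (rv D e₂) (rv D e₁), (orth_iff D).1 a0.1]
    simp
  have hsf : act s ((l * D.ζ) • rv D f₃) = (l * D.ζ) • rv D f₃ := by
    rw [map_smul, act_eich_fix _ _ (by rw [QuadraticMap.polar_comm]; exact (orth_iff D).1 b0)
      (by rw [QuadraticMap.polar_smul_right, QuadraticMap.polar_comm, (orth_iff D).1 b3, smul_zero])]
  have h1 : InE M (rv D e₂) ((l * D.ζ) • rv D f₃) := hl e₂ p₂.hu f₃ b2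
  have h2 := OrthPair.inE_map h1 hs
  rw [hse, hsf] at h2
  have hq : Q (rv D e₂ - k • rv D e₁) = 0 := by rw [← hse, act_map, sing_rv D p₂.hu]
  have h3 := OrthPair.inE_flip h2 hq
  have h4 := OrthPair.inE_neg (OrthPair.inE_flip h1 (sing_rv D p₂.hu))
  rw [neg_neg] at h4
  have o1 : B ((l * D.ζ) • rv D f₃) (rv D e₁) = 0 := by
    rw [QuadraticMap.polar_smul_left, QuadraticMap.polar_comm, (orth_iff D).1 b0, smul_zero]
  have o2 : B ((l * D.ζ) • rv D f₃) (rv D e₂) = 0 := by
    rw [QuadraticMap.polar_smul_left, QuadraticMap.polar_comm, (orth_iff D).1 b2, smul_zero]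
  have h5 := OrthPair.inE_add h4 h3 o2 (by
    rw [QuadraticMap.polar_neg_right, QuadraticMap.polar_sub_right, QuadraticMap.polar_smul_right, o1, o2, smul_zero,
      sub_zero, neg_zero])
  rw [show rv D e₂ + -(rv D e₂ - k • rv D e₁) = k • rv D e₁ by module] at h5
  have h6 := inE_of_smul_left h5
  rw [smul_smul, show l * D.ζ * k = k * l * D.ζ by ring] at h6
  have hf3 : f₃ ≠ 0 := fun e => zero_ne_one (α := D.F₀) (by rw [← p₃.huv, e, QuadraticMap.polar_zero_right])
  exact fun a ha => inK_spread D hS hf3 p₃.hv ha (inK_of D hS p₃.hv p₁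
    (by rw [QuadraticMap.polar_comm]; exact b0) (by rw [QuadraticMap.polar_comm]; exact b1) h6)

set_option maxHeartbeats 1000000 in
/-- a group with the rational root elements and an irrational element is everything -/
theorem omega_le (hS : RatRoots D M) {g : Cfsg.isometryGroup F ⇑Q} (hg : g ∈ M)
    (hns : ¬ ∃ k : F, k ≠ 0 ∧ ∀ a, ∃ b, k • act g (rv D a) = rv D b) : Cfsg.Omega F ⇑Q ≤ M := by
  classical
  have hn := D.hn
  obtain ⟨d, w, y, β, hd0, hd, hdw, hdy, hp, hβ, hIn⟩ := exists_pair_root D hS hg hns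
  have hKd : InK D M β d := inK_of D hS hd hp hdw hdy hIn
  let A : Subalgebra D.F₀ F :=
    { carrier := {k | ∀ a, q0 D a = 0 → InK D M k a}
      mul_mem' := fun {k l} hk hl => inK_mul D hS hk hl
      add_mem' := fun {k l} hk hl a ha x hx => by
        rw [add_mul, add_smul]
        exact OrthPair.inE_add (hk a ha x hx) (hl a ha x hx) (orth_scaled D hx _) (orth_scaled D hx _)
      algebraMap_mem' := fun t a ha x hx => by
        show InE M _ (((t : F) * D.ζ) • rv D x)
        rw [mul_comm, ← smul_smul, ← rv_smul]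
        exact hS a _ ha (by rw [QuadraticMap.polar_smul_right, hx, smul_zero]) }
  have hβA : β ∈ A := fun a ha => inK_spread D hS hd0 hd ha hKd
  have hall : ∀ k, k ∈ A := by
    haveI := Subalgebra.isSimpleOrder_of_finrank_prime D.F₀ F (prime_deg D)
    rcases IsSimpleOrder.eq_bot_or_eq_top A with h | h
    · rw [h, Algebra.mem_bot] at hβA
      obtain ⟨t, rfl⟩ := hβA
      exact absurd t.2 hβ
    · exact fun k => h ▸ Algebra.mem_top
  have hrc : ∀ a, q0 D a = 0 → rv D a ∈ Orth.centres M := by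
    intro a ha
    refine ⟨sing_rv D ha, fun W hu huW => ?_⟩
    rcases eq_or_ne a 0 with rfl | ha0
    · simp only [rv_zero]; rw [eich_zero_left]; exact one_mem M
    obtain ⟨f, hf⟩ := exists_partner (nd0 D) ha0 ha
    obtain ⟨co, hco⟩ := decomp D W
    have h0 : ∑ i, co i * (D.ζ * B (rv D a) (rv D (Pi.single i 1))) = 0 := by
      have := congrArg (fun x => D.ζ * B (rv D a) x) hco
      simp only [huW, mul_zero, ← polB_apply, map_sum, map_smul, smul_eq_mul, Finset.mul_sum] at this
      rw [← this.symm]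
      exact Finset.sum_congr rfl fun i _ => by simp [polB_apply]; ring
    have e : W = ∑ i, co i • rv D (Pi.single i 1 - B₀ a (Pi.single i 1) • f) := by
      simp only [rv_sub, rv_smul, smul_sub, smul_smul, Finset.sum_sub_distrib, coe_b, ← Finset.sum_smul, h0,
        zero_smul, sub_zero]
      exact hco
    have key : B (rv D a) W = 0 ∧ InE M (rv D a) W := by
      rw [e]
      refine Finset.sum_induction _ (fun x => B (rv D a) x = 0 ∧ InE M (rv D a) x)
        (fun x x' hx hx' => ⟨by rw [QuadraticMap.polar_add_right, hx.1, hx'.1, add_zero],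
          OrthPair.inE_add hx.2 hx'.2 hx.1 hx'.1⟩)
        ⟨by simp, fun hu huw => by rw [eich_zero_right]; exact one_mem M⟩ fun i _ => ?_
      have hperp : B₀ a (Pi.single i 1 - B₀ a (Pi.single i 1) • f) = 0 := by
        rw [QuadraticMap.polar_sub_right, QuadraticMap.polar_smul_right, hf.huv, smul_eq_mul, mul_one, sub_self]
      refine ⟨orth_scaled D hperp _, ?_⟩
      have := hall (co i / D.ζ) a ha _ hperp
      rwa [div_mul_cancel₀ _ D.hζ] at this
    exact key.2 hu huW
  refine Orth.omega_le_of_centres D.hQ (by omega) fun v hv hQv => ?_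
  obtain ⟨a, ha, hva⟩ : ∃ a, q0 D a = 0 ∧ B (rv D a) v ≠ 0 := by
    by_contra hc
    push Not at hc
    let T : Submodule D.F₀ (ι → D.F₀) :=
      { carrier := {x | B (rv D x) v = 0}
        zero_mem' := by simp [rv_zero]
        add_mem' := fun {x y} hx hy => by
          show B (rv D (x + y)) v = 0
          rw [rv_add, QuadraticMap.polar_add_left, hx, hy, add_zero]
        smul_mem' := fun t x hx => by
          show B (rv D (t • x)) v = 0
          rw [rv_smul, QuadraticMap.polar_smul_left, hx, smul_zero] }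
    exact hv (ext_rat D fun x => span_sing_fin (nd0 D) (![] : Fin 0 → ι → D.F₀) (by omega) (T := T)
      (fun y _ hy => hc y hy) (fun i => i.elim0))
  obtain ⟨f, hf⟩ := exists_partner (nd0 D) (fun e => hva (by rw [e, rv_zero, QuadraticMap.polar_zero_left])) ha
  have hfa : B (rv D f) (rv D a) ≠ 0 := fun e => by
    have := one_eq D hf.huv
    rw [QuadraticMap.polar_comm, e, mul_zero] at this
    exact zero_ne_one this
  obtain ⟨hh, e⟩ := Orth.exists_eich_move (Q := Q) (a := rv D a) (u := (B (rv D f) (rv D a))⁻¹ • rv D f)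
    (v := (B v (rv D a))⁻¹ • v) (sing_rv D ha)
    (by rw [Classical.Orth.map_smul', Classical.Orth.map_smul', hQv, sing_rv D hf.hv, mul_zero, mul_zero])
    (by rw [QuadraticMap.polar_smul_left, smul_eq_mul, inv_mul_cancel₀ hfa])
    (by rw [QuadraticMap.polar_smul_left, smul_eq_mul, inv_mul_cancel₀ (by rwa [QuadraticMap.polar_comm])])
  have h1 := Orth.centres_map ((hrc a ha).2 _ (sing_rv D ha) hh) (Orth.centres_smul (B (rv D f) (rv D a))⁻¹ (hrc f hf.hv))
  rw [e] at h1
  have h2 := Orth.centres_smul (B v (rv D a)) h1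
  rwa [smul_smul, mul_inv_cancel₀ (by rwa [QuadraticMap.polar_comm]), one_smul] at h2

end roots

set_option maxHeartbeats 1000000 in
/-- subfield groups are maximal in orthogonal groups -/
theorem subfield_maximal (G : Subgroup (GL ι F)) (hG : G ≤ Cfsg.Geo.omegaGL ⇑Q)
    (hlow : ∀ g ∈ Cfsg.Geo.omegaGL ⇑Q, (∃ k : F, k ≠ 0 ∧ ∀ a, ∃ b,
      k • ((g : Matrix ι ι F) *ᵥ rv D a) = rv D b) → g ∈ G)
    (hhigh : ∀ g ∈ G, ∃ k : F, k ≠ 0 ∧ ∀ a, ∃ b, k • ((g : Matrix ι ι F) *ᵥ rv D a) = rv D b) :
    Cfsg.Geo.IsMaximalIn (Cfsg.Geo.omegaGL ⇑Q) G := by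
  have hn := D.hn
  refine isMaximalIn_of hG (fun hle => ?_) fun M hM hMK g hgM hg => ?_
  · obtain ⟨t, ht⟩ : ∃ t : F, t ∉ D.F₀ := by
      by_contra hc
      push Not at hc
      exact base_ne_top D (eq_top_iff.2 fun x _ => hc x)
    obtain ⟨a, f, hp, -⟩ := exists_pair_fin (nd0 D) (![] : Fin 0 → ι → D.F₀) (by omega)
    obtain ⟨w, y, hp', hwy⟩ := exists_pair_fin (nd0 D) ![a, f] (by omega)
    have a0 := hwy 0; have a1 := hwy 1
    simp only [Fin.isValue, cons_val_zero, cons_val_one] at a0 a1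
    obtain ⟨x, x', hp'', hxx⟩ := exists_pair_two (nd0 D) hp hp' a0.1 a0.2 a1.1 a1.2 (by omega)
    have b0 := (hxx 0).1; have b2 := (hxx 2).1
    simp only [Fin.isValue, cons_val_zero, cons_val_one, cons_val] at b0 b2
    set e := eich (rv D a) ((t * D.ζ) • rv D w) (sing_rv D hp.hu) (orth_scaled D a0.1 _)
    obtain ⟨k, hk, hk''⟩ := hhigh _ (hle (Subgroup.mem_map_of_mem _
      (Orth.eich_omega D.hQ (by omega) (sing_rv D hp.hu) (orth_scaled D a0.1 (t * D.ζ)))))
    have hk' : ∀ z, ∃ b, k • act e (rv D z) = rv D b := fun z => by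
      simp only [act_apply]
      exact hk'' z
    have hex : act e (rv D x) = rv D x := act_eich_fix _ _ (by rw [QuadraticMap.polar_comm]; exact (orth_iff D).1 b0)
      (by rw [QuadraticMap.polar_smul_right, QuadraticMap.polar_comm, (orth_iff D).1 b2, smul_zero])
    have hkF : k ∈ D.F₀ := by
      obtain ⟨b, hb⟩ := hk' x
      have h1 := congrArg (fun z => D.ζ * B z (rv D x')) hb
      rw [hex] at h1
      simp only [QuadraticMap.polar_smul_left, smul_eq_mul, mul_left_comm D.ζ k, one_eq D hp''.huv, mul_one] at h1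
      rw [h1, ← coe_b]
      exact (B₀ b x').2
    obtain ⟨b, hb⟩ := hk' f
    have h1 := congrArg (fun z => D.ζ * B z (rv D y)) hb
    rw [act_eich] at h1
    have haf : B (rv D f) (rv D a) * D.ζ = 1 := by rw [QuadraticMap.polar_comm, mul_comm]; exact one_eq D hp.huv
    simp only [Classical.Orth.map_smul', sing_rv D hp'.hu, QuadraticMap.polar_smul_left, QuadraticMap.polar_smul_right,
      QuadraticMap.polar_sub_left, QuadraticMap.polar_add_left, smul_eq_mul, (orth_iff D).1 a1.1, (orth_iff D).1 a1.2,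
      (orth_iff D).1 a0.2, mul_zero, zero_mul, sub_zero, zero_add] at h1
    refine ht ?_
    have h2 := one_eq D hp'.huv
    have h3 : k * t ∈ D.F₀ := by
      rw [show k * t = D.ζ * B (rv D b) (rv D y) by
        linear_combination h1 - k * t * (D.ζ * B (rv D w) (rv D y)) * haf - k * t * h2, ← coe_b]
      exact (B₀ b y).2
    rw [show t = k * t / k by field_simp]
    exact D.F₀.div_mem h3 hkF
  obtain ⟨g', hg', rfl⟩ := Subgroup.mem_map.1 (hMK hgM)
  set N := M.comap (Cfsg.isometryGroup F ⇑Q).subtype ⊓ Cfsg.Omega F ⇑Q with hN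
  have hS : RatRoots D N := fun a w ha haw hu huw => by
    have hs := Orth.eich_omega D.hQ (by omega) hu huw
    refine ⟨hM (hlow _ (Subgroup.mem_map_of_mem _ hs) ⟨1, one_ne_zero, fun x => ⟨act (eich a w ha haw) x, ?_⟩⟩), hs⟩
    rw [one_smul]
    exact (act_apply _ _).symm.trans (lift_eich D ha haw x)
  have hle := omega_le D hS (g := g') ⟨hgM, hg'⟩ fun ⟨k, hk, hk'⟩ => hg (hlow _ (Subgroup.mem_map_of_mem _ hg')
    ⟨k, hk, fun a => by
      obtain ⟨b, hb⟩ := hk' a
      exact ⟨b, (congrArg (k • ·) (act_apply _ _).symm).trans hb⟩⟩)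
  intro x hx
  obtain ⟨x', hx', rfl⟩ := Subgroup.mem_map.1 hx
  exact (hle hx').1

end Cfsg.Agent.Forms.Max.SubfieldOrth
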