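import Mathlib
import Cfsg.Agent.Lib.Forms.Max.OrthSingular
import Cfsg.Agent.Lib.Forms.Max.OrthVector
import Cfsg.Agent.Lib.Forms.Max.OrthNondegApply
import Cfsg.Agent.Lib.Forms.Max.OrthExtField.Normalizer
import Cfsg.Agent.Lib.Forms.Max.SubfieldOrth
import Cfsg.Agent.Lib.Forms.Max.SubfieldMem

/-!
# The geometric maximal subgroups of the eight-dimensional orthogonal groups of minus type
-/

set_option autoImplicit false
set_option linter.unusedSectionVars false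

namespace Cfsg.Agent.Forms.Max.OrthEight

open Matrix Cfsg.Agent.Forms.QuadStd Cfsg.Agent.Forms.Reflections Cfsg.Agent.Classical.Orth
open Cfsg.Agent.Forms.Max.Orth (perp finrank_perp perp_perp stab_perp)

variable {F : Type*} [Field F] [Fintype F] {Q : QuadraticForm F (Fin 8 → F)}

local notation "Vec" => (Fin 8 → F)
local notation "B" => QuadraticMap.polar Q

variable (hQ : (QuadraticMap.polarBilin Q).Nondegenerate)
include hQ

theorem singular (hno : ∀ T : Submodule F Vec, (∀ x ∈ T, Q x = 0) → Module.finrank F T ≠ 4) (W : Submodule F Vec)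
    (hW0 : W ≠ ⊥) (hW : Cfsg.Geo.IsTotallySingularQuad ⇑Q W) :
    Cfsg.Geo.IsMaximalIn (Cfsg.Geo.omegaGL ⇑Q) (Cfsg.Geo.subspaceStabilizer W ⊓ Cfsg.Geo.omegaGL ⇑Q) := by
  refine Orth.singular_maximal hQ (by simp) hW (fun T hT hd => ?_) hW0
  have := hno T hT
  simp at hd
  omega

/-- a smaller non-degenerate subspace -/
theorem small (W : Submodule F Vec) (hW0 : W ≠ ⊥) (hW : ∀ w ∈ W, w ≠ 0 → ∃ x ∈ W, B w x ≠ 0)
    (hd : Module.finrank F W ≤ 3)
    (hexW : ¬(Fintype.card F ≤ 3 ∧ Module.finrank F W = 2 ∧ ∃ w ∈ W, w ≠ 0 ∧ Q w = 0)) :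
    Cfsg.Geo.IsMaximalIn (Cfsg.Geo.omegaGL ⇑Q) (Cfsg.Geo.subspaceStabilizer W ⊓ Cfsg.Geo.omegaGL ⇑Q) := by
  have d0 := finrank_perp hQ W
  rw [Fintype.card_fin] at d0
  refine Orth.nondeg_maximal hQ (by simp) hW (by omega) hW0 (fun h => ?_) (fun _ h => absurd h (by omega)) hexW
  by_contra hc
  push Not at hc
  have d := Submodule.finrank_mono (Submodule.map_le_iff_le_comap.2 (fun x hx => hc x hx) :
    (perp Q W).map (act h) ≤ W)
  rw [← (Submodule.equivMapOfInjective _ (act_injective h) (perp Q W)).finrank_eq] at d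
  omega

theorem perp_nd {W : Submodule F Vec} (hW : ∀ w ∈ W, w ≠ 0 → ∃ x ∈ W, B w x ≠ 0) :
    ∀ r ∈ perp Q W, r ≠ 0 → ∃ s ∈ perp Q W, B r s ≠ 0 :=
  Max.perp_nondeg (Orth.nd hQ) polB_refl hW

theorem odd_dim (W : Submodule F Vec) (hW0 : W ≠ ⊥) (hW1 : W ≠ ⊤) (hodd : Odd (Module.finrank F W))
    (hW : Cfsg.Geo.IsNondegenerateOn (QuadraticMap.polar ⇑Q) W) :
    Cfsg.Geo.IsMaximalIn (Cfsg.Geo.omegaGL ⇑Q) (Cfsg.Geo.subspaceStabilizer W ⊓ Cfsg.Geo.omegaGL ⇑Q) := by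
  have hWn : ∀ w ∈ W, w ≠ 0 → ∃ x ∈ W, B w x ≠ 0 := fun w h h' => (hW w h h').2
  have d0 := finrank_perp hQ W
  rw [Fintype.card_fin] at d0
  obtain ⟨k, hk⟩ := hodd
  by_cases hle : Module.finrank F W ≤ 3
  · exact small hQ W hW0 hWn hle fun h => by omega
  · rw [stab_perp hQ W]
    refine small hQ _ (fun h => hW1 ?_) (perp_nd hQ hWn) (by omega) fun h => by omega
    rw [← perp_perp hQ W, h]
    exact Submodule.eq_top_iff'.2 fun x => Orth.mem_perp.2 fun w hw => by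
      rw [(Submodule.mem_bot F).1 hw, QuadraticMap.polar_zero_left]

theorem minus_plane (W : Submodule F Vec) (h2 : Module.finrank F W = 2)
    (hW : Cfsg.Geo.IsNondegenerateOn (QuadraticMap.polar ⇑Q) W) (hm : ¬ Cfsg.Geo.IsPlusTypeOn (⇑Q) W) :
    Cfsg.Geo.IsMaximalIn (Cfsg.Geo.omegaGL ⇑Q) (Cfsg.Geo.subspaceStabilizer W ⊓ Cfsg.Geo.omegaGL ⇑Q) :=
  small hQ W (fun h => by rw [h, finrank_bot] at h2; omega) (fun w h h' => (hW w h h').2) (by omega)
    fun ⟨_, _, _, hw, hw0, hQw⟩ => hm (Orth.isPlusTypeOn_plane h2 hw hw0 hQw)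

theorem plus_plane (hq : 4 ≤ Fintype.card F) (W : Submodule F Vec) (h2 : Module.finrank F W = 2)
    (hW : Cfsg.Geo.IsNondegenerateOn (QuadraticMap.polar ⇑Q) W) (_hp : Cfsg.Geo.IsPlusTypeOn (⇑Q) W) :
    Cfsg.Geo.IsMaximalIn (Cfsg.Geo.omegaGL ⇑Q) (Cfsg.Geo.subspaceStabilizer W ⊓ Cfsg.Geo.omegaGL ⇑Q) :=
  small hQ W (fun h => by rw [h, finrank_bot] at h2; omega) (fun w h h' => (hW w h h').2) (by omega)
    fun h => by omega

/-- a four-space whose orthogonal has no totally singular plane -/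
theorem four_aux (hno : ∀ T : Submodule F Vec, (∀ x ∈ T, Q x = 0) → Module.finrank F T ≠ 4) {W : Submodule F Vec}
    (h4 : Module.finrank F W = 4) (hW : ∀ w ∈ W, w ≠ 0 → ∃ x ∈ W, B w x ≠ 0)
    (hU : ∀ x ∈ perp Q W, ∀ y ∈ perp Q W, Q x = 0 → Q y = 0 → B x y = 0 →
      x = 0 ∨ y ∈ Submodule.span F {x}) :
    Cfsg.Geo.IsMaximalIn (Cfsg.Geo.omegaGL ⇑Q) (Cfsg.Geo.subspaceStabilizer W ⊓ Cfsg.Geo.omegaGL ⇑Q) := by
  have d0 := finrank_perp hQ W
  rw [Fintype.card_fin] at d0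
  refine Orth.nondeg_maximal hQ (by simp) hW (by omega) (fun h => by rw [h, finrank_bot] at h4; omega)
    (fun h => ?_) (fun _ _ => hU) (fun h => by omega)
  by_contra hc
  push Not at hc
  obtain ⟨T, hT, hd⟩ := Orth.plus_of_halves hQ hW (by simp; omega) ⟨2, by omega⟩ hc
  simp at hd
  exact hno T hT (by omega)

theorem four_space (hno : ∀ T : Submodule F Vec, (∀ x ∈ T, Q x = 0) → Module.finrank F T ≠ 4) (W : Submodule F Vec)
    (h4 : Module.finrank F W = 4) (hW : Cfsg.Geo.IsNondegenerateOn (QuadraticMap.polar ⇑Q) W) :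
    Cfsg.Geo.IsMaximalIn (Cfsg.Geo.omegaGL ⇑Q) (Cfsg.Geo.subspaceStabilizer W ⊓ Cfsg.Geo.omegaGL ⇑Q) := by
  have hWn : ∀ w ∈ W, w ≠ 0 → ∃ x ∈ W, B w x ≠ 0 := fun w h h' => (hW w h h').2
  have d0 := finrank_perp hQ W
  rw [Fintype.card_fin] at d0
  by_cases hU : ∀ x ∈ perp Q W, ∀ y ∈ perp Q W, Q x = 0 → Q y = 0 → B x y = 0 →
      x = 0 ∨ y ∈ Submodule.span F {x}
  · exact four_aux hQ hno h4 hWn hU
  rw [stab_perp hQ W]
  refine four_aux hQ hno (by omega) (perp_nd hQ hWn) ?_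
  rw [perp_perp hQ W]
  intro a ha b hb hQa hQb hab
  push Not at hU
  obtain ⟨x, hx, y, hy, hQx, hQy, hxy, hx0, hyx⟩ := hU
  by_contra hc
  push Not at hc
  have two : ∀ {u v : Vec}, u ≠ 0 → v ∉ Submodule.span F {u} → Q u = 0 → Q v = 0 → B u v = 0 →
      Module.finrank F ↥(Submodule.span F {u} ⊔ Submodule.span F {v}) = 2 ∧
        ∀ z ∈ Submodule.span F {u} ⊔ Submodule.span F {v}, Q z = 0 := by
    intro u v hu hv hQu hQv huv
    refine ⟨?_, fun z hz => ?_⟩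
    · have hv0 : v ≠ 0 := fun e => hv (by rw [e]; exact zero_mem _)
      have hd : Submodule.span F {u} ⊓ Submodule.span F {v} = ⊥ := by
        refine (Submodule.eq_bot_iff _).2 fun z hz => ?_
        obtain ⟨t, rfl⟩ := Submodule.mem_span_singleton.1 hz.2
        by_contra hne
        have ht : t ≠ 0 := fun e => hne (by rw [e, zero_smul])
        have := (Submodule.span F {u}).smul_mem t⁻¹ hz.1
        rw [smul_smul, inv_mul_cancel₀ ht, one_smul] at this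
        exact hv this
      have := Submodule.finrank_sup_add_finrank_inf_eq (Submodule.span F {u}) (Submodule.span F {v})
      rw [hd, finrank_bot, finrank_span_singleton hu, finrank_span_singleton hv0] at this
      omega
    · obtain ⟨p, hp, q, hq, rfl⟩ := Submodule.mem_sup.1 hz
      obtain ⟨s, rfl⟩ := Submodule.mem_span_singleton.1 hp
      obtain ⟨t, rfl⟩ := Submodule.mem_span_singleton.1 hq
      simp [map_add', Classical.Orth.map_smul', QuadraticMap.polar_smul_left, QuadraticMap.polar_smul_right, hQu, hQv, huv]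
  obtain ⟨e1, hS1⟩ := two hc.1 hc.2 hQa hQb hab
  obtain ⟨e2, hS2⟩ := two hx0 hyx hQx hQy hxy
  set S1 := Submodule.span F {a} ⊔ Submodule.span F {b}
  set S2 := Submodule.span F {x} ⊔ Submodule.span F {y}
  have l1 : S1 ≤ W := sup_le ((Submodule.span_singleton_le_iff_mem _ _).2 ha)
    ((Submodule.span_singleton_le_iff_mem _ _).2 hb)
  have l2 : S2 ≤ perp Q W := sup_le ((Submodule.span_singleton_le_iff_mem _ _).2 hx)
    ((Submodule.span_singleton_le_iff_mem _ _).2 hy)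
  refine hno (S1 ⊔ S2) (fun z hz => ?_) ?_
  · obtain ⟨p, hp, q, hq, rfl⟩ := Submodule.mem_sup.1 hz
    rw [map_add', hS1 p hp, hS2 q hq, Orth.mem_perp.1 (l2 hq) p (l1 hp), add_zero, add_zero]
  · have hd : S1 ⊓ S2 = ⊥ := (Submodule.eq_bot_iff _).2 fun z hz =>
      Orth.eq_zero_of_both hQ hWn (l1 hz.1) (l2 hz.2)
    have := Submodule.finrank_sup_add_finrank_inf_eq S1 S2
    rw [hd, finrank_bot, e1, e2] at this
    omega

theorem vector (hchar : ¬ Odd (Fintype.card F)) (v : Vec) (hv : Q v ≠ 0) :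
    Cfsg.Geo.IsMaximalIn (Cfsg.Geo.omegaGL ⇑Q) (Cfsg.Geo.subspaceStabilizer (Submodule.span F {v}) ⊓ Cfsg.Geo.omegaGL ⇑Q) := by
  have h2 : (2 : F) = 0 := by
    by_contra h2
    refine hchar ?_
    rw [Nat.odd_iff]
    refine FiniteField.odd_card_of_char_ne_two fun hc => h2 ?_
    have : CharP F 2 := (ringChar.eq_iff).1 hc
    exact CharTwo.two_eq_zero
  have : CharP F 2 := CharTwo.of_one_ne_zero_of_two_eq_zero one_ne_zero h2
  exact Orth.vector_maximal hQ (by simp) hv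

omit hQ in
theorem field (_hQ : (QuadraticMap.polarBilin Q).Nondegenerate) (hQ' : Cfsg.Geo.IsNondegenerateQuadraticForm ⇑Q)
    (hno : ∀ T : Submodule F Vec, (∀ x ∈ T, Q x = 0) → Module.finrank F T ≠ 4) (hodd : Odd (Fintype.card F))
    (K : Subalgebra F (Matrix (Fin 8) (Fin 8) F)) (hK : Cfsg.Geo.IsFieldSubalgebra 2 K)
    (hsa : Cfsg.Geo.IsSelfAdjointFor (QuadraticMap.polar ⇑Q) K) :
    Cfsg.Geo.IsMaximalIn (Cfsg.Geo.omegaGL ⇑Q) (Cfsg.Geo.subalgebraNormalizer K ⊓ Cfsg.Geo.omegaGL ⇑Q) :=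
  OrthExtField.maximal ⇑Q hQ' hodd (by simp) 2 Nat.prime_two
    (fun d hd => Or.inr (Or.inr ⟨by simp at hd; omega, rfl, hno⟩)) K hK hsa

theorem subfield (F₀ : Subfield F) (r : ℕ) (P : Matrix.GeneralLinearGroup (Fin 8) F) (ζ : F) (hr : r.Prime)
    (_hodd : Odd r) (hcard : Fintype.card F = Nat.card F₀ ^ r) (hζ : ζ ≠ 0)
    (hP : Cfsg.Geo.IsQuadFormRationalStructure (fun v : Fin 8 → F => ζ * Q v) F₀ P) :
    Cfsg.Geo.IsMaximalIn (Cfsg.Geo.omegaGL ⇑Q) (Cfsg.Geo.subfieldSubgroup F₀ P ⊓ Cfsg.Geo.omegaGL ⇑Q) :=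
  SubfieldOrth.subfield_maximal ⟨F₀, P, ζ, r, hQ, by simp, hr, hcard, hζ, hP⟩ _
    inf_le_right
    (fun g hg h => ⟨(SubfieldMem.mem_subfieldSubgroup F₀ P g).2 h, hg⟩)
    (fun g hg => (SubfieldMem.mem_subfieldSubgroup F₀ P g).1 hg.1)

end Cfsg.Agent.Forms.Max.OrthEight
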