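import Mathlib
import Cfsg.Agent.Lib.Forms.Max.OrthPair

/-!
# Unitary groups over a quadratic extension inside orthogonal groups
-/

set_option autoImplicit false
set_option linter.unusedSectionVars false

namespace Cfsg.Agent.Forms.Max.OrthExt

open Matrix Cfsg.Agent.Forms.QuadStd Cfsg.Agent.Forms.Reflections Cfsg.Agent.Classical.Orth
open Cfsg.Agent.Forms.Max.OrthPair (InE)

variable {F : Type*} [Field F] [Fintype F] {ι : Type} [Fintype ι] [DecidableEq ι]

/-- a quadratic extension acting on a quadratic space by similarities -/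
structure Data (Q : QuadraticForm F (ι → F)) where
  T : (ι → F) →ₗ[F] (ι → F)
  a : F
  N : F
  hQ : (QuadraticMap.polarBilin Q).Nondegenerate
  hn : 10 ≤ Fintype.card ι
  hirr : ∀ s : F, s * s - a * s + N ≠ 0
  hTT : ∀ x, T (T x) = a • T x - N • x
  hadj : ∀ x y, QuadraticMap.polar Q (T x) y = a * QuadraticMap.polar Q x y - QuadraticMap.polar Q x (T y)
  hQT : ∀ x, Q (T x) = N * Q x
  hxT : ∀ x, QuadraticMap.polar Q x (T x) = a * Q x

variable {Q : QuadraticForm F (ι → F)}

local notation "Vec" => (ι → F)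
local notation "B" => QuadraticMap.polar Q

variable (D : Data Q)

theorem N_ne : D.N ≠ 0 := fun h => D.hirr 0 (by rw [h]; ring)

theorem sing_T {x : Vec} (hx : Q x = 0) : Q (D.T x) = 0 := by rw [D.hQT, hx, mul_zero]

theorem xT_zero {x : Vec} (hx : Q x = 0) : B x (D.T x) = 0 := by rw [D.hxT, hx, mul_zero]

theorem TT_polar (x y : Vec) : B (D.T x) (D.T y) = D.N * B x y := by
  rw [D.hadj, D.hTT, QuadraticMap.polar_sub_right, QuadraticMap.polar_smul_right, QuadraticMap.polar_smul_right,
    smul_eq_mul, smul_eq_mul]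
  ring

/-- the orthogonal complement of the extension line of `v` -/
noncomputable def kperp (v : Vec) : Submodule F Vec := Orth.ker Q v ⊓ Orth.ker Q (D.T v)

theorem mem_kperp {v x : Vec} : x ∈ kperp D v ↔ B v x = 0 ∧ B (D.T v) x = 0 := Iff.rfl

theorem kperp_symm {v x : Vec} (h : x ∈ kperp D v) : v ∈ kperp D x := by
  rw [mem_kperp] at h ⊢
  refine ⟨by rw [QuadraticMap.polar_comm]; exact h.1, ?_⟩
  rw [D.hadj, QuadraticMap.polar_comm _ x v, h.1, QuadraticMap.polar_comm _ x (D.T v), h.2]
  ring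

theorem T_mem_kperp {v x : Vec} (h : x ∈ kperp D v) : D.T x ∈ kperp D v := by
  rw [mem_kperp] at h ⊢
  have h2 := D.hadj v x
  rw [h.1, h.2] at h2
  exact ⟨by linear_combination h2, by rw [TT_polar, h.1, mul_zero]⟩

theorem self_mem_kperp {v : Vec} (hv : Q v = 0) : v ∈ kperp D v :=
  ⟨polar_self_zero hv, by
    show B (D.T v) v = 0
    rw [QuadraticMap.polar_comm]; exact xT_zero D hv⟩

theorem indep {x : Vec} (hx : x ≠ 0) {s t : F} (h : s • x + t • D.T x = 0) : s = 0 ∧ t = 0 := by
  by_cases ht : t = 0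
  · rw [ht, zero_smul, add_zero] at h
    exact ⟨(smul_eq_zero.1 h).resolve_right hx, ht⟩
  exfalso
  have e : D.T x = (-s / t) • x := by
    have h2 : t • D.T x = (-s) • x := by rw [neg_smul]; exact eq_neg_of_add_eq_zero_right h
    rw [div_eq_inv_mul, ← smul_smul, ← h2, inv_smul_smul₀ ht]
  have h3 := D.hTT x
  rw [e, map_smul, e, smul_smul, smul_smul, ← sub_smul] at h3
  have h4 := sub_eq_zero.2 h3
  rw [← sub_smul] at h4
  exact D.hirr (-s / t) (by linear_combination (smul_eq_zero.1 h4).resolve_right hx)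

/-- the extension line of `v` -/
noncomputable def line (v : Vec) : Submodule F Vec := Submodule.span F (Set.range ![v, D.T v])

theorem mem_line {v x : Vec} : x ∈ line D v ↔ ∃ s t : F, x = s • v + t • D.T v := by
  rw [line, range_cons_cons_empty, Submodule.mem_span_pair]
  exact ⟨fun ⟨s, t, h⟩ => ⟨s, t, h.symm⟩, fun ⟨s, t, h⟩ => ⟨s, t, h.symm⟩⟩

theorem line_le {v : Vec} {x : Vec} (hx : x ∈ line D v) {w : Vec} (hw : w ∈ kperp D v) : B x w = 0 := by
  obtain ⟨s, t, rfl⟩ := (mem_line D).1 hx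
  rw [QuadraticMap.polar_add_left, QuadraticMap.polar_smul_left, QuadraticMap.polar_smul_left,
    ((mem_kperp D).1 hw).1, ((mem_kperp D).1 hw).2, smul_zero, smul_zero, add_zero]

theorem not_line_of_pair {v x y : Vec} (hy : y ∈ kperp D v) (hxy : B x y ≠ 0) : x ∉ line D v :=
  fun h => hxy (line_le D h hy)

theorem mem_line_symm {v x : Vec} (hx : x ≠ 0) (h : x ∈ line D v) : v ∈ line D x := by
  obtain ⟨s, t, rfl⟩ := (mem_line D).1 h
  have hn : s * s + D.a * (s * t) + D.N * (t * t) ≠ 0 := by
    by_cases ht : t = 0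
    · subst ht
      have hs : s ≠ 0 := fun e => hx (by simp [e])
      simpa using hs
    · intro e
      exact D.hirr (-s / t) (by field_simp; linear_combination e)
  set δ := s * s + D.a * (s * t) + D.N * (t * t) with hδ
  have key : δ • v = (s + D.a * t) • (s • v + t • D.T v) + (-t) • D.T (s • v + t • D.T v) := by
    rw [hδ, map_add, map_smul, map_smul, D.hTT]
    module
  refine (mem_line D).2 ⟨δ⁻¹ * (s + D.a * t), δ⁻¹ * (-t), ?_⟩
  rw [← smul_smul, ← smul_smul, ← smul_add, ← key, inv_smul_smul₀ hn]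

include D in
/-- a hyperbolic pair orthogonal to few vectors with small radical -/
theorem exists_pair_rad {j : ℕ} (f : Fin j → Vec) {R : Submodule F Vec} (hR : Module.finrank F R + j + 3 ≤ Fintype.card ι)
    (hrad : ∀ x ∈ Submodule.span F (Set.range f), (∀ i, B (f i) x = 0) → x ∈ R) :
    ∃ z z', IsPair Q z z' ∧ ∀ i, B (f i) z = 0 ∧ B (f i) z' = 0 := by
  set W := Submodule.span F (Set.range f)
  have hW : Module.finrank F W ≤ j := (finrank_range_le_card f).trans_eq (Fintype.card_fin j)
  have hP := Orth.finrank_perp D.hQ W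
  obtain ⟨C, hC⟩ := Submodule.exists_isCompl R
  have h3 : 3 ≤ Module.finrank F ↥(Orth.perp Q W ⊓ C) := by
    have h1 := Submodule.finrank_sup_add_finrank_inf_eq (Orth.perp Q W) C
    have h2 := Submodule.finrank_le (Orth.perp Q W ⊔ C)
    have h4 := Submodule.finrank_add_eq_of_isCompl hC
    rw [Module.finrank_fintype_fun_eq_card] at h2 h4
    omega
  obtain ⟨z, hz, hz0, hQz⟩ := Orth.exists_sing D.hQ h3
  have hmem : ∀ {x : Vec}, x ∈ Orth.perp Q W → ∀ i, B (f i) x = 0 := fun hx i =>
    Orth.mem_perp.1 hx _ (Submodule.subset_span ⟨i, rfl⟩)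
  obtain ⟨y, hy, hzy⟩ := Orth.not_mem_perp D.hQ (u := z) (W := W) fun hm =>
    hz0 (Submodule.disjoint_def.1 hC.disjoint z (hrad z hm (hmem hz.1)) hz.2)
  obtain ⟨z', hz', hQz', hzz'⟩ := Orth.exists_partner_in hz.1 hy hQz hzy
  exact ⟨z, z', ⟨hQz, hQz', hzz'⟩, fun i => ⟨hmem hz.1 i, hmem hz' i⟩⟩

include D in
theorem exists_pair {j : ℕ} (f : Fin j → Vec) (h : 2 * j + 3 ≤ Fintype.card ι) :
    ∃ z z', IsPair Q z z' ∧ ∀ i, B (f i) z = 0 ∧ B (f i) z' = 0 :=
  exists_pair_rad D f (R := Submodule.span F (Set.range f))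
    (by have : Module.finrank F (Submodule.span F (Set.range f)) ≤ j := (finrank_range_le_card f).trans_eq (Fintype.card_fin j)
        omega) fun _ hx _ => hx

/-- lines which are not orthogonal leave a pair -/
theorem exists_pair_mixed {v b : Vec} (hv : Q v = 0) (hb : Q b = 0) (hbv : b ∉ kperp D v) :
    ∃ z z', IsPair Q z z' ∧ ∀ i, B (![v, D.T v, b, D.T b] i) z = 0 ∧ B (![v, D.T v, b, D.T b] i) z' = 0 := by
  have hn := D.hn
  refine exists_pair_rad D _ (R := ⊥) (by rw [finrank_bot]; omega) fun x hx hperp => ?_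
  obtain ⟨co, rfl⟩ := Submodule.mem_span_range_iff_exists_fun _ |>.1 hx
  have h0 := hperp 0; have h1 := hperp 1; have h2 := hperp 2; have h3 := hperp 3
  have e := D.hadj v b
  set β := B v b
  set γ := B (D.T v) b
  have e' : B v (D.T b) = D.a * β - γ := by linear_combination e
  simp only [Fin.sum_univ_four, Fin.isValue, cons_val_zero, cons_val_one, cons_val, QuadraticMap.polar_add_right,
    QuadraticMap.polar_smul_right, smul_eq_mul, polar_self_zero hv, polar_self_zero hb, xT_zero D hv, xT_zero D hb,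
    polar_self_zero (sing_T D hv), polar_self_zero (sing_T D hb), TT_polar, QuadraticMap.polar_comm _ (D.T v) v,
    QuadraticMap.polar_comm _ (D.T b) b, QuadraticMap.polar_comm _ b v, QuadraticMap.polar_comm _ b (D.T v),
    QuadraticMap.polar_comm _ (D.T b) v, e', mul_zero, add_zero, zero_add] at h0 h1 h2 h3
  have hΔ : γ * γ - D.a * β * γ + D.N * β * β ≠ 0 := by
    rcases eq_or_ne β 0 with hβ | hβ
    · rw [hβ]
      simpa using fun hγ : γ = 0 => hbv ((mem_kperp D).2 ⟨hβ, hγ⟩)
    · intro h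
      refine D.hirr (γ / β) ?_
      field_simp
      linear_combination h
  have h3' : co 0 * (D.a * β - γ) + co 1 * (D.N * β) = 0 := by
    linear_combination h3
  have hc2 : co 2 = 0 := (mul_eq_zero.1 (show co 2 * (γ * γ - D.a * β * γ + D.N * β * β) = 0 by
    linear_combination (D.N * β) * h0 - (D.a * β - γ) * h1)).resolve_right hΔ
  have hc3 : co 3 = 0 := (mul_eq_zero.1 (show co 3 * (γ * γ - D.a * β * γ + D.N * β * β) = 0 by
    linear_combination β * h1 - γ * h0)).resolve_right hΔ
  have hc0 : co 0 = 0 := (mul_eq_zero.1 (show co 0 * (γ * γ - D.a * β * γ + D.N * β * β) = 0 by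
    linear_combination (D.N * β) * h2 - γ * h3')).resolve_right hΔ
  have hc1 : co 1 = 0 := (mul_eq_zero.1 (show co 1 * (γ * γ - D.a * β * γ + D.N * β * β) = 0 by
    linear_combination β * h3' - (D.a * β - γ) * h2)).resolve_right hΔ
  simp [Fin.sum_univ_four, hc0, hc1, hc2, hc3]

/-- a vector of the line is orthogonal to what the line is -/
theorem four_of_two {v b z z' : Vec} (hb : b ∈ line D v)
    (h : ∀ i, B (![v, D.T v] i) z = 0 ∧ B (![v, D.T v] i) z' = 0) :
    ∀ i, B (![v, D.T v, b, D.T b] i) z = 0 ∧ B (![v, D.T v, b, D.T b] i) z' = 0 := by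
  have k : z ∈ kperp D v := ⟨(h 0).1, (h 1).1⟩
  have k' : z' ∈ kperp D v := ⟨(h 0).2, (h 1).2⟩
  obtain ⟨s, t, rfl⟩ := (mem_line D).1 hb
  have hT : D.T (s • v + t • D.T v) ∈ line D v :=
    (mem_line D).2 ⟨-(t * D.N), s + t * D.a, by rw [map_add, map_smul, map_smul, D.hTT]; module⟩
  intro i
  fin_cases i
  · exact h 0
  · exact h 1
  · exact ⟨line_le D hb k, line_le D hb k'⟩
  · exact ⟨line_le D hT k, line_le D hT k'⟩

/-- the norms of a line take every value -/
theorem exists_value_line {p : Vec} (hp : Q p ≠ 0) (c : F) : ∃ s t : F, Q (s • p + t • D.T p) = c := by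
  have hN := N_ne D
  suffices h : ∃ s t : F, s * s + D.a * (s * t) + D.N * (t * t) = c / Q p by
    obtain ⟨s, t, hst⟩ := h
    refine ⟨s, t, ?_⟩
    rw [map_add', Classical.Orth.map_smul', Classical.Orth.map_smul', D.hQT, QuadraticMap.polar_smul_left,
      QuadraticMap.polar_smul_right, D.hxT, smul_eq_mul, smul_eq_mul]
    field_simp at hst ⊢
    linear_combination hst
  rcases eq_or_ne (2 : F) 0 with h2 | h2
  · have hsq := FiniteField.isSquare_of_char_two (F := F)
      (CharP.ringChar_of_prime_eq_zero Nat.prime_two (by exact_mod_cast h2)) (c / Q p)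
    obtain ⟨r, hr⟩ := hsq
    exact ⟨r, 0, by rw [hr]; ring⟩
  · have hdisc : D.N - D.a * D.a / 4 ≠ 0 := fun h => by
      have h4 : (4 : F) ≠ 0 := by rw [show (4 : F) = 2 * 2 by norm_num]; exact mul_ne_zero h2 h2
      refine D.hirr (D.a / 2) ?_
      field_simp at h ⊢
      linear_combination h
    obtain ⟨x, t, hxt⟩ := Bases.exists_sq_add_sq h2 (one_ne_zero (α := F)) hdisc (c / Q p)
    refine ⟨x - D.a * t / 2, t, ?_⟩
    have h4 : (4 : F) ≠ 0 := by rw [show (4 : F) = 2 * 2 by norm_num]; exact mul_ne_zero h2 h2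
    rw [← hxt]
    field_simp
    ring

include D in
/-- a vector of value minus one orthogonal to few vectors with small radical -/
theorem exists_minus_one {j : ℕ} (f : Fin j → Vec) {R : Submodule F Vec}
    (hR : Module.finrank F R + j + 1 ≤ Fintype.card ι)
    (hrad : ∀ x ∈ Submodule.span F (Set.range f), (∀ i, B (f i) x = 0) → x ∈ R)
    (hT : ∀ x, (∀ i, B (f i) x = 0) → ∀ i, B (f i) (D.T x) = 0) :
    ∃ z, Q z = -1 ∧ ∀ i, B (f i) z = 0 := by
  set W := Submodule.span F (Set.range f)
  have hW : Module.finrank F W ≤ j := (finrank_range_le_card f).trans_eq (Fintype.card_fin j)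
  have hP := Orth.finrank_perp D.hQ W
  have hmem : ∀ {x : Vec}, x ∈ Orth.perp Q W → ∀ i, B (f i) x = 0 := fun hx i =>
    Orth.mem_perp.1 hx _ (Submodule.subset_span ⟨i, rfl⟩)
  obtain ⟨p, hp, hQp⟩ : ∃ p ∈ Orth.perp Q W, Q p ≠ 0 := by
    by_contra hc
    push Not at hc
    have hle : Orth.perp Q W ≤ R := fun x hx => by
      refine hrad x ?_ (hmem hx)
      have : x ∈ Orth.perp Q (Orth.perp Q W) := Orth.mem_perp.2 fun y hy => by
        have h := hc (y + x) (Submodule.add_mem _ hy hx)
        rwa [map_add', hc x hx, hc y hy, zero_add, zero_add] at h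
      rwa [Orth.perp_perp D.hQ] at this
    have := Submodule.finrank_mono hle
    omega
  obtain ⟨s, t, hst⟩ := exists_value_line D hQp (-1)
  exact ⟨_, hst, fun i => by
    rw [QuadraticMap.polar_add_right, QuadraticMap.polar_smul_right, QuadraticMap.polar_smul_right, hmem hp i,
      hT p (hmem hp) i, smul_zero, smul_zero, add_zero]⟩

/-- singular vectors off the line span the complement -/
theorem kperp_le {v : Vec} (hv : Q v = 0) {S : Submodule F Vec}
    (hS : ∀ x ∈ kperp D v, Q x = 0 → x ∉ line D v → x ∈ S) : kperp D v ≤ S := by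
  have hn := D.hn
  obtain ⟨z, z', hp, hz⟩ := exists_pair D ![v, D.T v] (by omega)
  have g0 := hz 0; have g1 := hz 1
  simp only [Fin.isValue, cons_val_zero, cons_val_one] at g0 g1
  have hzk : z ∈ kperp D v := ⟨g0.1, g1.1⟩
  have hzk' : z' ∈ kperp D v := ⟨g0.2, g1.2⟩
  have hzl : z ∉ line D v := not_line_of_pair D hzk' (by rw [hp.huv]; exact one_ne_zero)
  refine Orth.sing_span hp hzk hzk' fun x hx hQx => ?_
  by_cases hxl : x ∈ line D v
  swap
  · exact hS x hx hQx hxl
  have h1 := hS (x + z) ((kperp D v).add_mem hx hzk) (by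
    rw [map_add', hQx, hp.hu, line_le D hxl hzk, add_zero, add_zero]) fun h => hzl (by
      simpa using (line D v).sub_mem h hxl)
  simpa using S.sub_mem h1 (hS z hzk hp.hu hzl)

variable {M : Subgroup (Cfsg.isometryGroup F ⇑Q)}

theorem inE_of_smul_left {u w : Vec} {t : F} (h : InE M (t • u) w) : InE M u (t • w) := fun hu huw => by
  have hu' : Q (t • u) = 0 := by rw [Classical.Orth.map_smul', hu, mul_zero]
  have huw' : B (t • u) w = 0 := by
    rw [QuadraticMap.polar_smul_left]; rwa [QuadraticMap.polar_smul_right] at huw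
  exact eich_smul t hu' huw' hu huw ▸ h hu' huw'

theorem inE_zero {u : Vec} : InE M u 0 := fun hu huw => by
  rw [eich_zero_right]
  exact one_mem M

/-- the transvections of the extension -/
def RatRoots (M : Subgroup (Cfsg.isometryGroup F ⇑Q)) : Prop :=
  ∀ u, Q u = 0 → ∀ t : F, InE M u (t • D.T u)

/-- the directions whose multiples all occur -/
noncomputable def dirs (M : Subgroup (Cfsg.isometryGroup F ⇑Q)) (v : Vec) : Submodule F Vec where
  carrier := {y | y ∈ kperp D v ∧ ∀ t : F, InE M v (t • y)}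
  zero_mem' := ⟨zero_mem _, fun t => by rw [smul_zero]; exact inE_zero⟩
  add_mem' := fun {x y} hx hy => ⟨add_mem hx.1 hy.1, fun t => by
    rw [smul_add]
    exact OrthPair.inE_add (hx.2 t) (hy.2 t)
      (by rw [QuadraticMap.polar_smul_right, ((mem_kperp D).1 hx.1).1, smul_zero])
      (by rw [QuadraticMap.polar_smul_right, ((mem_kperp D).1 hy.1).1, smul_zero])⟩
  smul_mem' := fun s x hx => ⟨Submodule.smul_mem _ s hx.1, fun t => by rw [smul_smul]; exact hx.2 _⟩

theorem step {v x b : Vec} (hR : RatRoots D M) (hv : Q v = 0) (hvx : B v x = 0) (h : InE M v x)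
    (hb : Q b = 0) (hbv : b ∈ kperp D v) :
    B x b • D.T b - B x (D.T b) • b ∈ dirs D M v := by
  obtain ⟨hb1, hb2⟩ := (mem_kperp D).1 hbv
  obtain ⟨ht1, -⟩ := (mem_kperp D).1 (T_mem_kperp D hbv)
  refine ⟨Submodule.sub_mem _ (Submodule.smul_mem _ _ (T_mem_kperp D hbv)) (Submodule.smul_mem _ _ hbv), fun t => ?_⟩
  have hh : B b (t • D.T b) = 0 := by rw [QuadraticMap.polar_smul_right, xT_zero D hb, smul_zero]
  set s := eich b (t • D.T b) hb hh
  have hsv : act s v = v := act_eich_fix _ _ hb1 (by rw [QuadraticMap.polar_smul_right, ht1, smul_zero])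
  have h1 := OrthPair.inE_map h (hR b hb t hb hh)
  rw [hsv] at h1
  have h2 := OrthPair.inE_add h1 (OrthPair.inE_neg h)
    (by conv_lhs => rw [← hsv]
        rw [act_polar, hvx])
    (by rw [QuadraticMap.polar_neg_right, hvx, neg_zero])
  convert h2 using 1
  rw [act_eich, Classical.Orth.map_smul', sing_T D hb, QuadraticMap.polar_smul_right, smul_eq_mul]
  module

theorem both {v d e : Vec} (hR : RatRoots D M) (hv : Q v = 0) (hd : d ∈ dirs D M v) (hd' : D.T d ∈ dirs D M v)
    (he : Q e = 0) (hev : e ∈ kperp D v) (hne : B d e ≠ 0 ∨ B (D.T d) e ≠ 0) :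
    e ∈ dirs D M v ∧ D.T e ∈ dirs D M v := by
  set p := B d e
  set r := B (D.T d) e
  have hde : B d (D.T e) = D.a * p - r := by have := D.hadj d e; linear_combination this
  have h1 := step D hR hv ((mem_kperp D).1 hd.1).1 (by simpa using hd.2 1) he hev
  have h2 := step D hR hv ((mem_kperp D).1 hd'.1).1 (by simpa using hd'.2 1) he hev
  rw [hde] at h1
  rw [TT_polar] at h2
  have hdet : r * r - D.a * (p * r) + D.N * (p * p) ≠ 0 := by
    intro h0
    by_cases hp : p = 0
    · rcases hne with h | h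
      · exact h hp
      · exact h (by simpa [hp] using h0)
    · exact D.hirr (r / p) (by field_simp; linear_combination h0)
  set δ := r * r - D.a * (p * r) + D.N * (p * p) with hδ
  constructor
  · have h3 := Submodule.smul_mem (dirs D M v) δ⁻¹
      (Submodule.sub_mem _ (Submodule.smul_mem _ r h1) (Submodule.smul_mem _ p h2))
    have key : δ • e = r • (p • D.T e - (D.a * p - r) • e) - p • (r • D.T e - (D.N * p) • e) := by
      rw [hδ]; module
    rwa [← key, inv_smul_smul₀ hdet] at h3
  · have h3 := Submodule.smul_mem (dirs D M v) δ⁻¹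
      (Submodule.sub_mem _ (Submodule.smul_mem _ (D.N * p) h1) (Submodule.smul_mem _ (D.a * p - r) h2))
    have key : δ • D.T e = (D.N * p) • (p • D.T e - (D.a * p - r) • e) -
        (D.a * p - r) • (r • D.T e - (D.N * p) • e) := by
      rw [hδ]; module
    rwa [← key, inv_smul_smul₀ hdet] at h3

theorem exists_partner {v y : Vec} (hv : Q v = 0) (hy : Q y = 0) (hyv : y ∈ kperp D v) (hyl : y ∉ line D v) :
    ∃ c ∈ kperp D v, Q c = 0 ∧ B y c = 1 ∧ B (D.T y) c = D.a := by
  obtain ⟨h1, h2⟩ := (mem_kperp D).1 hyv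
  set w := D.T y - D.a • y
  have hmem : y ∉ Submodule.span F (Set.range ![v, D.T v, w]) := fun hm => by
    obtain ⟨c, hc⟩ := Submodule.mem_span_range_iff_exists_fun _ |>.1 hm
    rw [Fin.sum_univ_three] at hc
    simp only [Fin.isValue, cons_val_zero, cons_val_one, cons_val] at hc
    have hl : (1 + c 2 * D.a) • y + (-c 2) • D.T y ∈ line D v :=
      (mem_line D).2 ⟨c 0, c 1, by
        calc (1 + c 2 * D.a) • y + (-c 2) • D.T y
            = y - c 2 • (D.T y - D.a • y) := by module
          _ = c 0 • v + c 1 • D.T v := by rw [sub_eq_iff_eq_add]; exact hc.symm⟩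
    set x := (1 + c 2 * D.a) • y + (-c 2) • D.T y with hx
    have hy0 : y ≠ 0 := fun e => hyl (e ▸ zero_mem _)
    have hx0 : x ≠ 0 := fun e => by
      obtain ⟨e1, e2⟩ := indep D hy0 e
      rw [neg_eq_zero] at e2
      simp [e2] at e1
    have h3 : y ∈ line D x := mem_line_symm D hx0 ((mem_line D).2 ⟨_, _, hx⟩)
    obtain ⟨s, t, hst⟩ := (mem_line D).1 h3
    have hTx : D.T x ∈ line D v := by
      obtain ⟨s', t', hs⟩ := (mem_line D).1 hl
      exact (mem_line D).2 ⟨-(t' * D.N), s' + t' * D.a, by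
        rw [hs, map_add, map_smul, map_smul, D.hTT]; module⟩
    exact hyl (hst ▸ add_mem (Submodule.smul_mem _ _ hl) (Submodule.smul_mem _ _ hTx))
  obtain ⟨z, hz, hyz⟩ := Orth.not_mem_perp D.hQ hmem
  have hyp : y ∈ Orth.perp Q (Submodule.span F (Set.range ![v, D.T v, w])) := by
    refine Orth.mem_perp.2 fun u hu => ?_
    induction hu using Submodule.span_induction with
    | mem u hu =>
      obtain ⟨i, rfl⟩ := hu
      fin_cases i
      · exact h1
      · exact h2
      · show B (D.T y - D.a • y) y = 0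
        rw [QuadraticMap.polar_sub_left, QuadraticMap.polar_smul_left, polar_self_zero hy, QuadraticMap.polar_comm _ (D.T y) y,
          xT_zero D hy, smul_zero, sub_zero]
    | zero => simp
    | add p q _ _ hp hq => rw [QuadraticMap.polar_add_left, hp, hq, add_zero]
    | smul t p _ hp => rw [QuadraticMap.polar_smul_left, hp, smul_zero]
  obtain ⟨c, hc, hQc, hyc⟩ := Orth.exists_partner_in hyp hz hy hyz
  have g := fun i => Orth.mem_perp.1 hc _ (Submodule.subset_span (Set.mem_range_self (f := ![v, D.T v, w]) i))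
  have g2 : B (D.T y - D.a • y) c = 0 := g 2
  rw [QuadraticMap.polar_sub_left, QuadraticMap.polar_smul_left, hyc, smul_eq_mul, mul_one, sub_eq_zero] at g2
  exact ⟨c, ⟨g 0, g 1⟩, hQc, hyc, g2⟩

set_option maxHeartbeats 1000000 in
/-- one direction off the line gives all of the complement -/
theorem all_dirs {v x : Vec} (hR : RatRoots D M) (hv : Q v = 0) (hx : Q x = 0) (hxv : x ∈ kperp D v)
    (hxl : x ∉ line D v) (h : InE M v x) : kperp D v ≤ dirs D M v := by
  have hn := D.hn
  obtain ⟨hv1, -⟩ := (mem_kperp D).1 hxv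
  -- a direction with all multiples
  obtain ⟨c₀, hc₀, hQc₀, hxc₀, hTxc₀⟩ := exists_partner D hv hx hxv hxl
  have hc₀T : B x (D.T c₀) = 0 := by have := D.hadj x c₀; rw [hxc₀, hTxc₀] at this; linear_combination this
  have hy₀ := step D hR hv hv1 h hQc₀ hc₀
  rw [hxc₀, hc₀T, one_smul, zero_smul, sub_zero] at hy₀
  set y := D.T c₀ with hydef
  have hQy : Q y = 0 := sing_T D hQc₀
  have hyl : y ∉ line D v := fun hm => by
    have hxT : D.T x ∈ kperp D v := T_mem_kperp D hxv
    have := line_le D hm hxT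
    rw [TT_polar, QuadraticMap.polar_comm, hxc₀, mul_one] at this
    exact N_ne D this
  obtain ⟨c, hc, hQc, hyc, hTyc⟩ := exists_partner D hv hQy hy₀.1 hyl
  have hyTc : B y (D.T c) = 0 := by have := D.hadj y c; rw [hyc, hTyc] at this; linear_combination this
  have hTc : D.T c ∈ dirs D M v := by
    have := step D hR hv ((mem_kperp D).1 hy₀.1).1 (by simpa using hy₀.2 1) hQc hc
    rwa [hyc, hyTc, one_smul, zero_smul, sub_zero] at this
  -- a vector seeing both directions
  have hyy : B y (D.T y) = 0 := xT_zero D hQy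
  have hcc : B c (D.T c) = 0 := xT_zero D hQc
  have hTyTc : B (D.T y) (D.T c) = D.N := by rw [TT_polar, hyc, mul_one]
  obtain ⟨e₀, hQe₀, hz⟩ := exists_minus_one D ![v, D.T v, y, D.T y, c, D.T c] (R := line D v)
    (by
      have : Module.finrank F (line D v) ≤ 2 := (finrank_range_le_card _).trans_eq (Fintype.card_fin 2)
      omega)
    (fun u hu hperp => by
      obtain ⟨co, hco⟩ := Submodule.mem_span_range_iff_exists_fun _ |>.1 hu
      rw [Fin.sum_univ_six] at hco
      simp only [Fin.isValue, cons_val_zero, cons_val_one, cons_val] at hco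
      have hk : ∀ w, w ∈ kperp D v → B w v = 0 ∧ B w (D.T v) = 0 := fun w hw => by
        obtain ⟨a1, a2⟩ := (mem_kperp D).1 hw
        exact ⟨by rwa [QuadraticMap.polar_comm], by rwa [QuadraticMap.polar_comm]⟩
      obtain ⟨p1, p2⟩ := hk y hy₀.1
      obtain ⟨p3, p4⟩ := hk _ (T_mem_kperp D hy₀.1)
      obtain ⟨p5, p6⟩ := hk c hc
      obtain ⟨p7, p8⟩ := hk _ (T_mem_kperp D hc)
      have ec := hperp 4; have eTc := hperp 5; have ey := hperp 2; have eTy := hperp 3
      simp only [Fin.isValue, cons_val, ← hco, QuadraticMap.polar_add_right, QuadraticMap.polar_smul_right,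
        smul_eq_mul, p1, p2, p3, p4, p5, p6, p7, p8, hyy, hcc, hyc, hyTc, hTyc, hTyTc, polar_self_zero hQy, polar_self_zero hQc,
        polar_self_zero (sing_T D hQy), polar_self_zero (sing_T D hQc), QuadraticMap.polar_comm _ c y,
        QuadraticMap.polar_comm _ c (D.T y), QuadraticMap.polar_comm _ (D.T c) y, QuadraticMap.polar_comm _ (D.T c) (D.T y),
        QuadraticMap.polar_comm _ (D.T y) y, QuadraticMap.polar_comm _ (D.T c) c, mul_zero, add_zero, zero_add, mul_one]
        at ec eTc ey eTy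
      have hN := N_ne D
      have c3 : co 3 = 0 := (mul_eq_zero.1 eTc).resolve_right hN
      rw [c3, zero_mul, add_zero] at ec
      rw [ey, zero_mul, zero_add] at eTy
      have c5 : co 5 = 0 := (mul_eq_zero.1 eTy).resolve_right hN
      rw [ec, c3, ey, c5] at hco
      exact (mem_line D).2 ⟨co 0, co 1, by rw [← hco]; module⟩)
    (fun u hu i => by
      have hpair : ∀ w, B w u = 0 → B (D.T w) u = 0 → B w (D.T u) = 0 ∧ B (D.T w) (D.T u) = 0 := fun w h1 h2 =>
        ⟨by have := D.hadj w u; rw [h1, h2] at this; linear_combination this, by rw [TT_polar, h1, mul_zero]⟩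
      fin_cases i
      · exact (hpair v (hu 0) (hu 1)).1
      · exact (hpair v (hu 0) (hu 1)).2
      · exact (hpair y (hu 2) (hu 3)).1
      · exact (hpair y (hu 2) (hu 3)).2
      · exact (hpair c (hu 4) (hu 5)).1
      · exact (hpair c (hu 4) (hu 5)).2)
  have g0 := hz 0; have g1 := hz 1; have g2 := hz 2; have g3 := hz 3; have g4 := hz 4; have g5 := hz 5
  simp only [Fin.isValue, cons_val_zero, cons_val_one, cons_val] at g0 g1 g2 g3 g4 g5
  set d := y + c + e₀ with hddef
  have hzz : e₀ ∈ kperp D v := ⟨g0, g1⟩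
  have hdv : d ∈ kperp D v := add_mem (add_mem hy₀.1 hc) hzz
  have hQd : Q d = 0 := by
    have hneg : Q e₀ = -1 := hQe₀
    rw [hddef, map_add', map_add', hQy, hQc, hyc, hneg]
    simp [QuadraticMap.polar_add_left, QuadraticMap.polar_add_right, QuadraticMap.polar_neg_right, g2, g4]
  have d1 : B y d = 1 := by
    simp [hddef, QuadraticMap.polar_add_right, QuadraticMap.polar_neg_right, g2, hyc, polar_self_zero hQy]
  have d2 : B (D.T y) d = D.a := by
    simp [hddef, QuadraticMap.polar_add_right, QuadraticMap.polar_neg_right, g3, hTyc,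
      QuadraticMap.polar_comm _ (D.T y) y, hyy]
  have d3 : B (D.T c) d = 0 := by
    simp [hddef, QuadraticMap.polar_add_right, QuadraticMap.polar_neg_right, g5,
      QuadraticMap.polar_comm _ (D.T c) y, hyTc, QuadraticMap.polar_comm _ (D.T c) c, hcc]
  have hTd : D.T d ∈ dirs D M v := by
    have := step D hR hv ((mem_kperp D).1 hy₀.1).1 (by simpa using hy₀.2 1) hQd hdv
    have e : B y (D.T d) = 0 := by have := D.hadj y d; rw [d1, d2] at this; linear_combination this
    rwa [d1, e, one_smul, zero_smul, sub_zero] at this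
  have hd : d ∈ dirs D M v := by
    have := step D hR hv ((mem_kperp D).1 hTc.1).1 (by simpa using hTc.2 1) hQd hdv
    have d4 : B c d = 1 := by
      simp [hddef, QuadraticMap.polar_add_right, QuadraticMap.polar_neg_right, g4, QuadraticMap.polar_comm _ c y, hyc,
        polar_self_zero hQc]
    rw [TT_polar, d4, mul_one, d3, zero_smul, zero_sub] at this
    have h2 := Submodule.smul_mem _ (-D.N⁻¹) this
    rwa [smul_neg, neg_smul, neg_neg, smul_smul, inv_mul_cancel₀ (N_ne D), one_smul] at h2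
  -- all singular vectors
  have hdl : d ∉ line D v := fun hm => one_ne_zero (by
    rw [← d1, QuadraticMap.polar_comm]; exact line_le D hm hy₀.1)
  obtain ⟨m, hm, hQm, hdm, -⟩ := exists_partner D hv hQd hdv hdl
  obtain ⟨hm', -⟩ := both D hR hv hd hTd hQm hm (Or.inl (by rw [hdm]; exact one_ne_zero))
  refine kperp_le D hv fun e he hQe _ => ?_
  by_cases hne : B d e ≠ 0 ∨ B (D.T d) e ≠ 0
  · exact (both D hR hv hd hTd hQe he hne).1
  push Not at hne
  set e2 := e + m + (-B e m) • d with he2
  have h2 := (both D hR hv hd hTd (e := e2) (by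
      simp only [he2, map_add', Classical.Orth.map_smul', hQe, hQm, hQd, QuadraticMap.polar_add_left,
        QuadraticMap.polar_smul_right, QuadraticMap.polar_comm _ e d, hne.1, QuadraticMap.polar_comm _ m d, hdm,
        smul_eq_mul]
      ring) (add_mem (add_mem he hm) (Submodule.smul_mem _ _ hdv)) (Or.inl (by
      simp [he2, QuadraticMap.polar_add_right, QuadraticMap.polar_smul_right, hne.1, hdm, polar_self_zero hQd]))).1
  have h3 := Submodule.sub_mem _ (Submodule.sub_mem _ h2 hm') (Submodule.smul_mem _ (-B e m) hd)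
  rwa [show e2 - m - (-B e m) • d = e by rw [he2]; module] at h3

/-- all directions in the complement of the line -/
def Good (M : Subgroup (Cfsg.isometryGroup F ⇑Q)) (v : Vec) : Prop := ∀ y ∈ kperp D v, InE M v y

theorem good_step {v b : Vec} (hR : RatRoots D M) (hv : Q v = 0) (hv0 : v ≠ 0) (hb : Q b = 0)
    (hbv : b ∈ kperp D v) (hbl : b ∉ line D v) (hg : Good D M v) : Good D M b := by
  intro y hy
  have h1 := OrthPair.inE_flip (hg b hbv) hv
  have hvb : -v ∈ kperp D b := neg_mem (kperp_symm D hbv)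
  have hvl : -v ∉ line D b := fun hm => hbl (mem_line_symm D hv0 (by simpa using (line D b).neg_mem hm))
  simpa using (all_dirs D hR hb (by rw [QuadraticMap.map_neg, hv]) hvb hvl h1 hy).2 1

theorem good_all {v b : Vec} (hR : RatRoots D M) (hv : Q v = 0) (hv0 : v ≠ 0) (hb : Q b = 0) (hb0 : b ≠ 0)
    (hg : Good D M v) : Good D M b := by
  by_contra hgb
  refine hgb ?_
  have hn := D.hn
  obtain ⟨z, z', hp, hz⟩ : ∃ z z', IsPair Q z z' ∧
      ∀ i, B (![v, D.T v, b, D.T b] i) z = 0 ∧ B (![v, D.T v, b, D.T b] i) z' = 0 := by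
    by_cases hbk : b ∈ kperp D v
    swap
    · exact exists_pair_mixed D hv hb hbk
    by_cases hbl : b ∈ line D v
    swap
    · exact absurd (good_step D hR hv hv0 hb hbk hbl hg) hgb
    obtain ⟨z, z', hp, hz⟩ := exists_pair D ![v, D.T v] (by omega)
    exact ⟨z, z', hp, four_of_two D hbl hz⟩
  have g0 := hz 0; have g1 := hz 1; have g2 := hz 2; have g3 := hz 3
  simp only [Fin.isValue, cons_val_zero, cons_val_one, cons_val] at g0 g1 g2 g3
  have hzl : z ∉ line D v := not_line_of_pair D (v := v) (⟨g0.2, g1.2⟩ : z' ∈ kperp D v) (by rw [hp.huv]; exact one_ne_zero)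
  have hz0 : z ≠ 0 := fun e => hzl (e ▸ zero_mem _)
  have hgz := good_step D hR hv hv0 hp.hu ⟨g0.1, g1.1⟩ hzl hg
  refine good_step D hR hp.hu hz0 hb (kperp_symm D (⟨g2.1, g3.1⟩ : z ∈ kperp D b)) (fun hm => ?_) hgz
  exact not_line_of_pair D (v := b) (⟨g2.2, g3.2⟩ : z' ∈ kperp D b) (by rw [hp.huv]; exact one_ne_zero)
    (mem_line_symm D hb0 hm)

theorem centre_of_good {v : Vec} (hv : Q v = 0) (hv0 : v ≠ 0)
    (hgood : ∀ u, Q u = 0 → u ≠ 0 → Good D M u) : v ∈ Orth.centres M := by
  have hn := D.hn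
  refine ⟨hv, fun w hu hvw => ?_⟩
  obtain ⟨p, p', hp, hpz⟩ := exists_pair D ![v, D.T v] (by omega)
  have g0 := hpz 0; have g1 := hpz 1
  simp only [Fin.isValue, cons_val_zero, cons_val_one] at g0 g1
  have hTv : D.T v ∉ Submodule.span F (Set.range ![v, p, D.T p]) := fun hm => by
    obtain ⟨c, hc⟩ := Submodule.mem_span_range_iff_exists_fun _ |>.1 hm
    rw [Fin.sum_univ_three] at hc
    simp only [Fin.isValue, cons_val_zero, cons_val_one, cons_val] at hc
    have hk : (-c 0) • v + (1 : F) • D.T v ∈ line D p := (mem_line D).2 ⟨c 1, c 2, by rw [one_smul, ← hc]; module⟩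
    have hx0 : (-c 0) • v + (1 : F) • D.T v ≠ 0 := fun e => one_ne_zero (indep D hv0 e).2
    have h2 := mem_line_symm D hx0 hk
    obtain ⟨s, t, hst⟩ := (mem_line D).1 h2
    have : p ∈ line D v := (mem_line D).2 ⟨s * (-c 0) + t * (-D.N), s * 1 + t * (-c 0 + D.a), by
      rw [hst, map_add, map_smul, map_smul, D.hTT]; module⟩
    exact not_line_of_pair D (⟨g0.2, g1.2⟩ : p' ∈ kperp D v) (by rw [hp.huv]; exact one_ne_zero) this
  obtain ⟨b₀, hb₀, hTb₀⟩ := Orth.not_mem_perp D.hQ hTv
  have gb := fun i => Orth.mem_perp.1 hb₀ _ (Submodule.subset_span (Set.mem_range_self (f := ![v, p, D.T p]) i))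
  set b := (B (D.T v) w / B (D.T v) b₀) • b₀ with hb
  have hbp : b ∈ kperp D p := Submodule.smul_mem _ _ ⟨gb 1, gb 2⟩
  have hbv : B v b = 0 := by
    rw [hb, QuadraticMap.polar_smul_right, show B v b₀ = 0 from gb 0, smul_zero]
  have hbT : B (D.T v) b = B (D.T v) w := by
    rw [hb, QuadraticMap.polar_smul_right, smul_eq_mul, div_mul_cancel₀ _ hTb₀]
  obtain ⟨hbp1, -⟩ := (mem_kperp D).1 hbp
  have hp0 : p ≠ 0 := fun e => by
    have := hp.huv; rw [e, QuadraticMap.polar_zero_left] at this; exact zero_ne_one this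
  set s := eich p b hp.hu hbp1
  have hs : s ∈ M := hgood p hp.hu hp0 b hbp _ _
  have hsv : act s v = v := act_eich_fix _ _ g0.1 hbv
  have hp'k : p' ∈ kperp D v := ⟨g0.2, g1.2⟩
  have h1 := OrthPair.inE_map (hgood v hv hv0 p' hp'k) hs
  rw [hsv] at h1
  have e2 : B (D.T v) (w - act s p') = 0 := by
    rw [act_eich, QuadraticMap.polar_comm _ p' p, hp.huv, one_smul]
    simp [QuadraticMap.polar_sub_right, QuadraticMap.polar_add_right, QuadraticMap.polar_smul_right, g1, hbT]
  have e3 : B v (act s p') = 0 := by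
    conv_lhs => rw [← hsv]
    rw [act_polar]; exact g0.2
  have e4 : B v (w - act s p') = 0 := by rw [QuadraticMap.polar_sub_right, hvw, e3, sub_zero]
  have h2 := OrthPair.inE_add h1 (hgood v hv hv0 _ ⟨e4, e2⟩) e3 e4
  rw [add_sub_cancel] at h2
  exact h2 hu hvw

/-- an element outside the semilinear group -/
theorem exists_bad (g : Vec ≃ₗ[F] Vec)
    (h1 : ¬ ∀ x, g (D.T x) = D.T (g x)) (h2 : ¬ ∀ x, g (D.T x) = D.a • g x - D.T (g x)) :
    ∃ v, Q v = 0 ∧ v ≠ 0 ∧ g (D.T v) ∉ line D (g v) := by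
  have hn := D.hn
  by_contra hcon
  push Not at hcon
  -- pull the extension back
  let h : Vec →ₗ[F] Vec := g.symm.toLinearMap.comp (D.T.comp g.toLinearMap)
  have hgh : ∀ x, g (h x) = D.T (g x) := fun x => g.apply_symm_apply _
  have ginj : Function.Injective g := g.injective
  have key : ∀ v, Q v = 0 → v ≠ 0 → ∃ s t : F, h v = s • v + t • D.T v := fun v hv hv0 => by
    obtain ⟨s, t, hst⟩ := (mem_line D).1 (hcon v hv hv0)
    by_cases ht : t = 0
    · exfalso
      rw [ht, zero_smul, add_zero, ← map_smul] at hst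
      exact one_ne_zero (indep D hv0 (s := -s) (t := 1) (by rw [one_smul, ginj hst]; module)).2
    · refine ⟨-s / t, t⁻¹, ginj ?_⟩
      rw [hgh, map_add, map_smul, map_smul, hst, smul_add, smul_smul, smul_smul, inv_mul_cancel₀ ht, one_smul, ← add_assoc,
        ← add_smul, show -s / t + t⁻¹ * s = 0 by field_simp; ring, zero_smul, zero_add]
  obtain ⟨v₀, w₀, hp, -⟩ := exists_pair D (![] : Fin 0 → Vec) (by omega)
  have hv₀ : v₀ ≠ 0 := fun e => by
    have := hp.huv; rw [e, QuadraticMap.polar_zero_left] at this; exact zero_ne_one this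
  obtain ⟨s, t, hst⟩ := key v₀ hp.hu hv₀
  have adj : ∀ v w, Q v = 0 → Q w = 0 → v ≠ 0 → w ≠ 0 → w ∈ kperp D v → w ∉ line D v →
      h v = s • v + t • D.T v → h w = s • w + t • D.T w := by
    intro v w hv hw hv0 hw0 hwv hwl hhv
    obtain ⟨s', t', e1⟩ := key w hw hw0
    have hvw0 : v + w ≠ 0 := fun e => hwl (by
      rw [eq_neg_of_add_eq_zero_right e]
      exact neg_mem (Submodule.subset_span ⟨0, rfl⟩))
    obtain ⟨s'', t'', e2⟩ := key (v + w) (by rw [map_add', hv, hw, ((mem_kperp D).1 hwv).1, add_zero, add_zero]) hvw0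
    rw [map_add, hhv, e1, map_add] at e2
    have hz : (s'' - s') • w + (t'' - t') • D.T w = (s - s'') • v + (t - t'') • D.T v := by
      calc _ = (s'' • (v + w) + t'' • (D.T v + D.T w)) - (s'' • v + t'' • D.T v) - (s' • w + t' • D.T w) := by module
        _ = _ := by rw [← e2]; module
    have h0 : (s'' - s') • w + (t'' - t') • D.T w = 0 := by
      by_contra hne
      set x := (s'' - s') • w + (t'' - t') • D.T w with hxdef
      have hxl : x ∈ line D v := (mem_line D).2 ⟨_, _, hz⟩
      obtain ⟨a', b', hw'⟩ := (mem_line D).1 (mem_line_symm D hne ((mem_line D).2 ⟨_, _, hxdef⟩))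
      obtain ⟨p, q, hpq⟩ := (mem_line D).1 hxl
      exact hwl ((mem_line D).2 ⟨a' * p + b' * (-(q * D.N)), a' * q + b' * (p + q * D.a), by
        rw [hw', hpq, map_add, map_smul, map_smul, D.hTT]; module⟩)
    obtain ⟨f1, f2⟩ := indep D hw0 h0
    obtain ⟨f3, f4⟩ := indep D hv0 (hz ▸ h0)
    rw [e1, show s' = s by linear_combination -f1 - f3, show t' = t by linear_combination -f2 - f4]
  have hsing : ∀ w, Q w = 0 → h w = s • w + t • D.T w := by
    intro w hw
    rcases eq_or_ne w 0 with rfl | hw0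
    · simp
    by_cases hwk : w ∈ kperp D v₀ ∧ w ∉ line D v₀
    · exact adj v₀ w hp.hu hw hv₀ hw0 hwk.1 hwk.2 hst
    obtain ⟨z, z', hpz, hz⟩ : ∃ z z', IsPair Q z z' ∧
        ∀ i, B (![v₀, D.T v₀, w, D.T w] i) z = 0 ∧ B (![v₀, D.T v₀, w, D.T w] i) z' = 0 := by
      by_cases hwl : w ∈ line D v₀
      · obtain ⟨z, z', hpz, hz⟩ := exists_pair D ![v₀, D.T v₀] (by omega)
        exact ⟨z, z', hpz, four_of_two D hwl hz⟩
      · exact exists_pair_mixed D hp.hu hw fun h => hwk ⟨h, hwl⟩
    have g0 := hz 0; have g1 := hz 1; have g2 := hz 2; have g3 := hz 3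
    simp only [Fin.isValue, cons_val_zero, cons_val_one, cons_val] at g0 g1 g2 g3
    have hne : B z z' ≠ 0 := by rw [hpz.huv]; exact one_ne_zero
    have hz0 : z ≠ 0 := fun e => hne (by rw [e, QuadraticMap.polar_zero_left])
    refine adj z w hpz.hu hw hz0 hw0 (kperp_symm D (⟨g2.1, g3.1⟩ : z ∈ kperp D w))
      (fun hm => not_line_of_pair D (⟨g2.2, g3.2⟩ : z' ∈ kperp D w) hne (mem_line_symm D hw0 hm)) ?_
    exact adj v₀ z hp.hu hpz.hu hv₀ hz0 ⟨g0.1, g1.1⟩ (not_line_of_pair D (⟨g0.2, g1.2⟩ : z' ∈ kperp D v₀) hne) hst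
  have hall : ∀ x, h x = s • x + t • D.T x := by
    let S : Submodule F Vec := LinearMap.eqLocus h (s • LinearMap.id + t • D.T)
    obtain ⟨z, z', hpz, -⟩ := exists_pair D (![] : Fin 0 → Vec) (by omega)
    intro x
    have hx : x ∈ S := Orth.sing_span hpz (S := ⊤) (T := S) Submodule.mem_top Submodule.mem_top
      (fun v _ hv => hsing v hv) Submodule.mem_top
    exact hx
  -- the polynomial of the extension
  have h3 : h (h v₀) = D.a • h v₀ - D.N • v₀ := ginj (by
    simp only [hgh, map_sub, map_smul, D.hTT])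
  simp only [hall, map_add, map_smul, D.hTT] at h3
  have h4 : (s * s - t * t * D.N - D.a * s + D.N) • v₀ + (2 * (s * t) + t * t * D.a - D.a * t) • D.T v₀ = 0 := by
    rw [← sub_eq_zero.2 h3]
    module
  obtain ⟨p1, p2⟩ := indep D hv₀ h4
  have ht : t ≠ 0 := fun e => D.hirr s (by rw [e] at p1; linear_combination p1)
  have p2' : 2 * s + t * D.a - D.a = 0 :=
    (mul_eq_zero.1 (show t * (2 * s + t * D.a - D.a) = 0 by linear_combination p2)).resolve_left ht
  have hcase : (s = 0 ∧ t = 1) ∨ (s = D.a ∧ t = -1) := by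
    have e : (s * s - D.a * s + D.N) * 1 = t * t * D.N := by linear_combination p1
    have h5 : (D.a * D.a - 4 * D.N) * (t * t - 1) = 0 := by
      linear_combination 4 * p1 - (2 * s - t * D.a - D.a) * p2'
    rcases mul_eq_zero.1 h5 with h6 | h6
    · exfalso
      by_cases h2z : (2 : F) = 0
      · have : CharP F 2 := CharTwo.of_one_ne_zero_of_two_eq_zero one_ne_zero h2z
        have ha : D.a = 0 := by
          have : D.a * D.a = 0 := by linear_combination h6 + 2 * D.N * h2z
          exact mul_self_eq_zero.1 this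
        obtain ⟨r, hr⟩ := FiniteField.isSquare_of_char_two (ringChar.eq F 2) D.N
        exact D.hirr r (by rw [ha, hr]; linear_combination (r * r) * h2z)
      · exact D.hirr (D.a / 2) (by field_simp; linear_combination -h6)
    · rcases mul_self_eq_one_iff.1 (sub_eq_zero.1 h6) with h7 | h7 <;> subst h7
      · by_cases h2z : (2 : F) = 0
        · have hc : s * (s - D.a) = 0 := by linear_combination e
          rcases mul_eq_zero.1 hc with h8 | h8
          · exact Or.inl ⟨h8, rfl⟩
          · exact Or.inr ⟨sub_eq_zero.1 h8, by linear_combination h2z⟩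
        · exact Or.inl ⟨(mul_eq_zero.1 (show (2 : F) * s = 0 by linear_combination p2')).resolve_left h2z, rfl⟩
      · by_cases h2z : (2 : F) = 0
        · have hc : s * (s - D.a) = 0 := by linear_combination e
          rcases mul_eq_zero.1 hc with h8 | h8
          · exact Or.inl ⟨h8, by linear_combination -h2z⟩
          · exact Or.inr ⟨sub_eq_zero.1 h8, rfl⟩
        · refine Or.inr ⟨?_, rfl⟩
          have : (2 : F) * (s - D.a) = 0 := by linear_combination p2'
          exact sub_eq_zero.1 ((mul_eq_zero.1 this).resolve_left h2z)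
  rcases hcase with ⟨rfl, rfl⟩ | ⟨rfl, rfl⟩
  · exact h1 fun x => by rw [← hgh, hall]; simp
  · refine h2 fun x => ?_
    rw [← hgh, hall, map_add, map_smul, map_smul]
    module

set_option maxHeartbeats 1000000 in
/-- a group with the transvections and an element outside the semilinear group contains `Ω` -/
theorem omega_le (hR : RatRoots D M) {g : Cfsg.isometryGroup F ⇑Q} (hg : g ∈ M)
    (h1 : ¬ ∀ x, act g (D.T x) = D.T (act g x)) (h2 : ¬ ∀ x, act g (D.T x) = D.a • act g x - D.T (act g x)) :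
    Cfsg.Omega F ⇑Q ≤ M := by
  have hn := D.hn
  have ginj : Function.Injective (act g) :=
    Function.LeftInverse.injective (g := act g⁻¹) fun x => by rw [← act_mul, inv_mul_cancel, act_one]
  obtain ⟨u, hu, hu0, hbad⟩ := exists_bad D
    (LinearEquiv.ofBijective (act g : Vec →ₗ[F] Vec) ⟨ginj, Finite.injective_iff_surjective.1 ginj⟩) h1 h2
  change act g (D.T u) ∉ line D (act g u) at hbad
  set v := act g u with hvdef
  set w := act g (D.T u) with hwdef
  have hv : Q v = 0 := by rw [hvdef, act_map, hu]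
  have hw : Q w = 0 := by rw [hwdef, act_map, sing_T D hu]
  have hvw : B v w = 0 := by rw [hvdef, hwdef, act_polar, xT_zero D hu]
  have hv0 : v ≠ 0 := fun e => hu0 (by
    have := congrArg (act g⁻¹) e
    rwa [hvdef, ← act_mul, inv_mul_cancel, act_one, map_zero] at this)
  have hIn : InE M v w := OrthPair.inE_map (by simpa using hR u hu 1) hg
  obtain ⟨b, hb, hQb, hbl, hne⟩ : ∃ b ∈ kperp D v, Q b = 0 ∧ b ∉ line D v ∧
      B w b • D.T b - B w (D.T b) • b ≠ 0 := by
    by_contra hcon
    push Not at hcon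
    have hle : kperp D v ≤ kperp D w := kperp_le D hv fun x hx hQx hxl => by
      have hx0 : x ≠ 0 := fun e => hxl (e ▸ zero_mem _)
      obtain ⟨e1, e2⟩ := indep D hx0 (s := -B w (D.T x)) (t := B w x) (by
        rw [← hcon x hx hQx hxl]; module)
      refine ⟨e2, ?_⟩
      show B (D.T w) x = 0
      rw [D.hadj, e2, neg_eq_zero.1 e1]; ring
    refine hbad ?_
    have h : w ∈ Orth.perp Q (Orth.perp Q (line D v)) := Orth.mem_perp.2 fun x hx => by
      rw [QuadraticMap.polar_comm]
      exact (hle ⟨Orth.mem_perp.1 hx _ (Submodule.subset_span ⟨0, rfl⟩),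
        Orth.mem_perp.1 hx _ (Submodule.subset_span ⟨1, rfl⟩)⟩).1
    rwa [Orth.perp_perp D.hQ] at h
  set x := B w b • D.T b - B w (D.T b) • b with hxdef
  have hstep := step D hR hv hvw hIn hQb hb
  have hQx : Q x = 0 := by
    rw [hxdef, sub_eq_add_neg, ← neg_smul, map_add', Classical.Orth.map_smul', Classical.Orth.map_smul', hQb,
      sing_T D hQb, QuadraticMap.polar_smul_left, QuadraticMap.polar_smul_right, QuadraticMap.polar_comm _ (D.T b) b,
      xT_zero D hQb]
    simp
  have hxl : x ∉ line D v := fun hm => by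
    obtain ⟨p, q, hpq⟩ := (mem_line D).1
      (mem_line_symm D hne ((mem_line D).2 ⟨-B w (D.T b), B w b, by module⟩ : x ∈ line D b))
    obtain ⟨s, t, hst⟩ := (mem_line D).1 hm
    exact hbl ((mem_line D).2 ⟨p * s + q * (-(t * D.N)), p * t + q * (s + t * D.a), by
      rw [hpq, hst, map_add, map_smul, map_smul, D.hTT]; module⟩)
  have hgood : Good D M v := fun y hy => by
    simpa using (all_dirs D hR hv hQx hstep.1 hxl (by simpa using hstep.2 1) hy).2 1
  exact Orth.omega_le_of_centres D.hQ (by omega) fun p hp0 hp =>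
    centre_of_good D hp hp0 fun q hq hq0 => good_all D hR hv hv0 hq hq0 hgood

set_option maxHeartbeats 1000000 in
/-- normalisers of quadratic extensions are maximal in orthogonal groups -/
theorem extension_maximal (G : Subgroup (GL ι F)) (hG : G ≤ Cfsg.Geo.omegaGL ⇑Q)
    (hlow : ∀ g ∈ Cfsg.Geo.omegaGL ⇑Q,
      ((∀ x, (g : Matrix ι ι F) *ᵥ D.T x = D.T ((g : Matrix ι ι F) *ᵥ x)) ∨
        ∀ x, (g : Matrix ι ι F) *ᵥ D.T x = D.a • ((g : Matrix ι ι F) *ᵥ x) - D.T ((g : Matrix ι ι F) *ᵥ x)) → g ∈ G)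
    (hhigh : ∀ g ∈ G, (∀ x, (g : Matrix ι ι F) *ᵥ D.T x = D.T ((g : Matrix ι ι F) *ᵥ x)) ∨
      ∀ x, (g : Matrix ι ι F) *ᵥ D.T x = D.a • ((g : Matrix ι ι F) *ᵥ x) - D.T ((g : Matrix ι ι F) *ᵥ x)) :
    Cfsg.Geo.IsMaximalIn (Cfsg.Geo.omegaGL ⇑Q) G := by
  have hn := D.hn
  have hn9 : 9 ≤ Fintype.card ι := by omega
  refine isMaximalIn_of hG (fun hle => ?_) fun M hM hMK g hgM hg => ?_
  · obtain ⟨v, v', hp, -⟩ := exists_pair D (![] : Fin 0 → Vec) (by omega)
    obtain ⟨w, w', hp', hw⟩ := exists_pair D ![v, D.T v] (by omega)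
    have a0 := hw 0; have a1 := hw 1
    simp only [Fin.isValue, cons_val_zero, cons_val_one, cons_val] at a0 a1
    have hwl : w ∉ line D v := not_line_of_pair D (⟨a0.2, a1.2⟩ : w' ∈ kperp D v) (by rw [hp'.huv]; exact one_ne_zero)
    rcases hhigh _ (hle (Subgroup.mem_map_of_mem _ (Orth.eich_omega D.hQ (by omega) hp.hu a0.1))) with hc | hc
    · have h := hc v'
      simp only [Subgroup.coe_subtype, ← act_apply, act_eich, hp'.hu, zero_mul, zero_smul, sub_zero, map_sub, map_add,
        map_smul, QuadraticMap.polar_comm _ v' v, hp.huv, one_smul] at h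
      have h' : B (D.T v') v • w - B (D.T v') w • v = D.T w - B v' w • D.T v := by
        linear_combination (norm := module) h
      have hw' : w ∈ line D (B (D.T v') v • w + (-1 : F) • D.T w) := by
        refine mem_line_symm D ?_ ((mem_line D).2 ⟨B (D.T v') v, -1, rfl⟩)
        intro e0
        exact one_ne_zero (neg_eq_zero.1 (indep D (fun e1 => hwl (by rw [e1]; exact zero_mem _)) e0).2)
      refine hwl ?_
      · obtain ⟨s, t, hst⟩ := (mem_line D).1 hw'
        have e5 : B (D.T v') v • w + (-1 : F) • D.T w = B (D.T v') w • v + (-B v' w) • D.T v := by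
          linear_combination (norm := module) h'
        rw [hst, e5]
        exact (mem_line D).2 ⟨s * B (D.T v') w + t * (B v' w * D.N), s * (-B v' w) + t * (B (D.T v') w - B v' w * D.a), by
          rw [map_add, map_smul, map_smul, D.hTT]; module⟩
    · have hzk : v ∈ kperp D v := self_mem_kperp D hp.hu
      have hzw : v ∈ kperp D w := kperp_symm D (⟨a0.1, a1.1⟩ : w ∈ kperp D v)
      have fix_ : ∀ x, x ∈ kperp D v → x ∈ kperp D w → act (eich v w hp.hu a0.1) x = x := fun x hx hx' => act_eich_fix _ _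
        (by rw [QuadraticMap.polar_comm]; exact hx.1) (by rw [QuadraticMap.polar_comm]; exact hx'.1)
      have h := hc v
      simp only [Subgroup.coe_subtype, ← act_apply, fix_ v hzk hzw,
        fix_ _ (T_mem_kperp D hzk) (T_mem_kperp D hzw)] at h
      have hz0 : v ≠ 0 := fun e0 => by
        have := hp.huv; rw [e0, QuadraticMap.polar_zero_left] at this; exact zero_ne_one this
      obtain ⟨ha, h2⟩ := indep D hz0 (s := -D.a) (t := 2) (by linear_combination (norm := module) h)
      rw [neg_eq_zero] at ha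
      have : CharP F 2 := CharTwo.of_one_ne_zero_of_two_eq_zero one_ne_zero h2
      obtain ⟨r, hr⟩ := FiniteField.isSquare_of_char_two (ringChar.eq F 2) D.N
      exact D.hirr r (by rw [ha, hr]; linear_combination (r * r) * h2)
  obtain ⟨g', hg', rfl⟩ := Subgroup.mem_map.1 (hMK hgM)
  have hR : RatRoots D (M.comap (Cfsg.isometryGroup F ⇑Q).subtype ⊓ Cfsg.Omega F ⇑Q) := fun u hu t hu' huw => by
    have hs := Orth.eich_omega D.hQ (by omega) hu' huw
    refine ⟨hM (hlow _ (Subgroup.mem_map_of_mem _ hs) (Or.inl fun x => ?_)), hs⟩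
    simp only [Subgroup.coe_subtype, ← act_apply, act_eich, Classical.Orth.map_smul', sing_T D hu, mul_zero, zero_mul,
      zero_smul, sub_zero, map_sub, map_add, map_smul, D.hTT, QuadraticMap.polar_smul_right, smul_eq_mul, TT_polar,
      D.hadj x u]
    module
  have hle := omega_le D hR (g := g') ⟨hgM, hg'⟩
    (fun h => hg (hlow _ (Subgroup.mem_map_of_mem _ hg') (Or.inl fun x => by
      simp only [Subgroup.coe_subtype, ← act_apply]; exact h x)))
    (fun h => hg (hlow _ (Subgroup.mem_map_of_mem _ hg') (Or.inr fun x => by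
      simp only [Subgroup.coe_subtype, ← act_apply]; exact h x)))
  intro x hx
  obtain ⟨x', hx', rfl⟩ := Subgroup.mem_map.1 hx
  exact (hle hx').1

end Cfsg.Agent.Forms.Max.OrthExt
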