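import Mathlib
import Cfsg.Agent.Lib.Forms.Max.Unitary
import Cfsg.Agent.Lib.Forms.Max.SubfieldLinear
import Cfsg.Agent.Lib.Forms.DicksonSwap

/-!
# Unitary groups over subfields of odd prime index
-/

set_option autoImplicit false
set_option linter.unusedSectionVars false

namespace Cfsg.Agent.Forms.Max.SubfieldUnitary

open Matrix Cfsg.Agent.Classical.Unitary

variable {F : Type*} [Field F] [Fintype F] {q n : ℕ}

local notation "Idx" => (Fin n)
local notation "Vec" => (Fin n → F)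
local notation "GLn" => GL (Fin n) F
local notation "H" => Cfsg.hermForm n F q
local notation "SUn" => (Cfsg.GU n F q ⊓ Cfsg.Geo.specialLinear (Fin n) F)

/-- a rational structure of the standard unitary space over a subfield of odd prime index -/
structure Data (F : Type*) [Field F] [Fintype F] (q n : ℕ) where
  F₀ : Subfield F
  P : GL (Fin n) F
  hF : Fintype.card F = q ^ 2
  hn : 4 ≤ n
  r : ℕ
  hr : r.Prime
  hro : Odd r
  hcard : Fintype.card F = Nat.card F₀ ^ r
  hP : Cfsg.Geo.IsFormRationalStructure (Cfsg.hermForm n F q) F₀ 1 P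

variable (D : Data F q n)

/-- a rational vector -/
def rv (a : Idx → D.F₀) : Vec := (D.P : Matrix Idx Idx F) *ᵥ SubfieldLinear.ic D.F₀ a

theorem rv_add (a b : Idx → D.F₀) : rv D (a + b) = rv D a + rv D b := by
  rw [rv, rv, rv, ← mulVec_add]; rfl

theorem rv_smul (t : D.F₀) (a : Idx → D.F₀) : rv D (t • a) = (t : F) • rv D a := by
  rw [rv, rv, SubfieldLinear.ic_smul, mulVec_smul]

theorem rv_zero : rv D 0 = 0 := by
  rw [rv, show SubfieldLinear.ic D.F₀ (0 : Idx → D.F₀) = 0 from rfl, mulVec_zero]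

theorem rv_sub (a b : Idx → D.F₀) : rv D (a - b) = rv D a - rv D b := by
  rw [eq_sub_iff_add_eq, ← rv_add, sub_add_cancel]

theorem rv_eq_zero {a : Idx → D.F₀} (h : rv D a = 0) : a = 0 := by
  by_contra hne
  exact Max.mulVec_ne_zero D.P (SubfieldLinear.ic_ne_zero hne) h

/-- the rational form, linear in the first vector -/
noncomputable def form0 (a : Idx → D.F₀) : (Idx → D.F₀) →ₗ[D.F₀] D.F₀ where
  toFun x := ⟨H (rv D x) (rv D a), by
    have h := D.hP _ _ (fun i => (x i).2) (fun i => (a i).2)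
    rw [one_mul] at h
    exact h⟩
  map_add' x y := Subtype.ext (by simp [rv_add, H_add_left])
  map_smul' t x := Subtype.ext (by simp [rv_smul, H_smul_left])

theorem form0_coe (a x : Idx → D.F₀) : ((form0 D a x : D.F₀) : F) = H (rv D x) (rv D a) := rfl

theorem H_rat (x y : Idx → D.F₀) : H (rv D x) (rv D y) ∈ D.F₀ := (form0 D y x).2

theorem decomp (v : Vec) : ∃ w : Idx → F, v = ∑ i, w i • rv D (Pi.single i 1) := by
  refine ⟨((D.P⁻¹ : GLn) : Matrix Idx Idx F) *ᵥ v, ?_⟩
  conv_lhs => rw [← Max.mulVec_inv_cancel D.P v, pi_eq_sum_univ' (((D.P⁻¹ : GLn) : Matrix Idx Idx F) *ᵥ v)]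
  rw [mulVec_sum]
  refine Finset.sum_congr rfl fun i _ => ?_
  rw [mulVec_smul, rv, SubfieldLinear.ic_single]

theorem ext_rat {v : Vec} (h : ∀ x, H v (rv D x) = 0) : v = 0 := eq_zero_of_H D.hF fun y => by
  obtain ⟨w, rfl⟩ := decomp D y
  rw [H_sum_right D.hF]
  exact Finset.sum_eq_zero fun i _ => by rw [H_smul_right, h, mul_zero]

theorem ext_rat' {v : Vec} (h : ∀ x, H (rv D x) v = 0) : v = 0 :=
  ext_rat D fun x => (H_eq_zero_comm D.hF).1 (h x)

theorem pow_mem_F₀ {x : F} (hx : x ∈ D.F₀) : x ^ q ∈ D.F₀ := pow_mem hx q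

/-- representation of functionals -/
theorem rep (f : (Idx → D.F₀) →ₗ[D.F₀] D.F₀) :
    ∃ d, ∀ x, H (rv D x) (rv D d) = (f x : F) := by
  classical
  have hinj : Function.Injective fun d : Idx → D.F₀ => fun i => form0 D d (Pi.single i 1) := by
    intro d d' hd
    refine sub_eq_zero.1 (rv_eq_zero D (ext_rat' D fun x => ?_))
    have hl : form0 D d = form0 D d' := LinearMap.pi_ext fun i t => by
      rw [show (Pi.single i t : Idx → D.F₀) = t • Pi.single i 1 by ext j; simp [Pi.single_apply], map_smul,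
        map_smul, show form0 D d (Pi.single i 1) = form0 D d' (Pi.single i 1) from congrFun hd i]
    rw [rv_sub, H_sub_right D.hF, ← form0_coe, ← form0_coe, hl, sub_self]
  obtain ⟨d, hd⟩ := Finite.injective_iff_surjective.1 hinj fun i => f (Pi.single i 1)
  refine ⟨d, fun x => ?_⟩
  rw [← form0_coe, show form0 D d = f from LinearMap.pi_ext fun i t => by
    rw [show (Pi.single i t : Idx → D.F₀) = t • Pi.single i 1 by ext j; simp [Pi.single_apply], map_smul,
      map_smul, show form0 D d (Pi.single i 1) = f (Pi.single i 1) from congrFun hd i]]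

/-- prescribed products -/
theorem exists_dual {a : Idx → D.F₀} {S : Submodule D.F₀ (Idx → D.F₀)} (h : a ∉ S) :
    ∃ e, (∀ s ∈ S, H (rv D s) (rv D e) = 0) ∧ H (rv D a) (rv D e) = 1 := by
  obtain ⟨ψ, hψ, hψS⟩ := Submodule.exists_dual_map_eq_bot_of_notMem h inferInstance
  obtain ⟨e, he⟩ := rep D ((ψ a)⁻¹ • ψ)
  refine ⟨e, fun s hs => ?_, ?_⟩
  · have h0 : ψ s ∈ S.map ψ := Submodule.mem_map_of_mem hs
    rw [hψS, Submodule.mem_bot] at h0
    rw [he, LinearMap.smul_apply, h0, smul_zero]; rfl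
  · rw [he, LinearMap.smul_apply, smul_eq_mul, inv_mul_cancel₀ hψ]; rfl

theorem exists_theta : ∃ θ ∈ D.F₀, θ ^ q ≠ θ := by
  by_contra hc
  push Not at hc
  obtain ⟨j, hj⟩ := D.hro
  haveI := Fintype.ofFinite D.F₀
  have hs1 : 1 < Nat.card D.F₀ := Finite.one_lt_card
  obtain ⟨p, hchar⟩ := CharP.exists F
  haveI := hchar
  obtain ⟨e, hp, hcard⟩ := FiniteField.card F p
  haveI : CharP D.F₀ p := (D.F₀.subtype).charP D.F₀.subtype.injective p
  obtain ⟨d, -, hd⟩ := FiniteField.card D.F₀ p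
  -- the fixed field has at most `q` elements
  have hle : Nat.card D.F₀ ≤ q := by
    classical
    have hne : (Polynomial.X ^ q - Polynomial.X : Polynomial F) ≠ 0 :=
      FiniteField.X_pow_card_sub_X_ne_zero F (HermStd.one_lt_q D.hF)
    rw [Nat.card_eq_fintype_card, Fintype.card_subtype]
    refine (Finset.card_le_card (t := (Polynomial.X ^ q - Polynomial.X : Polynomial F).roots.toFinset)
      fun x hx => ?_).trans ((Multiset.toFinset_card_le _).trans ((Polynomial.card_roots' _).trans ?_))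
    · rw [Finset.mem_filter] at hx
      rw [Multiset.mem_toFinset, Polynomial.mem_roots hne]
      simp [hc x hx.2]
    · rw [FiniteField.X_pow_card_sub_X_natDegree_eq F (HermStd.one_lt_q D.hF)]
  have hpow : ∀ x : D.F₀, x ^ q = x := fun x => Subtype.ext (by push_cast; exact hc _ x.2)
  obtain ⟨g, hg⟩ := IsCyclic.exists_generator (α := D.F₀ˣ)
  have hord : Nat.card D.F₀ - 1 ∣ q - 1 := by
    have hg1 : g ^ q = g := Units.ext (by push_cast; exact hpow _)
    have h0 : g ^ (q - 1) = 1 := mul_right_cancel (b := g) (by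
      rw [← pow_succ, Nat.sub_add_cancel (HermStd.one_lt_q D.hF).le, hg1, one_mul])
    rw [← Nat.card_units, ← orderOf_eq_card_of_forall_mem_zpowers hg]
    exact orderOf_dvd_of_pow_eq_one h0
  have hq : q ^ 2 = Nat.card D.F₀ ^ D.r := D.hF ▸ D.hcard
  have hqp : q ∣ p ^ (e : ℕ) := by rw [← hcard, D.hF]; exact dvd_pow_self q two_ne_zero
  obtain ⟨f, -, hf⟩ := (Nat.dvd_prime_pow hp).1 hqp
  rw [Nat.card_eq_fintype_card, hd] at hord hq
  simp only [hf] at hord hq
  rw [← pow_mul, ← pow_mul] at hq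
  have h2 : f * 2 = (d : ℕ) * D.r := Nat.pow_right_injective hp.two_le hq
  have hdf : (d : ℕ) ∣ f := Nat.dvd_of_mod_eq_zero (by
    have h1 := Nat.gcd_eq_left hord
    rw [Nat.pow_sub_one_gcd_pow_sub_one] at h1
    have h3 := Nat.pow_right_injective hp.two_le (show p ^ Nat.gcd d f = p ^ (d : ℕ) by
      have h4 := Nat.one_le_pow (Nat.gcd d f) p hp.pos
      have h5 := Nat.one_le_pow (d : ℕ) p hp.pos
      omega)
    exact Nat.mod_eq_zero_of_dvd (h3 ▸ Nat.gcd_dvd_right _ _))
  obtain ⟨m, rfl⟩ := hdf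
  have h3 : m * 2 = D.r := Nat.eq_of_mul_eq_mul_left d.pos (by rw [← mul_assoc, h2])
  omega

theorem exists_skew : ∃ ζ : F, ζ ∈ D.F₀ ∧ ζ ≠ 0 ∧ ζ + ζ ^ q = 0 := by
  obtain ⟨θ, hθ, hne⟩ := exists_theta D
  refine ⟨θ - θ ^ q, sub_mem hθ (pow_mem_F₀ D hθ), sub_ne_zero.2 hne.symm, ?_⟩
  rw [← HermStd.qHom_apply D.hF, ← HermStd.qHom_apply D.hF, map_sub, HermStd.qHom_qHom]
  ring

theorem trace_rat {d : F} (hd : d ∈ D.F₀) (hdq : d ^ q = d) : ∃ β ∈ D.F₀, β + β ^ q = d := by
  obtain ⟨θ, hθ, hne⟩ := exists_theta D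
  set δ := θ - θ ^ q with hδ
  have hδ0 : δ ≠ 0 := sub_ne_zero.2 hne.symm
  refine ⟨θ * (d / δ), mul_mem hθ (D.F₀.div_mem hd (sub_mem hθ (pow_mem_F₀ D hθ))), ?_⟩
  have hδq : δ ^ q = -δ := by
    rw [hδ, ← HermStd.qHom_apply D.hF, ← HermStd.qHom_apply D.hF, map_sub, HermStd.qHom_qHom]
    ring
  rw [mul_pow, div_pow, hdq, hδq, div_neg, mul_neg, ← sub_eq_add_neg, ← sub_mul, ← hδ, mul_div_cancel₀ _ hδ0]

theorem norm_rat {d : F} (hd : d ∈ D.F₀) (hdq : d ^ q = d) : ∃ t ∈ D.F₀, t ^ q * t = d := by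
  obtain ⟨θ, hθ, hne⟩ := exists_theta D
  let σ : D.F₀ →+* D.F₀ :=
    ((HermStd.qHom D.hF).comp D.F₀.subtype).codRestrict D.F₀ fun x => pow_mem_F₀ D x.2
  obtain ⟨c, hc⟩ := Bases.exists_norm_eq σ (fun e => hne (congrArg Subtype.val (RingHom.congr_fun e ⟨θ, hθ⟩)))
    (fun a => Subtype.ext (HermStd.qHom_qHom D.hF (a : F))) ⟨d, hd⟩ (Subtype.ext hdq)
  exact ⟨c, c.2, congrArg Subtype.val hc⟩

theorem add_iso {a : Idx → D.F₀} (ha : H (rv D a) (rv D a) = 0) {x : Idx → D.F₀}
    (hxa : H (rv D x) (rv D a) ≠ 0) :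
    ∃ t : D.F₀, H (rv D (x + t • a)) (rv D (x + t • a)) = 0 := by
  obtain ⟨β, hβ, hβ'⟩ := trace_rat D (neg_mem (H_rat D x x))
    (by rw [← HermStd.qHom_apply D.hF, map_neg, HermStd.qHom_apply, H_conj D.hF])
  have h1 : H (rv D a) (rv D x) = H (rv D x) (rv D a) ^ q := (H_conj D.hF _ _).symm
  refine ⟨⟨(β / H (rv D x) (rv D a)) ^ q, pow_mem_F₀ D (D.F₀.div_mem hβ (H_rat D x a))⟩, ?_⟩
  simp only [rv_add, rv_smul, H_add_left, H_add_right D.hF, H_smul_left, H_smul_right, ha, h1, mul_zero, add_zero,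
    pow_qq D.hF]
  rw [← mul_pow, div_mul_cancel₀ _ hxa]
  linear_combination hβ'

theorem exists_partner {a : Idx → D.F₀} (ha : a ≠ 0) (haa : H (rv D a) (rv D a) = 0) :
    ∃ f, H (rv D f) (rv D f) = 0 ∧ H (rv D f) (rv D a) = 1 ∧ H (rv D a) (rv D f) = 1 := by
  obtain ⟨e, -, he⟩ := exists_dual D (a := a) (S := ⊥) (by simpa using ha)
  have he' : H (rv D e) (rv D a) = 1 := by rw [← H_conj D.hF, he, one_pow]
  obtain ⟨t, ht⟩ := add_iso D haa (x := e) (by rw [he']; exact one_ne_zero)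
  refine ⟨_, ht, ?_, ?_⟩ <;> simp [rv_add, rv_smul, H_add_left, H_add_right D.hF, H_smul_left, H_smul_right,
    haa, he, he']

theorem finrank_ker {k : ℕ} (L : (Idx → D.F₀) →ₗ[D.F₀] (Fin k → D.F₀)) :
    n ≤ Module.finrank D.F₀ (LinearMap.ker L) + k := by
  have h3 := LinearMap.finrank_range_add_finrank_ker L
  have h4 := Submodule.finrank_le (LinearMap.range L)
  rw [Module.finrank_fintype_fun_eq_card, Fintype.card_fin] at h4 h3
  omega

theorem exists_iso_in {S : Submodule D.F₀ (Idx → D.F₀)} (h2 : 2 ≤ Module.finrank D.F₀ S) :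
    ∃ x ∈ S, x ≠ 0 ∧ H (rv D x) (rv D x) = 0 := by
  obtain ⟨a, ha, ha0⟩ := Submodule.exists_mem_ne_zero_of_ne_bot (p := S) (fun h => by
    rw [h, finrank_bot] at h2; omega)
  by_cases haa : H (rv D a) (rv D a) = 0
  · exact ⟨a, ha, ha0, haa⟩
  obtain ⟨b, hb, hb0⟩ := Submodule.exists_mem_ne_zero_of_ne_bot (p := S ⊓ LinearMap.ker (form0 D a)) (fun h => by
    have h1 := Submodule.finrank_sup_add_finrank_inf_eq S (LinearMap.ker (form0 D a))
    have h2' := Submodule.finrank_le (S ⊔ LinearMap.ker (form0 D a))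
    have h3 := LinearMap.finrank_range_add_finrank_ker (form0 D a)
    have h4 := Submodule.finrank_le (LinearMap.range (form0 D a))
    rw [Module.finrank_self] at h4
    rw [Module.finrank_fintype_fun_eq_card, Fintype.card_fin] at h2' h3
    rw [h, finrank_bot] at h1
    omega)
  have hba : H (rv D b) (rv D a) = 0 := by rw [← form0_coe, LinearMap.mem_ker.1 hb.2]; rfl
  by_cases hbb : H (rv D b) (rv D b) = 0
  · exact ⟨b, hb.1, hb0, hbb⟩
  obtain ⟨t, ht, ht'⟩ := norm_rat D (d := -(H (rv D b) (rv D b) / H (rv D a) (rv D a)))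
    (neg_mem (D.F₀.div_mem (H_rat D b b) (H_rat D a a)))
    (by rw [← HermStd.qHom_apply D.hF, map_neg, map_div₀, HermStd.qHom_apply, HermStd.qHom_apply, H_conj D.hF,
      H_conj D.hF])
  refine ⟨b + (⟨t, ht⟩ : D.F₀) • a, S.add_mem hb.1 (S.smul_mem _ ha), fun e => ?_, ?_⟩
  · have e1 := congrArg (fun v => H (rv D v) (rv D a)) e
    simp only [rv_add, rv_smul, rv_zero, H_add_left, H_smul_left, hba, zero_add, H_zero_left] at e1
    rcases mul_eq_zero.1 e1 with e2 | e2
    · exact hbb (by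
        rw [e2, mul_zero, eq_comm, neg_eq_zero, div_eq_zero_iff] at ht'
        exact ht'.resolve_right haa)
    · exact haa e2
  · simp only [rv_add, rv_smul, H_add_left, H_add_right D.hF, H_smul_left, H_smul_right, hba,
      (H_eq_zero_comm D.hF).1 hba, mul_zero, add_zero, zero_add]
    field_simp at ht'
    linear_combination ht'

theorem iso_span {a : Idx → D.F₀} (haa : H (rv D a) (rv D a) = 0) {T : Submodule D.F₀ (Idx → D.F₀)}
    (hT : ∀ x, H (rv D x) (rv D x) = 0 → H (rv D x) (rv D a) = 0 → x ∈ T) {x : Idx → D.F₀}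
    (hxa : H (rv D x) (rv D a) = 0) : x ∈ T := by
  set K := LinearMap.ker (form0 D a)
  obtain ⟨C, hC⟩ := Submodule.exists_isCompl (Submodule.span D.F₀ ({a} : Set (Idx → D.F₀)))
  have hK : n ≤ Module.finrank D.F₀ K + 1 := by
    have h3 := LinearMap.finrank_range_add_finrank_ker (form0 D a)
    have h4 := Submodule.finrank_le (LinearMap.range (form0 D a))
    rw [Module.finrank_self] at h4
    rw [Module.finrank_fintype_fun_eq_card, Fintype.card_fin] at h3
    show n ≤ Module.finrank D.F₀ (LinearMap.ker (form0 D a)) + 1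
    omega
  have h2 : 2 ≤ Module.finrank D.F₀ ↥(K ⊓ C) := by
    have h1 := Submodule.finrank_sup_add_finrank_inf_eq K C
    have h2 := Submodule.finrank_le (K ⊔ C)
    have h3 := Submodule.finrank_add_eq_of_isCompl hC
    have h4 : Module.finrank D.F₀ (Submodule.span D.F₀ ({a} : Set (Idx → D.F₀))) ≤ 1 :=
      (finrank_span_le_card ({a} : Set (Idx → D.F₀))).trans (by simp)
    rw [Module.finrank_fintype_fun_eq_card, Fintype.card_fin] at h2 h3
    have := D.hn
    omega
  obtain ⟨e, he, he0, hee⟩ := exists_iso_in D h2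
  have hea : H (rv D e) (rv D a) = 0 := by rw [← form0_coe, LinearMap.mem_ker.1 he.1]; rfl
  have key : ∀ y, H (rv D y) (rv D a) = 0 → H (rv D y) (rv D e) ≠ 0 → y ∈ T := by
    intro y hya hye
    obtain ⟨t, ht⟩ := add_iso D hee hye
    have h1 := hT _ ht (by rw [rv_add, rv_smul, H_add_left, H_smul_left, hya, hea, mul_zero, add_zero])
    simpa using T.sub_mem h1 (T.smul_mem t (hT e hee hea))
  by_cases hxe : H (rv D x) (rv D e) = 0
  swap
  · exact key x hxa hxe
  obtain ⟨y, hy, hey⟩ := exists_dual D (a := e) (S := Submodule.span D.F₀ {a}) fun hm =>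
    he0 (Submodule.disjoint_def.1 hC.disjoint e hm he.2)
  have hya : H (rv D y) (rv D a) = 0 := (H_eq_zero_comm D.hF).1 (hy a (Submodule.mem_span_singleton_self a))
  have hye : H (rv D y) (rv D e) ≠ 0 := fun e0 => one_ne_zero (hey.symm.trans ((H_eq_zero_comm D.hF).1 e0))
  have h1 := key (x + y) (by rw [rv_add, H_add_left, hxa, hya, add_zero])
    (by rw [rv_add, H_add_left, hxe, zero_add]; exact hye)
  simpa using T.sub_mem h1 (key y hya hye)

theorem exists_iso_nonorth {v : Vec} (hv : v ≠ 0) :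
    ∃ a, a ≠ 0 ∧ H (rv D a) (rv D a) = 0 ∧ H v (rv D a) ≠ 0 := by
  obtain ⟨a, -, ha0, haa⟩ := exists_iso_in D (S := ⊤) (by
    rw [finrank_top, Module.finrank_fintype_fun_eq_card, Fintype.card_fin]; have := D.hn; omega)
  obtain ⟨f, hff, hfa, haf⟩ := exists_partner D ha0 haa
  by_contra hc
  push Not at hc
  refine hv (ext_rat D fun x => ?_)
  let T : Submodule D.F₀ (Idx → D.F₀) :=
    { carrier := {x | H v (rv D x) = 0}
      zero_mem' := by simp [rv_zero, H_zero_right D.hF]
      add_mem' := fun {x y} hx hy => by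
        show H v (rv D (x + y)) = 0
        rw [rv_add, H_add_right D.hF, hx, hy, add_zero]
      smul_mem' := fun t x hx => by
        show H v (rv D (t • x)) = 0
        rw [rv_smul, H_smul_right, hx, mul_zero] }
  have hTiso : ∀ y, H (rv D y) (rv D y) = 0 → y ∈ T := fun y hy => by
    rcases eq_or_ne y 0 with rfl | h0
    · exact T.zero_mem
    · exact hc y h0 hy
  have h1 := iso_span D haa (T := T) (fun y hy _ => hTiso y hy)
    (x := x - form0 D a x • f) (by rw [rv_sub, rv_smul, H_sub_left, H_smul_left, hfa, form0_coe, mul_one, sub_self])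
  have h2 := T.add_mem h1 (T.smul_mem (form0 D a x) (hTiso f hff))
  rw [sub_add_cancel] at h2
  exact h2

theorem exists_totally_iso : ∀ k : ℕ, 2 * k ≤ n → ∃ a : Fin k → Idx → D.F₀, LinearIndependent D.F₀ a ∧
    ∀ i j, H (rv D (a i)) (rv D (a j)) = 0 := by
  intro k
  induction k with
  | zero => exact fun _ => ⟨Fin.elim0, linearIndependent_empty_type, fun i => i.elim0⟩
  | succ k ih =>
    intro hk
    obtain ⟨a, hli, ha⟩ := ih (by omega)
    obtain ⟨C, hC⟩ := Submodule.exists_isCompl (Submodule.span D.F₀ (Set.range a))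
    let L : (Idx → D.F₀) →ₗ[D.F₀] (Fin k → D.F₀) := LinearMap.pi fun i => form0 D (a i)
    have h2 : 2 ≤ Module.finrank D.F₀ ↥(LinearMap.ker L ⊓ C) := by
      have h1 := Submodule.finrank_sup_add_finrank_inf_eq (LinearMap.ker L) C
      have h2 := Submodule.finrank_le (LinearMap.ker L ⊔ C)
      have h3 := Submodule.finrank_add_eq_of_isCompl hC
      have h4 := finrank_ker D L
      have h5 : Module.finrank D.F₀ (Submodule.span D.F₀ (Set.range a)) ≤ k :=
        (finrank_range_le_card a).trans_eq (Fintype.card_fin k)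
      rw [Module.finrank_fintype_fun_eq_card, Fintype.card_fin] at h2 h3
      have := D.hn
      omega
    obtain ⟨e, he, he0, hee⟩ := exists_iso_in D h2
    have hea : ∀ i, H (rv D e) (rv D (a i)) = 0 := fun i => by
      rw [← form0_coe, show form0 D (a i) e = 0 from congrFun (LinearMap.mem_ker.1 he.1) i]; rfl
    refine ⟨Fin.cons e a, linearIndependent_finCons.2 ⟨hli, fun hm =>
      he0 (Submodule.disjoint_def.1 hC.disjoint e hm he.2)⟩, fun i j => ?_⟩
    induction i using Fin.cases with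
    | zero => induction j using Fin.cases with
      | zero => simpa using hee
      | succ j => simpa using hea j
    | succ i => induction j using Fin.cases with
      | zero => simpa using (H_eq_zero_comm D.hF).1 (hea i)
      | succ j => simpa using ha i j

/-- the transvections with centre `v` and coefficient `c` lie in `M` -/
def InM (q : ℕ) (M : Subgroup GLn) (v : Vec) (c : F) : Prop :=
  ∀ g : GLn, (∀ x, (g : Matrix Idx Idx F) *ᵥ x = x + (c * Cfsg.hermForm n F q x v) • v) → g ∈ M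

/-- a Siegel element with direction `w` lies in `M` -/
def Sg (q : ℕ) (M : Subgroup GLn) (a w : Vec) : Prop :=
  Cfsg.hermForm n F q w a = 0 ∧ ∃ g ∈ M, ∃ β : F, ∀ x, (g : Matrix Idx Idx F) *ᵥ x =
    x + Cfsg.hermForm n F q x a • w + (-Cfsg.hermForm n F q x w + β * Cfsg.hermForm n F q x a) • a

variable {M : Subgroup (GL (Fin n) F)}

theorem inM_of {v : Vec} {c : F} {s : GLn} (hs : s ∈ M)
    (h : ∀ x, (s : Matrix Idx Idx F) *ᵥ x = x + (c * H x v) • v) : InM q M v c := fun g hg => by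
  rwa [show g = s from Max.gl_ext fun x => by rw [hg, h]]

theorem inM_zero {c : F} : InM q M (0 : Vec) c := inM_of (one_mem M) fun x => by simp

theorem inM_coeff_zero {v : Vec} : InM q M v 0 := inM_of (one_mem M) fun x => by simp

theorem inM_smul (hF : Fintype.card F = q ^ 2) {v : Vec} {c : F} (k : F) (h : InM q M v (c * (k ^ q * k))) :
    InM q M (k • v) c := fun g hg => h g fun x => by
  rw [hg, H_smul_right, smul_smul]
  congr 2
  ring

theorem exists_tvM {v : Vec} (hF : Fintype.card F = q ^ 2) (hv : H v v = 0) {c : F} (hc : c + c ^ q = 0)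
    (h : InM q M v c) : ∃ s ∈ M, ∀ x, (s : Matrix Idx Idx F) *ᵥ x = x + (c * H x v) • v := by
  obtain ⟨s, -, hs⟩ := Unitary.exists_tv hF hv hc
  exact ⟨s, h s hs, hs⟩

theorem inM_add {v : Vec} (hF : Fintype.card F = q ^ 2) (hv : H v v = 0) {c d : F} (hc : c + c ^ q = 0)
    (hd : d + d ^ q = 0) (h : InM q M v c) (h' : InM q M v d) : InM q M v (c + d) := by
  obtain ⟨s, hs, hsx⟩ := exists_tvM hF hv hc h
  obtain ⟨s', hs', hsx'⟩ := exists_tvM hF hv hd h'
  refine inM_of (mul_mem hs hs') fun x => ?_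
  simp only [Max.mulVec_mul_GL, hsx, hsx', H_add_left, H_smul_left, hv]
  module

theorem inM_neg {v : Vec} (hF : Fintype.card F = q ^ 2) (hv : H v v = 0) {c : F} (hc : c + c ^ q = 0)
    (h : InM q M v c) : InM q M v (-c) := by
  obtain ⟨s, hs, hsx⟩ := exists_tvM hF hv hc h
  refine inM_of (inv_mem hs) fun x => Max.mulVec_inj s ?_
  rw [Max.mulVec_inv_cancel]
  simp only [hsx, H_add_left, H_smul_left, hv]
  module

theorem inM_map (hF : Fintype.card F = q ^ 2) (hMK : M ≤ SUn) {g : GLn} (hg : g ∈ M) {v : Vec}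
    (hv : H v v = 0) {c : F} (hc : c + c ^ q = 0) (h : InM q M v c) :
    InM q M ((g : Matrix Idx Idx F) *ᵥ v) c := fun t ht => by
  obtain ⟨s, hs, hsx⟩ := exists_tvM hF hv hc h
  have e : g * s * g⁻¹ = t := by
    rw [mul_inv_eq_iff_eq_mul]
    refine Max.gl_ext fun x => ?_
    rw [Max.mulVec_mul_GL, Max.mulVec_mul_GL, hsx, ht, mulVec_add, mulVec_smul, Unitary.SUn_H (hMK hg)]
  exact e ▸ mul_mem (mul_mem hg hs) (inv_mem hg)

section siegel

variable (hF : Fintype.card F = q ^ 2) {a : Fin n → F} (haa : Cfsg.hermForm n F q a a = 0)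
include hF haa

theorem sg_zero : Sg q M a 0 := ⟨H_zero_left a, 1, one_mem M, 0, fun x => by simp [H_zero_right hF]⟩

theorem sg_add {w w' : Vec} (h : Sg q M a w) (h' : Sg q M a w') : Sg q M a (w + w') := by
  obtain ⟨hw, g, hg, β, hgx⟩ := h
  obtain ⟨hw', g', hg', β', hgx'⟩ := h'
  refine ⟨by rw [H_add_left, hw, hw', add_zero], g * g', mul_mem hg hg', β + β' - H w' w, fun x => ?_⟩
  simp only [Max.mulVec_mul_GL, hgx, hgx', H_add_left, H_smul_left, haa, hw', (H_eq_zero_comm hF).1 hw,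
    H_add_right hF]
  module

theorem sg_neg {w : Vec} (h : Sg q M a w) : Sg q M a (-w) := by
  obtain ⟨hw, g, hg, β, hgx⟩ := h
  refine ⟨by rw [← neg_one_smul F w, H_smul_left, hw, mul_zero], g⁻¹, inv_mem hg, -β - H w w, fun x =>
    Max.mulVec_inj g ?_⟩
  rw [Max.mulVec_inv_cancel]
  have e : H x (-w) = -H x w := by
    exact H_neg_right hF x w
  simp only [hgx, e, H_add_left, H_smul_left, haa, (H_eq_zero_comm hF).1 hw,
    show ∀ y, H (-w) y = -H w y from fun y => by rw [← neg_one_smul F w, H_smul_left, neg_one_mul]]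
  simp only [hw]
  module

/-- two root elements give a Siegel element -/
theorem sg_of_inM {w : Vec} {k c : F} (hww : H w w = 0) (hwa : H w a = 0) (hc : c + c ^ q = 0)
    (h : InM q M (w + k • a) c) (h' : InM q M w (-c)) : Sg q M a ((c * k ^ q) • w) := by
  have haw : H a w = 0 := (H_eq_zero_comm hF).1 hwa
  obtain ⟨s, hs, hsx⟩ := exists_tvM hF (v := w + k • a) (by
    simp [H_add_left, H_add_right hF, H_smul_left, H_smul_right, hww, hwa, haw, haa]) hc h
  have hc' : (-c) + (-c) ^ q = 0 := by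
    rw [← HermStd.qHom_apply hF, map_neg, HermStd.qHom_apply]; linear_combination -hc
  obtain ⟨s', hs', hsx'⟩ := exists_tvM hF hww hc' h'
  refine ⟨by rw [H_smul_left, hwa, mul_zero], s * s', mul_mem hs hs', c * (k ^ q * k), fun x => ?_⟩
  rw [Max.mulVec_mul_GL, hsx', hsx]
  simp only [H_add_left, H_add_right hF, H_smul_left, H_smul_right, hww, hwa, haw, haa, mul_pow, pow_qq hF,
    eq_neg_of_add_eq_zero_right hc]
  module

theorem sg_comm {w w' : Vec} (h : Sg q M a w) (h' : Sg q M a w') :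
    InM q M a (H w w' - H w' w) := by
  obtain ⟨hw, g, hg, β, hgx⟩ := h
  obtain ⟨hw', g', hg', β', hgx'⟩ := h'
  refine inM_of (mul_mem (mul_mem hg hg') (inv_mem (mul_mem hg' hg))) fun x => ?_
  obtain ⟨y, rfl⟩ : ∃ y, ((g' * g : GLn) : Matrix Idx Idx F) *ᵥ y = x :=
    ⟨_, Max.mulVec_inv_cancel (g' * g) x⟩
  rw [Max.mulVec_mul_GL, Max.inv_mulVec_cancel]
  simp only [Max.mulVec_mul_GL, hgx, hgx', H_add_left, H_smul_left, haa, hw, hw',
    (H_eq_zero_comm hF).1 hw, (H_eq_zero_comm hF).1 hw']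
  module

theorem sg_conj (hMK : M ≤ SUn) {w : Vec} (h : Sg q M a w) {s : GLn} (hs : s ∈ M)
    (hsa : (s : Matrix Idx Idx F) *ᵥ a = a) : Sg q M a ((s : Matrix Idx Idx F) *ᵥ w) := by
  obtain ⟨hw, g, hg, β, hgx⟩ := h
  have hH : ∀ y z, H ((s : Matrix Idx Idx F) *ᵥ y) ((s : Matrix Idx Idx F) *ᵥ z) = H y z :=
    Unitary.SUn_H (hMK hs)
  have hHa : ∀ y, H ((s : Matrix Idx Idx F) *ᵥ y) a = H y a := fun y => by
    conv_lhs => rw [← hsa]
    exact hH y a
  refine ⟨by rw [hHa, hw], s * g * s⁻¹, mul_mem (mul_mem hs hg) (inv_mem hs), β, fun x => ?_⟩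
  obtain ⟨y, rfl⟩ : ∃ y, (s : Matrix Idx Idx F) *ᵥ y = x := ⟨_, Max.mulVec_inv_cancel s x⟩
  rw [Max.mulVec_mul_GL, Max.inv_mulVec_cancel, Max.mulVec_mul_GL, hgx, mulVec_add, mulVec_add, mulVec_smul,
    mulVec_smul, hsa, hHa, hH]

end siegel

/-- an irrational root element with rational centre -/
def Irrational (M : Subgroup GLn) : Prop :=
  ∃ (a : Idx → D.F₀) (c : F), a ≠ 0 ∧ H (rv D a) (rv D a) = 0 ∧ c + c ^ q = 0 ∧ c ∉ D.F₀ ∧
    InM q M (rv D a) c

/-- the root elements with rational centre and coefficient -/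
def RatRoots (M : Subgroup GLn) : Prop :=
  ∀ (a : Idx → D.F₀) (c : F), H (rv D a) (rv D a) = 0 → c ∈ D.F₀ → c + c ^ q = 0 → InM q M (rv D a) c

variable {D}

theorem sg_rat (hR : RatRoots D M) {a w : Idx → D.F₀} (haa : H (rv D a) (rv D a) = 0)
    (hww : H (rv D w) (rv D w) = 0) (hwa : H (rv D w) (rv D a) = 0) {c : F} (hc : c ∈ D.F₀) (hcs : c + c ^ q = 0) :
    Sg q M (rv D a) (c • rv D w) := by
  have := sg_of_inM D.hF haa (k := 1) hww hwa hcs (by
    rw [one_smul, ← rv_add]
    refine hR _ c ?_ hc hcs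
    simp [rv_add, H_add_left, H_add_right D.hF, hww, hwa, haa, (H_eq_zero_comm D.hF).1 hwa])
    (hR w (-c) hww (neg_mem hc) (by
      rw [← HermStd.qHom_apply D.hF, map_neg, HermStd.qHom_apply]; linear_combination -hcs))
  rwa [one_pow, mul_one] at this

/-- the criterion on Siegel elements -/
theorem irrational_of_sg (hR : RatRoots D M) {a x : Idx → D.F₀} (ha : a ≠ 0)
    (haa : H (rv D a) (rv D a) = 0) {W : Vec} (hW : Sg q M (rv D a) W) (hxx : H (rv D x) (rv D x) = 0)
    (hxa : H (rv D x) (rv D a) = 0) (hx : H (rv D x) W ∉ D.F₀) : Irrational D M := by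
  obtain ⟨θ, hθ, hne⟩ := exists_theta D
  obtain ⟨ζ, hζ, hζ0, hζs⟩ := exists_skew D
  by_contra hno
  have key : ∀ z : D.F₀, ((z : F) * ζ) * H (rv D x) W - (((z : F) * ζ) * H (rv D x) W) ^ q ∈ D.F₀ := by
    intro z
    by_contra hz
    refine hno ⟨a, _, ha, haa, ?_, hz, ?_⟩
    · rw [← HermStd.qHom_apply D.hF, ← HermStd.qHom_apply D.hF, map_sub, HermStd.qHom_qHom]; ring
    · have hS : Sg q M (rv D a) (ζ • rv D (z • x)) := sg_rat hR haa (by
        rw [rv_smul, H_smul_left, H_smul_right, hxx, mul_zero, mul_zero])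
        (by rw [rv_smul, H_smul_left, hxa, mul_zero]) hζ hζs
      have := sg_comm D.hF haa hS hW
      rw [← H_conj D.hF (ζ • rv D (z • x)) W] at this
      simp only [rv_smul, H_smul_left] at this
      rwa [← mul_assoc, mul_comm ζ (z : F)] at this
  have h1 := key ⟨ζ⁻¹, inv_mem hζ⟩
  have h2 := key ⟨θ * ζ⁻¹, mul_mem hθ (inv_mem hζ)⟩
  simp only [mul_assoc, inv_mul_cancel₀ hζ0, one_mul] at h1 h2
  simp only [mul_one, mul_pow] at h2
  refine hx ?_
  have e : H (rv D x) W = ((θ * H (rv D x) W - θ ^ q * H (rv D x) W ^ q) -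
      θ ^ q * (H (rv D x) W - H (rv D x) W ^ q)) / (θ - θ ^ q) := by
    rw [eq_div_iff (sub_ne_zero.2 hne.symm)]; ring
  rw [e]
  exact D.F₀.div_mem (sub_mem h2 (mul_mem (pow_mem_F₀ D hθ) h1)) (sub_mem hθ (pow_mem_F₀ D hθ))

/-- an irrational centre orthogonal to a rational one -/
theorem irrational_of_dep (hMK : M ≤ SUn) (hR : RatRoots D M) {u : Vec} (huu : H u u = 0)
    (hu : ∀ c ∈ D.F₀, c + c ^ q = 0 → InM q M u c) (hirr : ∀ (k : F) x, u ≠ k • rv D x)
    {a : Idx → D.F₀} (ha : a ≠ 0) (haa : H (rv D a) (rv D a) = 0) (hua : H u (rv D a) = 0) :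
    Irrational D M := by
  obtain ⟨ζ, hζ, hζ0, hζs⟩ := exists_skew D
  have hau : H (rv D a) u = 0 := (H_eq_zero_comm D.hF).1 hua
  by_cases hgood : ∃ x w, H (rv D x) (rv D x) = 0 ∧ H (rv D x) (rv D a) = 0 ∧ H (rv D w) (rv D w) = 0 ∧
      H (rv D w) (rv D a) = 0 ∧ H (rv D x) u * H (rv D w) u ^ q ∉ D.F₀
  · obtain ⟨x, w, hxx, hxa, hww, hwa, hxw⟩ := hgood
    obtain ⟨s, hs, hsx⟩ := exists_tvM D.hF huu hζs (hu ζ hζ hζs)
    have hsa : (s : Matrix Idx Idx F) *ᵥ rv D a = rv D a := by rw [hsx, hau, mul_zero, zero_smul, add_zero]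
    have h1 := sg_rat hR haa hww hwa hζ hζs
    have h2 := sg_add D.hF haa (sg_conj D.hF haa hMK h1 hs hsa) (sg_neg D.hF haa h1)
    rw [hsx, add_neg_cancel_comm] at h2
    refine irrational_of_sg hR ha haa h2 hxx hxa fun hm => hxw ?_
    rw [H_smul_right, H_smul_left, mul_pow, mul_pow] at hm
    have hne : ζ ^ q * ζ ^ q ≠ 0 := mul_ne_zero (pow_ne_zero _ hζ0) (pow_ne_zero _ hζ0)
    have e : H (rv D x) u * H (rv D w) u ^ q =
        ζ ^ q * (ζ ^ q * H (rv D w) u ^ q) * H (rv D x) u / (ζ ^ q * ζ ^ q) := by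
      rw [eq_div_iff hne]; ring
    rw [e]
    exact D.F₀.div_mem hm (mul_mem (pow_mem_F₀ D hζ) (pow_mem_F₀ D hζ))
  push Not at hgood
  -- the functional is semirational
  obtain ⟨b, -, hba, hab⟩ := exists_partner D ha haa
  obtain ⟨w₀, hw₀, hw₀a, hw₀u⟩ : ∃ w, H (rv D w) (rv D w) = 0 ∧ H (rv D w) (rv D a) = 0 ∧ H (rv D w) u ≠ 0 := by
    by_contra hc
    push Not at hc
    let T : Submodule D.F₀ (Idx → D.F₀) :=
      { carrier := {x | H (rv D x) u = 0}
        zero_mem' := by simp [rv_zero, H_zero_left]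
        add_mem' := fun {x y} hx hy => by
          show H (rv D (x + y)) u = 0
          rw [rv_add, H_add_left, hx, hy, add_zero]
        smul_mem' := fun t x hx => by
          show H (rv D (t • x)) u = 0
          rw [rv_smul, H_smul_left, hx, mul_zero] }
    have hT : ∀ x, H (rv D x) (rv D a) = 0 → H (rv D x) u = 0 := fun x hx =>
      iso_span D haa (T := T) (fun y h1 h2 => hc y h1 h2) hx
    refine hirr ((H (rv D b) u) ^ q) a (sub_eq_zero.1 (ext_rat' D fun x => ?_))
    have h0 := hT (x - form0 D a x • b) (by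
      rw [rv_sub, rv_smul, H_sub_left, H_smul_left, hba, form0_coe, mul_one, sub_self])
    rw [rv_sub, rv_smul, H_sub_left, H_smul_left, form0_coe] at h0
    rw [H_sub_right D.hF, H_smul_right, pow_qq D.hF]
    linear_combination h0
  set μ := H (rv D w₀) u with hμ
  let T : Submodule D.F₀ (Idx → D.F₀) :=
    { carrier := {x | H (rv D x) u / μ ∈ D.F₀}
      zero_mem' := by simp [rv_zero, H_zero_left]
      add_mem' := fun {x y} hx hy => by
        show H (rv D (x + y)) u / μ ∈ D.F₀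
        rw [rv_add, H_add_left, add_div]; exact add_mem hx hy
      smul_mem' := fun t x hx => by
        show H (rv D (t • x)) u / μ ∈ D.F₀
        rw [rv_smul, H_smul_left, mul_div_assoc]; exact mul_mem t.2 hx }
  have hμN : μ * μ ^ q ∈ D.F₀ := hgood w₀ w₀ hw₀ hw₀a hw₀ hw₀a
  have hT : ∀ x, H (rv D x) (rv D a) = 0 → x ∈ T := fun x hx =>
    iso_span D haa (T := T) (fun y h1 h2 => by
      show H (rv D y) u / μ ∈ D.F₀
      rw [← mul_div_mul_right _ μ (pow_ne_zero q hw₀u)]
      exact D.F₀.div_mem (hgood y w₀ h1 h2 hw₀ hw₀a) hμN) hx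
  have hproj : ∀ x, H (rv D (x - form0 D a x • b)) (rv D a) = 0 := fun x => by
    rw [rv_sub, rv_smul, H_sub_left, H_smul_left, hba, form0_coe, mul_one, sub_self]
  let f : (Idx → D.F₀) →ₗ[D.F₀] D.F₀ :=
    { toFun := fun x => ⟨H (rv D (x - form0 D a x • b)) u / μ, hT _ (hproj x)⟩
      map_add' := fun x y => Subtype.ext (by
        show _ / μ = _ / μ + _ / μ
        simp only [rv_sub, rv_smul, rv_add, map_add, Subfield.coe_add, H_sub_left, H_smul_left, H_add_left]
        ring)
      map_smul' := fun t x => Subtype.ext (by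
        show _ / μ = (t : F) * (_ / μ)
        simp only [rv_sub, rv_smul, map_smul, smul_eq_mul, Subfield.coe_mul, H_sub_left, H_smul_left]
        ring) }
  obtain ⟨d, hd⟩ := rep D f
  have hda : H (rv D d) (rv D a) = 0 := (H_eq_zero_comm D.hF).1 (by
    rw [hd]
    show H (rv D (a - form0 D a a • b)) u / μ = 0
    rw [rv_sub, rv_smul, H_sub_left, H_smul_left, hau, form0_coe, haa, zero_mul, sub_zero, zero_div])
  have had : H (rv D a) (rv D d) = 0 := (H_eq_zero_comm D.hF).1 hda
  set k := (H (rv D b) u - μ * H (rv D b) (rv D d)) ^ q with hk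
  have hu_eq : u = μ ^ q • rv D d + k • rv D a := sub_eq_zero.1 (ext_rat' D fun x => by
    have h1 : H (rv D x) (rv D d) = (H (rv D x) u - H (rv D x) (rv D a) * H (rv D b) u) / μ := by
      rw [hd]
      show H (rv D (x - form0 D a x • b)) u / μ = _
      rw [rv_sub, rv_smul, H_sub_left, H_smul_left, form0_coe]
    have h2 : H (rv D b) (rv D d) = 0 := by
      rw [hd]
      show H (rv D (b - form0 D a b • b)) u / μ = 0
      rw [show form0 D a b = 1 from Subtype.ext hba, one_smul, sub_self, rv_zero, H_zero_left, zero_div]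
    rw [H_sub_right D.hF, H_add_right D.hF, H_smul_right, H_smul_right, pow_qq D.hF, hk, pow_qq D.hF, h1, h2,
      mul_div_cancel₀ _ hw₀u]
    ring)
  have hdd : H (rv D d) (rv D d) = 0 := by
    have h := huu
    rw [hu_eq] at h
    simp only [H_add_left, H_add_right D.hF, H_smul_left, H_smul_right, haa, hda, had, mul_zero, add_zero,
      pow_qq D.hF] at h
    simpa [hw₀u] using h
  set k' := k / μ ^ q with hk'
  have hu' : u = μ ^ q • (rv D d + k' • rv D a) := by
    rw [smul_add, smul_smul, hk', mul_div_cancel₀ _ (pow_ne_zero _ hw₀u), ← hu_eq]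
  have hk'0 : k' ∉ D.F₀ := fun hm => hirr (μ ^ q) (d + (⟨k', hm⟩ : D.F₀) • a) (by rw [rv_add, rv_smul]; exact hu')
  have hRT : ∀ c ∈ D.F₀, c + c ^ q = 0 → InM q M (rv D d + k' • rv D a) c := by
    intro c hc hcs g hg
    have hc' : c / (μ * μ ^ q) + (c / (μ * μ ^ q)) ^ q = 0 := by
      rw [div_pow, mul_pow, pow_qq D.hF, eq_neg_of_add_eq_zero_right hcs, mul_comm (μ ^ q)]; ring
    refine hu _ (D.F₀.div_mem hc hμN) hc' g fun x => ?_
    rw [hg, hu', H_smul_right, smul_smul, pow_qq D.hF]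
    congr 2
    field_simp
  have hS := sg_of_inM D.hF haa hdd hda hζs (hRT ζ hζ hζs) (hR d (-ζ) hdd (neg_mem hζ) (by
    rw [← HermStd.qHom_apply D.hF, map_neg, HermStd.qHom_apply]; linear_combination -hζs))
  obtain ⟨x, hxx, hxa, hxd⟩ : ∃ x, H (rv D x) (rv D x) = 0 ∧ H (rv D x) (rv D a) = 0 ∧ H (rv D x) (rv D d) ≠ 0 := by
    refine ⟨w₀, hw₀, hw₀a, fun e => hw₀u ?_⟩
    rw [hμ, hu_eq, H_add_right D.hF, H_smul_right, H_smul_right, e, hw₀a, mul_zero, mul_zero, add_zero]
  refine irrational_of_sg hR ha haa hS hxx hxa fun hm => hk'0 ?_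
  rw [H_smul_right, mul_pow, pow_qq D.hF] at hm
  have hne : ζ ^ q * H (rv D x) (rv D d) ≠ 0 := mul_ne_zero (pow_ne_zero _ hζ0) hxd
  rw [show k' = ζ ^ q * k' * H (rv D x) (rv D d) / (ζ ^ q * H (rv D x) (rv D d)) by
    rw [eq_div_iff hne]; ring]
  exact D.F₀.div_mem hm (mul_mem (pow_mem_F₀ D hζ) (H_rat D x d))

set_option maxHeartbeats 4000000 in
/-- an irrational centre gives an irrational root element -/
theorem irrational_of_centre (hMK : M ≤ SUn) (hR : RatRoots D M) {u : Vec} (huu : H u u = 0)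
    (hu : ∀ c ∈ D.F₀, c + c ^ q = 0 → InM q M u c) (hirr : ∀ (k : F) x, u ≠ k • rv D x) :
    Irrational D M := by
  classical
  by_contra hno
  have hdep : ∀ {v : Vec}, H v v = 0 → (∀ c ∈ D.F₀, c + c ^ q = 0 → InM q M v c) →
      ∀ a : Idx → D.F₀, a ≠ 0 → H (rv D a) (rv D a) = 0 → H v (rv D a) = 0 → ∃ (k : F) (x : Idx → D.F₀), v = k • rv D x := by
    intro v hv hv' a ha haa hva
    by_contra hc
    push Not at hc
    exact hno (irrational_of_dep hMK hR hv hv' hc ha haa hva)
  have hnz : ∀ a, a ≠ 0 → H (rv D a) (rv D a) = 0 → H (rv D a) u ≠ 0 := fun a ha haa e => by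
    obtain ⟨k, x, hx⟩ := hdep huu hu a ha haa ((H_eq_zero_comm D.hF).1 e)
    exact hirr k x hx
  obtain ⟨θ, hθ, hθne⟩ := exists_theta D
  obtain ⟨ζ, hζ, hζ0, hζs⟩ := exists_skew D
  obtain ⟨e, hli, he⟩ := exists_totally_iso D 2 D.hn
  have hiso : ∀ c : Fin 2 → D.F₀, ∀ c' : Fin 2 → D.F₀,
      H (rv D (∑ i, c i • e i)) (rv D (∑ i, c' i • e i)) = 0 := fun c c' => by
    simp only [Fin.sum_univ_two, rv_add, rv_smul, H_add_left, H_add_right D.hF, H_smul_left, H_smul_right, he]
    ring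
  have hcomb : ∀ x ∈ Submodule.span D.F₀ (Set.range e), ∀ y ∈ Submodule.span D.F₀ (Set.range e),
      H (rv D x) (rv D y) = 0 := by
    intro x hx y hy
    obtain ⟨c, rfl⟩ := Submodule.mem_span_range_iff_exists_fun _ |>.1 hx
    obtain ⟨c', rfl⟩ := Submodule.mem_span_range_iff_exists_fun _ |>.1 hy
    exact hiso c c'
  set a := e 0 with haDef
  have ha : a ≠ 0 := hli.ne_zero 0
  have haa : H (rv D a) (rv D a) = 0 := he 0 0
  set s := H (rv D a) u with hs
  have hs0 : s ≠ 0 := hnz a ha haa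
  -- a second vector with independent norm
  obtain ⟨z₁, hz₁⟩ : ∃ z : D.F₀, H (rv D (e 1 + z • a)) u ^ q * H (rv D (e 1 + z • a)) u / (s ^ q * s) ∉ D.F₀ := by
    by_contra hc
    push Not at hc
    set t := H (rv D (e 1)) u / s with ht
    have hN : ∀ z : D.F₀, (t + z) ^ q * (t + z) ∈ D.F₀ := fun z => by
      have := hc z
      rw [rv_add, rv_smul, H_add_left, H_smul_left, ← hs] at this
      convert this using 1
      rw [show t + (z : F) = (H (rv D (e 1)) u + (z : F) * s) / s by rw [ht, add_div, mul_div_cancel_right₀ _ hs0],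
        div_pow, div_mul_div_comm]
    have h0 : t ^ q * t ∈ D.F₀ := by simpa using hN 0
    have hlin : ∀ z : D.F₀, (z : F) ^ q * t + (z : F) * t ^ q ∈ D.F₀ := fun z => by
      have h1 := hN z
      rw [← HermStd.qHom_apply D.hF, map_add, HermStd.qHom_apply, HermStd.qHom_apply] at h1
      have h2 := sub_mem (sub_mem h1 h0) (mul_mem (pow_mem_F₀ D z.2) z.2)
      convert h2 using 1
      ring
    have ht' : t ∈ D.F₀ := by
      have h1 := hlin 1
      have h2 := hlin ⟨θ, hθ⟩
      simp only [OneMemClass.coe_one, one_pow, one_mul] at h1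
      rw [show t = ((θ ^ q * t + θ * t ^ q) - θ * (t + t ^ q)) / (θ ^ q - θ) by
        rw [eq_div_iff (sub_ne_zero.2 hθne)]; ring]
      exact D.F₀.div_mem (sub_mem h2 (mul_mem hθ h1)) (sub_mem (pow_mem_F₀ D hθ) hθ)
    have hne : e 1 - (⟨t, ht'⟩ : D.F₀) • a ≠ 0 := fun h => by
      have := Fintype.linearIndependent_iff.1 hli (![-⟨t, ht'⟩, 1]) (by
        rw [Fin.sum_univ_two]; simpa [← haDef, sub_eq_neg_add] using h) 1
      simp at this
    refine hnz _ hne (hcomb _ ?_ _ ?_) ?_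
    · exact Submodule.sub_mem _ (Submodule.subset_span ⟨1, rfl⟩) (Submodule.smul_mem _ _ (Submodule.subset_span ⟨0, rfl⟩))
    · exact Submodule.sub_mem _ (Submodule.subset_span ⟨1, rfl⟩) (Submodule.smul_mem _ _ (Submodule.subset_span ⟨0, rfl⟩))
    · rw [rv_sub, rv_smul, H_sub_left, H_smul_left, ← hs]
      show H (rv D (e 1)) u - t * s = 0
      rw [ht, div_mul_cancel₀ _ hs0, sub_self]
  set b := e 1 + z₁ • a with hbDef
  have hbX : b ∈ Submodule.span D.F₀ (Set.range e) :=
    Submodule.add_mem _ (Submodule.subset_span ⟨1, rfl⟩) (Submodule.smul_mem _ _ (Submodule.subset_span ⟨0, rfl⟩))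
  have haX : a ∈ Submodule.span D.F₀ (Set.range e) := Submodule.subset_span ⟨0, rfl⟩
  set tb := H (rv D b) u with htb
  have hab : H (rv D a) (rv D b) = 0 := hcomb a haX b hbX
  have hba : H (rv D b) (rv D a) = 0 := hcomb b hbX a haX
  have hbb : H (rv D b) (rv D b) = 0 := hcomb b hbX b hbX
  set z := tb • rv D a - s • rv D b with hz
  have hzu : H z u = 0 := by rw [hz, H_sub_left, H_smul_left, H_smul_left, ← hs, ← htb]; ring
  have hza : H z (rv D a) = 0 := by rw [hz, H_sub_left, H_smul_left, H_smul_left, haa, hba]; ring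
  have hzb : H z (rv D b) = 0 := by rw [hz, H_sub_left, H_smul_left, H_smul_left, hab, hbb]; ring
  have hua : H u (rv D a) = s ^ q := (H_conj D.hF _ _).symm
  have hub : H u (rv D b) = tb ^ q := (H_conj D.hF _ _).symm
  let G : Subgroup (SpecialLinearGroup (Fin 2) F) :=
    { carrier := {X | ∃ g ∈ M, ∃ ζ₁ ζ₂ : F,
        (g : Matrix Idx Idx F) *ᵥ rv D a = X 0 0 • rv D a + (X 1 0 * s) • u + ζ₁ • z ∧
        (g : Matrix Idx Idx F) *ᵥ u = (X 0 1 / s) • rv D a + X 1 1 • u + ζ₂ • z ∧
        (g : Matrix Idx Idx F) *ᵥ z = z ∧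
        ∀ x, ∃ α β γ : F, (g : Matrix Idx Idx F) *ᵥ x = x + α • rv D a + β • rv D b + γ • u}
      one_mem' := ⟨1, one_mem M, 0, 0, by simp, by simp, by simp, fun x => ⟨0, 0, 0, by simp⟩⟩
      mul_mem' := by
        rintro X Y ⟨g, hg, c1, c2, e1, e2, e3, e4⟩ ⟨k, hk, d1, d2, f1, f2, f3, f4⟩
        refine ⟨g * k, mul_mem hg hk, d1 + Y 0 0 * c1 + Y 1 0 * s * c2, d2 + Y 0 1 / s * c1 + Y 1 1 * c2,
          ?_, ?_, ?_, fun x => ?_⟩
        · rw [show ((X * Y : SpecialLinearGroup (Fin 2) F) : Matrix (Fin 2) (Fin 2) F) =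
            (X : Matrix (Fin 2) (Fin 2) F) * (Y : Matrix (Fin 2) (Fin 2) F) from rfl]
          simp only [Max.mulVec_mul_GL, f1, mulVec_add, mulVec_smul, e1, e2, e3, Matrix.mul_apply, Fin.sum_univ_two]
          match_scalars <;> field_simp <;> ring
        · rw [show ((X * Y : SpecialLinearGroup (Fin 2) F) : Matrix (Fin 2) (Fin 2) F) =
            (X : Matrix (Fin 2) (Fin 2) F) * (Y : Matrix (Fin 2) (Fin 2) F) from rfl]
          simp only [Max.mulVec_mul_GL, f2, mulVec_add, mulVec_smul, e1, e2, e3, Matrix.mul_apply, Fin.sum_univ_two]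
          match_scalars <;> field_simp <;> ring
        · rw [Max.mulVec_mul_GL, f3, e3]
        · obtain ⟨α, β, γ, hk'⟩ := f4 x
          obtain ⟨α₁, β₁, γ₁, h1⟩ := e4 x
          obtain ⟨α₂, β₂, γ₂, h2⟩ := e4 (rv D a)
          obtain ⟨α₃, β₃, γ₃, h3⟩ := e4 (rv D b)
          obtain ⟨α₄, β₄, γ₄, h4⟩ := e4 u
          refine ⟨α₁ + α + α * α₂ + β * α₃ + γ * α₄, β₁ + β + α * β₂ + β * β₃ + γ * β₄,
            γ₁ + γ + α * γ₂ + β * γ₃ + γ * γ₄, ?_⟩
          simp only [Max.mulVec_mul_GL, hk', mulVec_add, mulVec_smul, h1, h2, h3, h4]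
          module
      inv_mem' := by
        rintro X ⟨g, hg, c1, c2, e1, e2, e3, e4⟩
        have hd := X.det_coe
        rw [Matrix.det_fin_two] at hd
        have ei : ((X⁻¹ : SpecialLinearGroup (Fin 2) F) : Matrix (Fin 2) (Fin 2) F) =
            !![X 1 1, -X 0 1; -X 1 0, X 0 0] := by
          show (X : Matrix (Fin 2) (Fin 2) F).adjugate = _
          exact Matrix.adjugate_fin_two _
        refine ⟨g⁻¹, inv_mem hg, -(X 1 1 * c1 - X 1 0 * s * c2), -(-(X 0 1 / s) * c1 + X 0 0 * c2),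
          Max.mulVec_inj g ?_, Max.mulVec_inj g ?_, Max.mulVec_inj g ?_, fun x => ?_⟩
        · rw [ei]
          simp [Max.mulVec_inv_cancel, mulVec_add, mulVec_smul, mulVec_neg, mulVec_sub, e1, e2, e3]
          match_scalars <;> field_simp <;> first | ring1 | linear_combination hd | linear_combination -hd
        · rw [ei]
          simp [Max.mulVec_inv_cancel, mulVec_add, mulVec_smul, mulVec_neg, mulVec_sub, e1, e2, e3]
          match_scalars <;> field_simp <;> first | ring1 | linear_combination hd | linear_combination -hd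
        · rw [Max.mulVec_inv_cancel, e3]
        · obtain ⟨α, β, γ, h1⟩ := e4 (((g⁻¹ : GLn) : Matrix Idx Idx F) *ᵥ x)
          rw [Max.mulVec_inv_cancel] at h1
          refine ⟨-α, -β, -γ, ?_⟩
          conv_rhs => rw [h1]
          module }
  have hga : Classical.GL2.uniSL (ζ * (s ^ q * s)) ∈ G := by
    obtain ⟨g, hg, hgx⟩ := exists_tvM D.hF haa hζs (hR a ζ haa hζ hζs)
    refine ⟨g, hg, 0, 0, ?_, ?_, ?_, fun x => ⟨ζ * H x (rv D a), 0, 0, ?_⟩⟩
    · simp [hgx, haa, Classical.GL2.coe_uniSL]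
    · rw [hgx, hua, Classical.GL2.coe_uniSL]
      simp
      match_scalars <;> field_simp
    · rw [hgx, hza]; simp
    · rw [hgx]; module
  have hgb : Classical.GL2.uniSL (ζ * (tb ^ q * tb)) ∈ G := by
    obtain ⟨g, hg, hgx⟩ := exists_tvM D.hF hbb hζs (hR b ζ hbb hζ hζs)
    refine ⟨g, hg, 0, -(ζ * tb ^ q / s), ?_, ?_, ?_, fun x => ⟨0, ζ * H x (rv D b), 0, ?_⟩⟩
    · simp [hgx, hab, Classical.GL2.coe_uniSL]
    · rw [hgx, hub, hz, Classical.GL2.coe_uniSL]
      simp
      match_scalars <;> field_simp <;> ring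
    · rw [hgx, hzb]; simp
    · rw [hgx]; module
  have hgu : Classical.GL2.lowSL ζ ∈ G := by
    obtain ⟨g, hg, hgx⟩ := exists_tvM D.hF huu hζs (hu ζ hζ hζs)
    refine ⟨g, hg, 0, 0, ?_, ?_, ?_, fun x => ⟨0, 0, ζ * H x u, ?_⟩⟩
    · simp [hgx, ← hs, Classical.GL2.coe_lowSL]
    · simp [hgx, huu, Classical.GL2.coe_lowSL]
    · rw [hgx, hzu]; simp
    · simp [hgx]
  let A : AddSubgroup F :=
    { carrier := {x | Classical.GL2.uniSL x ∈ G}
      zero_mem' := by show _ ∈ G; rw [Classical.GL2.uniSL_zero]; exact one_mem G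
      add_mem' := fun {x y} hx hy => by
        show _ ∈ G; rw [← Classical.GL2.uniSL_mul]; exact mul_mem hx hy
      neg_mem' := fun {x} hx => by
        show _ ∈ G; rw [← Classical.GL2.uniSL_inv]; exact inv_mem hx }
  have hsN : ζ * (s ^ q * s) ≠ 0 := mul_ne_zero hζ0 (mul_ne_zero (pow_ne_zero _ hs0) hs0)
  set t := tb / s with ht
  have htF : t ∉ D.F₀ := fun hm => hz₁ (by
    show tb ^ q * tb / (s ^ q * s) ∈ D.F₀
    rw [← div_mul_div_comm, ← div_pow, ← ht]
    exact mul_mem (pow_mem_F₀ D hm) hm)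
  have hr3 : 3 ≤ Module.finrank D.F₀ F ∧ (Module.finrank D.F₀ F).Prime := by
    have := Module.card_eq_pow_finrank (K := D.F₀) (V := F)
    rw [D.hcard, Nat.card_eq_fintype_card] at this
    rw [← Nat.pow_right_injective Fintype.one_lt_card this]
    refine ⟨?_, D.hr⟩
    rcases D.hro with ⟨m, hm⟩
    have := D.hr.two_le
    omega
  have hbne : b ∉ Submodule.span D.F₀ {a} := fun hm => by
    obtain ⟨p, hp⟩ := Submodule.mem_span_singleton.1 hm
    rw [hbDef] at hp
    have := Fintype.linearIndependent_iff.1 hli ![p - z₁, -1] (by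
      rw [Fin.sum_univ_two]
      simp only [Matrix.cons_val_zero, Matrix.cons_val_one, ← haDef, sub_smul, hp]
      module) 1
    simp at this
  have hane : a ∉ Submodule.span D.F₀ {b} := fun hm => by
    obtain ⟨p, hp⟩ := Submodule.mem_span_singleton.1 hm
    refine hbne (Submodule.mem_span_singleton.2 ⟨p⁻¹, ?_⟩)
    have hp0 : p ≠ 0 := fun h0 => ha (by rw [← hp, h0, zero_smul])
    rw [← hp, smul_smul, inv_mul_cancel₀ hp0, one_smul]
  obtain ⟨-, X, hXG, hX10, hX11⟩ := DicksonSwap.exists_torus G A (fun x hx => hx)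
    (a₁ := ζ * (s ^ q * s)) (a₂ := ζ * (tb ^ q * tb)) hga hgb hsN
    (fun hmem => by
      obtain ⟨j, hj⟩ := AddSubgroup.mem_zmultiples_iff.1 hmem
      refine hz₁ ?_
      show tb ^ q * tb / (s ^ q * s) ∈ D.F₀
      have : tb ^ q * tb = (j : F) * (s ^ q * s) := by
        rw [zsmul_eq_mul] at hj
        exact mul_left_cancel₀ hζ0 (by linear_combination -hj)
      rw [this, mul_div_assoc, div_self (mul_ne_zero (pow_ne_zero _ hs0) hs0), mul_one]
      exact intCast_mem _ j)
    hζ0 hgu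
  -- the torus fixes `z` and induces a multiple of a rational map on the plane of `a`, `b`
  obtain ⟨g, hg, c1, c2, e1, -, e3, -⟩ := hXG
  rw [hX10, zero_mul, zero_smul, add_zero] at e1
  have hzb' : z = tb • rv D a - s • rv D b := hz
  have hgb' : (g : Matrix Idx Idx F) *ᵥ rv D b =
      (s⁻¹ * tb * (X 0 0 + c1 * tb - 1)) • rv D a + (1 - c1 * tb) • rv D b := by
    have h1 : s • (g : Matrix Idx Idx F) *ᵥ rv D b = tb • (g : Matrix Idx Idx F) *ᵥ rv D a - z := by
      have h2 := e3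
      nth_rewrite 1 [hzb'] at h2
      rw [mulVec_sub, mulVec_smul, mulVec_smul] at h2
      rw [← h2, sub_sub_cancel]
    rw [e1, hzb'] at h1
    apply smul_right_injective (Fin n → F) hs0
    show s • _ = s • _
    rw [h1]
    match_scalars <;> field_simp <;> ring
  have hga' : (g : Matrix Idx Idx F) *ᵥ rv D a = (X 0 0 + c1 * tb) • rv D a + (-(c1 * s)) • rv D b := by
    rw [e1, hzb']; module
  obtain ⟨ea, heaS, hea⟩ := exists_dual D hane
  obtain ⟨eb, hebS, heb⟩ := exists_dual D hbne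
  have hline : ∀ y : Idx → D.F₀, y ∈ Submodule.span D.F₀ (Set.range e) → ∀ A B : F,
      (g : Matrix Idx Idx F) *ᵥ rv D y = A • rv D a + B • rv D b →
      ∃ (l : F) (A' B' : D.F₀), A = l * A' ∧ B = l * B' := by
    intro y hy A B hAB
    have hyy : H (rv D y) (rv D y) = 0 := hcomb y hy y hy
    obtain ⟨l, y', hl⟩ := hdep (v := (g : Matrix Idx Idx F) *ᵥ rv D y)
      (by rw [Unitary.SUn_H (hMK hg)]; exact hyy)
      (fun c hc hcs => inM_map D.hF hMK hg hyy hcs (hR y c hyy hc hcs)) a ha haa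
      (by rw [hAB, H_add_left, H_smul_left, H_smul_left, haa, hba]; ring)
    have key : ∀ w, l * H (rv D y') (rv D w) = A * H (rv D a) (rv D w) + B * H (rv D b) (rv D w) := fun w => by
      rw [← H_smul_left, ← hl, hAB, H_add_left, H_smul_left, H_smul_left]
    refine ⟨l, ⟨_, H_rat D y' ea⟩, ⟨_, H_rat D y' eb⟩, ?_, ?_⟩
    · have := key ea
      rw [hea, heaS b (Submodule.mem_span_singleton_self b), mul_zero, add_zero, mul_one] at this
      exact this.symm
    · have := key eb
      rw [heb, hebS a (Submodule.mem_span_singleton_self a), mul_zero, zero_add, mul_one] at this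
      exact this.symm
  obtain ⟨l₁, p, p', hp, hp'⟩ := hline a haX _ _ hga'
  obtain ⟨l₂, r, r', hr, hr'⟩ := hline b hbX _ _ hgb'
  obtain ⟨l₃, w, w', hw, hw'⟩ := hline (a + b) (Submodule.add_mem _ haX hbX) (l₁ * p + l₂ * r) (l₁ * p' + l₂ * r')
    (by rw [rv_add, mulVec_add, hga', hgb', hr, hr', hp, hp']; module)
  -- the same scalar serves for `a` and `b`
  have hfix1 : (l₁ * p) * t - l₂ * r = t := by
    rw [← hp, ← hr, ht]; field_simp; ring
  have hfix2 : (l₁ * p') * t - l₂ * r' = -1 := by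
    rw [← hp', ← hr', ht]; field_simp; ring
  have hdet : (l₁ * l₂) * ((p : F) * r' - p' * r) ≠ 0 := by
    intro h0
    have hmb : ∀ A B C E : F, (g : Matrix Idx Idx F) *ᵥ rv D a = A • rv D a + B • rv D b →
        (g : Matrix Idx Idx F) *ᵥ rv D b = C • rv D a + E • rv D b → A * E - B * C = 0 →
        (A = 0 ∧ B = 0) ∨ ∃ k : F, C = k * A ∧ E = k * B := by
      intro A B C E _ _ h
      rcases eq_or_ne A 0 with hA | hA
      · rcases eq_or_ne B 0 with hB | hB
        · exact Or.inl ⟨hA, hB⟩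
        · refine Or.inr ⟨E / B, ?_, (div_mul_cancel₀ _ hB).symm⟩
          rw [hA, zero_mul, zero_sub, neg_eq_zero, mul_eq_zero] at h
          rw [h.resolve_left hB, hA, mul_zero]
      · exact Or.inr ⟨C / A, (div_mul_cancel₀ _ hA).symm, by field_simp; linear_combination h⟩
    have hga'' := hga'; rw [hp, hp'] at hga''
    have hgb'' := hgb'; rw [hr, hr'] at hgb''
    rcases hmb _ _ _ _ hga'' hgb'' (by linear_combination h0) with ⟨hA, hB⟩ | ⟨k, hC, hE⟩
    · rw [hA, hB, zero_smul, zero_smul, add_zero] at hga''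
      exact Max.mulVec_ne_zero g (fun e => ha (rv_eq_zero D e)) hga''
    · have h1 : (g : Matrix Idx Idx F) *ᵥ (rv D b - k • rv D a) = 0 := by
        rw [mulVec_sub, mulVec_smul, hga'', hgb'', hC, hE]; module
      refine Max.mulVec_ne_zero g (fun h2 => ?_) h1
      have h3 := congrArg (fun v => H v (rv D eb)) h2
      simp only [H_sub_left, H_smul_left, heb, hebS a (Submodule.mem_span_singleton_self a), H_zero_left,
        mul_zero, sub_zero] at h3
      exact one_ne_zero h3
  have hl₁ : l₁ ≠ 0 := fun e => hdet (by rw [e]; ring)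
  have hl₂ : l₂ ≠ 0 := fun e => hdet (by rw [e]; ring)
  have hdet' : (p : F) * r' - p' * r ≠ 0 := fun e => hdet (by rw [e]; ring)
  obtain ⟨ρ, hρ⟩ : ∃ ρ : D.F₀, l₂ = (ρ : F) * l₁ := by
    have h1 : l₁ * ((p : F) * w' - p' * w) = l₂ * ((r' : F) * w - r * w') := by
      linear_combination (w' : F) * hw - (w : F) * hw'
    rcases eq_or_ne ((r' : F) * w - r * w') 0 with h2 | h2
    · exfalso
      have h3 : (p : F) * w' - p' * w = 0 := by
        rw [h2, mul_zero] at h1
        exact (mul_eq_zero.1 h1).resolve_left hl₁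
      have hw0 : (w : F) = 0 := by
        have : (w : F) * ((p : F) * r' - p' * r) = 0 := by linear_combination (r : F) * h3 + (p : F) * h2
        exact (mul_eq_zero.1 this).resolve_right hdet'
      have hw0' : (w' : F) = 0 := by
        have : (w' : F) * ((p : F) * r' - p' * r) = 0 := by linear_combination (r' : F) * h3 + (p' : F) * h2
        exact (mul_eq_zero.1 this).resolve_right hdet'
      rw [hw0, mul_zero] at hw
      rw [hw0', mul_zero] at hw'
      exact hdet (by linear_combination (l₂ * (r' : F)) * hw - (l₂ * (r : F)) * hw')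
    · refine ⟨⟨((p : F) * w' - p' * w) / ((r' : F) * w - r * w'), D.F₀.div_mem
        (sub_mem (mul_mem p.2 w'.2) (mul_mem p'.2 w.2)) (sub_mem (mul_mem r'.2 w.2) (mul_mem r.2 w'.2))⟩, ?_⟩
      show l₂ = _ / _ * l₁
      rw [div_mul_eq_mul_div, eq_div_iff h2]
      linear_combination -h1
  -- `t` satisfies a quadratic equation over the subfield, so it must be degenerate
  have hquad : (p' : F) * t ^ 2 + ((p : F) - ρ * r') * t + -(ρ * r : F) = 0 := by
    rcases mul_eq_zero.1 (show l₁ * ((p' : F) * t ^ 2 + ((p : F) - ρ * r') * t + -(ρ * r : F)) = 0 by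
      rw [hρ] at hfix1 hfix2; linear_combination hfix1 + t * hfix2) with h | h
    · exact absurd h hl₁
    · exact h
  have hli3 : ∀ A B C : D.F₀, (A : F) * t ^ 2 + (B : F) * t + (C : F) = 0 → A = 0 ∧ B = 0 ∧ C = 0 := by
    intro A B C h
    have hA : A = 0 := by
      by_contra hA
      have hA' : (A : F) ≠ 0 := fun e => hA (Subtype.ext e)
      haveI := Subalgebra.isSimpleOrder_of_finrank_prime D.F₀ F hr3.2
      let S : Submodule D.F₀ F := Submodule.span D.F₀ {1, t}
      have h2 : ∀ x ∈ S, x * t ∈ S := fun x hx => by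
        obtain ⟨α, β, rfl⟩ := Submodule.mem_span_pair.1 hx
        refine Submodule.mem_span_pair.2 ⟨-(β * C / A), α - β * B / A, ?_⟩
        show ((-(β * C / A) : D.F₀) : F) * 1 + ((α - β * B / A : D.F₀) : F) * t =
          ((α : F) * 1 + (β : F) * t) * t
        push_cast
        field_simp
        linear_combination -(β : F) * h
      have hadj : ∀ x ∈ Algebra.adjoin D.F₀ ({t} : Set F), x ∈ S := fun x hx => by
        rw [Algebra.adjoin_singleton_eq_range_aeval] at hx
        obtain ⟨Q, rfl⟩ := hx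
        show Polynomial.aeval t Q ∈ S
        induction Q using Polynomial.induction_on' with
        | add Q Q' hQ hQ' => rw [map_add]; exact S.add_mem hQ hQ'
        | monomial i c =>
          rw [Polynomial.aeval_monomial, ← Algebra.smul_def]
          refine S.smul_mem _ ?_
          induction i with
          | zero => rw [pow_zero]; exact Submodule.subset_span (Set.mem_insert _ _)
          | succ i ih => rw [pow_succ]; exact h2 _ ih
      have htop : Algebra.adjoin D.F₀ ({t} : Set F) = ⊤ := by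
        refine (IsSimpleOrder.eq_bot_or_eq_top _).resolve_left fun h => htF ?_
        have hm : t ∈ (⊥ : Subalgebra D.F₀ F) := h ▸ Algebra.self_mem_adjoin_singleton D.F₀ t
        obtain ⟨c, hc⟩ := Algebra.mem_bot.1 hm
        rw [← hc]; exact c.2
      have hS : S = ⊤ := eq_top_iff.2 fun x _ => hadj x (htop ▸ Algebra.mem_top)
      have k2 : Module.finrank D.F₀ S ≤ 2 := (finrank_span_le_card ({1, t} : Set F)).trans (by
        rw [Set.toFinset_insert, Set.toFinset_singleton]; exact Finset.card_le_two)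
      rw [hS, finrank_top] at k2
      omega
    subst hA
    have hB : B = 0 := by
      by_contra hB
      have hB' : (B : F) ≠ 0 := fun e => hB (Subtype.ext e)
      refine htF ?_
      rw [show t = -(C : F) / B by
        rw [eq_div_iff hB']; push_cast at h; linear_combination h]
      exact D.F₀.div_mem (neg_mem C.2) B.2
    subst hB
    refine ⟨rfl, rfl, Subtype.ext ?_⟩
    push_cast at h ⊢
    linear_combination h
  obtain ⟨h01, h02, h03⟩ := hli3 p' (p - ρ * r') (-(ρ * r)) (by push_cast; exact hquad)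
  have hp'0 : (p' : F) = 0 := by rw [h01]; rfl
  have hr0 : (ρ : F) * r = 0 := by
    have := congrArg Subtype.val h03
    push_cast at this
    exact neg_eq_zero.1 this
  have ht0 : t ≠ 0 := fun e => htF (e ▸ zero_mem _)
  have hX00 : X 0 0 = 1 := by
    have h1 : c1 * s = 0 := by rw [← neg_eq_zero, hp', hp'0, mul_zero]
    have h2 : c1 = 0 := (mul_eq_zero.1 h1).resolve_right hs0
    rw [h2, zero_mul, add_zero] at hp
    rw [hp]
    refine mul_right_cancel₀ ht0 ?_
    rw [hρ] at hfix1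
    linear_combination hfix1 + l₁ * hr0
  have hd := X.det_coe
  rw [Matrix.det_fin_two, hX00, hX10, mul_zero, sub_zero, one_mul] at hd
  exact hX11 (by rw [hd, one_mul])

set_option maxHeartbeats 4000000 in
variable (D) in
/-- subfield groups are maximal in the unitary group -/
theorem subfield_maximal (G : Subgroup GLn) (hG : G ≤ SUn)
    (hlow : ∀ g ∈ SUn, (∃ k : F, k ≠ 0 ∧ ∀ a : Idx → D.F₀, ∃ b : Idx → D.F₀,
      k • ((g : Matrix Idx Idx F) *ᵥ rv D a) = rv D b) → g ∈ G)
    (hhigh : ∀ g ∈ G, ∃ k : F, k ≠ 0 ∧ ∀ a : Idx → D.F₀, ∃ b : Idx → D.F₀,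
      k • ((g : Matrix Idx Idx F) *ᵥ rv D a) = rv D b) :
    Cfsg.Geo.IsMaximalIn SUn G := by
  classical
  have hF := D.hF
  have hnlt := D.hn
  obtain ⟨θ, hθ, hθne⟩ := exists_theta D
  obtain ⟨ζ, hζ, hζ0, hζs⟩ := exists_skew D
  have hζq : ζ ^ q = -ζ := eq_neg_of_add_eq_zero_right hζs
  have hpr : (Module.finrank D.F₀ F).Prime := by
    have := Module.card_eq_pow_finrank (K := D.F₀) (V := F)
    rw [D.hcard, Nat.card_eq_fintype_card] at this
    rw [← Nat.pow_right_injective Fintype.one_lt_card this]; exact D.hr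
  have hskew : ∀ k : F, k ^ q = k → k * ζ + (k * ζ) ^ q = 0 := fun k hk => by
    rw [mul_pow, hk, ← mul_add, hζs, mul_zero]
  refine isMaximalIn_of hG (fun hle => ?_) fun M hM hMK g hgM hg => ?_
  · obtain ⟨k₀, hk₀q, hk₀⟩ : ∃ k : F, k ^ q = k ∧ k ∉ D.F₀ := by
      by_contra hc
      push Not at hc
      have hall : ∀ x : F, x ∈ D.F₀ := fun x => by
        have h1 : x + x ^ q ∈ D.F₀ := hc _ (by
          rw [← HermStd.qHom_apply hF, ← HermStd.qHom_apply hF, map_add, HermStd.qHom_qHom, add_comm])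
        have h2 : θ * x + (θ * x) ^ q ∈ D.F₀ := hc _ (by
          rw [← HermStd.qHom_apply hF, ← HermStd.qHom_apply hF, map_add, HermStd.qHom_qHom, add_comm])
        rw [show x = ((θ * x + (θ * x) ^ q) - θ ^ q * (x + x ^ q)) / (θ - θ ^ q) by
          rw [eq_div_iff (sub_ne_zero.2 hθne.symm), mul_pow]; ring]
        exact D.F₀.div_mem (sub_mem h2 (mul_mem (pow_mem_F₀ D hθ) h1)) (sub_mem hθ (pow_mem_F₀ D hθ))
      have e : Nat.card D.F₀ = Fintype.card F := by
        rw [← Nat.card_eq_fintype_card]; exact Nat.card_congr (Equiv.subtypeUnivEquiv hall)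
      have h := D.hcard
      rw [e] at h
      exact absurd ((Nat.pow_eq_self_iff Fintype.one_lt_card).1 h.symm) D.hr.ne_one
    obtain ⟨a, -, ha, haa⟩ := exists_iso_in D (S := ⊤) (by
      rw [finrank_top, Module.finrank_fintype_fun_eq_card, Fintype.card_fin]; omega)
    obtain ⟨f, -, hfa, haf⟩ := exists_partner D ha haa
    obtain ⟨s, hs, hsx⟩ := Unitary.exists_tv hF haa (hskew k₀ hk₀q)
    obtain ⟨k, hk, hkF⟩ := hhigh s (hle hs)
    obtain ⟨b, hb⟩ := hkF a
    rw [hsx, haa, mul_zero, zero_smul, add_zero] at hb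
    have hk' : k ∈ D.F₀ := by
      have := congrArg (fun v => H v (rv D f)) hb
      simp only [H_smul_left, haf, mul_one] at this
      rw [this]; exact H_rat D b f
    obtain ⟨b', hb'⟩ := hkF f
    rw [hsx, hfa, mul_one] at hb'
    have h2 := congrArg (fun v => H v (rv D f)) hb'
    simp only [H_smul_left, H_add_left, haf] at h2
    refine hk₀ ?_
    rw [show k₀ = (H (rv D b') (rv D f) - k * H (rv D f) (rv D f)) / (k * ζ) by
      rw [eq_div_iff (mul_ne_zero hk hζ0), ← h2]; ring]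
    exact D.F₀.div_mem (sub_mem (H_rat D _ _) (mul_mem hk' (H_rat D _ _))) (mul_mem hk' hζ)
  have hR : RatRoots D M := fun a c haa hc hcs => fun s hs => hM (hlow s (by
      obtain ⟨s', hs', hsx⟩ := Unitary.exists_tv hF haa hcs
      exact (Max.gl_ext fun x => by rw [hs, hsx] : s = s') ▸ hs') ⟨1, one_ne_zero, fun x =>
    ⟨x + ((⟨c, hc⟩ : D.F₀) * form0 D a x) • a, by
      rw [one_smul, hs, rv_add, rv_smul, MulMemClass.coe_mul, form0_coe]⟩⟩)
  -- an irrational centre
  obtain ⟨u, huu, hu, hirr⟩ : ∃ u, H u u = 0 ∧ (∀ c ∈ D.F₀, c + c ^ q = 0 → InM q M u c) ∧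
      ∀ (k : F) x, u ≠ k • rv D x := by
    by_contra hcon
    push Not at hcon
    refine hg (hlow g (hMK hgM) ?_)
    have hline : ∀ a, H (rv D a) (rv D a) = 0 → ∃ (l : F) (y : Idx → D.F₀),
        (g : Matrix Idx Idx F) *ᵥ rv D a = l • rv D y := fun a haa =>
      hcon _ (by rw [Unitary.SUn_H (hMK hgM)]; exact haa) fun c hc hcs =>
        inM_map hF hMK hgM haa hcs (hR a c haa hc hcs)
    choose lam y hy using hline
    have hne : ∀ a (h : H (rv D a) (rv D a) = 0), a ≠ 0 → lam a h ≠ 0 := fun a h ha e =>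
      Max.mulVec_ne_zero g (fun e => ha (rv_eq_zero D e)) (by rw [hy a h, e, zero_smul])
    have hprod : ∀ a b (h : H (rv D a) (rv D a) = 0) (h' : H (rv D b) (rv D b) = 0), H (rv D a) (rv D b) ≠ 0 →
        lam a h * lam b h' ^ q ∈ D.F₀ := fun a b h h' hab => by
      have e := Unitary.SUn_H (hMK hgM) (rv D a) (rv D b)
      rw [hy a h, hy b h', H_smul_left, H_smul_right, ← mul_assoc] at e
      have hy0 : H (rv D (y a h)) (rv D (y b h')) ≠ 0 := fun e0 => hab (by rw [← e, e0, mul_zero])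
      rw [(eq_div_iff hy0).2 e]
      exact D.F₀.div_mem (H_rat D a b) (H_rat D _ _)
    obtain ⟨a₁, -, ha₁, ha₁₁⟩ := exists_iso_in D (S := ⊤) (by
      rw [finrank_top, Module.finrank_fintype_fun_eq_card, Fintype.card_fin]; omega)
    refine ⟨(lam a₁ ha₁₁)⁻¹, inv_ne_zero (hne _ _ ha₁), ?_⟩
    let T : Submodule D.F₀ (Idx → D.F₀) :=
      { carrier := {x | ∃ b : Idx → D.F₀, (lam a₁ ha₁₁)⁻¹ • ((g : Matrix Idx Idx F) *ᵥ rv D x) = rv D b}
        zero_mem' := ⟨0, by rw [rv_zero, mulVec_zero, smul_zero]⟩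
        add_mem' := fun {x x'} ⟨b, hb⟩ ⟨b', hb'⟩ => ⟨b + b', by rw [rv_add, mulVec_add, smul_add, hb, hb', rv_add]⟩
        smul_mem' := fun t x ⟨b, hb⟩ => ⟨t • b, by rw [rv_smul, mulVec_smul, smul_comm, hb, rv_smul]⟩ }
    have hTiso : ∀ x, H (rv D x) (rv D x) = 0 → x ∈ T := by
      intro x hxx
      rcases eq_or_ne x 0 with rfl | hx
      · exact T.zero_mem
      obtain ⟨z, hzz, hzx, hza⟩ : ∃ z, H (rv D z) (rv D z) = 0 ∧ H (rv D x) (rv D z) ≠ 0 ∧
          H (rv D a₁) (rv D z) ≠ 0 := by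
        by_cases hxa : H (rv D x) (rv D a₁) = 0
        · obtain ⟨f, hff, hfx, hxf⟩ := exists_partner D hx hxx
          obtain ⟨f', hf'f', hf'a, haf'⟩ := exists_partner D ha₁ ha₁₁
          by_cases h1 : H (rv D a₁) (rv D f) = 0
          swap
          · exact ⟨f, hff, by rw [hxf]; exact one_ne_zero, h1⟩
          by_cases h2 : H (rv D x) (rv D f') = 0
          swap
          · exact ⟨f', hf'f', h2, by rw [haf']; exact one_ne_zero⟩
          obtain ⟨t, ht⟩ := add_iso D hxx (x := f + f') (by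
            rw [rv_add, H_add_left, hfx, (H_eq_zero_comm hF).1 h2, add_zero]; exact one_ne_zero)
          refine ⟨_, ht, ?_, ?_⟩
          · simp [rv_add, rv_smul, H_add_right hF, H_smul_right, hxx, hxf, h2]
          · simp [rv_add, rv_smul, H_add_right hF, H_smul_right, (H_eq_zero_comm hF).1 hxa, h1, haf']
        · have hax : H (rv D a₁) (rv D x) ≠ 0 := fun e => hxa ((H_eq_zero_comm hF).1 e)
          set k : D.F₀ := ⟨(ζ / H (rv D x) (rv D a₁)) ^ q, pow_mem_F₀ D (D.F₀.div_mem hζ (H_rat D x a₁))⟩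
          have hk : (k : F) ≠ 0 := pow_ne_zero _ (div_ne_zero hζ0 hxa)
          refine ⟨x + k • a₁, ?_, ?_, ?_⟩
          · have hc : H (rv D a₁) (rv D x) = H (rv D x) (rv D a₁) ^ q := (H_conj hF _ _).symm
            simp only [rv_add, rv_smul, H_add_left, H_add_right hF, H_smul_left, H_smul_right, hxx, ha₁₁, hc,
              mul_zero, add_zero, zero_add, k]
            rw [pow_qq hF, ← mul_pow, div_mul_cancel₀ _ hxa]
            linear_combination hζs
          · rw [rv_add, rv_smul, H_add_right hF, H_smul_right, hxx, zero_add]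
            exact mul_ne_zero (pow_ne_zero _ hk) hxa
          · rw [rv_add, rv_smul, H_add_right hF, H_smul_right, ha₁₁, mul_zero, add_zero]
            exact hax
      have hz0 : z ≠ 0 := fun e => hzx (by rw [e, rv_zero, H_zero_right hF])
      have h1 := D.F₀.div_mem (hprod x z hxx hzz hzx) (hprod a₁ z ha₁₁ hzz hza)
      rw [mul_div_mul_right _ _ (pow_ne_zero q (hne z hzz hz0))] at h1
      exact ⟨(⟨_, h1⟩ : D.F₀) • y x hxx, by rw [rv_smul, hy x hxx, smul_smul]; congr 1; show _ = _ / _; ring⟩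
    obtain ⟨f, hff, hfa, -⟩ := exists_partner D ha₁ ha₁₁
    intro x
    have h1 := iso_span D ha₁₁ (T := T) (fun y hy _ => hTiso y hy) (x := x - form0 D a₁ x • f)
      (by rw [rv_sub, rv_smul, H_sub_left, H_smul_left, hfa, form0_coe, mul_one, sub_self])
    have h2 := T.add_mem h1 (T.smul_mem (form0 D a₁ x) (hTiso f hff))
    rwa [sub_add_cancel] at h2
  obtain ⟨a₀, c₀, ha₀, ha₀₀, hc₀s, hc₀, hT₀⟩ := irrational_of_centre hMK hR huu hu hirr
  -- moving rational isotropic vectors
  have hmove : ∀ x y : Idx → D.F₀, H (rv D x) (rv D x) = 0 → H (rv D y) (rv D y) = 0 →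
      H (rv D x) (rv D y) + H (rv D y) (rv D x) = 0 → H (rv D x) (rv D y) ≠ 0 →
      ∀ c, c + c ^ q = 0 → InM q M (rv D x) c → InM q M (rv D y) c := by
    intro x y hxx hyy hsk hxy c hc hcx
    have hv : H (rv D (y - x)) (rv D (y - x)) = 0 := by
      simp only [rv_sub, H_sub_left, H_sub_right hF, hxx, hyy]; linear_combination -hsk
    have hd : (H (rv D x) (rv D y))⁻¹ + ((H (rv D x) (rv D y))⁻¹) ^ q = 0 := by
      rw [inv_pow, H_conj hF, eq_neg_of_add_eq_zero_right hsk, inv_neg, add_neg_cancel]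
    obtain ⟨s, hs, hsx⟩ := exists_tvM hF hv hd (hR _ _ hv (inv_mem (H_rat D x y)) hd)
    have e : (s : Matrix Idx Idx F) *ᵥ rv D x = rv D y := by
      rw [hsx, rv_sub, H_sub_right hF, hxx, sub_zero, inv_mul_cancel₀ hxy, one_smul, add_sub_cancel]
    exact e ▸ inM_map hF hMK hs hxx hc hcx
  let K : (Idx → D.F₀) → F → Prop := fun a k => k ^ q = k ∧ InM q M (rv D a) (k * ζ)
  have hsq : ∀ (a : Idx → D.F₀), H (rv D a) (rv D a) = 0 → ∀ m ∈ D.F₀, m ^ q = m → ∀ k, K a k → K a (m * m * k) := by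
    intro a haa m hm hmq k hk
    refine ⟨by rw [mul_pow, mul_pow, hmq, hk.1], ?_⟩
    rcases eq_or_ne a 0 with rfl | ha
    · rw [rv_zero]; exact inM_zero
    rcases eq_or_ne m 0 with rfl | hm0
    · simp only [zero_mul]; exact inM_coeff_zero
    obtain ⟨f, hff, hfa, haf⟩ := exists_partner D ha haa
    set f' : Idx → D.F₀ := (⟨ζ, hζ⟩ : D.F₀) • f with hf'
    have e1 : rv D f' = ζ • rv D f := by rw [hf', rv_smul]
    have hf'f' : H (rv D f') (rv D f') = 0 := by rw [e1, H_smul_left, H_smul_right, hff, mul_zero, mul_zero]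
    have h1 := hmove a f' haa hf'f' (by
      rw [e1, H_smul_right, H_smul_left, haf, hfa]; linear_combination hζs)
      (by rw [e1, H_smul_right, haf, mul_one]; exact pow_ne_zero _ hζ0) _ (hskew k hk.1) hk.2
    have h2 := hmove f' ((⟨m, hm⟩ : D.F₀) • a) hf'f' (by
      rw [rv_smul, H_smul_left, H_smul_right, haa, mul_zero, mul_zero])
      (by
        simp only [hf', rv_smul, H_smul_right, H_smul_left, haf, hfa]
        show m ^ q * (ζ * 1) + ζ ^ q * (m * 1) = 0
        rw [hmq]; linear_combination m * hζs)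
      (by simp only [hf', rv_smul, H_smul_right, H_smul_left, hfa, mul_one]; exact mul_ne_zero (pow_ne_zero _ hm0) hζ0)
      _ (hskew k hk.1) h1
    intro s hs
    refine h2 s fun x => ?_
    rw [hs, rv_smul, H_smul_right, smul_smul]
    congr 2
    show _ = k * ζ * (m ^ q * H x (rv D a)) * m
    rw [hmq]; ring
  have hKadd : ∀ (a : Idx → D.F₀), H (rv D a) (rv D a) = 0 → ∀ k l, K a k → K a l → K a (k + l) := by
    intro a haa k l hk hl
    refine ⟨by rw [← HermStd.qHom_apply hF, map_add, HermStd.qHom_apply, HermStd.qHom_apply, hk.1, hl.1], ?_⟩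
    rw [add_mul]; exact inM_add hF haa (hskew k hk.1) (hskew l hl.1) hk.2 hl.2
  have hKneg : ∀ (a : Idx → D.F₀), H (rv D a) (rv D a) = 0 → ∀ k, K a k → K a (-k) := by
    intro a haa k hk
    refine ⟨by rw [← HermStd.qHom_apply hF, map_neg, HermStd.qHom_apply, hk.1], ?_⟩
    rw [neg_mul]; exact inM_neg hF haa (hskew k hk.1) hk.2
  have hKmul : ∀ (a : Idx → D.F₀), H (rv D a) (rv D a) = 0 → ∀ m ∈ D.F₀, m ^ q = m → ∀ k, K a k → K a (m * k) := by
    intro a haa m hm hmq k hk
    by_cases h2 : (2 : F) = 0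
    · haveI : CharP D.F₀ 2 := CharTwo.of_one_ne_zero_of_two_eq_zero one_ne_zero
        (Subtype.ext (by push_cast; exact h2))
      obtain ⟨j, hj⟩ := FiniteField.isSquare_of_char_two (ringChar.eq D.F₀ 2) (⟨m, hm⟩ : D.F₀)
      have hj' : m = (j : F) * j := congrArg Subtype.val hj
      have hjq : (j : F) ^ q = j := by
        have : ((j : F) ^ q) * ((j : F) ^ q) = (j : F) * j := by rw [← mul_pow, ← hj', hmq]
        rcases mul_self_eq_mul_self_iff.1 this with e | e
        · exact e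
        · exact e.trans (neg_eq_iff_add_eq_zero.2 (by linear_combination (j : F) * h2))
      exact hj' ▸ hsq a haa j j.2 hjq k hk
    · set m' := m / 2 with hm'
      have h2mem : (2 : F) ∈ D.F₀ := by
        rw [show (2 : F) = 1 + 1 by norm_num]; exact add_mem (one_mem _) (one_mem _)
      have hm'q : m' ^ q = m' := by
        rw [hm', ← HermStd.qHom_apply hF, map_div₀, map_ofNat, HermStd.qHom_apply, hmq]
      have hm'F : m' ∈ D.F₀ := D.F₀.div_mem hm h2mem
      have := hKadd a haa _ _ (hKadd a haa _ _ (hsq a haa (m' + 1) (add_mem hm'F (one_mem _)) (by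
        rw [← HermStd.qHom_apply hF, map_add, map_one, HermStd.qHom_apply, hm'q]) k hk)
          (hKneg a haa _ (hsq a haa m' hm'F hm'q k hk))) (hKneg a haa _ hk)
      convert this using 1
      rw [hm']; field_simp; ring
  have htrans : ∀ a b : Idx → D.F₀, H (rv D a) (rv D a) = 0 → H (rv D b) (rv D b) = 0 → a ≠ 0 →
      ∀ k, K a k → K b k := by
    have step : ∀ a b : Idx → D.F₀, H (rv D a) (rv D a) = 0 → H (rv D b) (rv D b) = 0 →
        H (rv D a) (rv D b) ≠ 0 → ∀ k, K a k → K b k := by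
      intro a b haa hbb hab k hk
      set z : D.F₀ := ⟨(ζ / H (rv D a) (rv D b)) ^ q, pow_mem_F₀ D (D.F₀.div_mem hζ (H_rat D a b))⟩ with hz
      have hz0 : (z : F) ≠ 0 := pow_ne_zero _ (div_ne_zero hζ0 hab)
      have hzb : H (rv D a) (rv D (z • b)) = ζ := by
        rw [rv_smul, H_smul_right]
        show ((ζ / _) ^ q) ^ q * _ = ζ
        rw [pow_qq hF, div_mul_cancel₀ _ hab]
      have h1 := hmove a (z • b) haa (by rw [rv_smul, H_smul_left, H_smul_right, hbb, mul_zero, mul_zero])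
        (by rw [← H_conj hF (rv D a), hzb]; exact hζs) (by rw [hzb]; exact hζ0) _ (hskew k hk.1) hk.2
      have hNz : ((z : F) ^ q * z) ^ q = (z : F) ^ q * z := by rw [mul_pow, pow_qq hF, mul_comm]
      have h2 : K b ((z : F) ^ q * z * k) := by
        refine ⟨by rw [mul_pow, hNz, hk.1], fun s hs => h1 s fun x => ?_⟩
        rw [hs, rv_smul, H_smul_right, smul_smul]
        congr 2
        ring
      have h3 := hKmul b hbb _ (inv_mem (mul_mem (pow_mem_F₀ D z.2) z.2)) (by rw [inv_pow, hNz]) _ h2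
      rwa [inv_mul_cancel_left₀ (mul_ne_zero (pow_ne_zero _ hz0) hz0)] at h3
    intro a b haa hbb ha k hk
    rcases eq_or_ne b 0 with rfl | hb
    · exact ⟨hk.1, by rw [rv_zero]; exact inM_zero⟩
    by_cases hab : H (rv D a) (rv D b) = 0
    swap
    · exact step a b haa hbb hab k hk
    obtain ⟨f, hff, hfa, haf⟩ := exists_partner D ha haa
    obtain ⟨f', hf'f', hf'b, hbf'⟩ := exists_partner D hb hbb
    by_cases h1 : H (rv D f) (rv D b) = 0
    swap
    · exact step f b hff hbb h1 k (step a f haa hff (by rw [haf]; exact one_ne_zero) k hk)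
    by_cases h2 : H (rv D a) (rv D f') = 0
    swap
    · exact step f' b hf'f' hbb (by rw [hf'b]; exact one_ne_zero) k (step a f' haa hf'f' h2 k hk)
    obtain ⟨t, ht⟩ := add_iso D haa (x := f + f') (by
      rw [rv_add, H_add_left, hfa, (H_eq_zero_comm hF).1 h2, add_zero]; exact one_ne_zero)
    refine step _ b ht hbb ?_ k (step a _ haa ht ?_ k hk)
    · simp [rv_add, rv_smul, H_add_left, H_smul_left, hab, h1, hf'b]
    · simp [rv_add, rv_smul, H_add_right hF, H_smul_right, haa, haf, h2]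
  let Kall : F → Prop := fun k => k ^ q = k ∧ ∀ a, H (rv D a) (rv D a) = 0 → InM q M (rv D a) (k * ζ)
  have hcast : ∀ t ∈ D.F₀, t ^ q = t → Kall t := fun t ht htq =>
    ⟨htq, fun a haa => hR a _ haa (mul_mem ht hζ) (hskew t htq)⟩
  have hprodK : ∀ k l, Kall k → Kall l → Kall (k * l) := by
    intro k l hk hl
    refine ⟨by rw [mul_pow, hk.1, hl.1], fun a haa => ?_⟩
    rcases eq_or_ne a 0 with rfl | ha
    · rw [rv_zero]; exact inM_zero
    obtain ⟨C, hC⟩ := Submodule.exists_isCompl (Submodule.span D.F₀ ({a} : Set (Idx → D.F₀)))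
    have h2 : 2 ≤ Module.finrank D.F₀ ↥(LinearMap.ker (form0 D a) ⊓ C) := by
      have h1 := Submodule.finrank_sup_add_finrank_inf_eq (LinearMap.ker (form0 D a)) C
      have h2 := Submodule.finrank_le (LinearMap.ker (form0 D a) ⊔ C)
      have h3 := Submodule.finrank_add_eq_of_isCompl hC
      have h4 : Module.finrank D.F₀ (Submodule.span D.F₀ ({a} : Set (Idx → D.F₀))) ≤ 1 :=
        (finrank_span_le_card ({a} : Set (Idx → D.F₀))).trans (by simp)
      have h5 := LinearMap.finrank_range_add_finrank_ker (form0 D a)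
      have h6 := Submodule.finrank_le (LinearMap.range (form0 D a))
      rw [Module.finrank_self] at h6
      rw [Module.finrank_fintype_fun_eq_card, Fintype.card_fin] at h2 h3 h5
      omega
    obtain ⟨w, hw, hw0, hww⟩ := exists_iso_in D h2
    have hwa : H (rv D w) (rv D a) = 0 := by rw [← form0_coe, LinearMap.mem_ker.1 hw.1]; rfl
    obtain ⟨e, heS, hwe⟩ := exists_dual D (a := w) (S := Submodule.span D.F₀ {a}) fun hm =>
      hw0 (Submodule.disjoint_def.1 hC.disjoint w hm hw.2)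
    have hew : H (rv D e) (rv D w) = 1 := by rw [← H_conj hF, hwe, one_pow]
    have hae : H (rv D a) (rv D e) = 0 := heS a (Submodule.mem_span_singleton_self a)
    obtain ⟨t, ht⟩ := add_iso D hww (x := e) (by rw [hew]; exact one_ne_zero)
    set w' := e + t • w
    have hw'a : H (rv D w') (rv D a) = 0 := by
      simp [w', rv_add, rv_smul, H_add_left, H_smul_left, (H_eq_zero_comm hF).1 hae, hwa]
    have hw'w : H (rv D w') (rv D w) = 1 := by simp [w', rv_add, rv_smul, H_add_left, H_smul_left, hww, hew]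
    have hww' : H (rv D w) (rv D w') = 1 := by rw [← H_conj hF, hw'w, one_pow]
    have hSgK : ∀ k, Kall k → ∀ v, H (rv D v) (rv D v) = 0 → H (rv D v) (rv D a) = 0 →
        Sg q M (rv D a) ((k * ζ) • rv D v) := by
      intro k hk v hvv hva
      have := sg_of_inM hF haa (k := 1) hvv hva (hskew k hk.1) (by
        rw [one_smul, ← rv_add]
        exact hk.2 _ (by simp [rv_add, H_add_left, H_add_right hF, hvv, hva, haa, (H_eq_zero_comm hF).1 hva]))
        (inM_neg hF hvv (hskew k hk.1) (hk.2 v hvv))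
      rwa [one_pow, mul_one] at this
    set m : F := -(θ / (ζ * (θ - θ ^ q))) with hm
    have hmF : m ∈ D.F₀ := neg_mem (D.F₀.div_mem hθ (mul_mem hζ (sub_mem hθ (pow_mem_F₀ D hθ))))
    have h1 := sg_comm hF haa (hSgK k hk ((⟨m, hmF⟩ : D.F₀) • w)
      (by rw [rv_smul, H_smul_left, H_smul_right, hww, mul_zero, mul_zero])
      (by rw [rv_smul, H_smul_left, hwa, mul_zero])) (hSgK l hl w' ht hw'a)
    simp only [rv_smul, H_smul_left, H_smul_right, hw'w, hww', mul_one] at h1
    convert h1 using 2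
    have hd : θ - θ ^ q ≠ 0 := sub_ne_zero.2 hθne.symm
    have hfx : (ζ * (θ - θ ^ q)) ^ q = ζ * (θ - θ ^ q) := by
      rw [mul_pow, hζq, ← HermStd.qHom_apply hF, ← HermStd.qHom_apply hF θ, map_sub, HermStd.qHom_qHom]
      ring
    have hmq : m ^ q = -(θ ^ q / (ζ * (θ - θ ^ q))) := by
      rw [hm, ← HermStd.qHom_apply hF, map_neg, map_div₀, HermStd.qHom_apply, HermStd.qHom_apply, hfx]
    show k * l * ζ = (l * ζ) ^ q * (k * ζ * m) - (k * ζ) ^ q * (m ^ q * (l * ζ))
    rw [mul_pow, mul_pow, hk.1, hl.1, hmq, hζq, hm]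
    field_simp
  have hKc₀ : Kall (c₀ / ζ) := by
    have hq' : (c₀ / ζ) ^ q = c₀ / ζ := by
      rw [div_pow, eq_neg_of_add_eq_zero_right hc₀s, hζq, neg_div_neg_eq]
    refine ⟨hq', fun a haa => (htrans a₀ a ha₀₀ haa ha₀ (c₀ / ζ) ⟨hq', ?_⟩).2⟩
    rwa [div_mul_cancel₀ _ hζ0]
  have hKall : ∀ k : F, k ^ q = k → Kall k := by
    let Q : F → Prop := fun x => ∀ f ∈ D.F₀, Kall (f * x + (f * x) ^ q)
    have hfix : ∀ f x : F, x ^ q = x → f * x + (f * x) ^ q = (f + f ^ q) * x := fun f x hx => by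
      rw [mul_pow, hx]; ring
    have hQ0 : ∀ x, Kall x → Q x := fun x hx f hf => by
      rw [hfix f x hx.1]
      exact hprodK _ _ (hcast _ (add_mem hf (pow_mem_F₀ D hf)) (by
        rw [← HermStd.qHom_apply hF, ← HermStd.qHom_apply hF, map_add, HermStd.qHom_qHom, add_comm])) hx
    let Sub : Submodule D.F₀ F :=
      { carrier := {x | Q x}
        zero_mem' := hQ0 0 (hcast 0 (zero_mem _) (zero_pow (by have := HermStd.one_lt_q hF; omega)))
        add_mem' := fun {x x'} hx hx' f hf => by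
          have h1 := hx f hf
          have h2 := hx' f hf
          refine ⟨by rw [← HermStd.qHom_apply hF, ← HermStd.qHom_apply hF, map_add, HermStd.qHom_qHom, add_comm],
            fun a haa => ?_⟩
          rw [show f * (x + x') + (f * (x + x')) ^ q = (f * x + (f * x) ^ q) + (f * x' + (f * x') ^ q) by
            simp only [← HermStd.qHom_apply hF, mul_add, map_add]; ring]
          exact (hKadd a haa _ _ ⟨h1.1, h1.2 a haa⟩ ⟨h2.1, h2.2 a haa⟩).2
        smul_mem' := fun t x hx f hf => by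
          show Kall (f * ((t : F) * x) + (f * ((t : F) * x)) ^ q)
          rw [← mul_assoc]
          exact hx _ (mul_mem hf t.2) }
    let Ks : Submonoid F :=
      { carrier := {x | Kall x}
        one_mem' := hcast 1 (one_mem _) (one_pow q)
        mul_mem' := fun {x y} hx hy => hprodK x y hx hy }
    have htop : Algebra.adjoin D.F₀ (Ks : Set F) = ⊤ := by
      haveI := Subalgebra.isSimpleOrder_of_finrank_prime D.F₀ F hpr
      refine (IsSimpleOrder.eq_bot_or_eq_top _).resolve_left fun hb => hc₀ ?_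
      have hmem : c₀ / ζ ∈ Algebra.adjoin D.F₀ (Ks : Set F) := Algebra.subset_adjoin hKc₀
      rw [hb, Algebra.mem_bot] at hmem
      obtain ⟨t, ht⟩ := hmem
      rw [show c₀ = (t : F) * ζ by rw [show (t : F) = c₀ / ζ from ht, div_mul_cancel₀ _ hζ0]]
      exact mul_mem t.2 hζ
    intro k hk
    have hmem : k ∈ Sub := by
      have h1 : k ∈ Subalgebra.toSubmodule (Algebra.adjoin D.F₀ (Ks : Set F)) := by rw [htop]; trivial
      rw [Algebra.adjoin_eq_span, Submonoid.closure_eq] at h1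
      exact (Submodule.span_le (p := Sub)).2 (fun x hx => hQ0 x hx) h1
    obtain ⟨β, hβ, hβ'⟩ := trace_rat D (one_mem _) (one_pow q)
    have h := hmem β hβ
    rwa [hfix β k hk, hβ', one_mul] at h
  have hrc : ∀ a, H (rv D a) (rv D a) = 0 → rv D a ∈ Unitary.centres q M := fun a haa =>
    ⟨haa, fun s c hc hs => (hKall (c / ζ) (by
      rw [div_pow, eq_neg_of_add_eq_zero_right hc, hζq, neg_div_neg_eq])).2 a haa s fun x => by
        rw [div_mul_cancel₀ _ hζ0]; exact hs x⟩
  refine Unitary.SUn_le_of_centres hF (by omega) fun v hv => ?_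
  rcases eq_or_ne v 0 with rfl | hv0
  · simpa [rv_zero] using hrc 0 (by simp [rv_zero, H_zero_left])
  obtain ⟨a, ha, haa, hva⟩ := exists_iso_nonorth D hv0
  obtain ⟨b, hbb, hba, hab⟩ := exists_partner D ha haa
  set v' := (H v (rv D a))⁻¹ • v with hv'
  have hv'a : H v' (rv D a) = 1 := by rw [hv', H_smul_left, inv_mul_cancel₀ hva]
  have hav' : H (rv D a) v' = 1 := by rw [← H_conj hF, hv'a, one_pow]
  have hv'v' : H v' v' = 0 := by rw [hv', H_smul_left, H_smul_right, hv, mul_zero, mul_zero]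
  let T : Submodule D.F₀ (Idx → D.F₀) :=
    { carrier := {x | ∀ k : F, Sg q M (rv D a) (k • rv D x)}
      zero_mem' := fun k => by rw [rv_zero, smul_zero]; exact sg_zero hF haa
      add_mem' := fun {x x'} hx hx' k => by rw [rv_add, smul_add]; exact sg_add hF haa (hx k) (hx' k)
      smul_mem' := fun t x hx k => by rw [rv_smul, smul_smul]; exact hx _ }
  have hT : ∀ x, H (rv D x) (rv D a) = 0 → x ∈ T := fun x hx => iso_span D haa (T := T) (fun w hww hwa k => by
    have hd : θ - θ ^ q ≠ 0 := sub_ne_zero.2 hθne.symm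
    set c₂ := (k + k ^ q) / (θ - θ ^ q) with hc₂
    have hc₂s : c₂ + c₂ ^ q = 0 := by
      have hnum : (k + k ^ q) ^ q = k + k ^ q := by
        rw [← HermStd.qHom_apply hF, ← HermStd.qHom_apply hF k, map_add, HermStd.qHom_qHom, add_comm]
      have hden : (θ - θ ^ q) ^ q = -(θ - θ ^ q) := by
        rw [← HermStd.qHom_apply hF, ← HermStd.qHom_apply hF θ, map_sub, HermStd.qHom_qHom, neg_sub]
      rw [hc₂, div_pow, hnum, hden, div_neg]
      ring
    have hc₁s : (k - c₂ * θ) + (k - c₂ * θ) ^ q = 0 := by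
      rw [← HermStd.qHom_apply hF, map_sub, map_mul, HermStd.qHom_apply, HermStd.qHom_apply, HermStd.qHom_apply,
        eq_neg_of_add_eq_zero_right hc₂s]
      have : c₂ * (θ - θ ^ q) = k + k ^ q := by rw [hc₂, div_mul_cancel₀ _ hd]
      linear_combination -this
    have hS : ∀ (c : F) (x : Idx → D.F₀), c + c ^ q = 0 → H (rv D x) (rv D x) = 0 → H (rv D x) (rv D a) = 0 →
        Sg q M (rv D a) (c • rv D x) := fun c x hc hxx hxa => by
      have := sg_of_inM hF haa (k := 1) hxx hxa hc (by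
        rw [one_smul, ← rv_add]
        exact fun s hs => (hrc _ (by
          simp [rv_add, H_add_left, H_add_right hF, hxx, hxa, haa, (H_eq_zero_comm hF).1 hxa])).2 s c hc hs)
        (inM_neg hF hxx hc fun s hs => (hrc x hxx).2 s c hc hs)
      rwa [one_pow, mul_one] at this
    have h1 := hS _ w hc₁s hww hwa
    have h2 := hS _ ((⟨θ, hθ⟩ : D.F₀) • w) hc₂s (by rw [rv_smul, H_smul_left, H_smul_right, hww, mul_zero, mul_zero])
      (by rw [rv_smul, H_smul_left, hwa, mul_zero])
    rw [rv_smul, smul_smul] at h2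
    have := sg_add hF haa h1 h2
    rwa [← add_smul, sub_add_cancel] at this) hx
  have hW : Sg q M (rv D a) (v' - rv D b) := by
    obtain ⟨co, hco⟩ := decomp D (v' - rv D b)
    have h0 : ∑ i, co i * H (rv D (Pi.single i 1)) (rv D a) = 0 := by
      have := congrArg (fun y => H y (rv D a)) hco
      simp only [H_sub_left, hv'a, hba, sub_self, H_sum_left, H_smul_left] at this
      exact this.symm
    have e : v' - rv D b = ∑ i, co i • rv D (Pi.single i 1 - form0 D a (Pi.single i 1) • b) := by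
      simp only [rv_sub, rv_smul, smul_sub, smul_smul, Finset.sum_sub_distrib, form0_coe, ← Finset.sum_smul, h0,
        zero_smul, sub_zero]
      exact hco
    rw [e]
    refine Finset.sum_induction _ (fun y => Sg q M (rv D a) y) (fun x x' hx hx' => sg_add hF haa hx hx')
      (sg_zero hF haa) fun i _ => hT _ ?_ _
    rw [rv_sub, rv_smul, H_sub_left, H_smul_left, hba, form0_coe, mul_one, sub_self]
  obtain ⟨hWa, s, hs, β, hsx⟩ := hW
  have hc := Unitary.centres_map hF hMK hs (hrc b hbb)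
  set γ := -H (rv D b) (v' - rv D b) + β * 1 with hγ
  have e : (s : Matrix Idx Idx F) *ᵥ rv D b = v' + γ • rv D a := by
    rw [hsx, hba, one_smul, add_sub_cancel, ← hγ]
  rw [e] at hc
  have hγs : γ + γ ^ q = 0 := by
    have h := hc.1
    simp only [H_add_left, H_add_right hF, H_smul_left, H_smul_right, hv'v', hv'a, hav', haa, mul_zero, mul_one,
      add_zero, zero_add] at h
    linear_combination h
  have hγs' : (-γ) + (-γ) ^ q = 0 := by
    rw [← HermStd.qHom_apply hF, map_neg, HermStd.qHom_apply]; linear_combination -hγs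
  obtain ⟨t, -, htx⟩ := Unitary.exists_tv hF haa hγs'
  have := Unitary.centres_map hF hMK ((hrc a haa).2 t _ hγs' htx) hc
  have e2 : H (v' + γ • rv D a) (rv D a) = 1 := by rw [H_add_left, hv'a, H_smul_left, haa, mul_zero, add_zero]
  rw [htx, e2, mul_one, neg_smul, add_neg_cancel_right] at this
  have := Unitary.centres_smul hF (H v (rv D a)) this
  rwa [hv', smul_smul, mul_inv_cancel₀ hva, one_smul] at this

end Cfsg.Agent.Forms.Max.SubfieldUnitary
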