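import Mathlib
import Cfsg.Agent.Lib.Forms.Max.SubfieldUnitary

/-!
# Orthogonal groups over the subfield of index two in unitary groups
-/

set_option autoImplicit false
set_option linter.unusedSectionVars false

namespace Cfsg.Agent.Forms.Max.OrthInUnitary

open Matrix Cfsg.Agent.Classical.Unitary
open SubfieldUnitary (InM inM_of inM_map inM_add inM_coeff_zero inM_zero exists_tvM)

variable {F : Type*} [Field F] [Fintype F] {q n : ℕ}

local notation "Idx" => (Fin n)
local notation "Vec" => (Fin n → F)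
local notation "GLn" => GL (Fin n) F
local notation "H" => Cfsg.hermForm n F q
local notation "SUn" => (Cfsg.GU n F q ⊓ Cfsg.Geo.specialLinear (Fin n) F)

section field

variable (hF : Fintype.card F = q ^ 2) {F₀ : Subfield F} (hcard : Fintype.card F = Nat.card F₀ ^ 2)
include hF hcard

theorem mem_iff_fixed (x : F) : x ∈ F₀ ↔ x ^ q = x := by
  classical
  have hq : Nat.card F₀ = q := Nat.pow_left_injective two_ne_zero (by
    show Nat.card F₀ ^ 2 = q ^ 2
    rw [← hcard, hF])
  haveI := Fintype.ofFinite F₀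
  have hsub : (Finset.univ.filter fun x : F => x ∈ F₀) ⊆ Finset.univ.filter fun x : F => x ^ q = x := fun x hx => by
    rw [Finset.mem_filter] at hx ⊢
    refine ⟨Finset.mem_univ _, ?_⟩
    have h := congrArg Subtype.val (FiniteField.pow_card (⟨x, hx.2⟩ : F₀))
    rwa [← Nat.card_eq_fintype_card, hq] at h
  have hc : (Finset.univ.filter fun x : F => x ^ q = x).card ≤ q := by
    have hne : (Polynomial.X ^ q - Polynomial.X : Polynomial F) ≠ 0 :=
      FiniteField.X_pow_card_sub_X_ne_zero F (HermStd.one_lt_q hF)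
    refine (Finset.card_le_card (t := (Polynomial.X ^ q - Polynomial.X : Polynomial F).roots.toFinset)
      fun x hx => ?_).trans ((Multiset.toFinset_card_le _).trans ((Polynomial.card_roots' _).trans ?_))
    · rw [Finset.mem_filter] at hx
      rw [Multiset.mem_toFinset, Polynomial.mem_roots hne]
      simp [hx.2]
    · rw [FiniteField.X_pow_card_sub_X_natDegree_eq F (HermStd.one_lt_q hF)]
  have he := Finset.eq_of_subset_of_card_le hsub (hc.trans (by
    rw [← hq, Nat.card_eq_fintype_card, Fintype.card_subtype]))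
  simpa using Finset.ext_iff.1 he x

end field

theorem two_ne_zero_of_odd (hF : Fintype.card F = q ^ 2) (hodd : Odd q) : (2 : F) ≠ 0 := by
  intro h
  have h2 : ringChar F = 2 := by
    haveI : CharP F 2 := CharTwo.of_one_ne_zero_of_two_eq_zero one_ne_zero h
    exact ringChar.eq F 2
  have h1 := FiniteField.even_card_iff_char_two.1 h2
  rw [hF, Nat.odd_iff.1 (hodd.pow (n := 2))] at h1
  exact one_ne_zero h1

/-- a Siegel element with direction `w` and the standard correction -/
def Sg0 (q : ℕ) (M : Subgroup (GL (Fin n) F)) (a w : Fin n → F) : Prop :=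
  Cfsg.hermForm n F q w a = 0 ∧ ∃ g ∈ M, ∀ x, (g : Matrix Idx Idx F) *ᵥ x =
    x + Cfsg.hermForm n F q x a • w +
      (-Cfsg.hermForm n F q x w + -(Cfsg.hermForm n F q w w / 2) * Cfsg.hermForm n F q x a) • a

variable {M : Subgroup (GL (Fin n) F)}

section siegel

variable (hF : Fintype.card F = q ^ 2) {a : Fin n → F} (haa : Cfsg.hermForm n F q a a = 0)
include hF haa

theorem sg0_neg (h2 : (2 : F) ≠ 0) {w : Vec} (h : Sg0 q M a w) : Sg0 q M a (-w) := by
  obtain ⟨hw, g, hg, hgx⟩ := h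
  refine ⟨by rw [← neg_one_smul F w, H_smul_left, hw, mul_zero], g⁻¹, inv_mem hg, fun x =>
    Max.mulVec_inj g ?_⟩
  rw [Max.mulVec_inv_cancel]
  have e : ∀ y, H (-w) y = -H w y := fun y => by rw [← neg_one_smul F w, H_smul_left, neg_one_mul]
  simp only [hgx, H_neg_right hF, e, H_add_left, H_smul_left, haa, (H_eq_zero_comm hF).1 hw]
  simp only [hw]
  match_scalars <;> field_simp <;> ring

theorem sg0_comm {w w' : Vec} (h : Sg0 q M a w) (h' : Sg0 q M a w') :
    InM q M a (H w w' - H w' w) := by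
  obtain ⟨hw, g, hg, hgx⟩ := h
  obtain ⟨hw', g', hg', hgx'⟩ := h'
  refine inM_of (mul_mem (mul_mem hg hg') (inv_mem (mul_mem hg' hg))) fun x => ?_
  obtain ⟨y, rfl⟩ : ∃ y, ((g' * g : GLn) : Matrix Idx Idx F) *ᵥ y = x :=
    ⟨_, Max.mulVec_inv_cancel (g' * g) x⟩
  rw [Max.mulVec_mul_GL, Max.inv_mulVec_cancel]
  simp only [Max.mulVec_mul_GL, hgx, hgx', H_add_left, H_smul_left, haa, hw, hw',
    (H_eq_zero_comm hF).1 hw, (H_eq_zero_comm hF).1 hw']
  module

theorem sg0_add (h2 : (2 : F) ≠ 0) {w w' : Vec} (h : Sg0 q M a w) (h' : Sg0 q M a w')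
    (hr : H w w' = H w' w) : Sg0 q M a (w + w') := by
  obtain ⟨hw, g, hg, hgx⟩ := h
  obtain ⟨hw', g', hg', hgx'⟩ := h'
  refine ⟨by rw [H_add_left, hw, hw', add_zero], g * g', mul_mem hg hg', fun x => ?_⟩
  simp only [Max.mulVec_mul_GL, hgx, hgx', H_add_left, H_smul_left, haa, hw', (H_eq_zero_comm hF).1 hw,
    H_add_right hF, hr]
  match_scalars <;> field_simp <;> ring

theorem sg0_map (hMK : M ≤ SUn) {w : Vec} (h : Sg0 q M a w) {s : GLn} (hs : s ∈ M) :
    Sg0 q M ((s : Matrix Idx Idx F) *ᵥ a) ((s : Matrix Idx Idx F) *ᵥ w) := by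
  obtain ⟨hw, g, hg, hgx⟩ := h
  have hH : ∀ y z, H ((s : Matrix Idx Idx F) *ᵥ y) ((s : Matrix Idx Idx F) *ᵥ z) = H y z :=
    Unitary.SUn_H (hMK hs)
  refine ⟨by rw [hH, hw], s * g * s⁻¹, mul_mem (mul_mem hs hg) (inv_mem hs), fun x => ?_⟩
  obtain ⟨y, rfl⟩ : ∃ y, (s : Matrix Idx Idx F) *ᵥ y = x := ⟨_, Max.mulVec_inv_cancel s x⟩
  rw [Max.mulVec_mul_GL, Max.inv_mulVec_cancel, Max.mulVec_mul_GL, hgx, mulVec_add, mulVec_add, mulVec_smul,
    mulVec_smul, hH, hH, hH]

end siegel

section main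

variable (F₀ : Subfield F) (P : GL (Fin n) F)

/-- a rational vector -/
def rv (a : Fin n → F₀) : Fin n → F :=
  (P : Matrix (Fin n) (Fin n) F) *ᵥ SubfieldLinear.ic F₀ a

theorem rv_add (a b : Idx → F₀) : rv F₀ P (a + b) = rv F₀ P a + rv F₀ P b := by
  rw [rv, rv, rv, ← mulVec_add]; rfl

theorem rv_smul (t : F₀) (a : Idx → F₀) : rv F₀ P (t • a) = (t : F) • rv F₀ P a := by
  rw [rv, rv, SubfieldLinear.ic_smul, mulVec_smul]

theorem rv_zero : rv F₀ P 0 = 0 := by
  rw [rv, show SubfieldLinear.ic F₀ (0 : Idx → F₀) = 0 from rfl, mulVec_zero]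

theorem rv_eq_zero {a : Idx → F₀} (h : rv F₀ P a = 0) : a = 0 := by
  by_contra hne
  exact Max.mulVec_ne_zero P (SubfieldLinear.ic_ne_zero hne) h

set_option maxHeartbeats 4000000 in
theorem orth_in_unitary_maximal (hF : Fintype.card F = q ^ 2) (hn : 6 ≤ n) (hodd : Odd q)
    (hcard : Fintype.card F = Nat.card F₀ ^ 2)
    (hP : Cfsg.Geo.IsFormRationalStructure (Cfsg.hermForm n F q) F₀ 1 P)
    (G : Subgroup GLn) (hG : G ≤ SUn)
    (hlow : ∀ g ∈ SUn, (∃ k : F, k ≠ 0 ∧ ∀ a : Idx → F₀, ∃ b : Idx → F₀,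
      k • ((g : Matrix Idx Idx F) *ᵥ rv F₀ P a) = rv F₀ P b) → g ∈ G)
    (hhigh : ∀ g ∈ G, ∃ k : F, k ≠ 0 ∧ ∀ a : Idx → F₀, ∃ b : Idx → F₀,
      k • ((g : Matrix Idx Idx F) *ᵥ rv F₀ P a) = rv F₀ P b) :
    Cfsg.Geo.IsMaximalIn SUn G := by
  classical
  have hfix := mem_iff_fixed hF hcard
  have hpow : ∀ t : F₀, (t : F) ^ q = t := fun t => (hfix _).1 t.2
  have h2 : (2 : F) ≠ 0 := two_ne_zero_of_odd hF hodd
  have h20 : (2 : F₀) ≠ 0 := fun e => h2 (by simpa [map_ofNat] using congrArg F₀.subtype e)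
  obtain ⟨θ₀, hθ₀⟩ : ∃ θ : F, θ ∉ F₀ := by
    by_contra hc
    push Not at hc
    exact HermStd.qHom_ne_id hF (RingHom.ext fun x => (hfix x).1 (hc x))
  set θ := θ₀ - θ₀ ^ q with hθdef
  have hθs : θ + θ ^ q = 0 := by
    rw [hθdef, ← HermStd.qHom_apply hF, ← HermStd.qHom_apply hF, map_sub, HermStd.qHom_qHom]
    ring
  have hθ0 : θ ≠ 0 := sub_ne_zero.2 fun e => hθ₀ ((hfix _).2 e.symm)
  have hθq : θ ^ q = -θ := eq_neg_of_add_eq_zero_right hθs
  have hθ : θ ∉ F₀ := fun h => hθ0 (by
    have h1 : (2 : F) * θ = 0 := by linear_combination hθs - (hfix θ).1 h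
    exact (mul_eq_zero.1 h1).resolve_left h2)
  -- decomposition of a vector
  have hdec : ∀ v : Vec, ∃ a b : Idx → F₀, v = rv F₀ P a + θ • rv F₀ P b := by
    intro v
    set w := ((P⁻¹ : GLn) : Matrix Idx Idx F) *ᵥ v
    have hy : ∀ i, (w i - w i ^ q) / (2 * θ) ∈ F₀ := fun i => by
      rw [hfix, ← HermStd.qHom_apply hF, map_div₀, map_sub, map_mul, map_ofNat, HermStd.qHom_apply,
        HermStd.qHom_apply, HermStd.qHom_apply, pow_qq hF, hθq, mul_neg, div_neg, ← neg_div, neg_sub]
    have hx : ∀ i, (w i + w i ^ q) / 2 ∈ F₀ := fun i => by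
      rw [hfix, ← HermStd.qHom_apply hF, map_div₀, map_add, map_ofNat, HermStd.qHom_apply,
        HermStd.qHom_apply, pow_qq hF, add_comm]
    refine ⟨fun i => ⟨_, hx i⟩, fun i => ⟨_, hy i⟩, ?_⟩
    rw [← Max.mulVec_inv_cancel P v, rv, rv, ← mulVec_smul, ← mulVec_add]
    congr 1
    funext i
    simp only [SubfieldLinear.ic, Pi.add_apply, Pi.smul_apply, smul_eq_mul]
    show w i = _
    field_simp
    ring
  -- the rational symmetric form
  have hrat : ∀ a b : Idx → F₀, H (rv F₀ P a) (rv F₀ P b) ∈ F₀ := fun a b => by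
    have h := hP _ _ (fun i => (a i).2) (fun i => (b i).2)
    rw [one_mul] at h
    exact h
  let B0 : LinearMap.BilinForm F₀ (Idx → F₀) :=
    LinearMap.mk₂ F₀ (fun a b => (⟨H (rv F₀ P a) (rv F₀ P b), hrat a b⟩ : F₀))
      (fun a a' b => Subtype.ext (by simp [rv_add, H_add_left]))
      (fun t a b => Subtype.ext (by simp [rv_smul, H_smul_left]))
      (fun a b b' => Subtype.ext (by simp [rv_add, H_add_right hF]))
      (fun t a b => Subtype.ext (by simp [rv_smul, H_smul_right, hpow]))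
  have hB : ∀ a b, H (rv F₀ P a) (rv F₀ P b) = ((B0 a b : F₀) : F) := fun a b => rfl
  have hswap : ∀ a b, B0 b a = B0 a b := fun a b => Subtype.ext (by
    rw [← hB, ← hB, ← H_conj hF, hB, hpow])
  have hnd : B0.Nondegenerate := by
    have hl : ∀ a, (∀ b, B0 a b = 0) → a = 0 := fun a h => rv_eq_zero F₀ P (eq_zero_of_H hF fun v => by
      obtain ⟨x, y, rfl⟩ := hdec v
      rw [H_add_right hF, H_smul_right, hB, hB, h x, h y]
      simp)
    exact ⟨hl, fun b h => hl b fun a => by rw [hswap a b, h a]⟩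
  have hrefl : B0.IsRefl := fun a b h => by rw [hswap, h]
  have hdual : ∀ (a : Idx → F₀) (S : Submodule F₀ (Idx → F₀)), a ∉ S →
      ∃ e, (∀ s ∈ S, B0 s e = 0) ∧ B0 a e = 1 := fun a S h => by
    obtain ⟨y, hy, hay⟩ := Max.not_mem_perp hnd hrefl h
    exact ⟨(B0 a y)⁻¹ • y, fun s hs => by
      rw [map_smul, LinearMap.BilinForm.mem_orthogonal_iff.1 hy s hs, smul_zero],
      by rw [map_smul, smul_eq_mul, inv_mul_cancel₀ hay]⟩
  -- dimensions
  have hperp : ∀ {k : ℕ} (f : Fin k → Idx → F₀) (C : Submodule F₀ (Idx → F₀)),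
      Module.finrank F₀ C ≤ Module.finrank F₀ ↥(LinearMap.ker (LinearMap.pi fun i => B0 (f i)) ⊓ C) + k := by
    intro k f C
    set L := LinearMap.pi fun i => B0 (f i)
    have h3 := LinearMap.finrank_range_add_finrank_ker (L.domRestrict C)
    have h4 := Submodule.finrank_le (LinearMap.range (L.domRestrict C))
    rw [Module.finrank_fintype_fun_eq_card, Fintype.card_fin] at h4
    have e : Module.finrank F₀ (LinearMap.ker (L.domRestrict C)) = Module.finrank F₀ ↥(LinearMap.ker L ⊓ C) := by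
      rw [LinearMap.ker_domRestrict, ← Submodule.finrank_map_subtype_eq, Submodule.map_comap_subtype, inf_comm]
    omega
  have hsing : ∀ S : Submodule F₀ (Idx → F₀), 3 ≤ Module.finrank F₀ S → ∃ x ∈ S, x ≠ 0 ∧ B0 x x = 0 := by
    intro S hS
    by_contra hc
    push Not at hc
    obtain ⟨a, ha, ha0⟩ := Submodule.exists_mem_ne_zero_of_ne_bot (p := S) (fun h => by
      rw [h, finrank_bot] at hS; omega)
    obtain ⟨b, hb, hb0⟩ := Submodule.exists_mem_ne_zero_of_ne_bot
      (p := LinearMap.ker (LinearMap.pi fun i => B0 (![a] i)) ⊓ S) (fun h => by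
        have := hperp ![a] S; rw [h, finrank_bot] at this; omega)
    obtain ⟨c, hc', hc0⟩ := Submodule.exists_mem_ne_zero_of_ne_bot
      (p := LinearMap.ker (LinearMap.pi fun i => B0 (![a, b] i)) ⊓ S) (fun h => by
        have := hperp ![a, b] S; rw [h, finrank_bot] at this; omega)
    have hab : B0 a b = 0 := by simpa using congrFun (LinearMap.mem_ker.1 hb.1) 0
    have hac : B0 a c = 0 := by simpa using congrFun (LinearMap.mem_ker.1 hc'.1) 0
    have hbc : B0 b c = 0 := by simpa using congrFun (LinearMap.mem_ker.1 hc'.1) 1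
    have haa := hc a ha ha0
    have hbb := hc b hb.2 hb0
    haveI := Fintype.ofFinite F₀
    obtain ⟨s, t, hst⟩ := FiniteField.exists_root_sum_quadratic
      (f := Polynomial.C (B0 a a) * Polynomial.X ^ 2 + Polynomial.C (B0 c c))
      (g := Polynomial.C (B0 b b) * Polynomial.X ^ 2)
      (by
        rw [Polynomial.degree_add_eq_left_of_degree_lt]
        · exact Polynomial.degree_C_mul_X_pow 2 haa
        · rw [Polynomial.degree_C_mul_X_pow 2 haa]
          exact Polynomial.degree_C_le.trans_lt (by norm_num))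
      (Polynomial.degree_C_mul_X_pow 2 hbb)
      (FiniteField.odd_card_of_char_ne_two fun h => h20 (by
        haveI : CharP F₀ 2 := h ▸ ringChar.charP F₀
        exact CharTwo.two_eq_zero))
    simp at hst
    refine hc (s • a + t • b + c) (S.add_mem (S.add_mem (S.smul_mem _ ha) (S.smul_mem _ hb.2)) hc'.2) (fun e => ?_) ?_
    · have := congrArg (B0 c) e
      simp [hrefl a c hac, hrefl b c hbc] at this
      exact hc c hc'.2 hc0 this
    · simp [hab, hac, hbc, hrefl a b hab, hrefl a c hac, hrefl b c hbc]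
      linear_combination hst
  have htop : Module.finrank F₀ (⊤ : Submodule F₀ (Idx → F₀)) = n := by
    rw [finrank_top, Module.finrank_fintype_fun_eq_card, Fintype.card_fin]
  -- a singular vector orthogonal to given ones and outside their span
  have hnew : ∀ {k : ℕ} (f : Fin k → Idx → F₀), 2 * k + 3 ≤ n → ∃ z, z ∉ Submodule.span F₀ (Set.range f) ∧
      (∀ i, B0 (f i) z = 0) ∧ B0 z z = 0 := by
    intro k f hk
    obtain ⟨C, hC⟩ := Submodule.exists_isCompl (Submodule.span F₀ (Set.range f))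
    have h1 := hperp f C
    have h3 := Submodule.finrank_add_eq_of_isCompl hC
    have h5 : Module.finrank F₀ (Submodule.span F₀ (Set.range f)) ≤ k :=
      (finrank_range_le_card f).trans_eq (Fintype.card_fin k)
    rw [Module.finrank_fintype_fun_eq_card, Fintype.card_fin] at h3
    obtain ⟨z, hz, hz0, hzz⟩ := hsing _ (show 3 ≤ Module.finrank F₀
      ↥(LinearMap.ker (LinearMap.pi fun i => B0 (f i)) ⊓ C) by omega)
    exact ⟨z, fun hm => hz0 (Submodule.disjoint_def.1 hC.disjoint z hm hz.2),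
      fun i => congrFun (LinearMap.mem_ker.1 hz.1) i, hzz⟩
  have hH2 : ∀ a b, H (rv F₀ P a) (rv F₀ P b) - H (rv F₀ P b) (rv F₀ P a) = 0 := fun a b => by
    rw [hB, hB, hswap, sub_self]
  have hH0 : ∀ {a}, B0 a a = 0 → H (rv F₀ P a) (rv F₀ P a) = 0 := fun {a} h => by rw [hB, h]; rfl
  refine isMaximalIn_of hG (fun hle => ?_) fun M hM hMK g hgM hg => ?_
  · obtain ⟨a, haS, -, haa⟩ := hnew (![] : Fin 0 → Idx → F₀) (by omega)
    have ha : a ≠ 0 := fun e => haS (e ▸ zero_mem _)
    obtain ⟨e, -, hae⟩ := hdual a ⊥ (by simpa using ha)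
    obtain ⟨s, hs, hsx⟩ := Unitary.exists_tv hF (hH0 haa) hθs
    obtain ⟨k, hk, hkF⟩ := hhigh s (hle hs)
    obtain ⟨b, hb⟩ := hkF a
    rw [hsx, hH0 haa, mul_zero, zero_smul, add_zero] at hb
    have hae' : H (rv F₀ P a) (rv F₀ P e) = 1 := by rw [hB, hae]; rfl
    have hk' : k ∈ F₀ := by
      have := congrArg (fun v => H v (rv F₀ P e)) hb
      simp only [H_smul_left, hae', mul_one] at this
      rw [this]; exact hrat b e
    obtain ⟨b', hb'⟩ := hkF e
    rw [hsx, show H (rv F₀ P e) (rv F₀ P a) = 1 by rw [hB, hswap, hae]; rfl, mul_one] at hb'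
    have h3 := congrArg (fun v => H v (rv F₀ P e)) hb'
    simp only [H_smul_left, H_add_left, hae'] at h3
    refine hθ ?_
    rw [show θ = (H (rv F₀ P b') (rv F₀ P e) - k * H (rv F₀ P e) (rv F₀ P e)) / k by
      rw [eq_div_iff hk, ← h3]; ring]
    exact F₀.div_mem (sub_mem (hrat _ _) (mul_mem hk' (hrat _ _))) hk'
  -- rational Siegel elements
  have hSg : ∀ a w, B0 a a = 0 → B0 w a = 0 → Sg0 q M (rv F₀ P a) (rv F₀ P w) := by
    intro a w haa hwa
    obtain ⟨s, hs, hsx⟩ := Unitary.exists_siegel hF (hH0 haa) (b := rv F₀ P w)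
      (by rw [hB, hswap, hwa]; rfl) (β := -(H (rv F₀ P w) (rv F₀ P w) / 2)) (by
        rw [← HermStd.qHom_apply hF, map_neg, map_div₀, map_ofNat, HermStd.qHom_apply, Unitary.H_self_pow hF]
        field_simp
        ring)
    refine ⟨by rw [hB, hwa]; rfl, s, hM (hlow s hs ⟨1, one_ne_zero, fun x =>
      ⟨x + B0 x a • w + (-B0 x w + -(B0 w w / 2) * B0 x a) • a, ?_⟩⟩), hsx⟩
    rw [one_smul, hsx]
    simp only [rv_add, rv_smul, hB]
    push_cast
    rfl
  -- one root element with rational centre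
  obtain ⟨a₀, c₀, ha₀, ha₀₀, hc₀s, hc₀0, hT₀⟩ : ∃ a c, a ≠ 0 ∧ B0 a a = 0 ∧ c + c ^ q = 0 ∧ c ≠ 0 ∧
      InM q M (rv F₀ P a) c := by
    by_contra hcon
    have hno : ∀ a c, B0 a a = 0 → a ≠ 0 → c + c ^ q = 0 → InM q M (rv F₀ P a) c → c = 0 := by
      intro a c h1 h2' h3 h4
      by_contra h5
      exact hcon ⟨a, c, h2', h1, h3, h5, h4⟩
    -- an irrational image
    obtain ⟨a, ha, haa, hirr⟩ : ∃ a, a ≠ 0 ∧ B0 a a = 0 ∧
        ∀ (l : F) y, (g : Matrix Idx Idx F) *ᵥ rv F₀ P a ≠ l • rv F₀ P y := by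
      by_contra hline
      push Not at hline
      refine hg (hlow g (hMK hgM) ?_)
      have hline' : ∀ a, B0 a a = 0 → ∃ (l : F) (y : Idx → F₀), (g : Matrix Idx Idx F) *ᵥ rv F₀ P a = l • rv F₀ P y := by
        intro a haa
        rcases eq_or_ne a 0 with rfl | ha
        · exact ⟨0, 0, by rw [rv_zero, mulVec_zero, smul_zero]⟩
        · exact hline a ha haa
      choose lam y hy using hline'
      have hne : ∀ a (h : B0 a a = 0), a ≠ 0 → lam a h ≠ 0 := fun a h ha e =>
        Max.mulVec_ne_zero g (fun e => ha (rv_eq_zero F₀ P e)) (by rw [hy a h, e, zero_smul])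
      have hprod : ∀ a b (h : B0 a a = 0) (h' : B0 b b = 0), B0 a b ≠ 0 → lam a h * lam b h' ^ q ∈ F₀ :=
        fun a b h h' hab => by
          have e := Unitary.SUn_H (hMK hgM) (rv F₀ P a) (rv F₀ P b)
          rw [hy a h, hy b h', H_smul_left, H_smul_right, ← mul_assoc, hB, hB] at e
          have hy0 : ((B0 (y a h) (y b h') : F₀) : F) ≠ 0 := fun e0 => hab (Subtype.ext (by rw [← e, e0, mul_zero]; rfl))
          rw [(eq_div_iff hy0).2 e]
          exact F₀.div_mem (B0 a b).2 (B0 _ _).2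
      obtain ⟨a₁, ha₁S, -, ha₁₁⟩ := hnew (![] : Fin 0 → Idx → F₀) (by omega)
      have ha₁ : a₁ ≠ 0 := fun e => ha₁S (e ▸ zero_mem _)
      refine ⟨(lam a₁ ha₁₁)⁻¹, inv_ne_zero (hne _ _ ha₁), ?_⟩
      let T : Submodule F₀ (Idx → F₀) :=
        { carrier := {x | ∃ b : Idx → F₀, (lam a₁ ha₁₁)⁻¹ • ((g : Matrix Idx Idx F) *ᵥ rv F₀ P x) = rv F₀ P b}
          zero_mem' := ⟨0, by rw [rv_zero, mulVec_zero, smul_zero]⟩
          add_mem' := fun {x x'} ⟨b, hb⟩ ⟨b', hb'⟩ => ⟨b + b', by rw [rv_add, mulVec_add, smul_add, hb, hb', rv_add]⟩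
          smul_mem' := fun t x ⟨b, hb⟩ => ⟨t • b, by rw [rv_smul, mulVec_smul, smul_comm, hb, rv_smul]⟩ }
      have hTiso : ∀ x, B0 x x = 0 → x ∈ T := by
        intro x hxx
        rcases eq_or_ne x 0 with rfl | hx
        · exact T.zero_mem
        by_cases hxa : B0 x a₁ = 0
        swap
        · have h1 := F₀.div_mem (hprod x a₁ hxx ha₁₁ hxa) (show lam a₁ ha₁₁ * lam a₁ ha₁₁ ^ q ∈ F₀ by
            rw [hfix, mul_pow, pow_qq hF, mul_comm])
          rw [mul_div_mul_right _ _ (pow_ne_zero q (hne _ _ ha₁))] at h1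
          exact ⟨(⟨_, h1⟩ : F₀) • y x hxx, by rw [rv_smul, hy x hxx, smul_smul]; congr 1; show _ = _ / _; ring⟩
        obtain ⟨z, hzz, hzx, hza⟩ : ∃ z, B0 z z = 0 ∧ B0 x z ≠ 0 ∧ B0 a₁ z ≠ 0 := by
          obtain ⟨e₀, -, he₀⟩ := hdual a₁ ⊥ (by simpa using ha₁)
          set b := e₀ + (-(B0 e₀ e₀) / 2) • a₁ with hb
          have hab : B0 a₁ b = 1 := by rw [hb, map_add, map_smul, he₀, ha₁₁, smul_zero, add_zero]
          have hbb : B0 b b = 0 := by
            simp only [hb, map_add, map_smul, LinearMap.add_apply, LinearMap.smul_apply, ha₁₁, hswap a₁ e₀, he₀,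
              smul_eq_mul]
            field_simp
            ring
          by_cases hxb : B0 x b = 0
          swap
          · exact ⟨b, hbb, hxb, by rw [hab]; exact one_ne_zero⟩
          obtain ⟨w, hw, hxw⟩ := hdual x (Submodule.span F₀ ({a₁, b} : Set (Idx → F₀))) fun hm => by
            obtain ⟨t, t', rfl⟩ := Submodule.mem_span_pair.1 hm
            simp only [map_add, map_smul, LinearMap.add_apply, LinearMap.smul_apply, ha₁₁, hab, hbb, hswap a₁ b,
              smul_eq_mul, mul_zero, mul_one, zero_add, add_zero] at hxa hxb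
            exact hx (by rw [hxa, hxb, zero_smul, zero_smul, add_zero])
          have hwa : B0 a₁ w = 0 := hw a₁ (Submodule.subset_span (by simp))
          have hwb : B0 b w = 0 := hw b (Submodule.subset_span (by simp))
          refine ⟨b + w + (-(B0 w w) / 2) • a₁, ?_, ?_, ?_⟩
          · simp only [map_add, map_smul, LinearMap.add_apply, LinearMap.smul_apply, ha₁₁, hbb, hab, hwa, hwb,
              hswap a₁ b, hswap a₁ w, hswap b w, smul_eq_mul]
            field_simp
            ring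
          · simp [hxb, hxw, hxa]
          · simp [hab, hwa, ha₁₁]
        have hz0 : z ≠ 0 := fun e => hzx (by rw [e, map_zero])
        have h1 := F₀.div_mem (hprod x z hxx hzz hzx) (hprod a₁ z ha₁₁ hzz hza)
        rw [mul_div_mul_right _ _ (pow_ne_zero q (hne z hzz hz0))] at h1
        exact ⟨(⟨_, h1⟩ : F₀) • y x hxx, by rw [rv_smul, hy x hxx, smul_smul]; congr 1; show _ = _ / _; ring⟩
      obtain ⟨e, -, hae⟩ := hdual a₁ ⊥ (by simpa using ha₁)
      have hkey : ∀ x, B0 a₁ x ≠ 0 → x ∈ T := fun x hx => by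
        have h1 := hTiso (x + (-(B0 x x) / (2 * B0 a₁ x)) • a₁) (by
          simp only [map_add, map_smul, LinearMap.add_apply, LinearMap.smul_apply, ha₁₁, hswap a₁ x, smul_eq_mul]
          field_simp
          ring)
        simpa using T.sub_mem h1 (T.smul_mem (-(B0 x x) / (2 * B0 a₁ x)) (hTiso a₁ ha₁₁))
      intro x
      by_cases hx : B0 a₁ x = 0
      · have := T.sub_mem (hkey (x + e) (by rw [map_add, hx, hae, zero_add]; exact one_ne_zero))
          (hkey e (by rw [hae]; exact one_ne_zero))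
        rwa [add_sub_cancel_right] at this
      · exact hkey x hx
    set u := (g : Matrix Idx Idx F) *ᵥ rv F₀ P a with hu
    have huu : H u u = 0 := by rw [hu, Unitary.SUn_H (hMK hgM)]; exact hH0 haa
    -- no root element at `u`
    have hnoU : ∀ c, c + c ^ q = 0 → InM q M u c → c = 0 := fun c hc h => hno a c haa ha hc (by
      have := inM_map hF hMK (inv_mem hgM) huu hc h
      rwa [hu, Max.inv_mulVec_cancel] at this)
    have hskH : ∀ p r : Vec, H p r - H r p + (H p r - H r p) ^ q = 0 := fun p r => by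
      rw [← HermStd.qHom_apply hF, map_sub, HermStd.qHom_apply, HermStd.qHom_apply, H_conj hF, H_conj hF]
      ring
    have hreal : ∀ {W W'}, Sg0 q M u W → Sg0 q M u W' → H W W' = H W' W := fun {W W'} h h' =>
      sub_eq_zero.1 (hnoU _ (hskH _ _) (sg0_comm hF huu h h'))
    obtain ⟨x, y, hxy⟩ := hdec u
    have hindep : x ∉ Submodule.span F₀ {y} ∧ y ∉ Submodule.span F₀ {x} := by
      have hne : ∀ t : F₀, x ≠ t • y := fun t e => hirr ((t : F) + θ) y (by rw [hxy, e, rv_smul]; module)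
      have hne' : ∀ t : F₀, y ≠ t • x := fun t e =>
        hirr (1 + θ * t) x (by rw [hxy, e, rv_smul]; module)
      exact ⟨fun hm => by obtain ⟨t, ht⟩ := Submodule.mem_span_singleton.1 hm; exact hne t ht.symm,
        fun hm => by obtain ⟨t, ht⟩ := Submodule.mem_span_singleton.1 hm; exact hne' t ht.symm⟩
    have hzu : ∀ z, B0 x z = 0 → B0 y z = 0 → H u (rv F₀ P z) = 0 := fun z hzx hzy => by
      rw [hxy, H_add_left, H_smul_left, hB, hB, hzx, hzy]; simp
    -- an element meeting a rational singular vector orthogonal to `u`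
    have hexW : ∀ z, z ≠ 0 → ∃ W, Sg0 q M u W ∧ H W (rv F₀ P z) ≠ 0 := by
      intro z hz0
      by_contra hcW
      push Not at hcW
      obtain ⟨e, -, hae⟩ := hdual a ⊥ (by simpa using ha)
      have hWs : ∀ v, B0 v a = 0 → H ((g : Matrix Idx Idx F) *ᵥ rv F₀ P v) (rv F₀ P z) = 0 := fun v hv =>
        hcW _ (hu ▸ sg0_map hF (hH0 haa) hMK (hSg a v haa hv) hgM)
      -- then `z` would be proportional to `u`
      set z' := ((g⁻¹ : GLn) : Matrix Idx Idx F) *ᵥ rv F₀ P z with hz'
      have hz'v : ∀ v, B0 v a = 0 → H (rv F₀ P v) z' = 0 := fun v hv => by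
        rw [← Unitary.SUn_H (hMK hgM), hz', Max.mulVec_inv_cancel]
        exact hWs v hv
      set l := H z' (rv F₀ P e) with hl
      have hez : z' = l • rv F₀ P a := by
        rw [← sub_eq_zero]
        refine eq_zero_of_H hF fun v => (H_eq_zero_comm hF).1 ?_
        obtain ⟨v₁, v₂, rfl⟩ := hdec v
        have key : ∀ t, H (rv F₀ P t) (z' - l • rv F₀ P a) = 0 := fun t => by
          have h1 := hz'v (t - B0 t a • e) (by
            rw [map_sub, map_smul, LinearMap.sub_apply, LinearMap.smul_apply, hswap a e, hae, smul_eq_mul,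
              mul_one, sub_self])
          have et : rv F₀ P (t - B0 t a • e) + (B0 t a : F) • rv F₀ P e = rv F₀ P t := by
            rw [← rv_smul, ← rv_add, sub_add_cancel]
          rw [← et, H_sub_right hF, H_add_left, H_smul_left, h1, H_smul_right, H_add_left, H_smul_left, hB, hB,
            hl, H_conj hF]
          rw [show B0 e a = 1 by rw [hswap, hae], map_sub, map_smul, LinearMap.sub_apply, LinearMap.smul_apply,
            show B0 e a = 1 by rw [hswap, hae]]
          simp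
          ring
        rw [H_add_left, H_smul_left, key, key, mul_zero, add_zero]
      have hzl : rv F₀ P z = l • u := by
        rw [hu, ← mulVec_smul, ← hez, hz', Max.mulVec_inv_cancel]
      rcases eq_or_ne l 0 with h0 | h0
      · exact hz0 (rv_eq_zero F₀ P (hzl.trans (by rw [h0, zero_smul])))
      · exact hirr l⁻¹ z (by rw [hzl, inv_smul_smul₀ h0])
    -- the products at such a vector
    have hval : ∀ z w, z ≠ 0 → B0 z z = 0 → B0 x z = 0 → B0 y z = 0 → B0 x w = 0 → B0 y w = 0 → B0 z w = 0 →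
        B0 w w ≠ 0 → ∀ W, Sg0 q M u W → ∀ v, B0 v z = 0 → H W (rv F₀ P z) * H (rv F₀ P v) u ∈ F₀ := by
      intro z w hz0 hzz hzx hzy hwx hwy hwz hww W hW v hv
      obtain ⟨-, s, hs, hsx⟩ := hSg z w hzz (by rw [hswap, hwz])
      have hsu : (s : Matrix Idx Idx F) *ᵥ u = u := by rw [hsx, hzu z hzx hzy, hzu w hwx hwy]; simp
      have hdiff : ∀ {W}, Sg0 q M u W → Sg0 q M u ((s : Matrix Idx Idx F) *ᵥ W + -W) := fun {W} hW => by
        have h1 := sg0_map hF huu hMK hW hs
        rw [hsu] at h1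
        have h3 := sg0_neg hF huu h2 hW
        exact sg0_add hF huu h2 h1 h3 (hreal h1 h3)
      have hW2 := hdiff (hdiff hW)
      set k := -(H W (rv F₀ P z) * H (rv F₀ P w) (rv F₀ P w)) with hk
      have e2 : (s : Matrix Idx Idx F) *ᵥ ((s : Matrix Idx Idx F) *ᵥ W + -W) + -((s : Matrix Idx Idx F) *ᵥ W + -W) =
          k • rv F₀ P z := by
        rw [mulVec_add, mulVec_neg, hsx ((s : Matrix Idx Idx F) *ᵥ W), hsx W]
        simp only [H_add_left, H_smul_left, hH0 hzz, show H (rv F₀ P w) (rv F₀ P z) = 0 by rw [hB, hswap, hwz]; rfl,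
          show H (rv F₀ P z) (rv F₀ P w) = 0 by rw [hB, hwz]; rfl, hk]
        module
      rw [e2] at hW2
      -- the same element seen from `z`
      have hkq : (-(k ^ q)) ^ q = -k := by
        rw [← HermStd.qHom_apply hF, map_neg, HermStd.qHom_apply, pow_qq hF]
      have hzW : Sg0 q M (rv F₀ P z) (-(k ^ q) • u) := by
        obtain ⟨-, s', hs', hsx'⟩ := hW2
        refine ⟨by rw [H_smul_left, hzu z hzx hzy, mul_zero], s', hs', fun v => ?_⟩
        rw [hsx']
        simp only [H_smul_left, H_smul_right, huu, hH0 hzz, hkq, mul_zero, zero_div, neg_zero, zero_mul, add_zero]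
        module
      have h1 := sg0_comm hF (hH0 hzz) (hSg z v hzz hv) hzW
      have h3 := hno z _ hzz hz0 (hskH _ _) h1
      rw [H_smul_right, H_smul_left, hkq, ← H_conj hF (rv F₀ P v) u] at h3
      have hkF : -k * H (rv F₀ P v) u ∈ F₀ := by
        rw [hfix, ← HermStd.qHom_apply hF, map_mul, map_neg, HermStd.qHom_apply, HermStd.qHom_apply]
        linear_combination -h3
      have hwF : H (rv F₀ P w) (rv F₀ P w) ≠ 0 := by rw [hB]; exact fun e => hww (Subtype.ext e)
      rw [show H W (rv F₀ P z) * H (rv F₀ P v) u = -k * H (rv F₀ P v) u / H (rv F₀ P w) (rv F₀ P w) by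
        rw [hk]; field_simp]
      exact F₀.div_mem hkF (hrat _ _)
    by_cases hts : B0 x x = 0 ∧ B0 y y = 0 ∧ B0 x y = 0
    · -- both parts are singular and orthogonal
      obtain ⟨hxx, hyy, hxy'⟩ := hts
      have hyx : B0 y x = 0 := hrefl x y hxy'
      obtain ⟨f₁, hf₁, hxf⟩ := hdual x _ hindep.1
      obtain ⟨f₂, hf₂, hyf⟩ := hdual y _ hindep.2
      have hyf₁ : B0 y f₁ = 0 := hf₁ y (Submodule.mem_span_singleton_self y)
      have hxf₂ : B0 x f₂ = 0 := hf₂ x (Submodule.mem_span_singleton_self x)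
      obtain ⟨w, hwx, hwy, hww⟩ : ∃ w, B0 x w = 0 ∧ B0 y w = 0 ∧ B0 w w ≠ 0 := by
        obtain ⟨v, hv, hv0⟩ := Submodule.exists_mem_ne_zero_of_ne_bot
          (p := LinearMap.ker (LinearMap.pi fun i => B0 (![x, y, f₁, f₂] i)) ⊓ ⊤) (fun h => by
            have := hperp ![x, y, f₁, f₂] ⊤; rw [h, finrank_bot, htop] at this; omega)
        have hvx : B0 x v = 0 := congrFun (LinearMap.mem_ker.1 hv.1) 0
        have hvy : B0 y v = 0 := congrFun (LinearMap.mem_ker.1 hv.1) 1
        have hvf₁ : B0 f₁ v = 0 := congrFun (LinearMap.mem_ker.1 hv.1) 2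
        have hvf₂ : B0 f₂ v = 0 := congrFun (LinearMap.mem_ker.1 hv.1) 3
        by_cases hvv : B0 v v = 0
        swap
        · exact ⟨v, hvx, hvy, hvv⟩
        obtain ⟨f, hf, hvf⟩ := hdual v (Submodule.span F₀ ({x, y} : Set (Idx → F₀))) fun hm => by
          obtain ⟨s, t, rfl⟩ := Submodule.mem_span_pair.1 hm
          simp only [map_add, map_smul, hrefl x f₁, hswap x f₁, hxf, hswap y f₁, hyf₁, smul_eq_mul, mul_one,
            mul_zero, add_zero] at hvf₁
          simp only [map_add, map_smul, hswap x f₂, hxf₂, hswap y f₂, hyf, smul_eq_mul, mul_one, mul_zero,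
            zero_add] at hvf₂
          exact hv0 (by rw [hvf₁, hvf₂, zero_smul, zero_smul, add_zero])
        have hfx := hf x (Submodule.subset_span (by simp))
        have hfy := hf y (Submodule.subset_span (by simp))
        by_cases hff : B0 f f = 0
        · refine ⟨v + f, by rw [map_add, hvx, hfx, add_zero], by rw [map_add, hvy, hfy, add_zero], ?_⟩
          simp only [map_add, LinearMap.add_apply, hvv, hff, hswap v f, hvf, zero_add, add_zero]
          rw [one_add_one_eq_two]
          exact h20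
        · exact ⟨f, hfx, hfy, hff⟩
      obtain ⟨W, hW, hWx⟩ := hexW x (fun e => hindep.1 (e ▸ zero_mem _))
      have hHf₁ : H (rv F₀ P f₁) u = 1 := by
        rw [hxy, H_add_right hF, H_smul_right, hB, hB, hswap x f₁, hxf, hswap y f₁, hyf₁]; simp
      have hHf₂ : H (rv F₀ P f₂) u = -θ := by
        rw [hxy, H_add_right hF, H_smul_right, hB, hB, hswap x f₂, hxf₂, hswap y f₂, hyf, hθq]; simp
      have h1 := hval y w (fun e => hindep.2 (e ▸ zero_mem _)) hyy hxy' hyy hwx hwy hwy hww W hW f₁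
        (by rw [hswap, hyf₁])
      rw [hHf₁, mul_one] at h1
      set β := H W (rv F₀ P y)
      have hWu : H W (rv F₀ P x) = θ * β := by
        have h0 := hW.1
        rw [hxy, H_add_right hF, H_smul_right, hθq] at h0
        linear_combination h0
      have h3 := hval (x + y) w (fun e => hindep.1 (Submodule.mem_span_singleton.2
          ⟨-1, by rw [neg_one_smul]; exact (eq_neg_of_add_eq_zero_left e).symm⟩))
        (by simp [hxx, hyy, hxy', hyx]) (by rw [map_add, hxx, hxy', add_zero]) (by rw [map_add, hyx, hyy, add_zero])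
        hwx hwy (by rw [map_add, LinearMap.add_apply, hwx, hwy, add_zero]) hww W hW (f₁ - f₂)
        (by simp [hswap x f₁, hswap x f₂, hswap y f₁, hswap y f₂, hxf, hxf₂, hyf₁, hyf])
      rw [show rv F₀ P (f₁ - f₂) = rv F₀ P f₁ - rv F₀ P f₂ by
        rw [eq_sub_iff_add_eq, ← rv_add, sub_add_cancel], H_sub_left, hHf₁, hHf₂, rv_add, H_add_right hF, hWu] at h3
      have hβθ : 2 * β * θ ∈ F₀ := by
        have hsq : θ * θ ∈ F₀ := by
          rw [hfix, mul_pow, hθq, neg_mul_neg]
        have := sub_mem h3 (add_mem (mul_mem hsq h1) h1)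
        convert this using 1
        ring
      have hβ : β = 0 := by
        by_contra hβ
        refine hθ ?_
        rw [show θ = 2 * β * θ / (2 * β) by field_simp]
        exact F₀.div_mem hβθ (mul_mem (by rw [show (2 : F) = 1 + 1 by norm_num]; exact add_mem (one_mem _) (one_mem _)) h1)
      exact hWx (by rw [hWu, hβ, mul_zero])
    -- the plane of the two parts is non-degenerate
    have hgram : ∀ s t : F₀, B0 x (s • x + t • y) = 0 → B0 y (s • x + t • y) = 0 → s = 0 ∧ t = 0 := by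
      intro s t e1 e2
      have huu' : (B0 x x : F) - θ ^ 2 * (B0 y y : F) = 0 := by
        have h0 := huu
        simp only [hxy, H_add_left, H_add_right hF, H_smul_left, H_smul_right, hB, hθq, hswap x y] at h0
        linear_combination h0
      simp only [map_add, map_smul, hswap x y, smul_eq_mul] at e1 e2
      set a' := B0 x x
      set b' := B0 x y
      set c' := B0 y y
      by_contra hst
      have hdet : a' * c' - b' * b' = 0 := by
        rcases not_and_or.1 hst with h | h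
        · exact (mul_eq_zero.1 (show s * (a' * c' - b' * b') = 0 by linear_combination c' * e1 - b' * e2)).resolve_left h
        · exact (mul_eq_zero.1 (show t * (a' * c' - b' * b') = 0 by linear_combination a' * e2 - b' * e1)).resolve_left h
      have hd : (a' : F) * c' - b' * b' = 0 := by simpa using congrArg (fun t : F₀ => (t : F)) hdet
      have h4 : (θ * c' - b') * (θ * c' + b') = 0 := by linear_combination hd - (c' : F) * huu'
      have hc0 : (c' : F) = 0 := by
        by_contra hc0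
        refine hθ ?_
        rcases mul_eq_zero.1 h4 with h5 | h5
        · rw [show θ = (b' : F) / c' by rw [eq_div_iff hc0]; linear_combination h5]
          exact F₀.div_mem b'.2 c'.2
        · rw [show θ = -(b' : F) / c' by rw [eq_div_iff hc0]; linear_combination h5]
          exact F₀.div_mem (neg_mem b'.2) c'.2
      refine hts ⟨Subtype.ext ?_, Subtype.ext hc0, Subtype.ext ?_⟩
      · show (a' : F) = 0
        linear_combination huu' + θ ^ 2 * hc0
      · show (b' : F) = 0
        rw [hc0, mul_zero, zero_sub, neg_eq_zero] at hd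
        exact mul_self_eq_zero.1 hd
    obtain ⟨z, hzm, hz0, hzz⟩ := hsing (LinearMap.ker (LinearMap.pi fun i => B0 (![x, y] i)) ⊓ ⊤) (by
      have := hperp ![x, y] ⊤; rw [htop] at this; omega)
    have hzx : B0 x z = 0 := congrFun (LinearMap.mem_ker.1 hzm.1) 0
    have hzy : B0 y z = 0 := congrFun (LinearMap.mem_ker.1 hzm.1) 1
    have hnz : ∀ t t' : F₀, t • x + t' • y ≠ z := fun t t' e => by
      obtain ⟨h5, h6⟩ := hgram t t' (by rw [e]; exact hzx) (by rw [e]; exact hzy)
      exact hz0 (by rw [← e, h5, h6, zero_smul, zero_smul, add_zero])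
    -- an anisotropic vector orthogonal to them
    obtain ⟨w, hwx, hwy, hwz, hww⟩ : ∃ w, B0 x w = 0 ∧ B0 y w = 0 ∧ B0 z w = 0 ∧ B0 w w ≠ 0 := by
      obtain ⟨e, he, hze⟩ := hdual z (Submodule.span F₀ (Set.range ![x, y])) fun hm => by
        rw [range_cons_cons_empty, Submodule.mem_span_pair] at hm
        obtain ⟨t, t', ht⟩ := hm
        exact hnz t t' ht
      have hxe : B0 x e = 0 := he x (Submodule.subset_span ⟨0, rfl⟩)
      have hye : B0 y e = 0 := he y (Submodule.subset_span ⟨1, rfl⟩)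
      obtain ⟨v, hv, hv0⟩ := Submodule.exists_mem_ne_zero_of_ne_bot
        (p := LinearMap.ker (LinearMap.pi fun i => B0 (![x, y, z, e] i)) ⊓ ⊤) (fun h => by
          have := hperp ![x, y, z, e] ⊤; rw [h, finrank_bot, htop] at this; omega)
      have hvx : B0 x v = 0 := congrFun (LinearMap.mem_ker.1 hv.1) 0
      have hvy : B0 y v = 0 := congrFun (LinearMap.mem_ker.1 hv.1) 1
      have hvz : B0 z v = 0 := congrFun (LinearMap.mem_ker.1 hv.1) 2
      have hve : B0 e v = 0 := congrFun (LinearMap.mem_ker.1 hv.1) 3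
      by_cases hvv : B0 v v = 0
      swap
      · exact ⟨v, hvx, hvy, hvz, hvv⟩
      obtain ⟨f, hf, hvf⟩ := hdual v (Submodule.span F₀ (Set.range ![x, y, z])) fun hm => by
        obtain ⟨c, hc⟩ := (Submodule.mem_span_range_iff_exists_fun F₀).1 hm
        simp only [Fin.sum_univ_three, Matrix.cons_val_zero, Matrix.cons_val_one, Matrix.cons_val] at hc
        subst hc
        simp only [map_add, map_smul, hswap x e, hswap y e, hswap z e, hxe, hye, hze, smul_eq_mul, mul_zero, mul_one,
          zero_add] at hve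
        rw [hve, zero_smul, add_zero] at hvx hvy hv0
        obtain ⟨h5, h6⟩ := hgram _ _ hvx hvy
        exact hv0 (by rw [h5, h6, zero_smul, zero_smul, add_zero])
      have hfx : B0 x f = 0 := hf x (Submodule.subset_span ⟨0, rfl⟩)
      have hfy : B0 y f = 0 := hf y (Submodule.subset_span ⟨1, rfl⟩)
      have hfz : B0 z f = 0 := hf z (Submodule.subset_span ⟨2, rfl⟩)
      by_cases hff : B0 f f = 0
      · refine ⟨v + f, by rw [map_add, hvx, hfx, add_zero], by rw [map_add, hvy, hfy, add_zero],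
          by rw [map_add, hvz, hfz, add_zero], ?_⟩
        simp only [map_add, LinearMap.add_apply, hvv, hff, hswap v f, hvf, zero_add, add_zero]
        rw [one_add_one_eq_two]
        exact h20
      · exact ⟨f, hfx, hfy, hfz, hff⟩
    obtain ⟨W, hW, hWz⟩ := hexW z hz0
    have hpick : ∀ p o, p ∉ Submodule.span F₀ {o} → (∀ t t' : F₀, t • p + t' • o ≠ z) →
        ∃ v, B0 v z = 0 ∧ B0 v p = 1 ∧ B0 v o = 0 := by
      intro p o hpo hnz
      have : p ∉ Submodule.span F₀ ({o, z} : Set (Idx → F₀)) := fun hm => by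
        obtain ⟨t, t', ht⟩ := Submodule.mem_span_pair.1 hm
        rcases eq_or_ne t' 0 with rfl | ht'
        · exact hpo (Submodule.mem_span_singleton.2 ⟨t, by rw [← ht, zero_smul, add_zero]⟩)
        · exact hnz t'⁻¹ (-(t'⁻¹ * t)) (by rw [← ht, smul_add, inv_smul_smul₀ ht']; module)
      obtain ⟨v, hv, hpv⟩ := hdual p _ this
      exact ⟨v, by rw [hswap]; exact hv z (Submodule.subset_span (by simp)), by rw [hswap]; exact hpv,
        by rw [hswap]; exact hv o (Submodule.subset_span (by simp))⟩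
    obtain ⟨v₁, hv₁z, hv₁x, hv₁y⟩ := hpick x y hindep.1 hnz
    obtain ⟨v₂, hv₂z, hv₂y, hv₂x⟩ := hpick y x hindep.2 (fun t t' e => hnz t' t (by rw [add_comm]; exact e))
    have h1 := hval z w hz0 hzz hzx hzy hwx hwy hwz hww W hW v₁ hv₁z
    have h3 := hval z w hz0 hzz hzx hzy hwx hwy hwz hww W hW v₂ hv₂z
    simp only [hxy, H_add_right hF, H_smul_right, hB, hv₁x, hv₁y, hv₂x, hv₂y, hθq] at h1 h3
    simp at h1 h3
    refine hθ ?_
    rw [show θ = H W (rv F₀ P z) * θ / H W (rv F₀ P z) by field_simp]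
    exact F₀.div_mem h3 h1
  -- full root groups
  let K : (Idx → F₀) → F → Prop := fun a k => k ∈ F₀ ∧ InM q M (rv F₀ P a) (k * θ)
  have hskew : ∀ k ∈ F₀, k * θ + (k * θ) ^ q = 0 := fun k hk => by
    rw [mul_pow, (hfix k).1 hk, ← mul_add, hθs, mul_zero]
  have htrans : ∀ x y, B0 x x = 0 → B0 y y = 0 → x ≠ 0 → y ≠ 0 → ∀ k, K x k → K y k := by
    have step : ∀ x y, B0 x x = 0 → B0 y y = 0 → B0 x y = 0 → x ∉ Submodule.span F₀ {y} → y ≠ 0 →
        ∀ k, K x k → K y k := by
      intro x y hxx hyy hxy hind hy0 k hk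
      have hind' : y ∉ Submodule.span F₀ {x} := fun hm => by
        obtain ⟨t, rfl⟩ := Submodule.mem_span_singleton.1 hm
        rcases eq_or_ne t 0 with rfl | ht
        · exact hy0 (zero_smul _ _)
        · exact hind (Submodule.mem_span_singleton.2 ⟨t⁻¹, inv_smul_smul₀ ht x⟩)
      obtain ⟨e, he, hxe⟩ := hdual x _ hind
      obtain ⟨f, hf, hyf⟩ := hdual y _ hind'
      set b₀ := e + f
      have hxb : B0 x b₀ = 1 := by rw [map_add, hxe, hf x (Submodule.mem_span_singleton_self x), add_zero]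
      have hyb : B0 y b₀ = 1 := by rw [map_add, hyf, he y (Submodule.mem_span_singleton_self y), zero_add]
      set b := b₀ + (-(B0 b₀ b₀) / 2) • x with hb
      have hxb' : B0 x b = 1 := by rw [hb, map_add, map_smul, hxb, hxx, smul_zero, add_zero]
      have hyb' : B0 y b = 1 := by rw [hb, map_add, map_smul, hyb, hrefl x y hxy, smul_zero, add_zero]
      have hbb : B0 b b = 0 := by
        simp only [hb, map_add, map_smul, LinearMap.add_apply, LinearMap.smul_apply, hxx, hswap x b₀, hxb,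
          smul_eq_mul]
        field_simp
        ring
      obtain ⟨-, s, hs, hsx⟩ := hSg b (y - x) hbb (by
        rw [map_sub, LinearMap.sub_apply, hyb', hxb', sub_self])
      have e0 : B0 x (y - x) = 0 := by rw [map_sub, hxy, hxx, sub_self]
      have e1 : B0 (y - x) (y - x) = 0 := by
        simp [map_sub, hxx, hyy, hxy, hrefl x y hxy]
      have e : (s : Matrix Idx Idx F) *ᵥ rv F₀ P x = rv F₀ P y := by
        rw [hsx, hB x b, hB x (y - x), hB (y - x) (y - x), hxb', e0, e1]
        simp [← rv_add]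
      exact ⟨hk.1, e ▸ inM_map hF hMK hs (hH0 hxx) (hskew k hk.1) hk.2⟩
    intro x y hxx hyy hx hy k hk
    have two : ∀ m, B0 m m = 0 → m ≠ 0 → B0 x m = 0 → B0 m y = 0 → x ∉ Submodule.span F₀ {m} →
        m ∉ Submodule.span F₀ {y} → K y k := fun m hmm hm0 hxm hmy h1 h3 =>
      step m y hmm hyy hmy h3 hy k (step x m hxx hmm hxm h1 hm0 k hk)
    have hflip : ∀ {p m : Idx → F₀}, p ≠ 0 → m ∉ Submodule.span F₀ {p} → p ∉ Submodule.span F₀ {m} :=
      fun {p m} hp h hm => by
        obtain ⟨t, ht⟩ := Submodule.mem_span_singleton.1 hm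
        rcases eq_or_ne t 0 with rfl | ht0
        · exact hp (by rw [← ht, zero_smul])
        · exact h (Submodule.mem_span_singleton.2 ⟨t⁻¹, by rw [← ht, inv_smul_smul₀ ht0]⟩)
    by_cases hdep : x ∈ Submodule.span F₀ {y}
    · obtain ⟨t, ht⟩ := Submodule.mem_span_singleton.1 hdep
      obtain ⟨m, hmS, hm, hmm⟩ := hnew ![y] (by omega)
      have hmy : B0 y m = 0 := hm 0
      have hmy' : m ∉ Submodule.span F₀ {y} := fun h => hmS (Submodule.span_mono (by simp) h)
      refine two m hmm (fun e => hmS (e ▸ zero_mem _)) (by rw [← ht, map_smul, LinearMap.smul_apply, hmy, smul_zero])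
        (hrefl y m hmy) (fun h => hflip hy hmy' ?_) hmy'
      obtain ⟨t', ht'⟩ := Submodule.mem_span_singleton.1 h
      rcases eq_or_ne t 0 with rfl | ht0
      · exact absurd (by rw [← ht, zero_smul]) hx
      · exact Submodule.mem_span_singleton.2 ⟨t⁻¹ * t', by rw [mul_smul, ht', ← ht, inv_smul_smul₀ ht0]⟩
    by_cases hxy : B0 x y = 0
    · exact step x y hxx hyy hxy hdep hy k hk
    obtain ⟨m, hm, hm0, hmm⟩ := hsing (LinearMap.ker (LinearMap.pi fun i => B0 (![x, y] i)) ⊓ ⊤) (by
      have := hperp ![x, y] ⊤; rw [htop] at this; omega)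
    have hxm : B0 x m = 0 := congrFun (LinearMap.mem_ker.1 hm.1) 0
    have hym : B0 y m = 0 := congrFun (LinearMap.mem_ker.1 hm.1) 1
    refine two m hmm hm0 hxm (hrefl y m hym) (hflip hx fun h => ?_) fun h => ?_
    · obtain ⟨t, rfl⟩ := Submodule.mem_span_singleton.1 h
      rw [map_smul, smul_eq_mul] at hym
      exact hm0 (by rw [(mul_eq_zero.1 hym).resolve_right fun e => hxy (hrefl y x e), zero_smul])
    · obtain ⟨t, rfl⟩ := Submodule.mem_span_singleton.1 h
      rw [map_smul, smul_eq_mul] at hxm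
      exact hm0 (by rw [(mul_eq_zero.1 hxm).resolve_right hxy, zero_smul])
  have hKall : ∀ k ∈ F₀, ∀ a, B0 a a = 0 → InM q M (rv F₀ P a) (k * θ) := by
    intro k hk a haa
    rcases eq_or_ne a 0 with rfl | ha
    · rw [rv_zero]; exact inM_zero
    have hc' : c₀ / θ ∈ F₀ := by
      rw [hfix, div_pow, eq_neg_of_add_eq_zero_right hc₀s, hθq, neg_div_neg_eq]
    have hd : K a (c₀ / θ) := htrans a₀ a ha₀₀ haa ha₀ ha _ ⟨hc', by rwa [div_mul_cancel₀ _ hθ0]⟩
    set d := c₀ / θ
    have hd0 : d ≠ 0 := div_ne_zero hc₀0 hθ0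
    have hsq : ∀ m ∈ F₀, ∀ l, K a l → K a (m * m * l) := by
      intro m hm l hl
      refine ⟨mul_mem (mul_mem hm hm) hl.1, ?_⟩
      rcases eq_or_ne m 0 with rfl | hm0
      · simp only [zero_mul]; exact inM_coeff_zero
      have h1 := (htrans a ((⟨m, hm⟩ : F₀) • a) haa (by simp [haa]) ha
        (smul_ne_zero (fun e => hm0 (congrArg Subtype.val e)) ha) l hl).2
      intro s hs
      refine h1 s fun x => ?_
      rw [hs, rv_smul, H_smul_right, smul_smul]
      congr 2
      show _ = l * θ * (m ^ q * H x (rv F₀ P a)) * m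
      rw [(hfix m).1 hm]; ring
    have hadd : ∀ l l', K a l → K a l' → K a (l + l') := fun l l' hl hl' =>
      ⟨add_mem hl.1 hl'.1, by
        rw [add_mul]; exact inM_add hF (hH0 haa) (hskew l hl.1) (hskew l' hl'.1) hl.2 hl'.2⟩
    have hneg : ∀ l, K a l → K a (-l) := fun l hl =>
      ⟨neg_mem hl.1, by rw [neg_mul]; exact SubfieldUnitary.inM_neg hF (hH0 haa) (hskew l hl.1) hl.2⟩
    set m := k / d / 2 with hm
    have h2F : (2 : F) ∈ F₀ := by
      rw [show (2 : F) = 1 + 1 by norm_num]; exact add_mem (one_mem _) (one_mem _)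
    have hmF : m ∈ F₀ := F₀.div_mem (F₀.div_mem hk hc') h2F
    have h1 := hadd _ _ (hadd _ _ (hsq (m + 1) (add_mem hmF (one_mem _)) d hd) (hneg _ (hsq m hmF d hd))) (hneg _ hd)
    have e : (m + 1) * (m + 1) * d + -(m * m * d) + -d = k := by
      rw [hm]; field_simp; ring
    exact (e ▸ h1).2
  have hrc : ∀ a, B0 a a = 0 → rv F₀ P a ∈ Unitary.centres q M := fun a haa =>
    ⟨hH0 haa, fun s c hc hs => hKall (c / θ) (by
      rw [hfix, div_pow, eq_neg_of_add_eq_zero_right hc, hθq, neg_div_neg_eq]) a haa s fun x => by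
        rw [div_mul_cancel₀ _ hθ0]; exact hs x⟩
  -- all centres
  refine Unitary.SUn_le_of_centres hF (by omega) fun v hv => ?_
  obtain ⟨p₁, p₂, hp⟩ := hdec v
  by_cases hv0 : v = 0
  · obtain ⟨a, -, -, haa⟩ := hnew (![] : Fin 0 → Idx → F₀) (by omega)
    rw [hv0, ← zero_smul F (rv F₀ P a)]
    exact Unitary.centres_smul hF 0 (hrc a haa)
  obtain ⟨a, ha, haa, hva⟩ : ∃ a, a ≠ 0 ∧ B0 a a = 0 ∧ H v (rv F₀ P a) ≠ 0 := by
    by_contra hc
    push Not at hc
    refine hv0 (eq_zero_of_H hF fun t => ?_)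
    have key : ∀ t, H v (rv F₀ P t) = 0 := by
      obtain ⟨a₁, ha₁S, -, ha₁₁⟩ := hnew (![] : Fin 0 → Idx → F₀) (by omega)
      have ha₁ : a₁ ≠ 0 := fun e => ha₁S (e ▸ zero_mem _)
      obtain ⟨e, -, hae⟩ := hdual a₁ ⊥ (by simpa using ha₁)
      have hk : ∀ x, B0 a₁ x ≠ 0 → H v (rv F₀ P x) = 0 := fun x hx => by
        set c := -(B0 x x) / (2 * B0 a₁ x) with hc'
        have hne : x + c • a₁ ≠ 0 := fun e0 => hx (by simpa [ha₁₁] using congrArg (B0 a₁) e0)
        have h1 := hc _ hne (by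
          simp only [map_add, map_smul, LinearMap.add_apply, LinearMap.smul_apply, ha₁₁, hswap a₁ x, smul_eq_mul,
            hc']
          field_simp
          ring)
        rw [rv_add, rv_smul, H_add_right hF, H_smul_right, hc a₁ ha₁ ha₁₁, mul_zero, add_zero] at h1
        exact h1
      intro t
      by_cases ht : B0 a₁ t = 0
      · have h1 := hk (t + e) (by rw [map_add, ht, hae, zero_add]; exact one_ne_zero)
        rwa [rv_add, H_add_right hF, hk e (by rw [hae]; exact one_ne_zero), add_zero] at h1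
      · exact hk t ht
    obtain ⟨t₁, t₂, rfl⟩ := hdec t
    rw [H_add_right hF, H_smul_right, key, key, mul_zero, add_zero]
  obtain ⟨b₀, -, hab₀⟩ := hdual a ⊥ (by simpa using ha)
  set b := b₀ + (-(B0 b₀ b₀) / 2) • a with hb
  have hab : B0 a b = 1 := by rw [hb, map_add, map_smul, hab₀, haa, smul_zero, add_zero]
  have hbb : B0 b b = 0 := by
    simp only [hb, map_add, map_smul, LinearMap.add_apply, LinearMap.smul_apply, haa, hswap a b₀, hab₀, smul_eq_mul]
    field_simp
    ring
  have hba' : H (rv F₀ P b) (rv F₀ P a) = 1 := by rw [hB, hswap, hab]; rfl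
  set v' := (H v (rv F₀ P a))⁻¹ • v with hv'
  have hv'a : H v' (rv F₀ P a) = 1 := by rw [hv', H_smul_left, inv_mul_cancel₀ hva]
  have hav' : H (rv F₀ P a) v' = 1 := by rw [← H_conj hF, hv'a, one_pow]
  have hv'v' : H v' v' = 0 := by rw [hv', H_smul_left, H_smul_right, hv, mul_zero, mul_zero]
  obtain ⟨p, p', hpp⟩ := hdec (v' - rv F₀ P b)
  have hpa : B0 p a = 0 ∧ B0 p' a = 0 := by
    have h := congrArg (fun y => H y (rv F₀ P a)) hpp
    simp only [H_sub_left, hv'a, hba', sub_self, H_add_left, H_smul_left, hB] at h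
    have h' : ((B0 p' a : F₀) : F) = 0 := by
      by_contra h0
      refine hθ ?_
      rw [show θ = -((B0 p a : F₀) : F) / ((B0 p' a : F₀) : F) by
        rw [eq_div_iff h0]; linear_combination -h]
      exact F₀.div_mem (neg_mem (B0 p a).2) (B0 p' a).2
    rw [h', mul_zero, add_zero] at h
    exact ⟨Subtype.ext h.symm, Subtype.ext h'⟩
  have hraa := hH0 haa
  have hSR : ∀ w, B0 w a = 0 → SubfieldUnitary.Sg q M (rv F₀ P a) (rv F₀ P w) := fun w hw => by
    obtain ⟨h1, s, hs, hsx⟩ := hSg a w haa hw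
    exact ⟨h1, s, hs, _, hsx⟩
  have hST : ∀ w, B0 w w = 0 → B0 w a = 0 → SubfieldUnitary.Sg q M (rv F₀ P a) (θ • rv F₀ P w) := fun w hww hwa => by
    have := SubfieldUnitary.sg_of_inM hF hraa (k := 1) (hH0 hww) (by rw [hB, hwa]; rfl) hθs (by
      rw [one_smul, ← rv_add]
      exact fun s hs => (hrc _ (by simp [hww, hwa, haa, hrefl w a hwa])).2 s θ hθs hs)
      (SubfieldUnitary.inM_neg hF (hH0 hww) hθs fun s hs => (hrc w hww).2 s θ hθs hs)
    rwa [one_pow, mul_one] at this
  -- singular vectors span the orthogonal hyperplane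
  have hSp : ∀ w, B0 w a = 0 → SubfieldUnitary.Sg q M (rv F₀ P a) (θ • rv F₀ P w) := by
    obtain ⟨e, heS, hae, hee⟩ := hnew ![a] (by omega)
    have hea : B0 e a = 0 := hrefl a e (hae 0)
    have hk : ∀ w, B0 w a = 0 → B0 w e ≠ 0 → SubfieldUnitary.Sg q M (rv F₀ P a) (θ • rv F₀ P w) := by
      intro w hwa hwe
      set c := -(B0 w w) / (2 * B0 w e) with hc
      have h1 := hST (w + c • e) (by
        simp only [map_add, map_smul, LinearMap.add_apply, LinearMap.smul_apply, hee, hswap w e, smul_eq_mul, hc]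
        field_simp
        ring) (by rw [map_add, map_smul, LinearMap.add_apply, LinearMap.smul_apply, hwa, hea, smul_zero, add_zero])
      have h3 := hST (-c • e) (by simp [hee]) (by simp [hea])
      have := SubfieldUnitary.sg_add hF hraa h1 h3
      rwa [← smul_add, ← rv_add, neg_smul, add_neg_cancel_right] at this
    intro w hwa
    by_cases hwe : B0 w e = 0
    · obtain ⟨f, hf, hef⟩ := hdual e (Submodule.span F₀ {a}) fun h => heS (Submodule.span_mono (by simp) h)
      have hfa : B0 f a = 0 := hrefl a f (hf a (Submodule.mem_span_singleton_self a))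
      have hfe : B0 f e = 1 := by rw [hswap, hef]
      have h1 := hk (w + f) (by simp [hwa, hfa]) (by simp [hwe, hfe])
      have h3 := hk (-f) (by simp [hfa]) (by simp [hfe])
      have := SubfieldUnitary.sg_add hF hraa h1 h3
      rwa [← smul_add, ← rv_add, add_neg_cancel_right] at this
    · exact hk w hwa hwe
  obtain ⟨-, s, hs, β, hsx⟩ := SubfieldUnitary.sg_add hF hraa (hSR p hpa.1) (hSp p' hpa.2)
  rw [← hpp] at hsx
  have hc := Unitary.centres_map hF hMK hs (hrc b hbb)
  set γ := -H (rv F₀ P b) (v' - rv F₀ P b) + β * 1 with hγ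
  have e : (s : Matrix Idx Idx F) *ᵥ rv F₀ P b = v' + γ • rv F₀ P a := by
    rw [hsx, hba', one_smul, add_sub_cancel, ← hγ]
  rw [e] at hc
  have hγs : γ + γ ^ q = 0 := by
    have h := hc.1
    simp only [H_add_left, H_add_right hF, H_smul_left, H_smul_right, hv'v', hv'a, hav', hraa, mul_zero, mul_one,
      add_zero, zero_add] at h
    linear_combination h
  have hγs' : (-γ) + (-γ) ^ q = 0 := by
    rw [← HermStd.qHom_apply hF, map_neg, HermStd.qHom_apply]; linear_combination -hγs
  obtain ⟨t, -, htx⟩ := Unitary.exists_tv hF hraa hγs'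
  have := Unitary.centres_map hF hMK ((hrc a haa).2 t _ hγs' htx) hc
  have e2 : H (v' + γ • rv F₀ P a) (rv F₀ P a) = 1 := by rw [H_add_left, hv'a, H_smul_left, hraa, mul_zero, add_zero]
  rw [htx, e2, mul_one, neg_smul, add_neg_cancel_right] at this
  have := Unitary.centres_smul hF (H v (rv F₀ P a)) this
  rwa [hv', smul_smul, mul_inv_cancel₀ hva, one_smul] at this

end main

end Cfsg.Agent.Forms.Max.OrthInUnitary
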