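import Mathlib
import Cfsg.Agent.Lib.Forms.Max.Core
import Cfsg.Prelude.Def_GeometricClasses

/-!
# Stabilisers of decompositions into two subspaces
-/

set_option autoImplicit false

namespace Cfsg.Agent.Forms.Max.PairMem

open Matrix

variable {ι : Type} [Fintype ι] [DecidableEq ι] {F : Type*} [Field F]

theorem mem_iff (D : Fin 2 → Submodule F (ι → F)) (g : GL ι F) :
    g ∈ Cfsg.Geo.decompositionStabilizer D ↔
      (Max.img g (D 0) = D 0 ∧ Max.img g (D 1) = D 1) ∨ (Max.img g (D 0) = D 1 ∧ Max.img g (D 1) = D 0) := by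
  constructor
  · rintro ⟨σ, hσ⟩
    have hne : σ 0 ≠ σ 1 := fun e => zero_ne_one (σ.injective e)
    have h : ∀ i : Fin 2, i = 0 ∨ i = 1 := by decide
    rcases h (σ 0) with h0 | h0 <;> rcases h (σ 1) with h1 | h1
    · exact absurd (h0.trans h1.symm) hne
    · exact Or.inl ⟨(hσ 0).trans (by rw [h0]), (hσ 1).trans (by rw [h1])⟩
    · exact Or.inr ⟨(hσ 0).trans (by rw [h0]), (hσ 1).trans (by rw [h1])⟩
    · exact absurd (h0.trans h1.symm) hne
  · rintro (⟨h0, h1⟩ | ⟨h0, h1⟩)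
    · exact ⟨1, Fin.forall_fin_two.2 ⟨h0, h1⟩⟩
    · exact ⟨Equiv.swap 0 1, Fin.forall_fin_two.2 ⟨by simpa using h0, by simpa using h1⟩⟩

theorem isCompl {m : ℕ} {D : Fin 2 → Submodule F (ι → F)} (hD : Cfsg.Geo.IsMDecomposition m D) :
    IsCompl (D 0) (D 1) := by
  refine ⟨hD.indep.pairwiseDisjoint (show (0 : Fin 2) ≠ 1 by decide), codisjoint_iff.2 ?_⟩
  rw [← hD.iSup_eq_top]
  refine le_antisymm (sup_le (le_iSup D 0) (le_iSup D 1)) (iSup_le ?_)
  exact Fin.forall_fin_two.2 ⟨le_sup_left, le_sup_right⟩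

end Cfsg.Agent.Forms.Max.PairMem
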