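import Mathlib
import Cfsg.Agent.Lib.Forms.Max.OrthSingular
import Cfsg.Agent.Lib.Forms.Max.OrthNondegApply
import Cfsg.Agent.Lib.Forms.Max.OrthVector
import Cfsg.Agent.Lib.Forms.Max.PairMem
import Cfsg.Agent.Lib.Forms.Max.OrthExt
import Cfsg.Agent.Lib.Forms.Max.QuadExt
import Cfsg.Agent.Lib.Forms.Max.SubfieldOrth
import Cfsg.Agent.Lib.Forms.Max.SubfieldMem
import Cfsg.Agent.Lib.Forms.Max.PlaneBlocks.Maximal

/-!
# Geometric maximal subgroups of even-dimensional orthogonal groups of dimension at least ten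
-/

set_option autoImplicit false
set_option linter.unusedSectionVars false

namespace Cfsg.Agent.Forms.Max.OrthLists

open Matrix

variable {F : Type*} [Field F] [Fintype F] {n : ℕ} {R : QuadraticForm F (Fin n → F)}

theorem odd_dim (hR : (QuadraticMap.polarBilin R).Nondegenerate) (hn : 9 ≤ n) (heven : Even n)
    {W : Submodule F (Fin n → F)} (hW0 : W ≠ ⊥) (hW1 : W ≠ ⊤) (ho : Odd (Module.finrank F W))
    (hhalf : 2 * Module.finrank F W ≠ n) (hW : Cfsg.Geo.IsNondegenerateOn (QuadraticMap.polar ⇑R) W) :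
    Cfsg.Geo.IsMaximalIn (Cfsg.Geo.omegaGL ⇑R) (Cfsg.Geo.subspaceStabilizer W ⊓ Cfsg.Geo.omegaGL ⇑R) := by
  refine Orth.nondeg_maximal' hR (by simpa using hn) hW0 hW1 hW (fun h => absurd (by simpa using h) hhalf)
    fun P h2 _ _ hP _ => ?_
  have hd := Orth.finrank_perp hR W
  rw [Fintype.card_fin] at hd
  obtain ⟨a, ha⟩ := ho
  obtain ⟨b, hb⟩ := heven
  rcases hP with rfl | rfl <;> omega

theorem small_space (hR : (QuadraticMap.polarBilin R).Nondegenerate) (hn : 9 ≤ n)
    {W : Submodule F (Fin n → F)} (d : ℕ) (hd : Module.finrank F W = d) (hd0 : d ≠ 0) (hhalf : 2 * d < n)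
    (hperp : d + 2 ≠ n) (hW : Cfsg.Geo.IsNondegenerateOn (QuadraticMap.polar ⇑R) W)
    (hex : d = 2 → Cfsg.Geo.IsPlusTypeOn (⇑R) W → 4 ≤ Fintype.card F) :
    Cfsg.Geo.IsMaximalIn (Cfsg.Geo.omegaGL ⇑R) (Cfsg.Geo.subspaceStabilizer W ⊓ Cfsg.Geo.omegaGL ⇑R) := by
  have hp := Orth.finrank_perp hR W
  rw [Fintype.card_fin] at hp
  refine Orth.nondeg_maximal' hR (by simpa using hn) (fun e => hd0 (by rw [← hd, e, finrank_bot]))
    (fun e => ?_) hW (fun h => ?_) fun P h2 _ hPp hP hq => ?_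
  · rw [e, finrank_top, Module.finrank_fintype_fun_eq_card, Fintype.card_fin] at hd
    omega
  · rw [Fintype.card_fin] at h
    omega
  · rcases hP with rfl | rfl
    · have := hex (hd ▸ h2) hPp
      omega
    · omega

theorem vector (hR : (QuadraticMap.polarBilin R).Nondegenerate) (hn : 7 ≤ n) (hchar : ¬ Odd (Fintype.card F))
    {v : Fin n → F} (hv : R v ≠ 0) :
    Cfsg.Geo.IsMaximalIn (Cfsg.Geo.omegaGL ⇑R)
      (Cfsg.Geo.subspaceStabilizer (Submodule.span F {v}) ⊓ Cfsg.Geo.omegaGL ⇑R) := by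
  have h2 : (2 : F) = 0 := by
    by_contra h2
    refine hchar ?_
    rw [Nat.odd_iff]
    refine FiniteField.odd_card_of_char_ne_two fun hc => h2 ?_
    have : CharP F 2 := (ringChar.eq_iff).1 hc
    exact CharTwo.two_eq_zero
  have : CharP F 2 := CharTwo.of_one_ne_zero_of_two_eq_zero one_ne_zero h2
  exact Orth.vector_maximal hR (by simpa using hn) hv

theorem non_isometric (hR : (QuadraticMap.polarBilin R).Nondegenerate) (hn : 9 ≤ n) (k : ℕ) (hk : 2 * k = n)
    (hk2 : k ≠ 2) (D : Fin 2 → Submodule F (Fin n → F))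
    (hD : Cfsg.Geo.IsNondegenerateMDecomposition (QuadraticMap.polar ⇑R) k D)
    (hni : ¬ Cfsg.Geo.AreIsometricFor (⇑R) (D 0) (D 1)) :
    Cfsg.Geo.IsMaximalIn (Cfsg.Geo.omegaGL ⇑R)
      (Cfsg.Geo.decompositionStabilizer D ⊓ Cfsg.Geo.omegaGL ⇑R) := by
  have hd := hD.decomp
  have hdim := hd.finrank_eq
  have hperp : D 1 = Agent.Forms.Max.Orth.perp R (D 0) := by
    refine Submodule.eq_of_le_of_finrank_eq (fun x hx => Agent.Forms.Max.Orth.mem_perp.2 fun w hw =>
      hD.orthogonal 0 1 (by decide) w hw x hx) ?_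
    have := Agent.Forms.Max.Orth.finrank_perp hR (D 0)
    rw [hdim 0, Fintype.card_fin] at this
    rw [hdim 1]
    omega
  have hiso : ∀ (g : Cfsg.isometryGroup F ⇑R) {A C : Submodule F (Fin n → F)},
      Agent.Forms.Max.img (g : GL (Fin n) F) A = C → Cfsg.Geo.AreIsometricFor (⇑R) A C := by
    rintro g A _ rfl
    refine ⟨Submodule.equivMapOfInjective _ (fun x y h => Agent.Forms.Max.mulVec_inj (g : GL (Fin n) F)
      ((Matrix.toLin'_apply _ _).symm.trans (h.trans (Matrix.toLin'_apply _ _)))) A, fun w => ?_⟩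
    show R (Matrix.toLin' ((g : GL (Fin n) F) : Matrix (Fin n) (Fin n) F) (w : Fin n → F)) = R w
    rw [Matrix.toLin'_apply]
    exact Agent.Forms.QuadStd.iso_mulVec g (w : Fin n → F)
  have heq : Cfsg.Geo.decompositionStabilizer D ⊓ Cfsg.Geo.omegaGL ⇑R =
      Cfsg.Geo.subspaceStabilizer (D 0) ⊓ Cfsg.Geo.omegaGL ⇑R := by
    ext x
    refine and_congr_left fun hx => ?_
    obtain ⟨g, -, rfl⟩ := Subgroup.mem_map.1 hx
    refine (Agent.Forms.Max.PairMem.mem_iff D _).trans ⟨?_, fun h => ?_⟩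
    · rintro (⟨h0, -⟩ | ⟨h0, -⟩)
      · exact Agent.Forms.Max.stab_of_forall fun v hv => h0 ▸ Agent.Forms.Max.mulVec_mem_img hv
      · exact absurd (hiso g h0) hni
    · have key : ∀ {A : Submodule F (Fin n → F)},
          (Subgroup.subtype _ g) ∈ Cfsg.Geo.subspaceStabilizer A →
          Agent.Forms.Max.img (Subgroup.subtype _ g) A = A := fun {A} hA =>
        Submodule.eq_of_le_of_finrank_eq (fun v hv => by
          obtain ⟨a, ha, rfl⟩ := Agent.Forms.Max.mem_img.1 hv
          exact Agent.Forms.Max.map_of_stab hA ha) (Agent.Forms.Max.finrank_img _ A)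
      refine Or.inl ⟨key h, key ?_⟩
      have hm := (Agent.Forms.Max.Orth.stab_perp hR (D 0)).le ⟨h, hx⟩
      rw [hperp]
      exact hm.1
  rw [heq]
  have hk0 : k ≠ 0 := hd.pos.ne'
  refine Agent.Forms.Max.Orth.nondeg_maximal' hR (by simp; omega)
    (fun e => hk0 (by rw [← hdim 0, e, finrank_bot]))
    (fun e => by have := hdim 0; rw [e, finrank_top, Module.finrank_fintype_fun_eq_card, Fintype.card_fin] at this; omega)
    (hD.nondegenerate 0) (fun _ g => ?_) fun P h2 _ _ hP _ => ?_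
  · by_contra hc
    push Not at hc
    obtain ⟨e, he⟩ := hiso g (A := D 1) (C := D 0) (Submodule.eq_of_le_of_finrank_eq (fun v hv => by
      obtain ⟨a, ha, rfl⟩ := Agent.Forms.Max.mem_img.1 hv
      rw [← Agent.Forms.Reflections.act_apply]
      exact hc a (hperp ▸ ha)) (by rw [Agent.Forms.Max.finrank_img, hdim, hdim]))
    exact hni ⟨e.symm, fun w => by rw [← he, LinearEquiv.apply_symm_apply]⟩
  · rcases hP with rfl | rfl
    · rw [hdim 0] at h2; omega
    · rw [← hperp, hdim 1] at h2; omega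


/-- unitary groups over the quadratic extension -/
theorem unitary (hR : (QuadraticMap.polarBilin R).Nondegenerate) (hn : 10 ≤ n)
    (K : Subalgebra F (Matrix (Fin n) (Fin n) F)) (hK : Cfsg.Geo.IsFieldSubalgebra 2 K)
    (hac : Cfsg.Geo.IsAdjointClosedFor (QuadraticMap.polar ⇑R) K)
    (hnsa : ¬ Cfsg.Geo.IsSelfAdjointFor (QuadraticMap.polar ⇑R) K)
    (hsc : ∀ k ∈ K, ∃ c : F, ∀ v : (Fin n → F), R (Matrix.mulVec k v) = c * R v) :
    Cfsg.Geo.IsMaximalIn (Cfsg.Geo.omegaGL ⇑R) (Cfsg.Geo.subalgebraNormalizer K ⊓ Cfsg.Geo.omegaGL ⇑R) := by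
  classical
  haveI : Nonempty (Fin n) := ⟨⟨0, by omega⟩⟩
  obtain ⟨θ, a, N, hθ, hsq, hne, hirr, hspan⟩ := Agent.Forms.Max.QuadExt.exists_gen hK
  have hext : ∀ A C : Matrix (Fin n) (Fin n) F,
      (∀ u v, QuadraticMap.polar (⇑R) u (A *ᵥ v) = QuadraticMap.polar (⇑R) u (C *ᵥ v)) → A = C := fun A C h =>
    Matrix.ext_of_mulVec_single fun i => sub_eq_zero.1 (hR.2 _ fun u => by
      show QuadraticMap.polar (⇑R) u _ = 0
      rw [QuadraticMap.polar_sub_right, h, sub_self])
  obtain ⟨k', hk', hadj⟩ := hac θ hθ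
  have hk'sq : k' * k' = a • k' - N • (1 : Matrix (Fin n) (Fin n) F) := hext _ _ fun u v => by
    rw [← Matrix.mulVec_mulVec, ← hadj, ← hadj, Matrix.mulVec_mulVec, hsq]
    simp only [Matrix.sub_mulVec, Matrix.smul_mulVec, Matrix.one_mulVec, QuadraticMap.polar_sub_left,
      QuadraticMap.polar_sub_right, QuadraticMap.polar_smul_left, QuadraticMap.polar_smul_right, hadj]
  have hbar : k' = a • (1 : Matrix (Fin n) (Fin n) F) - θ := by
    have hprod : (k' - θ) * (k' - (a • (1 : Matrix (Fin n) (Fin n) F) - θ)) = 0 := by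
      simp only [Matrix.mul_sub, Matrix.sub_mul, Matrix.mul_smul, Matrix.mul_one, hk'sq, hK.comm k' hk' θ hθ, hsq]
      module
    have hne' : k' - θ ≠ 0 := fun e => hnsa fun k hk u v => by
      obtain ⟨s, t, rfl⟩ := hspan k hk
      simp only [Matrix.add_mulVec, Matrix.smul_mulVec, Matrix.one_mulVec, QuadraticMap.polar_add_left,
        QuadraticMap.polar_add_right, QuadraticMap.polar_smul_left, QuadraticMap.polar_smul_right, hadj, sub_eq_zero.1 e]
    obtain ⟨y, -, hy⟩ := hK.inv _ (K.sub_mem hk' hθ) hne'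
    refine sub_eq_zero.1 ?_
    calc k' - (a • (1 : Matrix (Fin n) (Fin n) F) - θ)
        = (y * (k' - θ)) * (k' - (a • (1 : Matrix (Fin n) (Fin n) F) - θ)) := by
          rw [mul_eq_one_comm.1 hy, Matrix.one_mul]
      _ = 0 := by rw [Matrix.mul_assoc, hprod, Matrix.mul_zero]
  have hadj' : ∀ u v, QuadraticMap.polar (⇑R) (θ *ᵥ u) v =
      a * QuadraticMap.polar (⇑R) u v - QuadraticMap.polar (⇑R) u (θ *ᵥ v) := fun u v => by
    rw [hadj, hbar, Matrix.sub_mulVec, Matrix.smul_mulVec, Matrix.one_mulVec, QuadraticMap.polar_sub_right,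
      QuadraticMap.polar_smul_right, smul_eq_mul]
  obtain ⟨u₀, v₀, huv⟩ : ∃ u v, QuadraticMap.polar (⇑R) u v ≠ 0 := by
    by_contra hc
    push Not at hc
    have := hR.1 (Pi.single (Classical.arbitrary (Fin n)) 1) (hc _)
    simpa using congrFun this (Classical.arbitrary (Fin n))
  have hscale : ∀ (k : Matrix (Fin n) (Fin n) F), k ∈ K → ∀ d : F,
      (∀ u v, QuadraticMap.polar (⇑R) (k *ᵥ u) (k *ᵥ v) = d * QuadraticMap.polar (⇑R) u v) →
      ∀ x, R (k *ᵥ x) = d * R x := by
    intro k hk d hd x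
    obtain ⟨c, hc⟩ := hsc k hk
    have h1 := hd u₀ v₀
    simp only [QuadraticMap.polar, ← Matrix.mulVec_add, hc] at h1
    have : c = d := mul_right_cancel₀ huv (by rw [QuadraticMap.polar]; linear_combination h1)
    rw [hc, this]
  have hTB : ∀ u v, QuadraticMap.polar (⇑R) (θ *ᵥ u) (θ *ᵥ v) = N * QuadraticMap.polar (⇑R) u v := fun u v => by
    rw [hadj', Matrix.mulVec_mulVec, hsq, Matrix.sub_mulVec, Matrix.smul_mulVec, Matrix.smul_mulVec,
      Matrix.one_mulVec, QuadraticMap.polar_sub_right, QuadraticMap.polar_smul_right, QuadraticMap.polar_smul_right,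
      smul_eq_mul, smul_eq_mul]
    ring
  have hQT := hscale θ hθ N hTB
  have hxT : ∀ x, QuadraticMap.polar (⇑R) x (θ *ᵥ x) = a * R x := fun x => by
    have h1 := hscale (1 + θ) (K.add_mem K.one_mem hθ) (1 + a + N) (fun u v => by
      simp only [Matrix.add_mulVec, Matrix.one_mulVec, QuadraticMap.polar_add_left, QuadraticMap.polar_add_right, hTB]
      rw [hadj' u v]
      ring) x
    rw [Matrix.add_mulVec, Matrix.one_mulVec, Agent.Classical.Orth.map_add', hQT] at h1
    linear_combination h1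
  let D : Agent.Forms.Max.OrthExt.Data R :=
    { T := Matrix.toLin' θ, a := a, N := N, hQ := hR, hn := by rw [Fintype.card_fin]; omega
      hirr := hirr
      hTT := fun x => by
        simp only [Matrix.toLin'_apply, Matrix.mulVec_mulVec, hsq, Matrix.sub_mulVec, Matrix.smul_mulVec, Matrix.one_mulVec]
      hadj := fun x y => by simp only [Matrix.toLin'_apply, hadj']
      hQT := fun x => by simp only [Matrix.toLin'_apply, hQT]
      hxT := fun x => by simp only [Matrix.toLin'_apply, hxT] }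
  refine Agent.Forms.Max.OrthExt.extension_maximal D _ inf_le_right (fun g hg h => ⟨?_, hg⟩) fun g hg => ?_
  · refine (Agent.Forms.Max.QuadExt.mem_normalizer hK hspan hθ hsq g).2 ?_
    simpa only [D, Matrix.toLin'_apply] using h
  · have := (Agent.Forms.Max.QuadExt.mem_normalizer hK hspan hθ hsq g).1 hg.1
    simpa only [D, Matrix.toLin'_apply] using this


theorem subfield (hR : (QuadraticMap.polarBilin R).Nondegenerate) (hn : 7 ≤ n) (F₀ : Subfield F) (r : ℕ)
    (P : Matrix.GeneralLinearGroup (Fin n) F) (ζ : F) (hr : r.Prime) (hcard : Fintype.card F = Nat.card F₀ ^ r)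
    (hζ : ζ ≠ 0) (hP : Cfsg.Geo.IsQuadFormRationalStructure (fun v : Fin n → F => ζ * R v) F₀ P) :
    Cfsg.Geo.IsMaximalIn (Cfsg.Geo.omegaGL ⇑R) (Cfsg.Geo.subfieldSubgroup F₀ P ⊓ Cfsg.Geo.omegaGL ⇑R) :=
  SubfieldOrth.subfield_maximal ⟨F₀, P, ζ, r, hR, by simpa using hn, hr, hcard, hζ, hP⟩ _
    inf_le_right
    (fun g hg h => ⟨(SubfieldMem.mem_subfieldSubgroup F₀ P g).2 h, hg⟩)
    (fun g hg => (SubfieldMem.mem_subfieldSubgroup F₀ P g).1 hg.1)

/-- with one isotropic plane all are isotropic -/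
theorem exists_sing_of (_hR : (QuadraticMap.polarBilin R).Nondegenerate) {t : ℕ}
    {D : Fin t → Submodule F (Fin n → F)} (hD : Cfsg.Geo.IsOrthogonalMDecomposition (⇑R) 2 D) {i : Fin t}
    (hi : ¬ PlaneBlocks.Aniso R (D i)) (l : Fin t) : ∃ e ∈ D l, e ≠ 0 ∧ R e = 0 := by
  simp only [PlaneBlocks.Aniso, not_forall] at hi
  obtain ⟨x, hx, hQx, hx0⟩ := hi
  obtain ⟨e, he⟩ := hD.isometric i l
  exact ⟨_, (e ⟨x, hx⟩).2, fun h => hx0 (congrArg Subtype.val
    (e.injective (by rw [map_zero]; exact Subtype.ext h) : (⟨x, hx⟩ : D i) = 0)), by rw [he]; exact hQx⟩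

/-- isotropic planes make the whole space of plus type -/
theorem plus_of_planes {t : ℕ} {D : Fin t → Submodule F (Fin n → F)}
    (hD : Cfsg.Geo.IsOrthogonalMDecomposition (⇑R) 2 D) (hn : n = t * 2)
    (h : ∀ i, ¬ PlaneBlocks.Aniso R (D i)) : Cfsg.Geo.IsPlusTypeOn (⇑R) ⊤ := by
  classical
  simp only [PlaneBlocks.Aniso, not_forall] at h
  choose e he hQe he0 using h
  have hli : LinearIndependent F e := by
    refine Fintype.linearIndependent_iff.2 fun g hg i => ?_
    have := congrArg (OrthBlocks.cmp hD i) hg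
    rw [map_sum, map_zero, Finset.sum_eq_single i (fun j _ hj => by
      rw [map_smul, OrthBlocks.cmp_other hD hj.symm (he j), smul_zero]) (fun h => absurd (Finset.mem_univ i) h),
      map_smul, OrthBlocks.cmp_self hD (he i), smul_eq_zero] at this
    exact this.resolve_right (he0 i)
  refine ⟨Submodule.span F (Set.range e), le_top, fun x hx => ?_, ?_⟩
  · have key : ∀ y ∈ Submodule.span F (Set.range e), ∀ j, QuadraticMap.polar (⇑R) (e j) y = 0 := by
      intro y hy j
      induction hy using Submodule.span_induction with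
      | mem y hy =>
        obtain ⟨i, rfl⟩ := hy
        rcases eq_or_ne j i with rfl | hji
        · exact Classical.Orth.polar_self_zero (hQe j)
        · exact Orth.orth_ne hD.decomp hji (he j) (he i)
      | zero => exact QuadraticMap.polar_zero_right _ _
      | add a b _ _ ha hb => rw [QuadraticMap.polar_add_right, ha, hb, add_zero]
      | smul c a _ ha => rw [QuadraticMap.polar_smul_right, ha, smul_zero]
    induction hx using Submodule.span_induction with
    | mem y hy => obtain ⟨i, rfl⟩ := hy; exact hQe i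
    | zero => exact QuadraticMap.map_zero _
    | add a b ha hb qa qb =>
      have hab : QuadraticMap.polar (⇑R) a b = 0 := by
        clear qa
        induction ha using Submodule.span_induction with
        | mem y hy => obtain ⟨i, rfl⟩ := hy; exact key b hb i
        | zero => exact QuadraticMap.polar_zero_left _ _
        | add p q _ _ hp hq => rw [QuadraticMap.polar_add_left, hp, hq, add_zero]
        | smul c p _ hp => rw [QuadraticMap.polar_smul_left, hp, smul_zero]
      rw [Classical.Orth.map_add', qa, qb, hab, add_zero, add_zero]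
    | smul c a _ qa => rw [Classical.Orth.map_smul', qa, mul_zero]
  · rw [finrank_span_eq_card hli, finrank_top, Module.finrank_fintype_fun_eq_card, Fintype.card_fin,
      Fintype.card_fin, hn, mul_comm]

end Cfsg.Agent.Forms.Max.OrthLists
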