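import Mathlib
import Cfsg.Agent.Lib.Forms.Max.OrthBase

/-!
# Stabilisers of hyperbolic planes over very small fields are not maximal
-/

set_option autoImplicit false
set_option linter.unusedSectionVars false

namespace Cfsg.Agent.Forms.Max.Orth

open Matrix Cfsg.Agent.Forms.QuadStd Cfsg.Agent.Forms.Reflections Cfsg.Agent.Classical.Orth

variable {F : Type*} [Field F] [Fintype F] {ι : Type} [Fintype ι] [DecidableEq ι]
variable {Q : QuadraticForm F (ι → F)}

local notation "Vec" => (ι → F)
local notation "B" => QuadraticMap.polar Q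

theorem eq_one_or_neg_one (hq : Fintype.card F ≤ 3) {a : F} (ha : a ≠ 0) : a = 1 ∨ a = -1 := by
  have h1 := FiniteField.pow_card_sub_one_eq_one a ha
  have hq1 := Fintype.one_lt_card (α := F)
  rcases (show Fintype.card F = 2 ∨ Fintype.card F = 3 by omega) with h | h <;> rw [h] at h1
  · exact Or.inl (by simpa using h1)
  · exact mul_self_eq_one_iff.1 (by rw [← sq]; exact h1)

theorem plane_between (hQ : (QuadraticMap.polarBilin Q).Nondegenerate) (hn : 9 ≤ Fintype.card ι)
    (hq : Fintype.card F ≤ 3) {W : Submodule F Vec} (hdim : Module.finrank F W = 2)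
    (hW : Cfsg.Geo.IsNondegenerateOn (QuadraticMap.polar ⇑Q) W)
    (hplus : Cfsg.Geo.IsPlusTypeOn (⇑Q) W) :
    ∃ K : Subgroup (GL ι F),
      Cfsg.Geo.subspaceStabilizer W ⊓ Cfsg.Geo.omegaGL ⇑Q < K ∧ K < Cfsg.Geo.omegaGL ⇑Q := by
  obtain ⟨T, hTW, hT, hdT⟩ := hplus
  have hT0 : T ≠ ⊥ := fun h => by rw [h, finrank_bot, hdim] at hdT; simp at hdT
  obtain ⟨e, heT, he0⟩ := Submodule.exists_mem_ne_zero_of_ne_bot hT0
  obtain ⟨y, hy, hey⟩ := (hW e (hTW heT) he0).2
  obtain ⟨f, hfW, hQf, hef⟩ := exists_partner_in (hTW heT) hy (hT e heT) hey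
  have hp : IsPair Q e f := ⟨hT e heT, hQf, hef⟩
  have hspan : Submodule.span F {e} ⊔ Submodule.span F {f} = W := by
    refine Submodule.eq_of_le_of_finrank_le (sup_le ((Submodule.span_singleton_le_iff_mem _ _).2
      (hTW heT)) ((Submodule.span_singleton_le_iff_mem _ _).2 hfW)) ?_
    have hlt : Submodule.span F {e} < Submodule.span F {e} ⊔ Submodule.span F {f} := by
      refine lt_of_le_not_ge le_sup_left fun h => ?_
      obtain ⟨c, hc⟩ := Submodule.mem_span_singleton.1
        (h (Submodule.mem_sup_right (Submodule.mem_span_singleton_self f)))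
      rw [← hc, QuadraticMap.polar_smul_right, polar_self_zero hp.hu, smul_zero] at hef
      exact zero_ne_one hef
    have := Submodule.finrank_lt_finrank_of_lt hlt
    rw [finrank_span_singleton he0] at this
    omega
  set v := e + f with hv
  have hQv : Q v = 1 := by rw [hv, map_add', hp.hu, hp.hv, hp.huv, zero_add, zero_add]
  have hlevel : ∀ x ∈ W, Q x = 1 → x ∈ Submodule.span F {v} := by
    intro x hx hQx
    rw [← hspan] at hx
    obtain ⟨x₁, hx₁, x₂, hx₂, rfl⟩ := Submodule.mem_sup.1 hx
    obtain ⟨a, rfl⟩ := Submodule.mem_span_singleton.1 hx₁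
    obtain ⟨b, rfl⟩ := Submodule.mem_span_singleton.1 hx₂
    rw [pair_value hp] at hQx
    have hab : a = b := by
      rcases eq_one_or_neg_one hq (left_ne_zero_of_mul_eq_one hQx) with rfl | rfl <;>
        first | linear_combination -hQx | linear_combination hQx
    rw [hab, ← smul_add]
    exact Submodule.smul_mem _ _ (Submodule.mem_span_singleton_self v)
  have d0 := finrank_perp hQ W
  obtain ⟨u, hu, hu0, hQu⟩ := exists_sing hQ (S := perp Q W) (by omega)
  have heu : B e u = 0 := mem_perp.1 hu e (hTW heT)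
  have hfu : B f u = 0 := mem_perp.1 hu f hfW
  have hvW : v ∈ W := W.add_mem (hTW heT) hfW
  have huW : u ∉ W := fun h => by
    obtain ⟨s, hs, hus⟩ := (hW u h hu0).2
    exact hus (perp_comm hu hs)
  have hue : B u (e - f) = 0 := by
    rw [QuadraticMap.polar_sub_right, QuadraticMap.polar_comm _ u e, heu,
      QuadraticMap.polar_comm _ u f, hfu, sub_zero]
  refine Max.exists_between (P := Cfsg.Geo.subspaceStabilizer W ⊓ Cfsg.Geo.omegaGL ⇑Q)
    (K := Cfsg.Geo.subspaceStabilizer (Submodule.span F {v}) ⊓ Cfsg.Geo.omegaGL ⇑Q) ?_ ?_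
    inf_le_right ?_
  · rintro x ⟨hx, hx'⟩
    refine ⟨stab_of_forall fun y hy => ?_, hx'⟩
    obtain ⟨c, rfl⟩ := Submodule.mem_span_singleton.1 hy
    rw [mulVec_smul]
    refine Submodule.smul_mem _ _ (hlevel _ (map_of_stab hx hvW) ?_)
    obtain ⟨g, -, rfl⟩ := Subgroup.mem_map.1 hx'
    rw [Subgroup.coe_subtype, ← act_apply, act_map, hQv]
  · refine ⟨_, ⟨stab_of_forall fun y hy => ?_,
      Subgroup.mem_map_of_mem _ (eich_omega hQ (by omega) hQu hue)⟩, fun h => huW ?_⟩
    · obtain ⟨c, rfl⟩ := Submodule.mem_span_singleton.1 hy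
      rw [mulVec_smul, Subgroup.coe_subtype, ← act_apply, act_eich_fix hQu hue]
      · exact Submodule.smul_mem _ _ (Submodule.mem_span_singleton_self v)
      · rw [hv, QuadraticMap.polar_add_left, heu, hfu, add_zero]
      · simp [hv, QuadraticMap.polar_add_left, QuadraticMap.polar_sub_right,
          polar_self_zero hp.hu, polar_self_zero hp.hv, hp.huv, hp.hvu]
    · have := map_of_stab h.1 (hTW heT)
      rw [Subgroup.coe_subtype, ← act_apply, act_eich, heu, QuadraticMap.polar_sub_right,
        polar_self_zero hp.hu, hp.huv] at this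
      simp only [zero_smul, add_zero, mul_zero, sub_zero, zero_sub, neg_smul, one_smul,
        sub_neg_eq_add, W.add_mem_iff_right (hTW heT)] at this
      exact this
  · have hue' : B u e = 0 := by rw [QuadraticMap.polar_comm]; exact heu
    refine ⟨_, Subgroup.mem_map_of_mem _ (eich_omega hQ (by omega) hQu hue'), fun h => huW ?_⟩
    have h2 := map_of_stab h.1 (Submodule.mem_span_singleton_self v)
    have h3 : (Submodule.span F {v}) ≤ W := (Submodule.span_singleton_le_iff_mem _ _).2 hvW
    have := h3 h2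
    rw [Subgroup.coe_subtype, ← act_apply, act_eich, hv, QuadraticMap.polar_add_left, heu, hfu,
      QuadraticMap.polar_add_left, polar_self_zero hp.hu, hp.hvu] at this
    simp only [zero_smul, add_zero, mul_zero, sub_zero, zero_add, one_smul,
      W.sub_mem_iff_right hvW, ← hv] at this
    exact this

end Cfsg.Agent.Forms.Max.Orth
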