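import Mathlib
import Cfsg.Agent.Aschbacher.WreathTwo
import Cfsg.Agent.Aschbacher.Formed.Coord
import Cfsg.Agent.Lib.Forms.Max.OrthBase
import Cfsg.Agent.Lib.Forms.Max.Core

/-!
# Tensor powers in characteristic two inside the normaliser of a Clifford subspace
-/

set_option autoImplicit false
set_option linter.unusedSectionVars false

namespace Cfsg.Agent.Forms.Max.OrthPower

open Matrix Cfsg.Agent.Aschbacher
open scoped commutatorElement

variable {F : Type*} [Field F] {ι : Type} [Fintype ι] [DecidableEq ι] {k t : ℕ}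

/-- the coordinates of a pure tensor -/
def pv (xs : Fin t → Fin k → F) : (Fin t → Fin k) → F := fun a => ∏ i, xs i (a i)

theorem pureTensor_mulVec (X : Fin t → Matrix (Fin k) (Fin k) F) (xs : Fin t → Fin k → F) :
    pureTensor X *ᵥ pv xs = pv fun i => X i *ᵥ xs i := by
  funext f
  simp only [Matrix.mulVec, dotProduct, pureTensor_apply, pv]
  rw [Fintype.prod_sum]
  exact Finset.sum_congr rfl fun g _ => Finset.prod_mul_distrib.symm

theorem pv_dotProduct (xs ys : Fin t → Fin k → F) : pv xs ⬝ᵥ pv ys = ∏ i, xs i ⬝ᵥ ys i := by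
  simp only [dotProduct, pv]
  rw [Fintype.prod_sum]
  exact Finset.sum_congr rfl fun g _ => Finset.prod_mul_distrib.symm

theorem pv_single (a : Fin t → Fin k) :
    pv (fun i => Pi.single (a i) (1 : F)) = Pi.single a 1 := by
  funext b
  by_cases h : b = a
  · subst h; simp [pv]
  · obtain ⟨i, hi⟩ := Function.ne_iff.1 h
    rw [Pi.single_eq_of_ne h]
    exact Finset.prod_eq_zero (Finset.mem_univ i) (Pi.single_eq_of_ne hi _)

theorem dot_congr_eq {κ : Type} [Fintype κ] [DecidableEq κ] {A B : Matrix κ κ F}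
    (h : ∀ x y : κ → F, x ⬝ᵥ A *ᵥ y = x ⬝ᵥ B *ᵥ y) : A = B :=
  Matrix.ext_iff_mulVec.2 fun y => dotProduct_eq _ _ fun x => by
    rw [dotProduct_comm, h x y, dotProduct_comm]

theorem congr_dot {κ : Type} [Fintype κ] [DecidableEq κ] (A M : Matrix κ κ F) (x y : κ → F) :
    (A *ᵥ x) ⬝ᵥ M *ᵥ (A *ᵥ y) = x ⬝ᵥ (Aᵀ * M * A) *ᵥ y := by
  rw [← Matrix.mulVec_mulVec, ← Matrix.mulVec_mulVec, Matrix.dotProduct_mulVec x Aᵀ,
    Matrix.vecMul_transpose]

theorem slot_comm {i j : Fin t} (hij : i ≠ j) (x y : Matrix (Fin k) (Fin k) F) :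
    slotHom i x * slotHom j y = slotHom j y * slotHom i x := by
  rw [slotHom_apply, slotHom_apply]
  exact ((Pi.mulSingle_commute hij x y).map pureTensor).eq

theorem slot_injective (hk : 0 < k) (i : Fin t) :
    Function.Injective (slotHom (F := F) (m := k) i) := by
  haveI : Nonempty (Fin k) := ⟨⟨0, hk⟩⟩
  haveI : Nonempty (Fin t → Fin k) := inferInstance
  exact algHom_matrix_injective _

/-- matrices commuting with everything are scalar -/
theorem scalar_of_comm {x : Matrix (Fin k) (Fin k) F} (h : ∀ z, x * z = z * x) :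
    ∃ c : F, x = c • 1 := by
  obtain ⟨c, hc⟩ := Matrix.mem_range_scalar_of_commute_single (M := x)
    (fun a b _ => (h _).symm)
  exact ⟨c, by rw [← hc, Matrix.smul_one_eq_diagonal]; rfl⟩

theorem slot_sep (hk : 0 < k) {i j m : Fin t} (hij : i ≠ j) {x y z : Matrix (Fin k) (Fin k) F}
    (h : slotHom i x + slotHom j y = slotHom m z) :
    (∃ c : F, x = c • 1) ∨ ∃ c : F, y = c • 1 := by
  have key : ∀ {i j : Fin t}, i ≠ j → ∀ {x y : Matrix (Fin k) (Fin k) F},
      slotHom i x + slotHom j y = slotHom m z → m ≠ i → ∃ c : F, x = c • 1 := by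
    intro i j hij x y h hmi
    refine scalar_of_comm fun M => slot_injective hk i ?_
    rw [map_mul, map_mul]
    have e : slotHom (F := F) i x = slotHom m z - slotHom j y := eq_sub_of_add_eq h
    rw [e, sub_mul, mul_sub, slot_comm hmi, slot_comm hij.symm]
  by_cases hm : m = i
  · subst hm
    exact Or.inr (key hij.symm (by rw [add_comm]; exact h) hij)
  · exact Or.inl (key hij h hm)

theorem monTensor_slot (σ : Equiv.Perm (Fin t)) (gs : Fin t → GL (Fin k) F) (i : Fin t)
    (x : Matrix (Fin k) (Fin k) F) :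
    monTensor σ (fun l => (gs l : Matrix (Fin k) (Fin k) F)) * slotHom i x =
      slotHom (σ⁻¹ i) (conjMat (gs (σ⁻¹ i)) x) *
        monTensor σ (fun l => (gs l : Matrix (Fin k) (Fin k) F)) := by
  rw [slotHom_apply, slotHom_apply, ← monTensor_one_left, ← monTensor_one_left, monTensor_mul,
    monTensor_mul]
  congr 1
  funext l
  by_cases h : l = σ⁻¹ i
  · subst h
    simp [conjMat_apply, mul_assoc]
  · have h' : σ l ≠ i := fun hl => h (by rw [← hl]; simp)
    simp only [Pi.mulSingle_eq_of_ne h, Pi.mulSingle_eq_of_ne h', mul_one, one_mul, Equiv.Perm.one_apply]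

/-- what is needed of the distinguished operators of one factor -/
structure SlotData (k t : ℕ) (G : Matrix (Fin k) (Fin k) F) (S : Set (Matrix (Fin k) (Fin k) F)) :
    Prop where
  inv : ∀ (g : GL (Fin k) F) (d : F), (g : Matrix (Fin k) (Fin k) F)ᵀ * G * g = d • G →
    ∀ x ∈ S, conjMat g x ∈ S
  sq : ∀ x ∈ S, ∃ s : F, x * x = s • 1
  ac : ∀ x ∈ S, ∀ y ∈ S, ∃ s : F, x * y + y * x = s • 1
  symm : ∀ x ∈ S, (G * x)ᵀ = G * x
  alt : 3 ≤ t ∨ ∀ x ∈ S, ∀ v, v ⬝ᵥ (G * x) *ᵥ v = 0
  gen : Algebra.adjoin F S = ⊤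
  move : ∃ (h : GL (Fin k) F) (a b x : Matrix (Fin k) (Fin k) F),
    (h : Matrix (Fin k) (Fin k) F)ᵀ * G * h = G ∧ a ∈ S ∧ b ∈ S ∧ x ∈ S ∧ b * b = 0 ∧ b ≠ 0 ∧
      ∃ c : F, c ≠ 0 ∧ (conjMat h a + a) * x + x * (conjMat h a + a) = c • 1

variable [Fintype F]

/-- the normaliser of a space of matrices -/
def spaceNormalizer {κ : Type} [Fintype κ] [DecidableEq κ] (W : Submodule F (Matrix κ κ F)) :
    Subgroup (GL κ F) where
  carrier := {g | W.map (conjMat g).toLinearMap = W}
  one_mem' := by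
    show W.map (conjMat (1 : GL κ F)).toLinearMap = W
    rw [show (conjMat (1 : GL κ F)).toLinearMap = LinearMap.id from
      LinearMap.ext fun x => by simp [conjMat_apply], Submodule.map_id]
  mul_mem' {a b} ha hb := by
    show W.map (conjMat (a * b)).toLinearMap = W
    have : (conjMat (a * b)).toLinearMap = (conjMat a).toLinearMap ∘ₗ (conjMat b).toLinearMap :=
      LinearMap.ext fun x => conjMat_mul a b x
    rw [this, Submodule.map_comp, show W.map (conjMat b).toLinearMap = W from hb]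
    exact ha
  inv_mem' {a} ha := by
    show W.map (conjMat a⁻¹).toLinearMap = W
    conv_lhs => rw [← (show W.map (conjMat a).toLinearMap = W from ha)]
    rw [← Submodule.map_comp, show (conjMat a⁻¹).toLinearMap ∘ₗ (conjMat a).toLinearMap = LinearMap.id
      from LinearMap.ext fun x => conjMat_inv_apply a x, Submodule.map_id]

theorem mem_spaceNormalizer {κ : Type} [Fintype κ] [DecidableEq κ] {s : Set (Matrix κ κ F)}
    {g : GL κ F} (h : ∀ X ∈ s, conjMat g X ∈ Submodule.span F s) :
    g ∈ spaceNormalizer (Submodule.span F s) := by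
  show (Submodule.span F s).map (conjMat g).toLinearMap = Submodule.span F s
  refine Submodule.eq_of_le_of_finrank_eq ?_
    (Submodule.equivMapOfInjective _ (conjMat g).injective _).finrank_eq.symm
  rw [Submodule.map_span, Submodule.span_le]
  rintro _ ⟨X, hX, rfl⟩
  exact h X hX

/-- a tensor power whose factor carries such operators lies properly inside their normaliser -/
theorem power_between (h2 : (2 : F) = 0) {Q : QuadraticForm F (ι → F)}
    (hQ : (QuadraticMap.polarBilin Q).Nondegenerate) (hι : 9 ≤ Fintype.card ι)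
    (e : ι ≃ (Fin t → Fin k)) (P : GL ι F) (ht : 2 ≤ t)
    {G : Matrix (Fin k) (Fin k) F} (hG : Gᵀ = G) (hGd : ∀ v, v ⬝ᵥ G *ᵥ v = 0) (hG0 : G ≠ 0)
    {c : F} (hc : c ≠ 0)
    (hB : ∀ x y : (Fin t → Fin k) → F,
      QuadraticMap.polar Q ((P : Matrix ι ι F) *ᵥ (x ∘ e)) ((P : Matrix ι ι F) *ᵥ (y ∘ e)) =
        c * (x ⬝ᵥ pureTensor (fun _ => G) *ᵥ y))
    (hpure : ∀ xs : Fin t → Fin k → F, Q ((P : Matrix ι ι F) *ᵥ (pv xs ∘ e)) = 0)
    {S : Set (Matrix (Fin k) (Fin k) F)} (hS : SlotData k t G S) :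
    ∃ K : Subgroup (GL ι F), Cfsg.Geo.tensorWreathSubgroup k t e P ⊓ Cfsg.Geo.omegaGL ⇑Q < K ∧
      K < Cfsg.Geo.omegaGL ⇑Q := by
  classical
  have hk : 0 < k := by
    rcases Nat.eq_zero_or_pos k with rfl | h
    · exact absurd (Matrix.ext fun i _ => i.elim0) hG0
    · exact h
  haveI : Nonempty (Fin k) := ⟨⟨0, hk⟩⟩
  set M : Matrix (Fin t → Fin k) (Fin t → Fin k) F := pureTensor (fun _ => G) with hM
  have hMsymm : Mᵀ = M := by rw [hM, pureTensor_transpose]; simp [hG]
  let L : ((Fin t → Fin k) → F) →ₗ[F] (ι → F) := (Matrix.toLin' (P : Matrix ι ι F)).comp (LinearMap.funLeft F F e)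
  have hL : ∀ x, L x = (P : Matrix ι ι F) *ᵥ (x ∘ e) := fun x => rfl
  replace hB : ∀ x y, QuadraticMap.polar Q (L x) (L y) = c * (x ⬝ᵥ M *ᵥ y) := hB
  replace hpure : ∀ xs, Q (L (pv xs)) = 0 := hpure
  let φ : GL (Fin t → Fin k) F ≃* GL ι F := (Cfsg.Geo.glReindex e.symm).trans (MulAut.conj P)
  have hφ : ∀ g₀, glCoord e P (φ g₀) = g₀ := fun g₀ => glCoord_of_reindex e P g₀
  have hφ' : ∀ g, φ (glCoord e P g) = g := fun g => conj_glReindex_glCoord e P g
  have hφL : ∀ g₀ x, (φ g₀ : Matrix ι ι F) *ᵥ L x = L ((g₀ : Matrix (Fin t → Fin k) (Fin t → Fin k) F) *ᵥ x) := fun g₀ x => by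
    rw [hL, hL, ← glCoord_mulVec e P (φ g₀) x, hφ]
  have hLsurj : ∀ v, ∃ x, L x = v := fun v =>
    ⟨(((P⁻¹ : GL ι F) : Matrix ι ι F) *ᵥ v) ∘ e.symm, by
      rw [hL, Function.comp_assoc, Equiv.symm_comp_self, Function.comp_id, mulVec_inv_cancel]⟩
  -- isometries given in coordinates
  have hiso : ∀ g₀ : GL (Fin t → Fin k) F, (g₀ : Matrix (Fin t → Fin k) (Fin t → Fin k) F)ᵀ * M * g₀ = M →
      (∀ xs, Q (L ((g₀ : Matrix (Fin t → Fin k) (Fin t → Fin k) F) *ᵥ pv xs)) = 0) →
      φ g₀ ∈ Cfsg.isometryGroup F ⇑Q := by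
    intro g₀ hg hgp
    let D : ((Fin t → Fin k) → F) →+ F :=
      AddMonoidHom.mk' (fun x => Q (L ((g₀ : Matrix (Fin t → Fin k) (Fin t → Fin k) F) *ᵥ x)) - Q (L x)) fun x y => by
        simp only [Matrix.mulVec_add, map_add, Classical.Orth.map_add', hB, congr_dot, hg]
        ring
    have hD : ∀ x, D x = 0 := fun x => by
      rw [pi_eq_sum_univ' x, map_sum]
      refine Finset.sum_eq_zero fun a _ => ?_
      show Q (L ((g₀ : Matrix (Fin t → Fin k) (Fin t → Fin k) F) *ᵥ (x a • Pi.single a 1))) - Q (L (x a • Pi.single a 1)) = 0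
      rw [← pv_single, Matrix.mulVec_smul, LinearMap.map_smul L, LinearMap.map_smul L, Classical.Orth.map_smul',
        Classical.Orth.map_smul', hgp, hpure]
      ring
    intro u v
    show Q ((φ g₀ : Matrix ι ι F) *ᵥ u) = Q u
    obtain ⟨x, rfl⟩ := hLsurj u
    rw [hφL]
    exact sub_eq_zero.1 (hD x)
  have hpres : ∀ g : GL ι F, g ∈ Cfsg.Geo.omegaGL ⇑Q →
      (glCoord e P g : Matrix (Fin t → Fin k) (Fin t → Fin k) F)ᵀ * M * glCoord e P g = M := by
    intro g hg
    obtain ⟨g', -, rfl⟩ := hg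
    refine dot_congr_eq fun x y => ?_
    refine mul_left_cancel₀ hc ?_
    rw [← congr_dot, ← hB, ← hB, ← hφL, ← hφL, hφ']
    exact (congrArg₂ (QuadraticMap.polar Q) (Reflections.act_apply g' (L x)).symm (Reflections.act_apply g' (L y)).symm).trans
      (Reflections.act_polar g' (L x) (L y))
  -- the space of matrices
  set Γ : Set (Matrix (Fin t → Fin k) (Fin t → Fin k) F) := insert 1 {X | ∃ l, ∃ x ∈ S, X = slotHom l x} with hΓ
  set W := Submodule.span F Γ with hW
  have hmemW : ∀ l, ∀ x ∈ S, slotHom l x ∈ W := fun l x hx =>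
    Submodule.subset_span (Or.inr ⟨l, x, hx, rfl⟩)
  have h1W : (1 : Matrix (Fin t → Fin k) (Fin t → Fin k) F) ∈ W := Submodule.subset_span (Or.inl rfl)
  have hdouble : ∀ X : Matrix (Fin t → Fin k) (Fin t → Fin k) F, X + X = 0 := fun X => by rw [← two_smul F X, h2, zero_smul]
  have hWac : ∀ X ∈ W, ∀ l, ∀ y ∈ S, ∃ s : F, X * slotHom l y + slotHom l y * X = s • 1 := by
    intro X hX l y hy
    induction hX using Submodule.span_induction with
    | mem X hX =>
      rcases hX with rfl | ⟨m, x, hx, rfl⟩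
      · exact ⟨0, by rw [one_mul, mul_one, hdouble, zero_smul]⟩
      · by_cases hml : m = l
        · subst hml
          obtain ⟨s, hs⟩ := hS.ac x hx y hy
          exact ⟨s, by rw [← map_mul, ← map_mul, ← map_add, hs, map_smul, map_one]⟩
        · exact ⟨0, by rw [slot_comm hml, hdouble, zero_smul]⟩
    | zero => exact ⟨0, by simp⟩
    | add A B _ _ hA hB' =>
      obtain ⟨s, hs⟩ := hA
      obtain ⟨r, hr⟩ := hB'
      exact ⟨s + r, by rw [add_smul, ← hs, ← hr, add_mul, mul_add]; abel⟩
    | smul a A _ hA =>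
      obtain ⟨s, hs⟩ := hA
      exact ⟨a * s, by rw [mul_smul, ← hs, smul_add, smul_mul_assoc, mul_smul_comm]⟩
  have hcent : ∀ X : Matrix (Fin t → Fin k) (Fin t → Fin k) F, (∀ l, ∀ x ∈ S, X * slotHom l x = slotHom l x * X) →
      ∃ a : F, X = a • 1 := by
    intro X hX
    refine eq_smul_one_of_commute_slots fun l z => ?_
    have hz : z ∈ (Subalgebra.centralizer F {X}).comap (slotHom l) := by
      refine (Algebra.adjoin_le fun x hx => ?_ : Algebra.adjoin F S ≤ _) (hS.gen ▸ Algebra.mem_top)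
      simp only [SetLike.mem_coe, Subalgebra.mem_comap, Subalgebra.mem_centralizer_iff,
        Set.mem_singleton_iff]
      rintro _ rfl
      exact hX l x hx
    simp only [Subalgebra.mem_comap, Subalgebra.mem_centralizer_iff, Set.mem_singleton_iff] at hz
    exact hz X rfl
  -- tensor wreath elements normalise it
  have hTN : ∀ g, g ∈ Cfsg.Geo.tensorWreathSubgroup k t e P ⊓ Cfsg.Geo.omegaGL ⇑Q →
      g ∈ (spaceNormalizer W).map φ.toMonoidHom := by
    rintro g ⟨hgT, hgΩ⟩
    obtain ⟨σ, gs, hgs⟩ := exists_monTensor_of_mem_wreath hgT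
    have hsim := hpres g hgΩ
    rw [hgs, hM, monTensor_congr] at hsim
    have hd := exists_smul_of_pureTensor one_ne_zero (fun _ => hG0)
      (hsim.trans (one_smul F _).symm)
    refine ⟨glCoord e P g, mem_spaceNormalizer fun X hX => ?_, hφ' g⟩
    rcases hX with rfl | ⟨l, x, hx, rfl⟩
    · rw [map_one]; exact h1W
    · obtain ⟨d, hd⟩ := hd l
      have : conjMat (glCoord e P g) (slotHom l x) = slotHom (σ⁻¹ l) (conjMat (gs (σ⁻¹ l)) x) := by
        rw [conjMat_eq_iff_mul, hgs]
        exact monTensor_slot σ gs l x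
      rw [this]
      exact hmemW _ _ (hS.inv _ d hd x hx)
  -- the extra element
  obtain ⟨h, a, b, x₀, hh, ha, hb, hx₀, hbb, hb0, c₀, hc₀, hcomm⟩ := hS.move
  set a₁ := conjMat h a with ha₁
  have ha₁S : a₁ ∈ S := hS.inv h 1 (by rw [hh, one_smul]) a ha
  obtain ⟨i, j, hij⟩ : ∃ i j : Fin t, i ≠ j :=
    ⟨⟨0, by omega⟩, ⟨1, by omega⟩, by simp⟩
  have hNN : ∀ y : Matrix (Fin k) (Fin k) F,
      slotHom i y * slotHom j b * (slotHom i y * slotHom j b) = 0 := fun y => by
    rw [mul_assoc, ← mul_assoc (slotHom j b), slot_comm hij.symm, mul_assoc (slotHom i y) (slotHom j b),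
      ← map_mul, hbb, map_zero, mul_zero, mul_zero]
  let g : Matrix (Fin k) (Fin k) F → GL (Fin t → Fin k) F := fun y =>
    ⟨1 + slotHom i y * slotHom j b, 1 + slotHom i y * slotHom j b,
      by rw [add_mul, one_mul, mul_add, mul_one, hNN, add_zero, add_assoc, hdouble, add_zero],
      by rw [add_mul, one_mul, mul_add, mul_one, hNN, add_zero, add_assoc, hdouble, add_zero]⟩
  let H : GL (Fin t → Fin k) F := Units.map (slotHom (F := F) (m := k) i).toMonoidHom h
  have hHiso : φ H ∈ Cfsg.isometryGroup F ⇑Q := by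
    refine hiso H ?_ fun xs => ?_
    · show (slotHom i (h : Matrix (Fin k) (Fin k) F))ᵀ * M * slotHom i (h : Matrix (Fin k) (Fin k) F) = M
      rw [hM, slotHom_apply, pureTensor_transpose, ← map_mul, ← map_mul]
      congr 1
      funext l
      by_cases hl : l = i
      · subst hl; simp [hh]
      · simp [Pi.mulSingle_eq_of_ne hl]
    · show Q (L (slotHom i (h : Matrix (Fin k) (Fin k) F) *ᵥ pv xs)) = 0
      rw [slotHom_apply, pureTensor_mulVec, hpure]
  have hgiso : φ (g a) ∈ Cfsg.isometryGroup F ⇑Q := by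
    set f : Fin t → Matrix (Fin k) (Fin k) F := Pi.mulSingle i a * Pi.mulSingle j b with hf
    have hfi : f i = a := by simp [hf, Pi.mulSingle_eq_of_ne hij]
    have hfj : f j = b := by simp [hf, Pi.mulSingle_eq_of_ne hij.symm]
    have hfl : ∀ l, l ≠ i → l ≠ j → f l = 1 := fun l h1 h3 => by
      simp [hf, Pi.mulSingle_eq_of_ne h1, Pi.mulSingle_eq_of_ne h3]
    have hN : slotHom i a * slotHom j b = pureTensor f := by
      rw [slotHom_apply, slotHom_apply, ← map_mul]
    have hMN : (M * pureTensor f)ᵀ = M * pureTensor f := by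
      rw [hM, ← map_mul, pureTensor_transpose]
      congr 1
      funext l
      by_cases h1 : l = i
      · subst h1; simp only [Pi.mul_apply, hfi]; exact hS.symm a ha
      · by_cases h3 : l = j
        · subst h3; simp only [Pi.mul_apply, hfj]; exact hS.symm b hb
        · simp only [Pi.mul_apply, hfl l h1 h3, mul_one]; exact hG
    refine hiso (g a) ?_ fun xs => ?_
    · show (1 + slotHom i a * slotHom j b)ᵀ * M * (1 + slotHom i a * slotHom j b) = M
      have e0 : pureTensor f * pureTensor f = 0 := by rw [← hN]; exact hNN a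
      have e1 : (pureTensor f)ᵀ * M = M * pureTensor f := by
        rw [← hMN, Matrix.transpose_mul, hMsymm]
      rw [hN, Matrix.transpose_add, Matrix.transpose_one, add_mul, one_mul, e1, mul_add, mul_one,
        add_mul, mul_assoc M, e0, mul_zero, add_zero, add_assoc, hdouble, add_zero]
    · show Q (L ((1 + slotHom i a * slotHom j b) *ᵥ pv xs)) = 0
      rw [hN, Matrix.add_mulVec, Matrix.one_mulVec, pureTensor_mulVec, map_add,
        Classical.Orth.map_add', hpure, hpure, hB, hM, pureTensor_mulVec, pv_dotProduct]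
      obtain ⟨l, hl⟩ : ∃ l, xs l ⬝ᵥ G *ᵥ (f l *ᵥ xs l) = 0 := by
        rcases hS.alt with h3 | halt
        · obtain ⟨l, hl, hlj⟩ : ∃ l, l ≠ i ∧ l ≠ j := by
            by_contra hc'
            push Not at hc'
            have : (Finset.univ : Finset (Fin t)) ⊆ {i, j} := fun l _ => by
              by_cases h1 : l = i
              · simp [h1]
              · simp [hc' l h1]
            have := Finset.card_le_card this
            have := Finset.card_le_two (a := i) (b := j)
            simp at *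
            omega
          exact ⟨l, by rw [hfl l hl hlj, Matrix.one_mulVec, hGd]⟩
        · exact ⟨i, by rw [Matrix.mulVec_mulVec, hfi, halt a ha]⟩
      rw [Finset.prod_eq_zero (Finset.mem_univ l) hl]
      ring
  set g₀ := g (a₁ + a) with hg₀
  have hcom : φ g₀ = ⁅φ H, φ (g a)⁆ := by
    rw [← map_commutatorElement, commutatorElement_def]
    refine congrArg φ (Units.ext ?_)
    have hgi : (g a)⁻¹ = g a := Units.ext rfl
    have hHcomm : slotHom i (h : Matrix (Fin k) (Fin k) F) * (slotHom i a * slotHom j b) *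
        slotHom i ((h⁻¹ : GL (Fin k) F) : Matrix (Fin k) (Fin k) F) = slotHom i a₁ * slotHom j b := by
      rw [mul_assoc, mul_assoc (slotHom i a), ← slot_comm hij, ← mul_assoc, ← mul_assoc,
        ← map_mul, ← map_mul, ha₁, conjMat_apply]
    have hH1 : slotHom i (h : Matrix (Fin k) (Fin k) F) *
        slotHom i ((h⁻¹ : GL (Fin k) F) : Matrix (Fin k) (Fin k) F) = 1 := by
      rw [← map_mul, Units.mul_inv, map_one]
    have hxy : slotHom i a₁ * slotHom j b * (slotHom i a * slotHom j b) = 0 := by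
      rw [mul_assoc, ← mul_assoc (slotHom j b), slot_comm hij.symm,
        mul_assoc (slotHom i a) (slotHom j b), ← map_mul, hbb, map_zero, mul_zero, mul_zero]
    rw [hgi]
    show 1 + slotHom i (a₁ + a) * slotHom j b = slotHom i (h : Matrix (Fin k) (Fin k) F) *
      (1 + slotHom i a * slotHom j b) * slotHom i ((h⁻¹ : GL (Fin k) F) : Matrix (Fin k) (Fin k) F) *
      (1 + slotHom i a * slotHom j b)
    rw [show slotHom i (h : Matrix (Fin k) (Fin k) F) * (1 + slotHom i a * slotHom j b) *
      slotHom i ((h⁻¹ : GL (Fin k) F) : Matrix (Fin k) (Fin k) F) = 1 + slotHom i a₁ * slotHom j b by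
        rw [mul_add, mul_one, add_mul, hH1, hHcomm]]
    rw [map_add, add_mul (slotHom i a₁), add_mul (1 : Matrix (Fin t → Fin k) (Fin t → Fin k) F), one_mul,
      mul_add, mul_one, hxy, add_zero]
    abel
  have hg₀Ω : φ g₀ ∈ Cfsg.Geo.omegaGL ⇑Q := by
    rw [hcom, show φ H = (Cfsg.isometryGroup F ⇑Q).subtype ⟨_, hHiso⟩ from rfl,
      show φ (g a) = (Cfsg.isometryGroup F ⇑Q).subtype ⟨_, hgiso⟩ from rfl, ← map_commutatorElement]
    exact Subgroup.mem_map_of_mem _
      (Subgroup.commutator_mem_commutator (Subgroup.mem_top _) (Subgroup.mem_top _))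
  have hsum : ∀ y ∈ S, ∃ s : F, (a₁ + a) * y + y * (a₁ + a) = s • 1 := fun y hy => by
    obtain ⟨s, hs⟩ := hS.ac a₁ ha₁S y hy
    obtain ⟨r, hr⟩ := hS.ac a ha y hy
    exact ⟨s + r, by rw [add_smul, ← hs, ← hr, add_mul, mul_add]; abel⟩
  have hconj : ∀ X : Matrix (Fin t → Fin k) (Fin t → Fin k) F, conjMat g₀ X = X +
      (slotHom i (a₁ + a) * slotHom j b * X + X * (slotHom i (a₁ + a) * slotHom j b)) +
      slotHom i (a₁ + a) * slotHom j b * X * (slotHom i (a₁ + a) * slotHom j b) := fun X => by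
    rw [conjMat_apply]
    show (1 + slotHom i (a₁ + a) * slotHom j b) * X * (1 + slotHom i (a₁ + a) * slotHom j b) = _
    rw [add_mul, one_mul, mul_add, mul_one, add_mul]
    abel
  have hconji : ∀ y ∈ S, ∃ s : F, (a₁ + a) * y + y * (a₁ + a) = s • 1 ∧
      conjMat g₀ (slotHom i y) = slotHom i y + s • slotHom j b := by
    intro y hy
    obtain ⟨s, hs⟩ := hsum y hy
    refine ⟨s, hs, ?_⟩
    have e1 : slotHom i (a₁ + a) * slotHom j b * slotHom i y +
        slotHom i y * (slotHom i (a₁ + a) * slotHom j b) = s • slotHom j b := by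
      rw [mul_assoc, slot_comm hij.symm, ← mul_assoc, ← map_mul, ← mul_assoc (slotHom i y),
        ← map_mul, ← add_mul, ← map_add, hs, map_smul, map_one, smul_mul_assoc, one_mul]
    have e2 : slotHom i (a₁ + a) * slotHom j b * slotHom i y *
        (slotHom i (a₁ + a) * slotHom j b) = 0 := by
      rw [mul_assoc (slotHom i (a₁ + a)), slot_comm hij.symm, mul_assoc, mul_assoc (slotHom i y),
        ← mul_assoc (slotHom j b), slot_comm hij.symm, mul_assoc (slotHom i (a₁ + a)) (slotHom j b),
        ← map_mul, hbb, map_zero, mul_zero, mul_zero, mul_zero]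
    rw [hconj, e1, e2, add_zero]
  have hg₀N : g₀ ∈ spaceNormalizer W := by
    refine mem_spaceNormalizer fun X hX => ?_
    rcases hX with rfl | ⟨l, y, hy, rfl⟩
    · rw [map_one]; exact h1W
    · by_cases hli : l = i
      · subst hli
        obtain ⟨s, -, hs⟩ := hconji y hy
        rw [hs]
        exact W.add_mem (hmemW _ _ hy) (W.smul_mem _ (hmemW _ _ hb))
      · by_cases hlj : l = j
        · subst hlj
          obtain ⟨s, hs⟩ := hS.ac b hb y hy
          obtain ⟨r, hr⟩ : ∃ r : F, (a₁ + a) * (a₁ + a) = r • 1 := by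
            obtain ⟨s₁, hs₁⟩ := hS.sq a₁ ha₁S
            obtain ⟨s₂, hs₂⟩ := hS.sq a ha
            obtain ⟨s₃, hs₃⟩ := hS.ac a₁ ha₁S a ha
            exact ⟨s₁ + s₂ + s₃, by
              rw [add_smul, add_smul, ← hs₁, ← hs₂, ← hs₃, add_mul, mul_add, mul_add]; abel⟩
          have hbyb : b * y * b = s • b := by
            have e : y * b = s • 1 - b * y := by rw [← hs]; abel
            rw [mul_assoc, e, mul_sub, mul_smul_comm, mul_one, ← mul_assoc, hbb, zero_mul, sub_zero]
          have e1 : slotHom i (a₁ + a) * slotHom l b * slotHom l y +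
              slotHom l y * (slotHom i (a₁ + a) * slotHom l b) = s • slotHom i (a₁ + a) := by
            rw [mul_assoc, ← map_mul, ← mul_assoc (slotHom l y), slot_comm hli, mul_assoc, ← map_mul,
              ← mul_add, ← map_add, hs, map_smul, map_one, mul_smul_comm, mul_one]
          have e2 : slotHom i (a₁ + a) * slotHom l b * slotHom l y *
              (slotHom i (a₁ + a) * slotHom l b) = (r * s) • slotHom l b := by
            rw [mul_assoc (slotHom i (a₁ + a)), ← map_mul, mul_assoc,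
              ← mul_assoc (slotHom l (b * y)), slot_comm hli, mul_assoc, ← map_mul, ← mul_assoc,
              ← map_mul, hr, hbyb, map_smul, map_smul, map_one, smul_mul_assoc, one_mul, smul_smul]
          rw [hconj, e1, e2, map_add]
          exact W.add_mem (W.add_mem (hmemW _ _ hy)
            (W.smul_mem _ (W.add_mem (hmemW _ _ ha₁S) (hmemW _ _ ha))))
            (W.smul_mem _ (hmemW _ _ hb))
        · have hNl : slotHom i (a₁ + a) * slotHom j b * slotHom l y =
              slotHom l y * (slotHom i (a₁ + a) * slotHom j b) := by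
            rw [mul_assoc, slot_comm (Ne.symm hlj), ← mul_assoc, slot_comm (Ne.symm hli), mul_assoc]
          rw [hconj, hNl, hdouble, add_zero, mul_assoc (slotHom l y), hNN, mul_zero, add_zero]
          exact hmemW _ _ hy
  refine exists_between (K := (spaceNormalizer W).map φ.toMonoidHom ⊓ Cfsg.Geo.omegaGL ⇑Q)
    (fun g' hg' => ⟨hTN g' hg', hg'.2⟩)
    ⟨φ g₀, ⟨Subgroup.mem_map_of_mem _ hg₀N, hg₀Ω⟩, fun hmem => ?_⟩ inf_le_right ?_
  · -- it does not permute the slots
    obtain ⟨σ, gs, hgs⟩ := exists_monTensor_of_mem_wreath hmem.1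
    rw [hφ] at hgs
    obtain ⟨s, hs1, hs⟩ := hconji x₀ hx₀
    haveI : Nonempty (Fin t → Fin k) := inferInstance
    have hsc : s = c₀ := by
      have := hs1.symm.trans hcomm
      have h0 := congrFun (congrFun this ⟨0, hk⟩) ⟨0, hk⟩
      simpa using h0
    have : conjMat g₀ (slotHom i x₀) = slotHom (σ⁻¹ i) (conjMat (gs (σ⁻¹ i)) x₀) := by
      rw [conjMat_eq_iff_mul, hgs]
      exact monTensor_slot σ gs i x₀
    rw [hs, hsc, ← map_smul] at this
    rcases slot_sep hk hij this with ⟨d, hd⟩ | ⟨d, hd⟩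
    · refine hc₀ ?_
      have h0 := congrFun (congrFun hcomm ⟨0, hk⟩) ⟨0, hk⟩
      rw [hd, mul_smul_comm, smul_mul_assoc, mul_one, one_mul, Matrix.add_apply] at h0
      simp only [Matrix.smul_apply, smul_eq_mul, Matrix.one_apply_eq, mul_one] at h0
      rw [← h0]
      linear_combination ((conjMat h a + a) ⟨0, hk⟩ ⟨0, hk⟩ * d) * h2
    · refine hb0 ?_
      have hb' : b = (c₀⁻¹ * d) • 1 := by
        rw [mul_smul, ← hd, smul_smul, inv_mul_cancel₀ hc₀, one_smul]
      rw [hb', smul_mul_smul_comm, one_mul] at hbb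
      rcases smul_eq_zero.1 hbb with h' | h'
      · rw [hb', mul_self_eq_zero.1 h', zero_smul]
      · exact absurd h' one_ne_zero
  · -- an Eichler transformation moves it
    set u := L (Pi.single (fun _ => ⟨0, hk⟩) 1) with hu
    have hQu : Q u = 0 := by rw [hu, ← pv_single, hpure]
    have hu0 : u ≠ 0 := by
      intro h0
      have h1 : (Pi.single (fun _ => ⟨0, hk⟩) 1 : (Fin t → Fin k) → F) ∘ e = 0 := by
        refine mulVec_inj P ?_
        rw [Matrix.mulVec_zero, ← hL]
        exact h0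
      have := congrFun h1 (e.symm fun _ => ⟨0, hk⟩)
      simp at this
    obtain ⟨z, hz, hzu⟩ : ∃ z ∈ Orth.ker Q u, z ∉ Submodule.span F {u} :=
      SetLike.not_le_iff_exists.1 fun hle => by
        have h1 := Orth.finrank_inf_ker hQ (⊤ : Submodule F (ι → F)) u
        rw [top_inf_eq, finrank_top, Module.finrank_fintype_fun_eq_card] at h1
        have := Submodule.finrank_mono hle
        rw [finrank_span_singleton hu0] at this
        omega
    have huz : QuadraticMap.polar Q u z = 0 := Orth.mem_ker'.1 hz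
    set E : GL ι F := (Cfsg.isometryGroup F ⇑Q).subtype (Classical.Orth.eich u z hQu huz) with hE
    refine ⟨E, Subgroup.mem_map_of_mem _ (Orth.eich_omega hQ (by omega) hQu huz), fun hmem => ?_⟩
    obtain ⟨e₀, he₀, hee⟩ := hmem.1
    have heE : φ e₀ = E := hee
    have hEfix : ∀ v, QuadraticMap.polar Q v u = 0 → QuadraticMap.polar Q v z = 0 →
        (E : Matrix ι ι F) *ᵥ v = v := fun v h1 h3 => by
      show ((Cfsg.isometryGroup F ⇑Q).subtype (Classical.Orth.eich u z hQu huz) : Matrix ι ι F) *ᵥ v = v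
      rw [show ((Cfsg.isometryGroup F ⇑Q).subtype (Classical.Orth.eich u z hQu huz) : Matrix ι ι F) *ᵥ v =
        Reflections.act (Classical.Orth.eich u z hQu huz) v from (Reflections.act_apply _ v).symm,
        Classical.Orth.act_eich, h1, h3]
      simp
    let ψ : ((Fin t → Fin k) → F) →ₗ[F] F × F :=
      { toFun := fun x => (QuadraticMap.polar Q (L x) u, QuadraticMap.polar Q (L x) z)
        map_add' := fun x y => by simp [QuadraticMap.polar_add_left]
        map_smul' := fun r x => by simp [QuadraticMap.polar_smul_left] }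
    have he₀fix : ∀ x, ψ x = 0 → (e₀ : Matrix (Fin t → Fin k) (Fin t → Fin k) F) *ᵥ x = x := fun x hx => by
      have hx' := Prod.mk_eq_zero.1 hx
      have h1 := hEfix (L x) hx'.1 hx'.2
      rw [← heE, hφL, hL, hL] at h1
      exact (e.arrowCongr (Equiv.refl F)).symm.injective (mulVec_inj P h1)
    -- the element centralises the space
    have hcen : ∀ l, ∀ y ∈ S, conjMat e₀ (slotHom l y) = slotHom l y := by
      intro l y hy
      set w := slotHom l y with hw
      set d := conjMat e₀ w - w with hd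
      have hdW : d ∈ W := W.sub_mem (he₀ ▸ Submodule.mem_map_of_mem (hmemW l y hy) :
        conjMat e₀ w ∈ W) (hmemW l y hy)
      have hdker : ∀ x, ψ x = 0 → ψ (w *ᵥ x) = 0 → d *ᵥ x = 0 := fun x h1 h3 => by
        rw [hd, Matrix.sub_mulVec]
        conv_lhs => arg 1; rw [← he₀fix x h1]
        rw [conjMat_mulVec, he₀fix _ h3, sub_self]
      have hbig : ∀ (η : ((Fin t → Fin k) → F) →ₗ[F] (F × F) × (F × F) × (F × F) × (F × F)), ∃ x, x ≠ 0 ∧ η x = 0 := by
        intro η
        by_contra hc'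
        push Not at hc'
        have hinj : Function.Injective η := (injective_iff_map_eq_zero η).2 fun x hx => by
          by_contra h0; exact hc' x h0 hx
        have := LinearMap.finrank_le_finrank_of_injective hinj
        rw [Module.finrank_fintype_fun_eq_card] at this
        simp only [Module.finrank_prod, Module.finrank_self] at this
        have hcard := Fintype.card_congr e
        omega
      obtain ⟨δ, hδ⟩ : ∃ δ : F, d = δ • 1 := hcent d fun m x hx => by
        obtain ⟨s, hs⟩ := hWac d hdW m x hx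
        set v := slotHom m x with hv
        obtain ⟨p, hp0, hp⟩ := hbig (ψ.prod ((ψ ∘ₗ Matrix.toLin' w).prod
          ((ψ ∘ₗ Matrix.toLin' v).prod (ψ ∘ₗ Matrix.toLin' w ∘ₗ Matrix.toLin' v))))
        simp only [LinearMap.prod_apply, Function.prod_apply, Prod.mk_eq_zero, LinearMap.comp_apply,
          Matrix.toLin'_apply] at hp
        have h1 := congrArg (fun A : Matrix (Fin t → Fin k) (Fin t → Fin k) F => A *ᵥ p) hs
        simp only [Matrix.add_mulVec, ← Matrix.mulVec_mulVec, hdker p hp.1 hp.2.1,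
          hdker (v *ᵥ p) hp.2.2.1 hp.2.2.2, Matrix.mulVec_zero, add_zero, Matrix.smul_mulVec,
          Matrix.one_mulVec] at h1
        rw [(smul_eq_zero.1 h1.symm).resolve_right hp0, zero_smul] at hs
        rw [eq_neg_of_add_eq_zero_left hs]
        exact neg_eq_of_add_eq_zero_left (hdouble _)
      obtain ⟨p, hp0, hp⟩ := hbig (ψ.prod ((ψ ∘ₗ Matrix.toLin' w).prod (0 : ((Fin t → Fin k) → F) →ₗ[F] (F × F) × (F × F))))
      simp only [LinearMap.prod_apply, Function.prod_apply, Prod.mk_eq_zero, LinearMap.comp_apply,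
          Matrix.toLin'_apply, LinearMap.zero_apply] at hp
      have h1 := hdker p hp.1 hp.2.1
      rw [hδ, Matrix.smul_mulVec, Matrix.one_mulVec] at h1
      rw [← sub_eq_zero, ← hd, hδ, (smul_eq_zero.1 h1).resolve_right hp0, zero_smul]
    obtain ⟨δ, hδ⟩ := hcent (e₀ : Matrix (Fin t → Fin k) (Fin t → Fin k) F) fun l y hy => (conjMat_eq_self_iff e₀ _).1 (hcen l y hy)
    -- so it is scalar, hence trivial
    obtain ⟨x', hx'⟩ := Orth.exists_ne hQ hu0
    have hval : ∀ v, (E : Matrix ι ι F) *ᵥ v = δ • v := fun v => by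
      obtain ⟨x, rfl⟩ := hLsurj v
      rw [← heE, hφL, hδ, Matrix.smul_mulVec, Matrix.one_mulVec, map_smul]
    have hu1 := hval u
    rw [hEfix u (Classical.Orth.polar_self_zero hQu) huz] at hu1
    have hδ1 : δ = 1 := by
      by_contra h'
      refine hu0 ((smul_eq_zero.1 (show (δ - 1) • u = 0 by rw [sub_smul, one_smul, ← hu1, sub_self])).resolve_left
        (sub_ne_zero.2 h'))
    have h1 := hval x'
    rw [hδ1, one_smul, show (E : Matrix ι ι F) *ᵥ x' = Reflections.act (Classical.Orth.eich u z hQu huz) x'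
      from (Reflections.act_apply _ x').symm, Classical.Orth.act_eich] at h1
    refine hzu (Submodule.mem_span_singleton.2 ⟨(QuadraticMap.polar Q x' u)⁻¹ *
      (QuadraticMap.polar Q x' z + Q z * QuadraticMap.polar Q x' u), ?_⟩)
    have hne : QuadraticMap.polar Q x' u ≠ 0 := by rwa [QuadraticMap.polar_comm]
    rw [mul_smul, inv_smul_eq_iff₀ hne]
    linear_combination (norm := module) -h1

end Cfsg.Agent.Forms.Max.OrthPower
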