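import Mathlib
import Cfsg.Agent.Lib.Forms.Max.OrthPower
import Cfsg.Agent.Lib.Forms.Max.Factor
import Cfsg.Agent.Lib.Forms.Bases

/-!
# The distinguished operators on symplectic spaces of dimension two and four in characteristic two
-/

set_option autoImplicit false
set_option linter.unusedSectionVars false
set_option maxHeartbeats 1000000

namespace Cfsg.Agent.Forms.Max.OrthPower

open Matrix Cfsg.Agent.Aschbacher

variable {F : Type*} [Field F]

theorem gen_of_singles {k : ℕ} {A : Subalgebra F (Matrix (Fin k) (Fin k) F)}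
    (h : ∀ i j, Matrix.single i j (1 : F) ∈ A) : A = ⊤ := by
  refine eq_top_iff.2 fun M _ => ?_
  rw [Matrix.matrix_eq_sum_single M]
  refine A.sum_mem fun i _ => A.sum_mem fun j _ => ?_
  rw [← mul_one (M i j), ← smul_eq_mul, ← Matrix.smul_single]
  exact A.smul_mem (h i j) _

/-- the trace-zero operators of a plane -/
theorem slotData_two (h2 : (2 : F) = 0) {t : ℕ} (ht : 3 ≤ t) {l : F} (hl0 : l ≠ 0) (hl1 : l ≠ 1)
    {G : Matrix (Fin 2) (Fin 2) F} (hG : Gᵀ = G) (hGd : ∀ v, v ⬝ᵥ G *ᵥ v = 0) :
    SlotData 2 t G {x | x 0 0 = x 1 1} := by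
  have hmem : ∀ x : Matrix (Fin 2) (Fin 2) F,
      x ∈ {x : Matrix (Fin 2) (Fin 2) F | x 0 0 = x 1 1} ↔ x.trace = 0 := fun x => by
    rw [Matrix.trace_fin_two, Set.mem_setOf_eq]
    exact ⟨fun h => by linear_combination h + x 1 1 * h2, fun h => by linear_combination h - x 1 1 * h2⟩
  have hG00 : G 0 0 = 0 := by simpa using hGd (Pi.single 0 1)
  have hG11 : G 1 1 = 0 := by simpa using hGd (Pi.single 1 1)
  have hG10 : G 1 0 = G 0 1 := congrFun (congrFun hG 0) 1
  refine ⟨fun g d _ x hx => ?_, fun x hx => ⟨x 0 0 * x 0 0 + x 0 1 * x 1 0, ?_⟩,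
    fun x hx y hy => ⟨x 0 1 * y 1 0 + y 0 1 * x 1 0, ?_⟩, fun x hx => ?_, Or.inl ht, ?_, ?_⟩
  · rw [hmem, conjMat_apply, Matrix.trace_units_conj, ← hmem]
    exact hx
  · simp only [Set.mem_setOf_eq] at hx
    ext r s
    fin_cases r <;> fin_cases s <;>
      simp [Matrix.mul_apply, Fin.sum_univ_two, ← hx]
    · linear_combination (x 0 0 * x 0 1) * h2
    · linear_combination (x 0 0 * x 1 0) * h2
    · ring
  · simp only [Set.mem_setOf_eq] at hx hy
    ext r s
    fin_cases r <;> fin_cases s <;>
      simp [Matrix.mul_apply, Fin.sum_univ_two, ← hx, ← hy]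
    · linear_combination (x 0 0 * y 0 0) * h2
    · linear_combination (x 0 0 * y 0 1 + x 0 1 * y 0 0) * h2
    · linear_combination (x 0 0 * y 1 0 + x 1 0 * y 0 0) * h2
    · linear_combination (x 0 0 * y 0 0) * h2
  · simp only [Set.mem_setOf_eq] at hx
    ext r s
    fin_cases r <;> fin_cases s <;>
      simp [Matrix.mul_apply, Fin.sum_univ_two, hG00, hG11, hG10, hx]
  · set A := Algebra.adjoin F {x : Matrix (Fin 2) (Fin 2) F | x 0 0 = x 1 1}
    have h01 : Matrix.single 0 1 (1 : F) ∈ A :=
      Algebra.subset_adjoin (by simp [Matrix.single_apply])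
    have h10 : Matrix.single 1 0 (1 : F) ∈ A :=
      Algebra.subset_adjoin (by simp [Matrix.single_apply])
    refine gen_of_singles ((Fin.forall_fin_two).2 ⟨(Fin.forall_fin_two).2 ⟨?_, h01⟩,
      (Fin.forall_fin_two).2 ⟨h10, ?_⟩⟩)
    · have := A.mul_mem h01 h10
      rwa [Matrix.single_mul_single_same, one_mul] at this
    · have := A.mul_mem h10 h01
      rwa [Matrix.single_mul_single_same, one_mul] at this
  · let h : GL (Fin 2) F :=
      ⟨!![l, 0; 0, l⁻¹], !![l⁻¹, 0; 0, l],
        by simp [Matrix.mul_fin_two, Matrix.one_fin_two, hl0],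
        by simp [Matrix.mul_fin_two, Matrix.one_fin_two, hl0]⟩
    have hconj : conjMat h (Matrix.single 0 1 (1 : F)) = Matrix.single 0 1 (l * l) := by
      rw [conjMat_apply]
      show !![l, 0; 0, l⁻¹] * Matrix.single 0 1 (1 : F) * !![l⁻¹, 0; 0, l] = _
      ext r s
      fin_cases r <;> fin_cases s <;>
        simp [Matrix.mul_apply, Fin.sum_univ_two, Matrix.single_apply, Matrix.vecMul, dotProduct]
    refine ⟨h, Matrix.single 0 1 1, Matrix.single 0 1 1, Matrix.single 1 0 1, ?_,
      by simp [Matrix.single_apply], by simp [Matrix.single_apply], by simp [Matrix.single_apply],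
      Matrix.single_mul_single_of_ne _ _ _ _ (by decide) _, ?_, l * l + 1, ?_, ?_⟩
    · show !![l, 0; 0, l⁻¹]ᵀ * G * !![l, 0; 0, l⁻¹] = G
      ext r s
      fin_cases r <;> fin_cases s <;>
        simp [Matrix.mul_apply, Fin.sum_univ_two, hG00, hG11, hG10, hl0] <;> field_simp
    · intro h0
      exact one_ne_zero (α := F) (by simpa using congrFun (congrFun h0 0) 1)
    · intro h0
      apply hl1
      have : (l - 1) * (l - 1) = 0 := by linear_combination h0 - l * h2
      exact sub_eq_zero.1 (mul_self_eq_zero.1 this)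
    · rw [hconj]
      ext r s
      fin_cases r <;> fin_cases s <;>
        simp [Matrix.mul_apply, Fin.sum_univ_two, Matrix.single_apply]

/-- the standard alternating matrix on four letters -/
def antiFour (F : Type*) [Field F] : Matrix (Fin 4) (Fin 4) F :=
  !![0, 0, 0, 1; 0, 0, 1, 0; 0, 1, 0, 0; 1, 0, 0, 0]

/-- the standard shape of the distinguished operators -/
def shapeFour (a b c e f : F) : Matrix (Fin 4) (Fin 4) F :=
  !![c, e, f, 0; b, c, 0, f; a, 0, c, e; 0, a, b, c]

theorem shapeFour_ac (h2 : (2 : F) = 0) (a b c e f a' b' c' e' f' : F) :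
    shapeFour a b c e f * shapeFour a' b' c' e' f' + shapeFour a' b' c' e' f' * shapeFour a b c e f =
      (e * b' + e' * b + f * a' + f' * a) • 1 := by
  ext r s
  fin_cases r <;> fin_cases s <;>
    simp [shapeFour, Matrix.mul_apply, Fin.sum_univ_four] <;>
    first
      | ring1
      | linear_combination (c * c') * h2
      | linear_combination (c * e' + e * c') * h2
      | linear_combination (c * f' + f * c') * h2
      | linear_combination (b * c' + c * b') * h2
      | linear_combination (a * c' + c * a') * h2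
      | linear_combination (f * e' + e * f') * h2
      | linear_combination (b * f' + f * b') * h2
      | linear_combination (a * e' + e * a') * h2
      | linear_combination (a * b' + b * a') * h2

theorem shapeFour_sq (h2 : (2 : F) = 0) (a b c e f : F) :
    shapeFour a b c e f * shapeFour a b c e f = (c * c + e * b + f * a) • 1 := by
  ext r s
  fin_cases r <;> fin_cases s <;>
    simp [shapeFour, Matrix.mul_apply, Fin.sum_univ_four] <;>
    first
      | ring1
      | linear_combination (c * e) * h2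
      | linear_combination (c * f) * h2
      | linear_combination (b * c) * h2
      | linear_combination (a * c) * h2
      | linear_combination (f * e) * h2
      | linear_combination (b * f) * h2
      | linear_combination (a * e) * h2
      | linear_combination (a * b) * h2

theorem shapeFour_alt (h2 : (2 : F) = 0) (a b c e f : F) (v : Fin 4 → F) :
    v ⬝ᵥ (antiFour F * shapeFour a b c e f) *ᵥ v = 0 := by
  simp [antiFour, shapeFour, Matrix.mul_apply, Fin.sum_univ_four, Matrix.mulVec, dotProduct]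
  linear_combination (v 0 * v 1 * a + v 0 * v 2 * b + v 0 * v 3 * c + v 1 * v 2 * c + v 1 * v 3 * e +
    v 2 * v 3 * f) * h2

/-- operators with alternating associated form and scalar square -/
def altSq {k : ℕ} (G : Matrix (Fin k) (Fin k) F) : Set (Matrix (Fin k) (Fin k) F) :=
  {x | (∀ v, v ⬝ᵥ (G * x) *ᵥ v = 0) ∧ ∃ s : F, x * x = s • 1}

theorem altSq_conj {k : ℕ} {G G' : Matrix (Fin k) (Fin k) F} (g : GL (Fin k) F) (d : F)
    (hg : (g : Matrix (Fin k) (Fin k) F)ᵀ * G * g = d • G') {x : Matrix (Fin k) (Fin k) F}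
    (hx : x ∈ altSq G') : conjMat g x ∈ altSq G := by
  obtain ⟨halt, s, hs⟩ := hx
  refine ⟨fun v => ?_, s, by rw [← map_mul, hs, map_smul, map_one]⟩
  set w := ((g⁻¹ : GL (Fin k) F) : Matrix (Fin k) (Fin k) F) *ᵥ v
  rw [show v = (g : Matrix (Fin k) (Fin k) F) *ᵥ w from (mulVec_inv_cancel g v).symm,
    ← Matrix.mulVec_mulVec, conjMat_mulVec, congr_dot, hg, Matrix.smul_mulVec, dotProduct_smul,
    Matrix.mulVec_mulVec, halt, smul_zero]

theorem symm_of_alt (h2 : (2 : F) = 0) {k : ℕ} {A : Matrix (Fin k) (Fin k) F}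
    (h : ∀ v, v ⬝ᵥ A *ᵥ v = 0) : Aᵀ = A := by
  ext r s
  have h1 := h (Pi.single r 1 + Pi.single s 1)
  have h3 := h (Pi.single r 1)
  have h4 := h (Pi.single s 1)
  simp only [Matrix.mulVec_add, dotProduct_add, add_dotProduct, Matrix.mulVec_single_one,
    single_one_dotProduct, Matrix.col_apply] at h1 h3 h4
  rw [Matrix.transpose_apply]
  linear_combination h1 - h3 - h4 - A r s * h2

theorem altSq_anti (h2 : (2 : F) = 0) {x : Matrix (Fin 4) (Fin 4) F} (hx : x ∈ altSq (antiFour F)) :
    ∃ a b c e f : F, x = shapeFour a b c e f := by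
  obtain ⟨halt, s, hs⟩ := hx
  have hd : ∀ r, (antiFour F * x) r r = 0 := fun r => by simpa using halt (Pi.single r 1)
  have hsy := fun r q => congrFun (congrFun (symm_of_alt h2 halt) r) q
  have e0 := hd 0; have e1 := hd 1; have e2 := hd 2; have e3 := hd 3
  have e01 := hsy 0 1; have e02 := hsy 0 2; have e03 := hsy 0 3
  have e12 := hsy 1 2; have e13 := hsy 1 3; have e23 := hsy 2 3
  simp [antiFour, Matrix.mul_apply, Fin.sum_univ_four, Matrix.transpose_apply, Matrix.vecMul, dotProduct] at e0 e1 e2 e3 e01 e02 e03 e12 e13 e23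
  have h00 := congrFun (congrFun hs 0) 0
  have h11 := congrFun (congrFun hs 1) 1
  simp [Matrix.mul_apply, Fin.sum_univ_four] at h00 h11
  have hc : x 1 1 = x 0 0 := by
    have : (x 1 1 - x 0 0) * (x 1 1 - x 0 0) = 0 := by
      rw [e3] at h00; rw [e2] at h11
      simp only [zero_mul, add_zero] at h00 h11
      have h13 : x 1 3 * x 3 1 = x 0 2 * x 2 0 := by
        first
          | rw [e23, e01]
          | rw [← e23, ← e01]
          | rw [← e23, e01]
          | rw [e23, ← e01]
      linear_combination h11 - h00 - h13 + (x 0 0 * x 0 0 - x 0 0 * x 1 1) * h2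
    exact sub_eq_zero.1 (mul_self_eq_zero.1 this)
  refine ⟨x 2 0, x 1 0, x 0 0, x 0 1, x 0 2, ?_⟩
  ext r q
  fin_cases r <;> fin_cases q <;>
    simp [shapeFour, e0, e1, e2, e3, e01, e02, e03, e12, e13, e23, hc] <;>
    simp [← e01, ← e02, ← e03, ← e12, ← e13, ← e23, hc]

theorem shapeFour_mem (h2 : (2 : F) = 0) (a b c e f : F) :
    shapeFour a b c e f ∈ altSq (antiFour F) :=
  ⟨shapeFour_alt h2 a b c e f, _, shapeFour_sq h2 a b c e f⟩

/-- the distinguished operators of a four-dimensional space -/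
theorem slotData_four (h2 : (2 : F) = 0) (t : ℕ) {G : Matrix (Fin 4) (Fin 4) F} (C : GL (Fin 4) F)
    (hC : (C : Matrix (Fin 4) (Fin 4) F)ᵀ * G * C = antiFour F) :
    SlotData 4 t G (altSq G) := by
  have hC' : ((C⁻¹ : GL (Fin 4) F) : Matrix (Fin 4) (Fin 4) F)ᵀ * antiFour F *
      ((C⁻¹ : GL (Fin 4) F) : Matrix (Fin 4) (Fin 4) F) = G := by
    rw [← hC, ← mul_assoc, ← mul_assoc, ← Matrix.transpose_mul, Units.mul_inv, Matrix.transpose_one,
      one_mul, mul_assoc, Units.mul_inv, mul_one]
  have hto : ∀ a b c e f, conjMat C (shapeFour a b c e f) ∈ altSq G := fun a b c e f =>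
    altSq_conj C 1 (by rw [hC, one_smul]) (shapeFour_mem h2 a b c e f)
  have hfrom : ∀ x ∈ altSq G, ∃ a b c e f, x = conjMat C (shapeFour a b c e f) := fun x hx => by
    obtain ⟨a, b, c, e, f, h⟩ := altSq_anti h2 (altSq_conj C⁻¹ 1 (by rw [hC', one_smul]) hx)
    refine ⟨a, b, c, e, f, ?_⟩
    rw [← h]
    exact (by simpa using (conjMat_inv_apply C⁻¹ x).symm)
  refine ⟨fun g d hg x hx => altSq_conj g d hg hx, fun x hx => hx.2, fun x hx y hy => ?_,
    fun x hx => symm_of_alt h2 hx.1, Or.inr fun x hx => hx.1, ?_, ?_⟩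
  · obtain ⟨a, b, c, e, f, rfl⟩ := hfrom x hx
    obtain ⟨a', b', c', e', f', rfl⟩ := hfrom y hy
    exact ⟨_, by rw [← map_mul, ← map_mul, ← map_add, shapeFour_ac h2, map_smul, map_one]⟩
  · set A := (Algebra.adjoin F (altSq G)).comap (conjMat C).toAlgHom with hA
    have hm : ∀ a b c e f, shapeFour a b c e f ∈ A := fun a b c e f =>
      Algebra.subset_adjoin (hto a b c e f)
    have h00 : Matrix.single 0 0 (1 : F) ∈ A := by
      have := A.mul_mem (A.mul_mem (hm 0 0 0 1 0) (hm 0 1 0 0 0)) (A.mul_mem (hm 0 0 0 0 1) (hm 1 0 0 0 0))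
      convert this using 1
      ext r s
      fin_cases r <;> fin_cases s <;>
        simp [shapeFour, Matrix.mul_apply, Fin.sum_univ_four, Matrix.single_apply]
    have h01 : Matrix.single 0 1 (1 : F) ∈ A := by
      have := A.mul_mem h00 (hm 0 0 0 1 0)
      convert this using 1
      ext r s
      fin_cases r <;> fin_cases s <;>
        simp [shapeFour, Matrix.mul_apply, Fin.sum_univ_four, Matrix.single_apply]
    have h02 : Matrix.single 0 2 (1 : F) ∈ A := by
      have := A.mul_mem h00 (hm 0 0 0 0 1)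
      convert this using 1
      ext r s
      fin_cases r <;> fin_cases s <;>
        simp [shapeFour, Matrix.mul_apply, Fin.sum_univ_four, Matrix.single_apply]
    have h03 : Matrix.single 0 3 (1 : F) ∈ A := by
      have := A.mul_mem h01 (hm 0 0 0 0 1)
      convert this using 1
      ext r s
      fin_cases r <;> fin_cases s <;>
        simp [shapeFour, Matrix.mul_apply, Fin.sum_univ_four, Matrix.single_apply]
    have h10 : Matrix.single 1 0 (1 : F) ∈ A := by
      have := A.mul_mem (hm 0 1 0 0 0) h00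
      convert this using 1
      ext r s
      fin_cases r <;> fin_cases s <;>
        simp [shapeFour, Matrix.mul_apply, Fin.sum_univ_four, Matrix.single_apply]
    have h20 : Matrix.single 2 0 (1 : F) ∈ A := by
      have := A.mul_mem (hm 1 0 0 0 0) h00
      convert this using 1
      ext r s
      fin_cases r <;> fin_cases s <;>
        simp [shapeFour, Matrix.mul_apply, Fin.sum_univ_four, Matrix.single_apply]
    have h30 : Matrix.single 3 0 (1 : F) ∈ A := by
      have := A.mul_mem (hm 1 0 0 0 0) h10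
      convert this using 1
      ext r s
      fin_cases r <;> fin_cases s <;>
        simp [shapeFour, Matrix.mul_apply, Fin.sum_univ_four, Matrix.single_apply]
    have hrow : ∀ j, Matrix.single (0 : Fin 4) j (1 : F) ∈ A := fun j => by
      fin_cases j <;> assumption
    have hcol : ∀ i, Matrix.single i (0 : Fin 4) (1 : F) ∈ A := fun i => by
      fin_cases i <;> assumption
    have hall := gen_of_singles (A := A) fun i j => by
      have := A.mul_mem (hcol i) (hrow j)
      rwa [Matrix.single_mul_single_same, one_mul] at this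
    refine eq_top_iff.2 fun x _ => ?_
    have hx : conjMat C⁻¹ x ∈ A := hall ▸ Algebra.mem_top
    rw [hA, Subalgebra.mem_comap] at hx
    have e := conjMat_inv_apply C⁻¹ x
    rw [inv_inv] at e
    exact e ▸ (show conjMat C (conjMat C⁻¹ x) ∈ Algebra.adjoin F (altSq G) from hx)
  · let M : Matrix (Fin 4) (Fin 4) F := !![1, 0, 0, 0; 0, 0, 1, 0; 0, 1, 0, 0; 0, 0, 0, 1]
    have hMM : M * M = 1 := by
      ext r s
      fin_cases r <;> fin_cases s <;> simp [M, Matrix.mul_apply, Fin.sum_univ_four]
    let h₀ : GL (Fin 4) F := ⟨M, M, hMM, hMM⟩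
    have hh₀ : Mᵀ * antiFour F * M = antiFour F := by
      ext r s
      fin_cases r <;> fin_cases s <;> simp [M, antiFour, Matrix.mul_apply, Fin.sum_univ_four]
    have hswap : conjMat h₀ (shapeFour 0 0 0 1 0) = shapeFour (0 : F) 0 0 0 1 := by
      rw [conjMat_apply]
      show M * shapeFour 0 0 0 1 0 * M = _
      ext r s
      fin_cases r <;> fin_cases s <;> simp [M, shapeFour, Matrix.mul_apply, Fin.sum_univ_four]
    refine ⟨C * h₀ * C⁻¹, conjMat C (shapeFour 0 0 0 1 0), conjMat C (shapeFour 0 0 0 1 0),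
      conjMat C (shapeFour 0 1 0 0 0), ?_, hto _ _ _ _ _, hto _ _ _ _ _, hto _ _ _ _ _, ?_, ?_, 1,
      one_ne_zero, ?_⟩
    · rw [Units.val_mul, Units.val_mul, Matrix.transpose_mul, Matrix.transpose_mul]
      calc _ = ((C⁻¹ : GL (Fin 4) F) : Matrix (Fin 4) (Fin 4) F)ᵀ * (Mᵀ *
            ((C : Matrix (Fin 4) (Fin 4) F)ᵀ * G * C) * M) *
            ((C⁻¹ : GL (Fin 4) F) : Matrix (Fin 4) (Fin 4) F) := by simp only [mul_assoc]; rfl
        _ = G := by rw [hC, hh₀, hC']
    · rw [← map_mul, shapeFour_sq h2]; simp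
    · intro h0
      have := (conjMat C).injective (h0.trans (map_zero _).symm)
      exact one_ne_zero (α := F) (by simpa [shapeFour] using congrFun (congrFun this 0) 1)
    · rw [conjMat_mul, conjMat_mul, conjMat_inv_apply, hswap, ← map_add, ← map_mul, ← map_mul,
        ← map_add]
      have : shapeFour (0 : F) 0 0 0 1 + shapeFour 0 0 0 1 0 = shapeFour 0 0 0 1 1 := by
        ext r s
        fin_cases r <;> fin_cases s <;> simp [shapeFour]
      rw [this, shapeFour_ac h2]
      simp

theorem gram_dot [Fintype F] {k : ℕ} {f : (Fin k → F) → (Fin k → F) → F}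
    (hf : Cfsg.Geo.IsBilinearForm f) (x y : Fin k → F) :
    f x y = x ⬝ᵥ Cfsg.Geo.gramMatrix f *ᵥ y := by
  rw [← Factor.formOfGram_gram (RingHom.id F) hf.add_left hf.smul_left
    hf.add_right (fun c v x => hf.smul_right c v x)]
  simp [Cfsg.Geo.formOfGram, dotProduct, Matrix.mulVec, Finset.mul_sum, mul_assoc]

/-- a symplectic form on four letters in coordinates -/
theorem exists_anti_basis [Fintype F] (h2 : (2 : F) = 0) {f : (Fin 4 → F) → (Fin 4 → F) → F}
    (hf : Cfsg.Geo.IsSymplecticForm f) :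
    ∃ C : GL (Fin 4) F, (C : Matrix (Fin 4) (Fin 4) F)ᵀ * Cfsg.Geo.gramMatrix f * C = antiFour F := by
  let B : LinearMap.BilinForm F (Fin 4 → F) :=
    LinearMap.mk₂ F f hf.bilinear.add_left (fun c a b => hf.bilinear.smul_left c a b)
      hf.bilinear.add_right (fun c a b => hf.bilinear.smul_right c a b)
  have hBn : B.Nondegenerate := by
    refine ⟨fun x hx => ?_, fun y hy => ?_⟩
    · by_contra h0
      obtain ⟨-, y, hy⟩ := hf.nondegenerate x h0
      exact hy (hx y)
    · by_contra h0
      obtain ⟨⟨x, hx⟩, -⟩ := hf.nondegenerate y h0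
      exact hx (hy x)
  obtain ⟨bs, hlr, hll, hrr⟩ := Forms.Bases.exists_sympBasis B hf.alternating hBn (m := 2)
    (by simp [Module.finrank_fintype_fun_eq_card])
  have hrl : ∀ i j, f (bs (.inr i)) (bs (.inl j)) = if i = j then 1 else 0 := fun i j => by
    rw [hf.skew, show f (bs (.inl j)) (bs (.inr i)) = _ from hlr j i]
    by_cases h : i = j
    · rw [if_pos h, if_pos h.symm]; linear_combination (-1 : F) * h2
    · rw [if_neg h, if_neg (Ne.symm h), neg_zero]
  set col : Fin 4 → Fin 4 → F := ![bs (.inl 0), bs (.inl 1), bs (.inr 1), bs (.inr 0)] with hcol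
  set Cm : Matrix (Fin 4) (Fin 4) F := Matrix.of fun r i => col i r with hCm
  have hform := gram_dot hf.bilinear
  have hcong : Cmᵀ * Cfsg.Geo.gramMatrix f * Cm = antiFour F := by
    ext r s
    have e : (Cmᵀ * Cfsg.Geo.gramMatrix f * Cm) r s = f (col r) (col s) := by
      rw [hform, mul_assoc]
      simp [Matrix.mul_apply, dotProduct, Matrix.mulVec, hCm, Finset.mul_sum]
    rw [e]
    have hlr' : ∀ i j, f (bs (.inl i)) (bs (.inr j)) = if i = j then 1 else 0 := hlr
    have hll' : ∀ i j, f (bs (.inl i)) (bs (.inl j)) = 0 := hll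
    have hrr' : ∀ i j, f (bs (.inr i)) (bs (.inr j)) = 0 := hrr
    fin_cases r <;> fin_cases s <;> simp [hcol, antiFour, hlr', hll', hrr', hrl]
  have hdet : Cm.det ≠ 0 := by
    intro h0
    have h1 := congrArg Matrix.det hcong
    rw [Matrix.det_mul, h0, mul_zero] at h1
    have h3 : antiFour F * antiFour F = 1 := by
      ext r s
      fin_cases r <;> fin_cases s <;> simp [antiFour, Matrix.mul_apply, Fin.sum_univ_four]
    have h4 := congrArg Matrix.det h3
    rw [Matrix.det_mul, ← h1, mul_zero, Matrix.det_one] at h4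
    exact zero_ne_one h4
  exact ⟨Matrix.GeneralLinearGroup.mkOfDetNeZero Cm hdet, hcong⟩

end Cfsg.Agent.Forms.Max.OrthPower
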