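import Mathlib
import Cfsg.Agent.Lib.Forms.Max.Factor
import Cfsg.Agent.Lib.Forms.Max.OrthBase
import Cfsg.Agent.Lib.Forms.Max.LinearTensor
import Cfsg.Agent.Lib.Forms.Max.FactorThree

/-!
# Tensor products with a plane in the orthogonal groups over two elements
-/

set_option autoImplicit false
set_option linter.unusedSectionVars false

namespace Cfsg.Agent.Forms.Max.OrthTensor

open Matrix Cfsg.Agent.Aschbacher Cfsg.Agent.Forms.Max.Factor
open scoped Kronecker

variable {F : Type*} [Field F] [Fintype F] {ι : Type} [Fintype ι] [DecidableEq ι] {k : ℕ}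

theorem mul_pureVec_left (e : ι ≃ Fin 2 × Fin k) (P g : GL ι F) (M : Matrix (Fin 2) (Fin 2) F)
    (h : (glCoord e P g : Matrix (Fin 2 × Fin k) (Fin 2 × Fin k) F) = M ⊗ₖ 1)
    (x : Fin 2 → F) (y : Fin k → F) :
    (g : Matrix ι ι F) *ᵥ pureVec e P x y = pureVec e P (M *ᵥ x) y := by
  rw [pureVec_apply, pureVec_apply, ← glCoord_mulVec e P g, h]
  congr 2
  funext ⟨r, s⟩
  simp only [Matrix.mulVec, dotProduct, Matrix.kroneckerMap_apply, Fintype.sum_prod_type,
    Finset.sum_mul]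
  refine Finset.sum_congr rfl fun i _ => ?_
  rw [Finset.sum_eq_single s]
  · simp; ring
  · intro j _ hj; simp [Matrix.one_apply, Ne.symm hj]
  · simp

/-- `Sp_2 ⊗ Sp_k` over two elements sits properly inside a unitary subgroup -/
theorem tensor_between (hq : Fintype.card F = 2) {Q : QuadraticForm F (ι → F)}
    (hQ : (QuadraticMap.polarBilin Q).Nondegenerate) (hι : 9 ≤ Fintype.card ι) (hk : 3 ≤ k)
    (e : ι ≃ Fin 2 × Fin k) (P : GL ι F) {f₁ : (Fin 2 → F) → (Fin 2 → F) → F}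
    {f₂ : (Fin k → F) → (Fin k → F) → F} (hf₁ : Cfsg.Geo.IsSymplecticForm f₁)
    (hf₂ : Cfsg.Geo.IsSymplecticForm f₂)
    (hT : Cfsg.Geo.IsTensorFormStructure id (QuadraticMap.polar ⇑Q) f₁ f₂ e P)
    (hpure : ∀ (x : Fin 2 → F) (y : Fin k → F), Q (pureVec e P x y) = 0) :
    ∃ K : Subgroup (GL ι F), Cfsg.Geo.tensorProductSubgroup 2 k e P ⊓ Cfsg.Geo.omegaGL ⇑Q < K ∧
      K < Cfsg.Geo.omegaGL ⇑Q := by
  have hv01 : ∀ a : F, a = 0 ∨ a = 1 := forall_two_values hq
  have h11 : (1 : F) + 1 = 0 := two_eq_zero_of_card hq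
  have h2 : (2 : F) = 0 := by linear_combination h11
  obtain ⟨κ, hκ, hval⟩ := hT
  obtain rfl : κ = 1 := (hv01 κ).resolve_left hκ
  set τ := pureVec e P with hτ
  have hB : ∀ x x' y y', QuadraticMap.polar Q (τ x y) (τ x' y') = f₁ x x' * f₂ y y' := by
    intro x x' y y'
    rw [hτ, pureVec_apply, pureVec_apply, hval, one_mul]
    refine (formOfGram_pure (RingHom.id F) _ _ x x' y y').trans ?_
    rw [formOfGram_gram (RingHom.id F) hf₁.bilinear.add_left hf₁.bilinear.smul_left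
      hf₁.bilinear.add_right (fun c v x => hf₁.bilinear.smul_right c v x),
      formOfGram_gram (RingHom.id F) hf₂.bilinear.add_left hf₂.bilinear.smul_left
      hf₂.bilinear.add_right (fun c v x => hf₂.bilinear.smul_right c v x)]
  set x₀ : Fin 2 → F := ![1, 0] with hx₀
  set x₁ : Fin 2 → F := ![0, 1] with hx₁
  have hf₁v : ∀ a b, f₁ a b = a 0 * b 1 + a 1 * b 0 := by
    intro a b
    have h01 : f₁ x₀ x₁ = 1 := by
      refine (hv01 _).resolve_left fun h0 => ?_
      have hne : x₀ ≠ 0 := fun h => one_ne_zero (α := F) (by simpa [hx₀] using congrFun h 0)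
      obtain ⟨-, z, hz⟩ := hf₁.nondegenerate x₀ hne
      refine hz ?_
      have : z = z 0 • x₀ + z 1 • x₁ := by funext i; fin_cases i <;> simp [hx₀, hx₁]
      rw [this, hf₁.bilinear.add_right, hf₁.bilinear.smul_right, hf₁.bilinear.smul_right,
        hf₁.alternating, h0]
      ring
    have ea : a = a 0 • x₀ + a 1 • x₁ := by funext i; fin_cases i <;> simp [hx₀, hx₁]
    have eb : b = b 0 • x₀ + b 1 • x₁ := by funext i; fin_cases i <;> simp [hx₀, hx₁]
    conv_lhs => rw [ea, eb]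
    rw [hf₁.bilinear.add_left, hf₁.bilinear.add_right, hf₁.bilinear.add_right,
      hf₁.bilinear.smul_left, hf₁.bilinear.smul_left, hf₁.bilinear.smul_left,
      hf₁.bilinear.smul_left, hf₁.bilinear.smul_right, hf₁.bilinear.smul_right,
      hf₁.bilinear.smul_right, hf₁.bilinear.smul_right, hf₁.alternating, hf₁.alternating,
      hf₁.skew x₁ x₀, h01]
    linear_combination (-(a 1 * b 0)) * h2
  have hω : ∀ a : Fin 2 → F, omegaTwo F *ᵥ a = ![a 1, a 0 + a 1] := fun a => by
    funext i; fin_cases i <;> simp [omegaTwo, Matrix.mulVec, dotProduct, Fin.sum_univ_two]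
  have hωx : omegaTwo F *ᵥ x₀ = x₁ := by rw [hω]; simp [hx₀, hx₁]
  have hωω : omegaTwo F *ᵥ x₁ = x₀ + x₁ := by rw [hω]; simp [hx₀, hx₁]
  have hswap : ∀ y y', f₂ y y' = f₂ y' y := fun y y' => by
    rw [hf₂.skew y' y]; linear_combination (f₂ y y') * h2
  have h2sep : ∀ y y' : Fin k → F, τ x₀ y + τ x₁ y' = 0 → y = 0 ∧ y' = 0 := fun y y' h => by
    have hC : IsUnit (1 : Matrix (Fin 2) (Fin 2) F).det := by simp
    have hh := pureVec_indep e P hC (Y := ![y, y']) (by
      rw [Fin.sum_univ_two]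
      have e0 : (fun r => (1 : Matrix (Fin 2) (Fin 2) F) r 0) = x₀ := by
        funext r; fin_cases r <;> simp [hx₀, Matrix.one_apply]
      have e1 : (fun r => (1 : Matrix (Fin 2) (Fin 2) F) r 1) = x₁ := by
        funext r; fin_cases r <;> simp [hx₁, Matrix.one_apply]
      rw [e0, e1]; exact h)
    exact ⟨hh 0, hh 1⟩
  -- two orthogonal vectors of the large factor
  obtain ⟨z₁, hz₁⟩ : ∃ z : Fin k → F, z ≠ 0 :=
    ⟨Pi.single ⟨0, by omega⟩ 1, fun h => one_ne_zero (α := F) (by simpa using congrFun h ⟨0, by omega⟩)⟩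
  obtain ⟨L, hL⟩ : ∃ L : (Fin k → F) → ((Fin k → F) →ₗ[F] F), ∀ z y, L z y = f₂ y z :=
    ⟨fun z => { toFun := fun y => f₂ y z, map_add' := fun a b => hf₂.bilinear.add_left a b z,
                map_smul' := fun c a => hf₂.bilinear.smul_left c a z }, fun z y => rfl⟩
  have hker : ∀ z, k ≤ Module.finrank F ↥(LinearMap.ker (L z)) + 1 := fun z => by
    have h1 := LinearMap.finrank_range_add_finrank_ker (L z)
    have h3 := Submodule.finrank_le (LinearMap.range (L z))
    rw [Module.finrank_self] at h3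
    rw [Module.finrank_fintype_fun_eq_card, Fintype.card_fin] at h1
    omega
  obtain ⟨z₂, hz₂k, hz₂⟩ : ∃ z ∈ LinearMap.ker (L z₁), z ∉ Submodule.span F {z₁} :=
    SetLike.not_le_iff_exists.1 fun hle => by
      have := Submodule.finrank_mono hle
      rw [finrank_span_singleton hz₁] at this
      have := hker z₁
      omega
  have hz12 : f₂ z₁ z₂ = 0 := by rw [hswap, ← hL]; exact hz₂k
  have hz20 : z₂ ≠ 0 := fun h => hz₂ (h ▸ Submodule.zero_mem _)
  obtain ⟨y₀, ⟨hy₀a, hy₀b⟩, hy₀⟩ := Submodule.exists_mem_ne_zero_of_ne_bot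
    (p := LinearMap.ker (L z₁) ⊓ LinearMap.ker (L z₂)) fun h => by
      have h1 := Submodule.finrank_sup_add_finrank_inf_eq (LinearMap.ker (L z₁)) (LinearMap.ker (L z₂))
      rw [h, finrank_bot] at h1
      have h3 := Submodule.finrank_le (LinearMap.ker (L z₁) ⊔ LinearMap.ker (L z₂))
      rw [Module.finrank_fintype_fun_eq_card, Fintype.card_fin] at h3
      have := hker z₁
      have := hker z₂
      omega
  have hy1 : f₂ y₀ z₁ = 0 := by rw [← hL]; exact hy₀a
  have hy2 : f₂ y₀ z₂ = 0 := by rw [← hL]; exact hy₀b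
  have hexy : ∃ y, f₂ y z₁ = 1 ∧ f₂ y z₂ = 0 := by
    by_contra hc
    push Not at hc
    have hdep : ∀ y, f₂ y z₂ = 0 → f₂ y z₁ = 0 := fun y h =>
      (hv01 _).resolve_right fun h1 => hc y h1 h
    obtain ⟨⟨y', hy'⟩, -⟩ := hf₂.nondegenerate z₂ hz20
    have hy'1 : f₂ y' z₂ = 1 := (hv01 _).resolve_left hy'
    set c := f₂ y' z₁
    refine hz₂ ?_
    have hall : ∀ y, f₂ y (z₁ - c • z₂) = 0 := fun y => by
      have := hdep (y - f₂ y z₂ • y') (by
        rw [sub_eq_add_neg, hf₂.bilinear.add_left, ← neg_smul, hf₂.bilinear.smul_left, hy'1]; ring)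
      rw [sub_eq_add_neg, hf₂.bilinear.add_left, ← neg_smul, hf₂.bilinear.smul_left] at this
      rw [sub_eq_add_neg, hf₂.bilinear.add_right, ← neg_smul, hf₂.bilinear.smul_right]
      linear_combination this
    have h0 : z₁ - c • z₂ = 0 := by
      by_contra hne
      obtain ⟨⟨y, hy⟩, -⟩ := hf₂.nondegenerate _ hne
      exact hy (hall y)
    rcases hv01 c with hc' | hc'
    · rw [hc', zero_smul, sub_zero] at h0; exact absurd h0 hz₁
    · rw [hc', one_smul, sub_eq_zero] at h0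
      rw [← h0]; exact Submodule.mem_span_singleton_self _
  obtain ⟨y₁, hy11, hy12⟩ := hexy
  -- the two elements
  set u := τ x₀ z₁ + τ x₁ z₂ with hu
  set w := τ x₁ z₁ + τ (x₀ + x₁) z₂ with hw
  have hQu : Q u = 0 := by
    rw [hu, Classical.Orth.map_add', hpure, hpure, hB, hz12]; ring
  have hQw : Q w = 0 := by
    rw [hw, Classical.Orth.map_add', hpure, hpure, hB, hz12]; ring
  have huw : QuadraticMap.polar Q u w = 0 := by
    simp only [hu, hw, QuadraticMap.polar_add_left, QuadraticMap.polar_add_right, hB, hz12,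
      hswap z₂ z₁, hf₂.alternating]
    ring
  set E₁ := Classical.Orth.eich u w hQu huw with hE₁
  have hu2 : Q (τ x₀ z₁) = 0 := hpure _ _
  have huw2 : QuadraticMap.polar Q (τ x₀ z₁) (τ x₀ z₂) = 0 := by rw [hB, hz12, mul_zero]
  set E₂ := Classical.Orth.eich (τ x₀ z₁) (τ x₀ z₂) hu2 huw2 with hE₂
  let φ : GL (Fin 2 × Fin k) F ≃* GL ι F := (Cfsg.Geo.glReindex e.symm).trans (MulAut.conj P)
  have hφ : ∀ g₀, glCoord e P (φ g₀) = g₀ := fun g₀ => glCoord_of_reindex e P g₀
  let ω₂ : GL (Fin 2) F := Matrix.GeneralLinearGroup.mkOfDetNeZero (omegaTwo F) (by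
    simp [omegaTwo, Matrix.det_fin_two])
  let J₀ : GL (Fin 2 × Fin k) F :=
    ⟨(ω₂ : Matrix (Fin 2) (Fin 2) F) ⊗ₖ 1, ((ω₂⁻¹ : GL (Fin 2) F) : Matrix (Fin 2) (Fin 2) F) ⊗ₖ 1,
      by rw [← Matrix.mul_kronecker_mul, Units.mul_inv, one_mul, Matrix.one_kronecker_one],
      by rw [← Matrix.mul_kronecker_mul, Units.inv_mul, one_mul, Matrix.one_kronecker_one]⟩
  set J := φ J₀ with hJ
  have hJτ : ∀ x y, (J : Matrix ι ι F) *ᵥ τ x y = τ (omegaTwo F *ᵥ x) y := fun x y =>
    mul_pureVec_left e P J _ (by rw [hJ, hφ]; rfl) x y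
  have hact : ∀ (g : Cfsg.isometryGroup F ⇑Q) (v : ι → F),
      ((Cfsg.isometryGroup F ⇑Q).subtype g : Matrix ι ι F) *ᵥ v = Reflections.act g v :=
    fun g v => (Reflections.act_apply g v).symm
  obtain ⟨hlt₁, -⟩ := LinearTensor.kronecker_lt (F := F) hq (k := k) (by omega)
  set N₀ := Cfsg.Geo.subalgebraNormalizer ((fourField F).map (LinearTensor.slot F k)) with hN₀
  have hωf : ∀ a b, f₁ (omegaTwo F *ᵥ a) (omegaTwo F *ᵥ b) = f₁ a b := fun a b => by
    simp only [hf₁v, hω, Matrix.cons_val_zero, Matrix.cons_val_one]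
    linear_combination (a 1 * b 1) * h2
  have hJu : (J : Matrix ι ι F) *ᵥ u = w := by
    rw [hu, Matrix.mulVec_add, hJτ, hJτ, hωx, hωω]
  have hJw : (J : Matrix ι ι F) *ᵥ w = u + w := by
    rw [hw, Matrix.mulVec_add, hJτ, hJτ, hωω, Matrix.mulVec_add, hωx, hωω, hu]
    simp only [map_add, LinearMap.add_apply]
    have : τ x₁ z₂ + τ x₁ z₂ = 0 := by rw [← two_smul F (τ x₁ z₂), h2, zero_smul]
    linear_combination (norm := module) this - this
  have hfix : ∀ (u' w' : ι → F) (hu' : Q u' = 0) (huw' : QuadraticMap.polar Q u' w' = 0) (v : ι → F),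
      Q w' = 0 → ((Cfsg.isometryGroup F ⇑Q).subtype (Classical.Orth.eich u' w' hu' huw') :
        Matrix ι ι F) *ᵥ v = v + QuadraticMap.polar Q v u' • w' + QuadraticMap.polar Q v w' • u' := by
    intro u' w' hu' huw' v hQw'
    rw [hact, Classical.Orth.act_eich, hQw', zero_mul, zero_smul, sub_zero, sub_eq_add_neg,
      ← neg_smul, show -QuadraticMap.polar Q v w' = QuadraticMap.polar Q v w' by
        linear_combination (-(QuadraticMap.polar Q v w')) * h2]
  have hsplit : ∀ (x : Fin 2 → F) (y : Fin k → F),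
      τ x y = τ x₀ (x 0 • y) + τ x₁ (x 1 • y) := fun x y => by
    have hx : x = x 0 • x₀ + x 1 • x₁ := by funext r; fin_cases r <;> simp [hx₀, hx₁]
    conv_lhs => rw [hx]
    simp only [map_add, LinearMap.add_apply, map_smul, LinearMap.smul_apply]
  refine exists_between (K := N₀.map φ.toMonoidHom ⊓ Cfsg.Geo.omegaGL ⇑Q) ?_
    ⟨_, ⟨?_, Subgroup.mem_map_of_mem _ (Orth.eich_omega hQ (by omega) hQu huw)⟩, fun h => ?_⟩ inf_le_right
    ⟨_, Subgroup.mem_map_of_mem _ (Orth.eich_omega hQ (by omega) hu2 huw2), fun h => ?_⟩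
  · refine inf_le_inf_right _ ?_
    rw [Cfsg.Geo.tensorProductSubgroup, Subgroup.map_map]
    exact Subgroup.map_mono hlt₁.le
  · -- the first element commutes with the quadratic field
    set E : GL ι F := (Cfsg.isometryGroup F ⇑Q).subtype E₁ with hE
    have key : ∀ x y, ((E * J : GL ι F) : Matrix ι ι F) *ᵥ τ x y =
        ((J * E : GL ι F) : Matrix ι ι F) *ᵥ τ x y := by
      intro x y
      rw [mulVec_mul_GL, mulVec_mul_GL, hJτ, hE, hE₁, hfix _ _ _ _ _ hQw, hfix _ _ _ _ _ hQw,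
        Matrix.mulVec_add, Matrix.mulVec_add, Matrix.mulVec_smul, Matrix.mulVec_smul, hJτ, hJu, hJw]
      have hA : QuadraticMap.polar Q (τ (omegaTwo F *ᵥ x) y) w = QuadraticMap.polar Q (τ x y) u := by
        simp only [hu, hw, QuadraticMap.polar_add_right, hB, hf₁v, hω, hx₀, hx₁, Pi.add_apply,
          Matrix.cons_val_zero, Matrix.cons_val_one]
        linear_combination (x 1 * f₂ y z₂) * h2
      have hC : QuadraticMap.polar Q (τ (omegaTwo F *ᵥ x) y) u =
          QuadraticMap.polar Q (τ x y) w + QuadraticMap.polar Q (τ x y) u := by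
        simp only [hu, hw, QuadraticMap.polar_add_right, hB, hf₁v, hω, hx₀, hx₁, Pi.add_apply,
          Matrix.cons_val_zero, Matrix.cons_val_one]
        linear_combination (-(x 0 * f₂ y z₂)) * h2
      rw [hA, hC]
      module
    have hcomm : E * J = J * E := by
      have h1 : (J * E)⁻¹ * (E * J) = 1 := pureVec_total e P fun x y => by
        rw [mulVec_mul_GL]
        exact (congrArg _ (key x y)).trans (inv_mulVec_cancel (J * E) _)
      exact (inv_mul_eq_one.1 h1).symm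
    refine ⟨φ.symm E, mem_subalgebraNormalizer ?_, φ.apply_symm_apply E⟩
    rintro _ ⟨m, hm, rfl⟩
    refine ⟨m, hm, ?_⟩
    show LinearTensor.slot F k m = conjMat (φ.symm E) (LinearTensor.slot F k m)
    refine ((conjMat_eq_self_iff (φ.symm E) _).2 ?_).symm
    have h2' : φ.symm E * J₀ = J₀ * φ.symm E := φ.injective (by
      rw [map_mul, map_mul, φ.apply_symm_apply]; exact hcomm)
    obtain ⟨a, b, rfl⟩ := hm
    have hval₀ : ((φ.symm E : GL (Fin 2 × Fin k) F) : Matrix (Fin 2 × Fin k) (Fin 2 × Fin k) F) *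
        LinearTensor.slot F k (omegaTwo F) = LinearTensor.slot F k (omegaTwo F) *
        ((φ.symm E : GL (Fin 2 × Fin k) F) : Matrix (Fin 2 × Fin k) (Fin 2 × Fin k) F) :=
      congrArg Units.val h2'
    rw [map_add, map_smul, map_smul, map_one, mul_add, add_mul, mul_smul_comm, mul_smul_comm,
      smul_mul_assoc, smul_mul_assoc, mul_one, one_mul, hval₀]
  · -- it is no tensor product
    obtain ⟨a, b, hab⟩ := mul_pureVec h.1
    rw [← hτ] at hab
    have hfy : ((a : Matrix (Fin 2) (Fin 2) F) *ᵥ x₀) = x₀ := by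
      have h3 := hab x₀ y₀
      rw [hfix _ _ _ _ _ hQw] at h3
      simp only [hu, hw, QuadraticMap.polar_add_right, hB, hy1, hy2, mul_zero, add_zero,
        zero_smul] at h3
      set a' := (a : Matrix (Fin 2) (Fin 2) F) *ᵥ x₀
      set b' := (b : Matrix (Fin k) (Fin k) F) *ᵥ y₀
      have h4 : τ x₀ (a' 0 • b' - y₀) + τ x₁ (a' 1 • b') = 0 := by
        have := hsplit a' b'
        rw [← h3] at this
        rw [map_sub, sub_add_eq_add_sub, ← this, sub_self]
      obtain ⟨e0, e1⟩ := h2sep _ _ h4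
      rcases hv01 (a' 0) with c0 | c0
      · rw [c0, zero_smul, zero_sub, neg_eq_zero] at e0; exact absurd e0 hy₀
      · rcases hv01 (a' 1) with c1 | c1
        · funext r; fin_cases r <;> simp [hx₀, c0, c1]
        · rw [c1, one_smul] at e1
          rw [e1, smul_zero, zero_sub, neg_eq_zero] at e0
          exact absurd e0 hy₀
    have h3 := hab x₀ y₁
    rw [hfy, hfix _ _ _ _ _ hQw] at h3
    simp only [hu, hw, QuadraticMap.polar_add_right, hB, hy11, hy12, hf₁v, hx₀, hx₁, mul_zero,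
      mul_one, add_zero, zero_smul, Pi.add_apply, Matrix.cons_val_zero, Matrix.cons_val_one,
      zero_add, one_smul] at h3
    have h4 : τ x₀ (y₁ + z₁ - (b : Matrix (Fin k) (Fin k) F) *ᵥ y₁) + τ x₁ z₂ = 0 := by
      rw [map_sub, map_add]
      linear_combination (norm := module) h3
    exact hz20 (h2sep _ _ h4).2
  · -- the second element moves the field
    obtain ⟨g₀, hg₀, hgE⟩ := h.1
    set E : GL ι F := (Cfsg.isometryGroup F ⇑Q).subtype E₂ with hE
    have hgE' : φ g₀ = E := hgE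
    obtain ⟨M, hM, hMeq⟩ := ((hg₀ : g₀ ∈ N₀) (LinearTensor.slot F k (omegaTwo F))).1
      ⟨_, ⟨0, 1, by simp⟩, rfl⟩
    have hJ' : ∀ x y, ((E * J * E⁻¹ : GL ι F) : Matrix ι ι F) *ᵥ τ x y = τ (M *ᵥ x) y := by
      intro x y
      refine mul_pureVec_left e P _ M ?_ x y
      rw [← hgE', hJ, ← map_inv, ← map_mul, ← map_mul, hφ]
      exact hMeq.symm
    have hQ2 : Q (τ x₀ z₂) = 0 := hpure _ _
    have hE0 : ∀ x, (E : Matrix ι ι F) *ᵥ τ x y₀ = τ x y₀ := fun x => by
      rw [hE, hE₂, hfix _ _ _ _ _ hQ2, hB, hB, hy1, hy2]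
      simp only [mul_zero, zero_smul, add_zero]
    have hMω : ∀ x, M *ᵥ x = omegaTwo F *ᵥ x := fun x => by
      have h3 := hJ' x y₀
      rw [mulVec_mul_GL, mulVec_mul_GL] at h3
      have hinv : ((E⁻¹ : GL ι F) : Matrix ι ι F) *ᵥ τ x y₀ = τ x y₀ := by
        conv_lhs => rw [← hE0 x]
        exact inv_mulVec_cancel E _
      rw [hinv, hJτ, hE0, hsplit (M *ᵥ x), hsplit (omegaTwo F *ᵥ x)] at h3
      have h4 : τ x₀ (((M *ᵥ x) 0 - (omegaTwo F *ᵥ x) 0) • y₀) +
          τ x₁ (((M *ᵥ x) 1 - (omegaTwo F *ᵥ x) 1) • y₀) = 0 := by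
        rw [sub_smul, sub_smul, map_sub, map_sub]
        linear_combination (norm := module) -h3
      obtain ⟨e0, e1⟩ := h2sep _ _ h4
      funext r; fin_cases r
      · exact sub_eq_zero.1 ((smul_eq_zero.1 e0).resolve_right hy₀)
      · exact sub_eq_zero.1 ((smul_eq_zero.1 e1).resolve_right hy₀)
    have hcomm : E * J * E⁻¹ = J := by
      have h1 : J⁻¹ * (E * J * E⁻¹) = 1 := pureVec_total e P fun x y => by
        rw [mulVec_mul_GL, hJ', hMω, ← hJτ]
        exact inv_mulVec_cancel J _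
      exact (inv_mul_eq_one.1 h1).symm
    have h3 := congrArg (fun g : GL ι F => (g : Matrix ι ι F) *ᵥ τ x₁ y₁) (mul_inv_eq_iff_eq_mul.1 hcomm)
    simp only [mulVec_mul_GL] at h3
    rw [hJτ, hE, hE₂, hfix _ _ _ _ _ hQ2, hfix _ _ _ _ _ hQ2, hωω] at h3
    simp only [hB, hy11, hy12, hf₁v, hx₀, hx₁, mul_zero, mul_one, add_zero, zero_smul,
      Pi.add_apply, Matrix.cons_val_zero, Matrix.cons_val_one, zero_add, one_smul] at h3
    rw [← hx₀, ← hx₁, Matrix.mulVec_add, hJτ, hJτ, hωω, hωx] at h3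
    have h4 : τ x₀ z₂ + τ x₁ (-z₂) = 0 := by
      rw [map_neg]
      linear_combination (norm := module) h3
    exact hz20 (h2sep _ _ h4).1

end Cfsg.Agent.Forms.Max.OrthTensor
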