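import Mathlib
import Cfsg.Agent.Lib.Forms.Max.Symp
import Cfsg.Agent.Lib.Forms.Witt
import Cfsg.Agent.Lib.Forms.QuadStd

/-!
# Orthogonal groups in symplectic groups in characteristic two
-/

set_option autoImplicit false
set_option linter.unusedSectionVars false

namespace Cfsg.Agent.Forms.Max.Symp

open Matrix Cfsg.Agent.Aschbacher Cfsg.Agent.Forms.SympStd

variable {F : Type*} [Field F] [Fintype F] [CharP F 2] {m : ℕ}

local notation "B" => sympB m F

theorem quad_sim_maximal (hm : 2 ≤ m) (Q : QuadraticForm F (Fin m ⊕ Fin m → F))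
    (hpol : ∀ u v, QuadraticMap.polar Q u v = B u v) (H : Subgroup (GL (Fin m ⊕ Fin m) F))
    (hH : H ≤ Cfsg.spGL m F)
    (hmem : ∀ g : GL (Fin m ⊕ Fin m) F, g ∈ H ↔ g ∈ Cfsg.spGL m F ∧
      ∃ c : Fˣ, ∀ v, Q ((g : Matrix (Fin m ⊕ Fin m) (Fin m ⊕ Fin m) F) *ᵥ v) = (c : F) * Q v) :
    Cfsg.Geo.IsMaximalIn (Cfsg.spGL m F) H := by
  classical
  haveI : Fact (Nat.Prime 2) := ⟨Nat.prime_two⟩
  have hadd : ∀ u v, Q (u + v) = Q u + Q v + B u v := fun u v => by
    rw [QuadraticMap.map_add Q u v, hpol]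
  have hsm : ∀ (c : F) u, Q (c • u) = c * c * Q u := fun c u => by
    rw [QuadraticMap.map_smul, smul_eq_mul]
  have hsqrt : ∀ a : F, ∃ b : F, b * b = a := fun a => by
    obtain ⟨b, hb⟩ := surjective_frobenius F 2 a
    exact ⟨b, by rw [← hb, frobenius_def, pow_two]⟩
  have hswap : ∀ u v, B v u = B u v := fun u v => by
    rw [B_swap u v, CharTwo.neg_eq]
  have hex : ∀ v, v ≠ 0 → ∃ x, B v x = 1 := fun v hv => by
    obtain ⟨x, hx⟩ : ∃ x, B v x ≠ 0 := by
      by_contra h
      push Not at h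
      exact hv (nondeg.1 v h)
    exact ⟨(B v x)⁻¹ • x, by rw [map_smul, smul_eq_mul, inv_mul_cancel₀ hx]⟩
  -- vectors with prescribed value orthogonal to two given ones
  have hfill : ∀ v x, B v x = 1 → ∀ a : F, ∃ y, B v y = 0 ∧ B x y = 0 ∧ Q y = a := fun v x hvx a => by
    set P : Submodule F (Fin m ⊕ Fin m → F) := Submodule.span F {v, x} with hP
    have hvP : v ∈ P := Submodule.subset_span (by simp)
    have hxP : x ∈ P := Submodule.subset_span (by simp)
    have hPn : ∀ w ∈ P, w ≠ 0 → ∃ z ∈ P, B w z ≠ 0 := fun w hw hw0 => by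
      obtain ⟨s, t, rfl⟩ := Submodule.mem_span_pair.1 hw
      by_cases hs : s = 0
      · subst hs
        refine ⟨v, hvP, ?_⟩
        simp only [zero_smul, zero_add, map_smul, LinearMap.smul_apply, smul_eq_mul, hswap v x, hvx,
          mul_one]
        rintro rfl
        simp at hw0
      · refine ⟨x, hxP, ?_⟩
        simp [B_self, hvx, hs]
    have hUn := perp_nondeg nondeg isRefl hPn
    obtain ⟨y, hy, hQy⟩ : ∃ y ∈ (B).orthogonal P, Q y ≠ 0 := by
      by_contra hc
      push Not at hc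
      have h0 : ∀ u ∈ (B).orthogonal P, u = 0 := fun u hu => by
        by_contra hu0
        obtain ⟨z, hz, hne⟩ := hUn u hu hu0
        have := hadd u z
        rw [hc _ (add_mem hu hz), hc u hu, hc z hz, add_zero, zero_add] at this
        exact hne this.symm
      have hd := Submodule.finrank_add_eq_of_isCompl (isCompl_perp isRefl hPn)
      rw [(Submodule.eq_bot_iff _).2 h0, finrank_bot, add_zero, SympStd.finrank_vec] at hd
      have hle : Module.finrank F P ≤ 2 := by
        refine (finrank_span_le_card _).trans ?_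
        rw [Set.toFinset_insert, Set.toFinset_singleton]
        exact (Finset.card_insert_le _ _).trans (by simp)
      omega
    obtain ⟨b, hb⟩ := hsqrt (a / Q y)
    refine ⟨b • y, ?_, ?_, by rw [hsm, hb, div_mul_cancel₀ _ hQy]⟩
    · rw [map_smul, show B v y = 0 from LinearMap.BilinForm.mem_orthogonal_iff.1 hy v hvP, smul_zero]
    · rw [map_smul, show B x y = 0 from LinearMap.BilinForm.mem_orthogonal_iff.1 hy x hxP, smul_zero]
  -- transvections inside `H`
  have happ : ∀ (w : Fin m ⊕ Fin m → F) x,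
      ((spTrv w (1 : F) : GL (Fin m ⊕ Fin m) F) : Matrix _ _ F) *ᵥ x = x + B x w • w := fun w x => by
    rw [spTrv_apply, one_mul]
  have hQt : ∀ w, Q w = 1 → spTrv w 1 ∈ H := fun w hw =>
    (hmem _).2 ⟨spTrv_mem _ _, 1, fun v => by
      rw [happ, hadd, hsm, hw, map_smul, smul_eq_mul, Units.val_one, one_mul, mul_one]
      linear_combination (B v w * B v w) * CharTwo.two_eq_zero (R := F)⟩
  obtain ⟨e₁, he₁⟩ : ∃ v : Fin m ⊕ Fin m → F, v ≠ 0 := by
    haveI : Nonempty (Fin m ⊕ Fin m) := ⟨Sum.inl ⟨0, by omega⟩⟩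
    exact exists_ne 0
  refine isMaximalIn_of hH (fun h => ?_) fun M hM hMK g hgM hg => ?_
  · -- a transvection along a singular vector is no isometry
    obtain ⟨x, hx⟩ := hex e₁ he₁
    obtain ⟨y, hy1, hy2, hy⟩ := hfill e₁ x hx (Q e₁)
    have hw0 : Q (e₁ + y) = 0 := by
      rw [hadd, hy, hy1, add_zero, CharTwo.add_self_eq_zero]
    have hxw : B x (e₁ + y) = 1 := by rw [map_add, hswap e₁ x, hx, hy2, add_zero]
    obtain ⟨-, c, hc⟩ := (hmem _).1 (h (spTrv_mem (e₁ + y) 1))
    obtain ⟨z, hz1, hz2, hz⟩ := hfill e₁ x hx 1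
    have hc1 : (c : F) = 1 := by
      have hne : e₁ + y ≠ 0 := fun e => by rw [e, map_zero] at hxw; exact zero_ne_one hxw
      obtain ⟨x', hx'⟩ := hex _ hne
      obtain ⟨u, hu1, -, hu⟩ := hfill _ _ hx' 1
      have := hc u
      rw [happ, hswap (e₁ + y) u, hu1, zero_smul, add_zero, hu, mul_one] at this
      exact this.symm
    have := hc x
    rw [happ, hxw, one_smul, hadd, hw0, hxw, hc1, one_mul, add_zero] at this
    exact one_ne_zero (add_eq_left.1 this)
  -- the transvections of `M`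
  let S : Set (Fin m ⊕ Fin m → F) := {w | spTrv w (1 : F) ∈ M}
  have hS1 : ∀ w, Q w = 1 → w ∈ S := fun w hw => hM (hQt w hw)
  have hSmap : ∀ k ∈ M, ∀ w ∈ S, (k : Matrix _ _ F) *ᵥ w ∈ S := fun k hk w hw => by
    have e : k * spTrv w 1 * k⁻¹ = spTrv ((k : Matrix _ _ F) *ᵥ w) 1 := by
      rw [mul_inv_eq_iff_eq_mul]
      refine gl_ext fun x => ?_
      rw [mulVec_mul_GL, mulVec_mul_GL, happ, happ, mulVec_add, mulVec_smul,
        mem_spGL_iff.1 (hMK hk)]
    show spTrv _ _ ∈ M
    rw [← e]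
    exact mul_mem (mul_mem hk hw) (inv_mem hk)
  obtain ⟨w, hw, hw0, hwa⟩ : ∃ w ∈ S, w ≠ 0 ∧ Q w ≠ 1 := by
    by_contra hc
    push Not at hc
    refine hg ((hmem g).2 ⟨hMK hgM, 1, fun v => ?_⟩)
    rw [Units.val_one, one_mul]
    set G := fun v => (g : Matrix (Fin m ⊕ Fin m) (Fin m ⊕ Fin m) F) *ᵥ v with hG
    have hns : ∀ v, Q v ≠ 0 → Q (G v) = Q v := fun v hv => by
      obtain ⟨b, hb⟩ := hsqrt (Q v)
      have hb0 : b ≠ 0 := fun e => hv (by rw [← hb, e, zero_mul])
      have h1 : Q (b⁻¹ • v) = 1 := by rw [hsm, ← hb]; field_simp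
      have h2 := hc _ (hSmap g hgM _ (hS1 _ h1))
        (mulVec_ne_zero g fun e => by rw [e, map_zero] at h1; exact zero_ne_one h1)
      simp only [hG, mulVec_smul, hsm] at h2 ⊢
      rw [← hb]
      field_simp at h2
      rw [h2]; ring
    by_cases hv : Q v = 0
    swap
    · exact hns v hv
    rcases eq_or_ne v 0 with rfl | hv0
    · simp
    obtain ⟨x, hx⟩ := hex v hv0
    obtain ⟨y, hy1, hy2, hy⟩ := hfill v x hx (1 + Q x)
    have hx1 : Q (x + y) = 1 := by
      rw [hadd, hy, hy2, add_zero, add_left_comm, CharTwo.add_self_eq_zero, add_zero]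
    have hvx : B v (x + y) = 1 := by rw [map_add, hx, hy1, add_zero]
    by_cases h0 : Q (v + (x + y)) = 0
    · rw [hadd, hv, hx1, hvx, zero_add, CharTwo.add_self_eq_zero] at h0
      obtain ⟨y', hy1', hy2', hy'⟩ := hfill v (x + y) hvx 1
      have h3 : Q (v + y') = 1 := by rw [hadd, hv, hy', hy1', zero_add, add_zero]
      have e := hns _ (h3.symm ▸ one_ne_zero)
      simp only [hG, mulVec_add] at e
      rw [hadd, mem_spGL_iff.1 (hMK hgM), hy1', add_zero, hns y' (hy'.symm ▸ one_ne_zero), hy', h3] at e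
      rw [hv]
      exact add_eq_right.1 e
    · have e := hns _ h0
      simp only [hG, mulVec_add] at e
      rw [hadd v, hadd ((g : Matrix _ _ F) *ᵥ v), ← mulVec_add, mem_spGL_iff.1 (hMK hgM),
        mulVec_add] at e
      have e' : Q ((g : Matrix _ _ F) *ᵥ x + (g : Matrix _ _ F) *ᵥ y) = Q (x + y) := by
        have := hns (x + y) (hx1.symm ▸ one_ne_zero)
        simpa only [hG, mulVec_add] using this
      rw [e'] at e
      exact add_right_cancel (add_right_cancel e)
  -- every value occurs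
  have hval : ∀ b : F, ∃ u ∈ S, u ≠ 0 ∧ Q u = b := fun b => by
    rcases eq_or_ne b 1 with rfl | hb
    · obtain ⟨x, hx⟩ := hex e₁ he₁
      obtain ⟨y, -, -, hy⟩ := hfill e₁ x hx 1
      exact ⟨y, hS1 y hy, fun e => by rw [e, map_zero] at hy; exact zero_ne_one hy, hy⟩
    obtain ⟨c, hc⟩ := hsqrt ((b + 1) / (1 + Q w))
    have ha : (1 : F) + Q w ≠ 0 := fun e => hwa (CharTwo.add_eq_zero.1 e).symm
    obtain ⟨x, hx⟩ := hex w hw0
    obtain ⟨y, hy1, hy2, hy⟩ := hfill w x hx (1 + Q (c • x))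
    have hu1 : Q (c • x + y) = 1 := by
      rw [hadd, hy, show B (c • x) y = 0 by rw [map_smul, LinearMap.smul_apply, hy2, smul_zero],
        add_zero, add_left_comm,
        CharTwo.add_self_eq_zero, add_zero]
    have hu2 : B (c • x + y) w = c := by
      rw [hswap w, map_add, map_smul, hx, hy1, add_zero, smul_eq_mul, mul_one]
    have hu : c • x + y + c • w ∈ S := by
      have := hSmap _ hw _ (hS1 _ hu1)
      rwa [happ, hu2] at this
    refine ⟨_, hu, ?_, ?_⟩
    · intro e
      have h1 := congrArg (fun z => B x z) e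
      simp only [map_add, map_smul, map_zero, B_self, smul_eq_mul, mul_zero, zero_add, hy2,
        hswap w x, hx, mul_one] at h1
      rw [h1, zero_mul, eq_comm, div_eq_zero_iff] at hc
      exact hb (CharTwo.add_eq_zero.1 (hc.resolve_right ha))
    · rw [hadd, hu1, hsm, map_smul, hu2, smul_eq_mul, hc]
      linear_combination (div_mul_cancel₀ (b + 1) ha) + (1 : F) * CharTwo.two_eq_zero (R := F)
  refine spGL_le_of_centres fun v c => ?_
  obtain ⟨s, hs⟩ := hsqrt c
  have e : spTrv v c = spTrv (s • v) 1 := gl_ext fun x => by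
    rw [spTrv_apply, spTrv_apply, map_smul, smul_smul, smul_eq_mul, ← hs]
    congr 2; ring
  rw [e]
  show s • v ∈ S
  generalize s • v = z
  rcases eq_or_ne z 0 with rfl | hz
  · show spTrv _ _ ∈ M
    have : spTrv (0 : Fin m ⊕ Fin m → F) (1 : F) = 1 := gl_ext fun x => by
      rw [happ, smul_zero, add_zero, Units.val_one, one_mulVec]
    rw [this]; exact one_mem M
  obtain ⟨u, hu, hu0, hQu⟩ := hval (Q z)
  obtain ⟨k, hk, hku⟩ := Witt.witt_quad Q
    (by
      constructor <;> intro a ha <;> by_contra h0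
      · obtain ⟨x, hx⟩ := hex a h0
        have := ha x
        rw [QuadraticMap.polarBilin_apply_apply, hpol, hx] at this
        exact one_ne_zero this
      · obtain ⟨x, hx⟩ := hex a h0
        have := ha x
        rw [QuadraticMap.polarBilin_apply_apply, hpol, hswap a x, hx] at this
        exact one_ne_zero this)
    (Submodule.span F {u}) ((LinearMap.toSpanSingleton F _ z).comp
      (LinearEquiv.toSpanNonzeroSingleton F _ u hu0).symm.toLinearMap)
    (fun a b h => (LinearEquiv.toSpanNonzeroSingleton F _ u hu0).symm.injective (smul_left_injective F hz h))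
    (fun x => by
      obtain ⟨t, rfl⟩ := (LinearEquiv.toSpanNonzeroSingleton F _ u hu0).surjective x
      simp only [LinearMap.comp_apply, LinearEquiv.coe_toLinearMap, LinearEquiv.symm_apply_apply,
        LinearMap.toSpanSingleton_apply]
      rw [hsm, ← hQu, ← hsm]
      rfl)
  have hgl : ∀ a, (QuadStd.glOfEquiv k : Matrix _ _ F) *ᵥ a = k a := QuadStd.glOfEquiv_mulVec k
  have hkH : QuadStd.glOfEquiv k ∈ H := (hmem _).2 ⟨mem_spGL_iff.2 fun a b => by
    rw [hgl, hgl, ← hpol, ← hpol, QuadraticMap.polar, QuadraticMap.polar, ← map_add, hk, hk, hk],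
    1, fun a => by rw [hgl, hk, Units.val_one, one_mul]⟩
  have := hSmap _ (hM hkH) u hu
  rw [hgl] at this
  have h1 := hku ⟨u, Submodule.mem_span_singleton_self u⟩
  rw [LinearMap.comp_apply, LinearEquiv.coe_toLinearMap,
    show (LinearEquiv.toSpanNonzeroSingleton F _ u hu0).symm ⟨u, Submodule.mem_span_singleton_self u⟩ = 1
      from (LinearEquiv.symm_apply_eq _).2 (Subtype.ext (by simp))] at h1
  rw [h1] at this
  simpa using this

end Cfsg.Agent.Forms.Max.Symp
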