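import Mathlib
import Cfsg.Agent.Lib.Forms.Max.Symp
import Cfsg.Agent.Lib.Forms.Max.OrthPair

/-!
# Unitary groups over a quadratic extension inside symplectic groups in odd characteristic
-/

set_option autoImplicit false
set_option linter.unusedSectionVars false

namespace Cfsg.Agent.Forms.Max.SympExt

open Matrix Cfsg.Agent.Aschbacher Cfsg.Agent.Forms.SympStd Cfsg.Agent.Forms.Max.Symp

variable {F : Type*} [Field F] [Fintype F] {m : ℕ}

local notation "Vec" => (Fin m ⊕ Fin m → F)
local notation "GLm" => GL (Fin m ⊕ Fin m) F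
local notation "B" => sympB m F
local notation "Mat" => Matrix (Fin m ⊕ Fin m) (Fin m ⊕ Fin m) F

/-- a skew quadratic extension of the standard symplectic space -/
structure Data (F : Type*) [Field F] [Fintype F] (m : ℕ) where
  T : (Fin m ⊕ Fin m → F) →ₗ[F] (Fin m ⊕ Fin m → F)
  d : F
  h2 : (2 : F) ≠ 0
  hm : 2 ≤ m
  hd : ∀ s : F, s * s ≠ d
  hTT : ∀ x, T (T x) = d • x
  hadj : ∀ x y, sympB m F (T x) y = -sympB m F x (T y)

variable (D : Data F m)

theorem d_ne : D.d ≠ 0 := fun h => D.hd 0 (by rw [h, mul_zero])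

/-- the quadratic form of the hermitian form -/
noncomputable def phi : QuadraticForm F (Fin m ⊕ Fin m → F) :=
  QuadraticMap.ofPolar (fun x => sympB m F x (D.T x))
    (fun c x => by
      simp only [map_smul, LinearMap.smul_apply, smul_eq_mul]
      ring)
    (fun x x' y => by
      simp only [QuadraticMap.polar, map_add, LinearMap.add_apply]
      ring)
    (fun c x y => by
      simp only [QuadraticMap.polar, map_add, map_smul, LinearMap.add_apply, LinearMap.smul_apply, smul_eq_mul]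
      ring)

theorem phi_apply (x : Vec) : phi D x = B x (D.T x) := rfl

theorem swapT (x y : Vec) : B y (D.T x) = B x (D.T y) := by
  rw [B_swap (D.T x) y, D.hadj, neg_neg]

theorem polar_phi (x y : Vec) : QuadraticMap.polar (phi D) x y = 2 * B x (D.T y) := by
  simp only [QuadraticMap.polar, phi_apply, map_add, LinearMap.add_apply, swapT D x y]
  ring

theorem TTB (x y : Vec) : B (D.T x) (D.T y) = -D.d * B x y := by
  rw [D.hadj, D.hTT, map_smul, smul_eq_mul, neg_mul]

theorem T_inj : Function.Injective D.T := fun x y h => by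
  have := congrArg D.T h
  rw [D.hTT, D.hTT] at this
  exact smul_right_injective _ (d_ne D) this

theorem phi_nondeg : (QuadraticMap.polarBilin (phi D)).Nondegenerate := by
  refine ⟨fun x hx => nondeg.1 x fun y => ?_, fun y hy => nondeg.2 y fun x => ?_⟩
  · obtain ⟨z, rfl⟩ := Finite.injective_iff_surjective.1 (T_inj D) y
    have := hx z
    rw [QuadraticMap.polarBilin_apply_apply, polar_phi] at this
    exact (mul_eq_zero.1 this).resolve_left D.h2
  · have := hy (D.T x)
    rw [QuadraticMap.polarBilin_apply_apply, polar_phi, TTB] at this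
    exact ((mul_eq_zero.1 ((mul_eq_zero.1 this).resolve_left D.h2)).resolve_left (neg_ne_zero.2 (d_ne D)))

/-- the extension line of a vector -/
noncomputable def line (v : Fin m ⊕ Fin m → F) : Submodule F (Fin m ⊕ Fin m → F) :=
  Submodule.span F {v, D.T v}

/-- the complement of the extension line of a vector -/
noncomputable def kperp (v : Fin m ⊕ Fin m → F) : Submodule F (Fin m ⊕ Fin m → F) :=
  LinearMap.ker (sympB m F v) ⊓ LinearMap.ker (sympB m F (D.T v))

theorem mem_kperp {v y : Vec} : y ∈ kperp D v ↔ B v y = 0 ∧ B v (D.T y) = 0 := by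
  simp only [kperp, Submodule.mem_inf, LinearMap.mem_ker, D.hadj, neg_eq_zero]

theorem kperp_sym {v y : Vec} (h : B v y = 0 ∧ B v (D.T y) = 0) : B y v = 0 ∧ B y (D.T v) = 0 :=
  ⟨by rw [B_swap, h.1, neg_zero], by rw [swapT]; exact h.2⟩

theorem mem_line {v x : Vec} : x ∈ line D v ↔ ∃ s t : F, x = s • v + t • D.T v := by
  rw [line, Submodule.mem_span_pair]
  exact ⟨fun ⟨s, t, h⟩ => ⟨s, t, h.symm⟩, fun ⟨s, t, h⟩ => ⟨s, t, h.symm⟩⟩

theorem norm_ne {s t : F} (h : s ≠ 0 ∨ t ≠ 0) : s * s - D.d * (t * t) ≠ 0 := by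
  intro e
  by_cases ht : t = 0
  · subst ht
    exact h.elim (fun hs => hs (mul_self_eq_zero.1 (by simpa using e))) fun h => h rfl
  · exact D.hd (s / t) (by field_simp; linear_combination e)

theorem indep {x : Vec} (hx : x ≠ 0) {s t : F} (h : s • x + t • D.T x = 0) : s = 0 ∧ t = 0 := by
  by_contra hne
  rw [not_and_or] at hne
  have h1 := congrArg D.T h
  rw [map_add, map_smul, map_smul, D.hTT, map_zero] at h1
  have key : (s * s - D.d * (t * t)) • x = 0 := by
    calc (s * s - D.d * (t * t)) • x = s • (s • x + t • D.T x) - t • (s • D.T x + t • (D.d • x)) := by module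
      _ = 0 := by rw [h, h1, smul_zero, smul_zero, sub_zero]
  exact norm_ne D hne ((smul_eq_zero.1 key).resolve_right hx)

theorem mem_line_symm {v x : Vec} (hx : x ≠ 0) (h : x ∈ line D v) : v ∈ line D x := by
  obtain ⟨s, t, rfl⟩ := (mem_line D).1 h
  have hn : s * s - D.d * (t * t) ≠ 0 := norm_ne D (by
    by_contra hc
    push Not at hc
    exact hx (by rw [hc.1, hc.2, zero_smul, zero_smul, add_zero]))
  have key : (s * s - D.d * (t * t)) • v = s • (s • v + t • D.T v) + (-t) • D.T (s • v + t • D.T v) := by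
    rw [map_add, map_smul, map_smul, D.hTT]
    module
  refine (mem_line D).2 ⟨(s * s - D.d * (t * t))⁻¹ * s, (s * s - D.d * (t * t))⁻¹ * -t, ?_⟩
  rw [← smul_smul, ← smul_smul, ← smul_add, ← key, inv_smul_smul₀ hn]

/-- large subspaces are not totally singular -/
theorem exists_aniso {S : Submodule F Vec} (h : m < Module.finrank F S) : ∃ u ∈ S, phi D u ≠ 0 := by
  by_contra hc
  push Not at hc
  have hle : S.map D.T ≤ (B).orthogonal S := by
    rintro _ ⟨y, hy, rfl⟩
    refine LinearMap.BilinForm.mem_orthogonal_iff.2 fun x hx => ?_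
    show B x (D.T y) = 0
    have hp : QuadraticMap.polar (phi D) x y = 0 := by
      simp only [QuadraticMap.polar, hc _ (S.add_mem hx hy), hc _ hx, hc _ hy, sub_zero]
    rw [polar_phi] at hp
    exact (mul_eq_zero.1 hp).resolve_left D.h2
  have h1 := Submodule.finrank_mono hle
  rw [LinearMap.BilinForm.finrank_orthogonal nondeg, finrank_vec,
    ← (Submodule.equivMapOfInjective D.T (T_inj D) S).finrank_eq] at h1
  omega

/-- few functionals have a common zero -/
theorem exists_zero {j : ℕ} (f : Fin j → (Vec →ₗ[F] F)) (h : j < 2 * m) : ∃ p : Vec, p ≠ 0 ∧ ∀ i, f i p = 0 := by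
  obtain ⟨p, hp, hp0⟩ := (Submodule.ne_bot_iff (LinearMap.pi f).ker).1 (LinearMap.ker_ne_bot_of_finrank_lt (by
    rw [Module.finrank_fintype_fun_eq_card, Fintype.card_fin, finrank_vec]; exact h))
  exact ⟨p, hp0, fun i => congrFun hp i⟩

theorem kperp_dim (h3 : 3 ≤ m) (v : Vec) : m < Module.finrank F (kperp D v) := by
  have h1 := LinearMap.finrank_range_add_finrank_ker ((B v).prod (B (D.T v)))
  have h2 := Submodule.finrank_le (LinearMap.range ((B v).prod (B (D.T v))))
  rw [Module.finrank_prod, Module.finrank_self] at h2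
  rw [LinearMap.ker_prod, finrank_vec] at h1
  have := D.hm
  change _ + Module.finrank F (kperp D v) = _ at h1
  omega

/-- the complement of a line separates -/
theorem kperp_test (h3 : 3 ≤ m) {v w : Vec} (hw : w ∉ line D v) :
    ∃ z ∈ kperp D v, phi D z ≠ 0 ∧ ¬ (B w z = 0 ∧ B w (D.T z) = 0) := by
  obtain ⟨u, hu, hu0⟩ := exists_aniso D (kperp_dim D h3 v)
  by_contra hcon
  push Not at hcon
  have key : ∀ z ∈ kperp D v, phi D z ≠ 0 → B w z = 0 := fun z hz hz0 => (hcon z hz hz0).1
  have hle : ∀ y ∈ kperp D v, B w y = 0 := fun y hy => by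
    by_cases hy0 : phi D y ≠ 0
    · exact key y hy hy0
    push Not at hy0
    by_cases h1 : phi D (y + u) = 0
    · have h2 : phi D (y - u) ≠ 0 := by
        intro h3
        simp only [sub_eq_add_neg, Classical.Orth.map_add', QuadraticMap.map_neg, QuadraticMap.polar_neg_right, hy0] at h1 h3
        exact mul_ne_zero D.h2 hu0 (by linear_combination h1 + h3)
      simpa [key u hu hu0] using key _ (sub_mem hy hu) h2
    · simpa [key u hu hu0] using key _ (add_mem hy hu) h1
  obtain ⟨y, hy, hwy⟩ := Max.not_mem_perp nondeg isRefl hw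
  have hy' := LinearMap.BilinForm.mem_orthogonal_iff.1 hy
  exact hwy (hle y ⟨LinearMap.mem_ker.2 (hy' v (Submodule.subset_span (by simp))),
    LinearMap.mem_ker.2 (hy' (D.T v) (Submodule.subset_span (by simp)))⟩)

/-- an element outside the normaliser moves some singular line off the lines -/
theorem exists_bad {g : GLm} (hgB : g ∈ Cfsg.spGL m F)
    (h1 : ¬ ∀ x, (g : Mat) *ᵥ D.T x = D.T ((g : Mat) *ᵥ x))
    (h2 : ¬ ∀ x, (g : Mat) *ᵥ D.T x = -D.T ((g : Mat) *ᵥ x)) :
    ∃ u, phi D u = 0 ∧ u ≠ 0 ∧ (g : Mat) *ᵥ D.T u ∉ line D ((g : Mat) *ᵥ u) := by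
  by_contra hcon
  push Not at hcon
  have hB := mem_spGL_iff.1 hgB
  -- pull the extension back
  let h : Vec →ₗ[F] Vec :=
    (Matrix.toLin' ((g⁻¹ : GLm) : Mat)).comp (D.T.comp (Matrix.toLin' (g : Mat)))
  have hgh : ∀ x, (g : Mat) *ᵥ h x = D.T ((g : Mat) *ᵥ x) := fun x => by
    simp [h, Matrix.toLin'_apply]
  have hskew : ∀ x y, B (h x) y = -B x (h y) := fun x y => by
    rw [← hB, hgh, D.hadj, ← hgh, hB]
  have hh : ∀ x, h (h x) = D.d • x := fun x => Max.mulVec_inj g (by
    rw [hgh, hgh, D.hTT, mulVec_smul])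
  have partner : ∀ v, phi D v = 0 → v ≠ 0 → ∃ w, phi D w = 0 ∧ B v w = 1 ∧ B v (D.T w) = 0 := by
    intro v hv hv0
    obtain ⟨y, hy, hvy⟩ := Max.not_mem_perp nondeg isRefl (u := v) (W := Submodule.span F {D.T v}) fun hm => by
      obtain ⟨t, ht⟩ := Submodule.mem_span_singleton.1 hm
      exact one_ne_zero (neg_eq_zero.1 (indep D hv0 (s := -1) (t := t) (by rw [ht]; module)).1)
    have hy' : B (D.T v) y = 0 :=
      LinearMap.BilinForm.mem_orthogonal_iff.1 hy _ (Submodule.mem_span_singleton_self _)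
    set y' := (B v y)⁻¹ • y
    have g1 : B v y' = 1 := by simp [y', inv_mul_cancel₀ hvy]
    have g2 : B v (D.T y') = 0 := by rw [← neg_eq_zero, ← D.hadj]; simp [y', hy']
    clear_value y'
    refine ⟨y' + (phi D y' / (2 * D.d)) • D.T v, ?_, ?_, ?_⟩
    · rw [Classical.Orth.map_add', Classical.Orth.map_smul', QuadraticMap.polar_smul_right, smul_eq_mul, polar_phi,
        phi_apply D (D.T v), TTB, D.hTT, map_smul, B_swap v y', g1]
      have hv' : B v (D.T v) = 0 := hv
      have := d_ne D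
      have := D.h2
      rw [hv', smul_eq_mul]
      field_simp
      ring
    · have hv' : B v (D.T v) = 0 := hv
      rw [map_add, g1, map_smul, hv', smul_zero, add_zero]
    · rw [map_add, map_add, g2, map_smul, map_smul, D.hTT, map_smul, B_self, smul_zero, smul_zero, add_zero]
  have key : ∀ v, phi D v = 0 → v ≠ 0 → ∃ b : F, h v = b • D.T v := by
    intro v hv hv0
    obtain ⟨s, t, hst⟩ := (mem_line D).1 (hcon v hv hv0)
    have ht : t ≠ 0 := fun e => by
      rw [e, zero_smul, add_zero, ← mulVec_smul] at hst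
      exact one_ne_zero (indep D hv0 (s := -s) (t := 1) (by rw [one_smul, Max.mulVec_inj g hst]; module)).2
    have hv' : h v = (-s / t) • v + t⁻¹ • D.T v := Max.mulVec_inj g (by
      rw [hgh, mulVec_add, mulVec_smul, mulVec_smul, hst]
      match_scalars <;> field_simp <;> ring)
    -- skewness against a partner removes the first coefficient
    obtain ⟨w, hw, hvw, hvTw⟩ := partner v hv hv0
    have hw0 : w ≠ 0 := fun e => by rw [e, map_zero] at hvw; exact zero_ne_one hvw
    obtain ⟨s', t', hst'⟩ := (mem_line D).1 (hcon w hw hw0)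
    have ht' : t' ≠ 0 := fun e => by
      rw [e, zero_smul, add_zero, ← mulVec_smul] at hst'
      exact one_ne_zero (indep D hw0 (s := -s') (t := 1) (by rw [one_smul, Max.mulVec_inj g hst']; module)).2
    have hw' : h w = (-s' / t') • w + t'⁻¹ • D.T w := Max.mulVec_inj g (by
      rw [hgh, mulVec_add, mulVec_smul, mulVec_smul, hst']
      match_scalars <;> field_simp <;> ring)
    have hTvw : B (D.T v) w = 0 := by rw [D.hadj, hvTw, neg_zero]
    have hwv : B v (D.T (v + w)) = 0 := by rw [map_add, map_add, hvTw, add_zero]; exact hv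
    have hvw0 : v + w ≠ 0 := fun e => by
      have := congrArg (B v) e
      rw [map_add, B_self, zero_add, hvw, map_zero] at this
      exact one_ne_zero this
    obtain ⟨s'', t'', hst''⟩ := (mem_line D).1 (hcon (v + w) (by
      rw [Classical.Orth.map_add', hv, hw, polar_phi, hvTw, mul_zero, add_zero, add_zero]) hvw0)
    have hsum : (g : Mat) *ᵥ D.T (v + w) = (s'' • (g : Mat) *ᵥ (v + w)) + t'' • (g : Mat) *ᵥ h (v + w) := by
      rw [hgh]; exact hst''
    rw [← mulVec_smul, ← mulVec_smul, ← mulVec_add] at hsum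
    have hsum' := Max.mulVec_inj g hsum
    rw [map_add h, hv', hw', map_add] at hsum'
    have c1 := congrArg (B v) hsum'
    have c2 := congrArg (B (D.T v)) hsum'
    simp only [map_add, map_smul, smul_eq_mul, B_self, hv, TTB, D.hadj v v, hvTw, hvw, hTvw, mul_zero, add_zero,
      zero_add, mul_one, show B v (D.T v) = 0 from hv, neg_zero] at c1 c2
    -- both partners carry the same first coefficient
    have c3 : s'' + t'' * (-s' / t') = 0 := c1.symm
    have c4 : t'' * t'⁻¹ = 1 := by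
      have e : D.d * (1 - t'' * t'⁻¹) = 0 := by linear_combination -c2
      linear_combination -((mul_eq_zero.1 e).resolve_left (d_ne D))
    have e5 : (s'' + t'' * (-s / t)) • v + (t'' * t⁻¹ - 1) • D.T v +
        ((s'' + t'' * (-s' / t')) • w + (t'' * t'⁻¹ - 1) • D.T w) = 0 := by
      linear_combination (norm := module) -hsum'
    rw [c3, c4, sub_self, zero_smul, zero_smul, add_zero, add_zero] at e5
    obtain ⟨f1, -⟩ := indep D hv0 e5
    have heq : -s / t = -s' / t' := by
      have ht'' : t'' ≠ 0 := fun e => by rw [e, zero_mul] at c4; exact zero_ne_one c4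
      exact mul_left_cancel₀ ht'' (by linear_combination f1 - c3)
    have hsk := hskew v w
    rw [hv', hw'] at hsk
    simp only [map_add, map_smul, LinearMap.add_apply, LinearMap.smul_apply, hvw, hTvw, hvTw, smul_eq_mul, mul_one,
      mul_zero, add_zero, ← heq] at hsk
    have h0 : -s / t = 0 := (mul_eq_zero.1 (show (2 : F) * (-s / t) = 0 by linear_combination hsk)).resolve_left D.h2
    exact ⟨t⁻¹, by rw [hv', h0, zero_smul, zero_add]⟩
  -- equal multiples on lines in general position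
  have adj : ∀ v w, phi D v = 0 → phi D w = 0 → v ≠ 0 → w ∉ line D v → B v (D.T w) = 0 →
      ∀ b b' : F, h v = b • D.T v → h w = b' • D.T w → b = b' := by
    intro v w hv hw hv0 hwl hvw b b' hb hb'
    have hvw0 : v + w ≠ 0 := fun e => hwl (by
      rw [eq_neg_of_add_eq_zero_right e]
      exact neg_mem (Submodule.subset_span (by simp)))
    obtain ⟨c, hc⟩ := key (v + w) (by
      rw [Classical.Orth.map_add', hv, hw, polar_phi, hvw, mul_zero, add_zero, add_zero]) hvw0
    rw [map_add, hb, hb', map_add] at hc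
    have e : D.T ((b - c) • v + (b' - c) • w) = 0 := by
      rw [map_add, map_smul, map_smul]; linear_combination (norm := module) hc
    have e' := T_inj D (e.trans (map_zero D.T).symm)
    by_cases hbc : b' - c = 0
    · rw [hbc, zero_smul, add_zero, smul_eq_zero, or_iff_left hv0] at e'
      linear_combination e' - hbc
    · refine absurd ?_ hwl
      rw [show w = (-(b' - c)⁻¹ * (b - c)) • v by
        rw [← smul_smul, eq_neg_of_add_eq_zero_left e', smul_neg, neg_smul, neg_neg, inv_smul_smul₀ hbc]]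
      exact Submodule.smul_mem _ _ (Submodule.subset_span (by simp))
  -- a line carries one multiple
  have hline : ∀ v, phi D v = 0 → v ≠ 0 → ∀ b : F, h v = b • D.T v → ∀ y ∈ line D v, h y = b • D.T y := by
    intro v hv hv0 b hb y hy
    have hTv : phi D (D.T v) = 0 := by rw [phi_apply, TTB, ← phi_apply, hv, mul_zero]
    have hTv0 : D.T v ≠ 0 := fun e => hv0 (T_inj D (e.trans (map_zero D.T).symm))
    obtain ⟨b', hb'⟩ := key _ hTv hTv0
    have hbb : b = b' := by
      have hne : v + D.T v ≠ 0 := fun e => one_ne_zero (indep D hv0 (s := 1) (t := 1) (by simpa using e)).1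
      obtain ⟨c, hc⟩ := key (v + D.T v) (by
        rw [Classical.Orth.map_add', hv, hTv, polar_phi, D.hTT, map_smul, B_self, smul_zero, mul_zero, add_zero,
          add_zero]) hne
      rw [map_add, hb, hb', map_add, D.hTT] at hc
      obtain ⟨f1, f2⟩ := indep D hv0 (s := (b' - c) * D.d) (t := b - c) (by
        linear_combination (norm := module) hc)
      linear_combination f2 - (mul_eq_zero.1 f1).resolve_right (d_ne D)
    obtain ⟨s, t, rfl⟩ := (mem_line D).1 hy
    simp only [map_add, map_smul, hb, hb', ← hbb]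
    module
  obtain ⟨v₀, -, hv₀0, hv₀⟩ := Orth.exists_sing (phi_nondeg D) (S := (⊤ : Submodule F Vec)) (by
    rw [finrank_top, finrank_vec]; have := D.hm; omega)
  obtain ⟨b, hb⟩ := key v₀ hv₀ hv₀0
  have hsing : ∀ y, phi D y = 0 → h y = b • D.T y := by
    intro y hy
    by_cases hyl : y ∈ line D v₀
    · exact hline v₀ hv₀ hv₀0 b hb y hyl
    have hy0 : y ≠ 0 := fun e => hyl (e ▸ zero_mem _)
    obtain ⟨b', hb'⟩ := key y hy hy0
    suffices b = b' by rw [this]; exact hb'
    by_cases hp : B v₀ (D.T y) = 0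
    · exact adj v₀ y hv₀ hy hv₀0 hyl hp b b' hb hb'
    -- move inside the line of `y`
    set y' := B v₀ (D.T y) • y + (-B v₀ y) • D.T y with hy'
    have hy'l : y' ∈ line D y := (mem_line D).2 ⟨_, _, rfl⟩
    have hy'0 : D.T y' ≠ 0 := fun e => hp (indep D hy0 (T_inj D (e.trans (map_zero D.T).symm))).1
    set y'' := D.T y'
    have hy''l : y'' ∈ line D y := (mem_line D).2 ⟨-B v₀ y * D.d, B v₀ (D.T y), by
      simp only [y'', y', map_add, map_smul, D.hTT]; module⟩
    have hy''s : phi D y'' = 0 := by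
      have hyT : B y (D.T y) = 0 := hy
      simp only [y'', y', phi_apply, map_add, map_smul, LinearMap.add_apply, LinearMap.smul_apply, D.hTT, B_self,
        TTB, D.hadj, hyT, smul_eq_mul]
      ring
    refine adj v₀ y'' hv₀ hy''s hv₀0 (fun hm => hyl ?_) ?_ b b' hb (hline y hy hy0 b' hb' _ hy''l)
    · obtain ⟨s, t, hst⟩ := (mem_line D).1 (mem_line_symm D hy'0 hy''l)
      obtain ⟨s', t', hst'⟩ := (mem_line D).1 hm
      refine (mem_line D).2 ⟨s * s' + t * (t' * D.d), s * t' + t * s', ?_⟩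
      rw [hst, hst', map_add, map_smul, map_smul, D.hTT]; module
    · simp only [y'', y', map_add, map_smul, D.hTT, smul_eq_mul]
      ring
  have hall : ∀ x, h x = b • D.T x := fun x => by
    have hx : x ∈ LinearMap.eqLocus h (b • D.T) :=
      Orth.sing_span' (phi_nondeg D) (S := (⊤ : Submodule F Vec)) (fun r _ hr => by
        by_contra hc
        push Not at hc
        exact hr ((phi_nondeg D).1 r fun y => hc y trivial))
        (by rw [finrank_top, finrank_vec]; have := D.hm; omega)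
        (fun v _ hv => hsing v hv) Submodule.mem_top
    exact hx
  have hb2 : b * b = 1 := by
    have e := hh v₀
    rw [hb, map_smul, hall, smul_smul, D.hTT, smul_smul] at e
    have e' : (b * b * D.d - D.d) • v₀ = 0 := by rw [sub_smul, e, sub_self]
    exact mul_right_cancel₀ (d_ne D) (by linear_combination (smul_eq_zero.1 e').resolve_right hv₀0)
  rcases mul_self_eq_one_iff.1 hb2 with rfl | rfl
  · exact h1 fun x => by rw [← hgh, hall, one_smul]
  · refine h2 fun x => ?_
    rw [← hgh, hall, neg_one_smul, mulVec_neg, neg_neg]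

/-- the projection to the line of a vector -/
noncomputable def proj (z : Fin m ⊕ Fin m → F) (x : Fin m ⊕ Fin m → F) : Fin m ⊕ Fin m → F :=
  (phi D z)⁻¹ • (sympB m F x (D.T z) • z - sympB m F x z • D.T z)

theorem proj_mem (z x : Vec) : proj D z x ∈ line D z :=
  (mem_line D).2 ⟨(phi D z)⁻¹ * B x (D.T z), (phi D z)⁻¹ * -B x z, by
    show proj D z x = _ • z + _ • D.T z
    rw [proj]; module⟩

theorem proj_ne {z x : Vec} (hz : phi D z ≠ 0) (h : ¬ (B x z = 0 ∧ B x (D.T z) = 0)) : proj D z x ≠ 0 := fun e => by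
  rw [proj, smul_eq_zero, or_iff_right (inv_ne_zero hz)] at e
  have hz0 : z ≠ 0 := fun e0 => hz (by rw [e0, QuadraticMap.map_zero])
  obtain ⟨e1, e2⟩ := indep D hz0 (s := B x (D.T z)) (t := -B x z) (by
    show _ • z + _ • D.T z = 0
    rw [← e]; module)
  exact h ⟨neg_eq_zero.1 e2, e1⟩

theorem B_proj_self {z x : Vec} : B x (proj D z x) = 0 := by
  simp only [proj, map_smul, map_sub, smul_eq_mul]; ring

theorem phi_line {z p : Vec} (hz : phi D z ≠ 0) (hp : p ∈ line D z) (hp0 : p ≠ 0) : phi D p ≠ 0 := by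
  obtain ⟨s, t, rfl⟩ := (mem_line D).1 hp
  change phi D (s • z + t • D.T z) ≠ 0
  have e : phi D (s • z + t • D.T z) = (s * s - D.d * (t * t)) * phi D z := by
    simp only [phi_apply, map_add, map_smul, LinearMap.add_apply, LinearMap.smul_apply, smul_eq_mul, D.hTT,
      B_self, D.hadj]
    ring
  rw [e]
  refine mul_ne_zero (fun h0 => ?_) hz
  by_cases ht : t = 0
  · subst ht
    have hs : s = 0 := mul_self_eq_zero.1 (by simpa using h0)
    exact hp0 (by subst hs; simp)
  · exact D.hd (s / t) (by field_simp; linear_combination h0)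

theorem exists_elem (L : Vec →ₗ[F] Vec) (hL : ∀ x y, B (L x) (L y) = B x y) :
    ∃ g ∈ Cfsg.spGL m F, ∀ x, (g : Mat) *ᵥ x = L x := by
  have hLinj : Function.Injective L := by
    rw [← LinearMap.ker_eq_bot, LinearMap.ker_eq_bot']
    intro x hx
    exact nondeg.1 x fun y => by rw [← hL, hx, map_zero, LinearMap.zero_apply]
  let Le := LinearEquiv.ofBijective L ⟨hLinj, LinearMap.injective_iff_surjective.1 hLinj⟩
  let h : GLm := ⟨LinearMap.toMatrix' Le.toLinearMap, LinearMap.toMatrix' Le.symm.toLinearMap,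
    by rw [← LinearMap.toMatrix'_comp]; simp, by rw [← LinearMap.toMatrix'_comp]; simp⟩
  have hh : ∀ x, (h : Mat) *ᵥ x = L x := fun x => by
    show LinearMap.toMatrix' Le.toLinearMap *ᵥ x = _
    rw [LinearMap.toMatrix'_mulVec]
    rfl
  exact ⟨h, mem_spGL_iff.2 fun x y => by rw [hh, hh, hL], hh⟩

/-- the extension-linear isometries occur -/
def RatM (M : Subgroup (GL (Fin m ⊕ Fin m) F)) : Prop :=
  ∀ g ∈ Cfsg.spGL m F, (∀ x, (g : Mat) *ᵥ D.T x = D.T ((g : Mat) *ᵥ x)) → g ∈ M

variable {M : Subgroup (GL (Fin m ⊕ Fin m) F)}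

/-- the rotations of a line -/
theorem exists_rot (hM : RatM D M) {z : Vec} (hz : phi D z ≠ 0) {α β : F} (h : α * α - D.d * (β * β) = 1) :
    ∃ g ∈ M, g ∈ Cfsg.spGL m F ∧ ∀ x, (g : Mat) *ᵥ x = x + (α - 1) • proj D z x + β • D.T (proj D z x) := by
  let P : Vec →ₗ[F] Vec := (phi D z)⁻¹ • (((B).flip (D.T z)).smulRight z - ((B).flip z).smulRight (D.T z))
  have hP : ∀ x, P x = proj D z x := fun x => by simp [P, proj]
  let L : Vec →ₗ[F] Vec := LinearMap.id + (α - 1) • P + β • D.T.comp P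
  have hL : ∀ x, L x = x + (α - 1) • proj D z x + β • D.T (proj D z x) := fun x => by simp [L, hP]
  obtain ⟨g, hg, hgx⟩ := exists_elem L fun x y => by
    rw [hL, hL]
    simp only [proj, map_add, map_sub, map_smul, LinearMap.add_apply, LinearMap.sub_apply, LinearMap.smul_apply,
      smul_eq_mul, D.hTT, D.hadj, B_self, B_swap y z, B_swap y (D.T z)]
    rw [phi_apply] at *
    field_simp
    rw [swapT D y z]
    linear_combination (B x z * B y (D.T z) - B x (D.T z) * B y z) * B z (D.T z) * h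
  refine ⟨g, hM g hg fun x => ?_, hg, fun x => by rw [hgx, hL]⟩
  rw [hgx, hgx, hL, hL]
  simp only [proj, map_add, map_sub, map_smul, D.hTT, smul_eq_mul]
  rw [show B (D.T x) z = -B x (D.T z) from D.hadj x z, TTB]
  module

theorem exists_flip (hM : RatM D M) {z : Vec} (hz : phi D z ≠ 0) :
    ∃ g ∈ M, g ∈ Cfsg.spGL m F ∧ ∀ x, (g : Mat) *ᵥ x = x - (2 : F) • proj D z x := by
  obtain ⟨g, hg, hg', hgx⟩ := exists_rot D hM hz (α := -1) (β := 0) (by ring)
  exact ⟨g, hg, hg', fun x => by rw [hgx]; module⟩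

theorem exists_norm_one : ∃ α β : F, α * α - D.d * (β * β) = 1 ∧ β ≠ 0 := by
  have h1 : (1 : F) - D.d ≠ 0 := fun e => D.hd 1 (by linear_combination e)
  exact ⟨(1 + D.d) / (1 - D.d), 2 / (1 - D.d), by field_simp; ring, div_ne_zero D.h2 h1⟩

theorem B_line_perp {z p x : Vec} (hp : p ∈ line D z) (h : B z x = 0 ∧ B z (D.T x) = 0) : B p x = 0 := by
  obtain ⟨s, t, rfl⟩ := (mem_line D).1 hp
  show B (s • z + t • D.T z) x = 0
  simp [D.hadj, h.1, h.2]

/-- a Siegel element with all multiples -/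
def Sg (M : Subgroup (GL (Fin m ⊕ Fin m) F)) (a b : Fin m ⊕ Fin m → F) : Prop :=
  ∀ t : F, ∃ g ∈ M, ∀ x, (g : Mat) *ᵥ x = x + (t * sympB m F x a) • b + (t * sympB m F x b) • a

set_option maxHeartbeats 1000000 in
/-- a non-isotropic centre -/
theorem exists_centre (h3 : 3 ≤ m) (hMK : M ≤ Cfsg.spGL m F) (hM : RatM D M) {g : GLm} (hg : g ∈ M)
    (h1 : ¬ ∀ x, (g : Mat) *ᵥ D.T x = D.T ((g : Mat) *ᵥ x))
    (h2 : ¬ ∀ x, (g : Mat) *ᵥ D.T x = -D.T ((g : Mat) *ᵥ x)) :
    ∃ x, phi D x ≠ 0 ∧ x ∈ centres M := by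
  obtain ⟨u, hu, hu0, hbad⟩ := exists_bad D (hMK hg) h1 h2
  set v := (g : Mat) *ᵥ u with hv
  set w := (g : Mat) *ᵥ D.T u with hw
  have hgB := mem_spGL_iff.1 (hMK hg)
  have hv0 : v ≠ 0 := Max.mulVec_ne_zero g hu0
  have hBu : B u (D.T u) = 0 := hu
  have hvw : B v w = 0 := by rw [hv, hw, hgB]; exact hBu
  -- the transported root element
  have hE : ∀ t : F, ∃ E ∈ M, ∀ x, (E : Mat) *ᵥ x = x + (t * B x w) • w - (t * D.d * B x v) • v := by
    intro t
    have hr : spTrv (D.T u) t * spTrv u (-(t * D.d)) ∈ M := by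
      refine hM _ (mul_mem (spTrv_mem _ _) (spTrv_mem _ _)) fun x => ?_
      simp only [mulVec_mul_GL, spTrv_apply, map_add, map_smul, LinearMap.add_apply, LinearMap.smul_apply, hBu,
        smul_eq_mul, mul_zero, add_zero, D.hTT, TTB, D.hadj x u]
      module
    refine ⟨g * (spTrv (D.T u) t * spTrv u (-(t * D.d))) * g⁻¹, mul_mem (mul_mem hg hr) (inv_mem hg), fun x => ?_⟩
    obtain ⟨y, rfl⟩ : ∃ y, (g : Mat) *ᵥ y = x := ⟨_, Max.mulVec_inv_cancel g x⟩
    simp only [mulVec_mul_GL, Max.inv_mulVec_cancel, spTrv_apply, hv, hw, hgB, mulVec_add, mulVec_smul, map_add, map_smul,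
      LinearMap.add_apply, LinearMap.smul_apply, hBu, smul_eq_mul, mul_zero, add_zero]
    module
  -- a reflection moving `w`
  obtain ⟨z, hzv, hz, hzw, hwz⟩ : ∃ z, z ∈ kperp D v ∧ phi D z ≠ 0 ∧ ¬ (B w z = 0 ∧ B w (D.T z) = 0) ∧ w ∉ line D z := by
    obtain ⟨z, hzv, hz, hzw⟩ := kperp_test D h3 hbad
    by_cases hwz : w ∈ line D z
    swap
    · exact ⟨z, hzv, hz, hzw, hwz⟩
    obtain ⟨p₀, hp₀0, hp₀⟩ := exists_zero ![B v, B (D.T v), B z, B (D.T z)] (by have := D.hm; omega)
    have hp₀v : p₀ ∈ kperp D v := ⟨LinearMap.mem_ker.2 (hp₀ 0), LinearMap.mem_ker.2 (hp₀ 1)⟩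
    have hp₀z : p₀ ∈ kperp D z := ⟨LinearMap.mem_ker.2 (hp₀ 2), LinearMap.mem_ker.2 (hp₀ 3)⟩
    obtain ⟨p, hp0, hpv, hpz', hzp⟩ : ∃ p, p ≠ 0 ∧ p ∈ kperp D v ∧ (B z p = 0 ∧ B z (D.T p) = 0) ∧ phi D (z + p) ≠ 0 := by
      obtain ⟨e1, e2⟩ := (mem_kperp D).1 hp₀z
      obtain ⟨e3, e4⟩ := (mem_kperp D).1 hp₀v
      have hpol : QuadraticMap.polar (phi D) z p₀ = 0 := by rw [polar_phi, e2, mul_zero]
      by_cases h0 : phi D (z + p₀) = 0
      · refine ⟨p₀ + D.T p₀, fun e => one_ne_zero (indep D hp₀0 (s := 1) (t := 1) (by simpa using e)).1,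
          (mem_kperp D).2 ⟨by simp [e3, e4], by simp [e3, e4, D.hTT]⟩, ⟨by simp [e1, e2], by simp [e1, e2, D.hTT]⟩,
          fun h => hz ?_⟩
        rw [Classical.Orth.map_add', hpol, add_zero] at h0
        have e : phi D (z + (p₀ + D.T p₀)) = phi D z + (1 - D.d) * phi D p₀ := by
          simp only [phi_apply, map_add, LinearMap.add_apply, D.hTT, map_smul, LinearMap.smul_apply, smul_eq_mul,
            D.hadj, B_self, e1, e2, swapT D z p₀, B_swap z p₀]
          ring
        rw [e] at h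
        have h' : D.d * phi D p₀ = 0 := by linear_combination h0 - h
        linear_combination h0 - (mul_eq_zero.1 h').resolve_left (d_ne D)
      · exact ⟨p₀, hp₀0, hp₀v, ⟨e1, e2⟩, h0⟩
    have hwp : B w p = 0 ∧ B w (D.T p) = 0 := ⟨B_line_perp D hwz hpz', B_line_perp D hwz
      ⟨hpz'.2, by rw [D.hTT, map_smul, hpz'.1, smul_zero]⟩⟩
    have hpl : p ∉ line D z := fun hm => by
      obtain ⟨s, t, e⟩ := (mem_line D).1 hm
      have hzT : B z (D.T z) ≠ 0 := hz
      have q1 := hpz'.1
      have q2 := hpz'.2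
      rw [e] at q1 q2
      simp only [map_add, map_smul, B_self, D.hTT, smul_eq_mul, mul_zero, zero_add, add_zero] at q1 q2
      rw [(mul_eq_zero.1 q1).resolve_right hzT, zero_smul, add_zero] at e
      rw [(mul_eq_zero.1 q2).resolve_right hzT, zero_smul] at e
      exact hp0 e
    refine ⟨z + p, add_mem hzv hpv, hzp, ?_, fun h => hpl ?_⟩
    · simpa [hwp.1, hwp.2] using hzw
    · have hw0 : w ≠ 0 := fun e0 => hbad (e0 ▸ zero_mem _)
      obtain ⟨s, t, e1⟩ := (mem_line D).1 (mem_line_symm D hw0 h)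
      obtain ⟨s', t', e2⟩ := (mem_line D).1 hwz
      refine (mem_line D).2 ⟨s * s' + t * (t' * D.d) - 1, s * t' + t * s', ?_⟩
      rw [e2, map_add, map_smul, map_smul, D.hTT] at e1
      linear_combination (norm := module) e1
  obtain ⟨j, hj, hj', hjx⟩ := exists_flip D hM hz
  obtain ⟨hzv1, hzv2⟩ := (mem_kperp D).1 hzv
  have hjv : proj D z v = 0 := by simp [proj, hzv1, hzv2]
  set x := proj D z w with hx
  have hx0 : x ≠ 0 := proj_ne D hz hzw
  have hxl : x ∈ line D z := proj_mem D z w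
  have hxphi : phi D x ≠ 0 := phi_line D hz hxl hx0
  have hwx : B w x = 0 := B_proj_self D
  have hxw : B x w = 0 := by rw [B_swap, hwx, neg_zero]
  have hvx : B v x = 0 := by
    rw [B_swap, B_line_perp D hxl (kperp_sym D ⟨hzv1, hzv2⟩), neg_zero]
  have hxv : B x v = 0 := by rw [B_swap, hvx, neg_zero]
  have hsg : Sg M x (x - w) := by
    intro t
    obtain ⟨E, hE', hEx⟩ := hE (t / 2)
    obtain ⟨E', hE'', hEx'⟩ := hE (-(t / 2))
    refine ⟨j * E * j⁻¹ * E', mul_mem (mul_mem (mul_mem hj hE') (inv_mem hj)) hE'', fun y => ?_⟩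
    have hjE : ∀ y, ((j * E * j⁻¹ : GLm) : Mat) *ᵥ y =
        y + (t / 2 * B y (w - (2 : F) • x)) • (w - (2 : F) • x) - (t / 2 * D.d * B y v) • v := by
      intro y
      obtain ⟨y', rfl⟩ : ∃ y', (j : Mat) *ᵥ y' = y := ⟨_, Max.mulVec_inv_cancel j y⟩
      have ew : w - (2 : F) • x = (j : Mat) *ᵥ w := by rw [hjx]
      have ev : v = (j : Mat) *ᵥ v := by rw [hjx, hjv, smul_zero, sub_zero]
      rw [mulVec_mul_GL, mulVec_mul_GL, Max.inv_mulVec_cancel, hEx, ew]
      conv_rhs => rw [ev]
      rw [mem_spGL_iff.1 hj', mem_spGL_iff.1 hj', mulVec_sub, mulVec_add, mulVec_smul, mulVec_smul]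
    rw [mulVec_mul_GL, hjE, hEx']
    simp only [map_add, map_sub, map_smul, LinearMap.add_apply, LinearMap.sub_apply, LinearMap.smul_apply, smul_eq_mul,
      B_self, hvw, B_swap v w, hwx, hxw, hvx, hxv]
    have h2' := D.h2
    match_scalars <;> field_simp <;> ring
  set y := x - w with hy
  have hxy : B x y = 0 := by rw [hy, map_sub, B_self, hxw, sub_zero]
  -- a line orthogonal to `x`
  obtain ⟨z', hz'x, hz', hz'y⟩ : ∃ z', z' ∈ kperp D x ∧ phi D z' ≠ 0 ∧ ¬ (B y z' = 0 ∧ B y (D.T z') = 0) := by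
    refine kperp_test D h3 fun h => hwz ?_
    have h2 : y ∈ line D z := by
      obtain ⟨s, t, e1⟩ := (mem_line D).1 h
      obtain ⟨s', t', e2⟩ := (mem_line D).1 hxl
      refine (mem_line D).2 ⟨s * s' + t * (t' * D.d), s * t' + t * s', ?_⟩
      rw [e1, e2, map_add, map_smul, map_smul, D.hTT]; module
    simpa [hy] using (line D z).sub_mem hxl h2
  obtain ⟨hz'x1, hz'x2⟩ := (mem_kperp D).1 hz'x
  have hpx : proj D z' x = 0 := by simp [proj, hz'x1, hz'x2]
  set p := proj D z' y with hp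
  have hp0 : p ≠ 0 := proj_ne D hz' hz'y
  have hpl : p ∈ line D z' := proj_mem D z' y
  have hpphi : phi D p ≠ 0 := phi_line D hz' hpl hp0
  have hBpx : B p x = 0 := B_line_perp D hpl (kperp_sym D ⟨hz'x1, hz'x2⟩)
  have hBxp : B x p = 0 := by rw [B_swap, hBpx, neg_zero]
  have hBTpx : B (D.T p) x = 0 := by
    rw [D.hadj]
    have := B_line_perp D hpl (x := D.T x) ⟨(kperp_sym D ⟨hz'x1, hz'x2⟩).2, by
      rw [D.hTT, map_smul, (kperp_sym D ⟨hz'x1, hz'x2⟩).1, smul_zero]⟩
    rw [this, neg_zero]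
  have hByp : B y p = 0 := B_proj_self D
  have hBpy : B p y = 0 := by rw [B_swap, hByp, neg_zero]
  have hyx : B y x = 0 := by rw [B_swap, hxy, neg_zero]
  have hconj : ∀ {h : GLm}, h ∈ M → (h : Mat) *ᵥ x = x → ∀ {b : Vec}, Sg M x b →
      Sg M x ((h : Mat) *ᵥ b) := by
    intro h hh hhx b hb t
    obtain ⟨s, hs, hsx⟩ := hb t
    refine ⟨h * s * h⁻¹, mul_mem (mul_mem hh hs) (inv_mem hh), fun q => ?_⟩
    obtain ⟨q', rfl⟩ : ∃ q', (h : Mat) *ᵥ q' = q := ⟨_, Max.mulVec_inv_cancel h q⟩
    have hB := mem_spGL_iff.1 (hMK hh)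
    rw [mulVec_mul_GL, mulVec_mul_GL, Max.inv_mulVec_cancel, hsx, mulVec_add, mulVec_add, mulVec_smul, mulVec_smul, hhx, hB]
    conv_rhs => rw [← hhx, hB, hhx]
  obtain ⟨j', hj'M, -, hj'x⟩ := exists_flip D hM hz'
  have hsgp : Sg M x p := by
    intro t
    have e := hconj hj'M (by rw [hj'x, hpx, smul_zero, sub_zero]) hsg
    obtain ⟨s, hs, hsx⟩ := e (-(t / 2))
    obtain ⟨s', hs', hsx'⟩ := hsg (t / 2)
    refine ⟨s * s', mul_mem hs hs', fun q => ?_⟩
    rw [mulVec_mul_GL, hsx', hsx, hj'x]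
    simp only [map_add, map_sub, map_smul, LinearMap.add_apply, LinearMap.sub_apply, LinearMap.smul_apply, smul_eq_mul,
      B_self, hxy, hyx, hBxp, hByp, hBpx, hBpy, ← hp]
    have h2' := D.h2
    match_scalars <;> field_simp <;> ring
  obtain ⟨α, β, hαβ, hβ⟩ := exists_norm_one D
  obtain ⟨L, hLM, -, hLx⟩ := exists_rot D hM hz' hαβ
  have hpp : proj D z' p = p := by
    obtain ⟨s, t, e1⟩ := (mem_line D).1 hpl
    change p = s • z' + t • D.T z' at e1
    rw [e1]
    simp only [proj, map_add, map_smul, LinearMap.add_apply, LinearMap.smul_apply, smul_eq_mul, B_self, D.hadj, D.hTT]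
    rw [phi_apply] at hz' ⊢
    match_scalars <;> field_simp <;> ring
  have hsgL : Sg M x (α • p + β • D.T p) := by
    have e := hconj hLM (by rw [hLx, hpx, map_zero, smul_zero, smul_zero, add_zero, add_zero]) hsgp
    rwa [hLx, hpp, show p + (α - 1) • p + β • D.T p = α • p + β • D.T p by module] at e
  refine ⟨x, hxphi, fun c => ?_⟩
  set k : F := B p (α • p + β • D.T p) with hk
  have hk0 : k ≠ 0 := by
    rw [hk, map_add, map_smul, map_smul, B_self, smul_zero, zero_add, smul_eq_mul]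
    exact mul_ne_zero hβ hpphi
  obtain ⟨s1, hs1, hs1x⟩ := hsgp (c / (2 * k))
  obtain ⟨s2, hs2, hs2x⟩ := hsgL 1
  have e : s2 * s1 * s2⁻¹ * s1⁻¹ = spTrv x c := by
    rw [mul_inv_eq_iff_eq_mul, mul_inv_eq_iff_eq_mul]
    refine gl_ext fun q => ?_
    have hTpx' : B x (D.T p) = 0 := by rw [B_swap, hBTpx, neg_zero]
    simp only [mulVec_mul_GL, hs1x, hs2x, spTrv_apply, map_add, map_smul, LinearMap.add_apply, LinearMap.smul_apply,
      smul_eq_mul, B_self, hBxp, hBpx, hBTpx, hTpx', mul_zero, add_zero, zero_add, one_mul,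
      B_swap p (D.T p)]
    rw [hk, map_add, map_smul, map_smul, B_self, smul_zero, zero_add, smul_eq_mul] at hk0 ⊢
    have h2' := D.h2
    have hpphi' : B p (D.T p) ≠ 0 := hpphi
    match_scalars <;> field_simp <;> ring
  exact e ▸ mul_mem (mul_mem (mul_mem hs2 hs1) (inv_mem hs2)) (inv_mem hs1)

set_option maxHeartbeats 1000000 in
theorem sp_le_of_centre (hMK : M ≤ Cfsg.spGL m F) (hM : RatM D M) {x : Vec} (hx : phi D x ≠ 0) (hxc : x ∈ centres M) :
    Cfsg.spGL m F ≤ M := by
  obtain ⟨α, β, hαβ, hβ⟩ := exists_norm_one D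
  have hpl : ∀ {c c' : Vec}, c ∈ centres M → c' ∈ centres M → B c c' ≠ 0 → ∀ t : F, c + t • c' ∈ centres M := by
    intro c c' hc hc' hne t
    have := centres_map (spTrv_mem c' (t / B c c')) (hc' _) hc
    rwa [spTrv_apply, div_mul_cancel₀ _ hne] at this
  have hplane : ∀ {c c' p : Vec} {s t : F}, c ∈ centres M → c' ∈ centres M → B c c' ≠ 0 → p = s • c + t • c' →
      p ∈ centres M := by
    intro c c' p s t hc hc' hne hp
    rcases eq_or_ne s 0 with rfl | hs
    · rw [hp, zero_smul, zero_add]; exact centres_smul t hc'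
    · have := centres_smul s (hpl hc hc' hne (t / s))
      rwa [smul_add, smul_smul, mul_div_cancel₀ _ hs, ← hp] at this
  have hline : ∀ {z p : Vec}, phi D z ≠ 0 → z ∈ centres M → p ∈ line D z → p ∈ centres M := by
    intro z p hz hzc hp
    obtain ⟨L, hLM, hL', hLx⟩ := exists_rot D hM hz hαβ
    have hpr : proj D z z = z := by
      simp only [proj, B_self, zero_smul, sub_zero, ← phi_apply, smul_smul, inv_mul_cancel₀ hz, one_smul]
    have h1 := centres_map hL' hLM hzc
    rw [hLx, hpr] at h1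
    obtain ⟨s, t, rfl⟩ := (mem_line D).1 hp
    refine hplane (s := s - t * α / β) (t := t / β) hzc h1 ?_ ?_
    · simp only [map_add, map_smul, B_self, smul_eq_mul, mul_zero, add_zero, zero_add]
      exact mul_ne_zero hβ hz
    · show s • z + t • D.T z = _
      match_scalars <;> field_simp <;> ring
  have step : ∀ {c z : Vec}, phi D c ≠ 0 → c ∈ centres M → phi D z ≠ 0 → ¬ (B c z = 0 ∧ B c (D.T z) = 0) →
      z ∈ centres M := by
    intro c z hc hcc hz hne
    obtain ⟨L, hLM, hL', hLx⟩ := exists_rot D hM hz hαβ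
    have h1 := centres_map hL' hLM hcc
    rw [hLx] at h1
    set p := proj D z c with hp
    have hp0 : p ≠ 0 := proj_ne D hz hne
    have hpp : phi D p ≠ 0 := phi_line D hz (proj_mem D z c) hp0
    have hcp : B c p = 0 := B_proj_self D
    have hq0 : (α - 1) • p + β • D.T p ≠ 0 := fun e => hβ (indep D hp0 e).2
    have hq : (α - 1) • p + β • D.T p ∈ centres M := by
      refine hplane (s := -1) (t := 1) hcc h1 ?_ (by module)
      simp only [map_add, map_smul, B_self, hcp, smul_eq_mul, mul_zero, add_zero, zero_add]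
      refine mul_ne_zero hβ ?_
      have e : B c (D.T p) = phi D p := by
        simp only [hp, proj, phi_apply, map_sub, map_smul, LinearMap.sub_apply, LinearMap.smul_apply, smul_eq_mul,
          D.hTT, D.hadj, B_self]
        rw [phi_apply] at hz
        field_simp
        ring
      rwa [e]
    have hqm : (α - 1) • p + β • D.T p ∈ line D z := by
      obtain ⟨s, t, e1⟩ := (mem_line D).1 (proj_mem D z c)
      change p = s • z + t • D.T z at e1
      refine (mem_line D).2 ⟨(α - 1) * s + β * (t * D.d), (α - 1) * t + β * s, ?_⟩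
      show _ = _ • z + _ • D.T z
      rw [e1, map_add, map_smul, map_smul, D.hTT]; module
    exact hline (phi_line D hz hqm hq0) hq (mem_line_symm D hq0 hqm)
  have hall : ∀ z, phi D z ≠ 0 → z ∈ centres M := by
    intro z hz
    by_cases hne : B x z = 0 ∧ B x (D.T z) = 0
    swap
    · exact step hx hxc hz hne
    obtain ⟨hne1, hne2⟩ := hne
    obtain ⟨z', hz', h2, h3⟩ : ∃ z', phi D (x + z') ≠ 0 ∧ (B x z' = 0 ∧ B x (D.T z') = 0) ∧
        ¬ (B z' z = 0 ∧ B z' (D.T z) = 0) := by
      have hp : QuadraticMap.polar (phi D) x z = 0 := by rw [polar_phi, hne2, mul_zero]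
      by_cases h0 : phi D (x + z) = 0
      · refine ⟨z + D.T z, ?_, ⟨by rw [map_add, hne1, hne2, add_zero], by
          rw [map_add, map_add, hne2, D.hTT, map_smul, hne1, smul_zero, add_zero]⟩, fun h => hz ?_⟩
        · rw [Classical.Orth.map_add', hp, add_zero] at h0
          have e : phi D (x + (z + D.T z)) = phi D x + (1 - D.d) * phi D z := by
            simp only [phi_apply, map_add, LinearMap.add_apply, D.hTT, map_smul, LinearMap.smul_apply, smul_eq_mul,
              D.hadj, B_self, hne1, hne2, swapT D x z, B_swap x z]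
            ring
          rw [e, show phi D x + (1 - D.d) * phi D z = -(D.d * phi D z) by linear_combination h0]
          exact neg_ne_zero.2 (mul_ne_zero (d_ne D) hz)
        · have := h.1
          rwa [map_add, LinearMap.add_apply, B_self, zero_add, D.hadj, neg_eq_zero, ← phi_apply] at this
      · exact ⟨z, h0, ⟨hne1, hne2⟩, fun h => hz h.2⟩
    have hmid : x + z' ∈ centres M := step hx hxc hz' fun h => hx (by
      have := h.2
      rwa [map_add, map_add, h2.2, add_zero, ← phi_apply] at this)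
    exact step hz' hmid hz fun h => h3 (by simpa [hne1, hne2] using h)
  refine spGL_le_of_centres fun v => ?_
  by_cases hv : phi D v = 0
  swap
  · exact hall v hv
  rcases eq_or_ne v 0 with rfl | hv0
  · simpa using centres_smul 0 hxc
  obtain ⟨c, hc, hvc⟩ : ∃ c, phi D c ≠ 0 ∧ B v c ≠ 0 := by
    by_contra hcon
    push Not at hcon
    refine hv0 (nondeg.1 v fun y => ?_)
    by_cases hy : phi D y = 0
    swap
    · exact hcon y hy
    by_cases h1 : phi D (y + x) = 0
    · have h2 : phi D (y - x) ≠ 0 := by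
        intro h3
        simp only [sub_eq_add_neg, Classical.Orth.map_add', QuadraticMap.map_neg, QuadraticMap.polar_neg_right, hy] at h1 h3
        exact mul_ne_zero D.h2 hx (by linear_combination h1 + h3)
      have := hcon _ h2
      rwa [map_sub, hcon x hx, sub_zero] at this
    · have := hcon _ h1
      rwa [map_add, hcon x hx, add_zero] at this
  obtain ⟨k, hk, hk'⟩ : ∃ k : F, k ≠ 0 ∧ phi D (v - k • c) ≠ 0 := by
    have e : ∀ k : F, phi D (v - k • c) = k * (k * phi D c - QuadraticMap.polar (phi D) v c) := fun k => by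
      rw [sub_eq_add_neg, Classical.Orth.map_add', QuadraticMap.map_neg, Classical.Orth.map_smul', hv,
        QuadraticMap.polar_neg_right, QuadraticMap.polar_smul_right, smul_eq_mul]
      ring
    by_cases h1 : phi D (v - (1 : F) • c) = 0
    · refine ⟨-1, neg_ne_zero.2 one_ne_zero, fun h => ?_⟩
      rw [e] at h1 h
      exact mul_ne_zero D.h2 hc (by linear_combination h1 + h)
    · exact ⟨1, one_ne_zero, h1⟩
  refine hplane (s := 1) (t := 1) (hall _ hk') (centres_smul k (hall c hc)) ?_ (by module)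
  simp only [map_sub, map_smul, LinearMap.sub_apply, LinearMap.smul_apply, B_self, smul_zero, sub_zero, smul_eq_mul,
    mul_zero]
  exact mul_ne_zero hk hvc

set_option maxHeartbeats 1000000 in
/-- normalisers of skew quadratic extensions are maximal, given a non-isotropic centre -/
theorem extension_maximal_of
    (hcen : ∀ {M : Subgroup GLm}, M ≤ Cfsg.spGL m F → RatM D M → ∀ {g : GLm}, g ∈ M →
      (¬ ∀ x, (g : Mat) *ᵥ D.T x = D.T ((g : Mat) *ᵥ x)) → (¬ ∀ x, (g : Mat) *ᵥ D.T x = -D.T ((g : Mat) *ᵥ x)) →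
      ∃ x, phi D x ≠ 0 ∧ x ∈ centres M)
    (G : Subgroup GLm) (hG : G ≤ Cfsg.spGL m F)
    (hlow : ∀ g ∈ Cfsg.spGL m F, ((∀ x, (g : Mat) *ᵥ D.T x = D.T ((g : Mat) *ᵥ x)) ∨
      ∀ x, (g : Mat) *ᵥ D.T x = -D.T ((g : Mat) *ᵥ x)) → g ∈ G)
    (hhigh : ∀ g ∈ G, (∀ x, (g : Mat) *ᵥ D.T x = D.T ((g : Mat) *ᵥ x)) ∨
      ∀ x, (g : Mat) *ᵥ D.T x = -D.T ((g : Mat) *ᵥ x)) :
    Cfsg.Geo.IsMaximalIn (Cfsg.spGL m F) G := by
  refine isMaximalIn_of hG (fun hle => ?_) fun M hM hMK g hgM hg => ?_
  · obtain ⟨v, hv0, -⟩ := exists_zero (m := m) (F := F) (j := 0) Fin.elim0 (by have := D.hm; omega)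
    rcases hhigh _ (hle (spTrv_mem v 1)) with h | h
    · obtain ⟨y, hy⟩ : ∃ y, B y v ≠ 0 := by
        by_contra hc
        push Not at hc
        exact hv0 (nondeg.2 v hc)
      have h1 := h y
      rw [spTrv_apply, spTrv_apply, map_add, map_smul, one_mul, one_mul, add_right_inj] at h1
      exact hy (neg_eq_zero.1 (indep D hv0 (s := B (D.T y) v) (t := -B y v) (by
        rw [h1]; module)).2)
    · obtain ⟨p, hp0, hp⟩ := exists_zero ![B v, B (D.T v)] (by have := D.hm; omega)
      obtain ⟨k1, k2⟩ := kperp_sym D ((mem_kperp D).1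
        (⟨LinearMap.mem_ker.2 (hp 0), LinearMap.mem_ker.2 (hp 1)⟩ : p ∈ kperp D v))
      have h1 := h p
      rw [spTrv_apply, spTrv_apply, D.hadj, k2, k1, neg_zero] at h1
      simp only [mul_zero, zero_smul, add_zero] at h1
      exact D.h2 (indep D hp0 (s := 0) (t := 2) (by linear_combination (norm := module) h1)).2
  have hR : RatM D M := fun h hh hh' => hM (hlow h hh (Or.inl hh'))
  obtain ⟨x, hx, hxc⟩ := hcen hMK hR hgM
    (fun h => hg (hlow g (hMK hgM) (Or.inl h))) (fun h => hg (hlow g (hMK hgM) (Or.inr h)))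
  exact sp_le_of_centre D hMK hR hx hxc

/-- normalisers of skew quadratic extensions are maximal in symplectic groups -/
theorem extension_maximal (h3 : 3 ≤ m) (G : Subgroup GLm) (hG : G ≤ Cfsg.spGL m F)
    (hlow : ∀ g ∈ Cfsg.spGL m F, ((∀ x, (g : Mat) *ᵥ D.T x = D.T ((g : Mat) *ᵥ x)) ∨
      ∀ x, (g : Mat) *ᵥ D.T x = -D.T ((g : Mat) *ᵥ x)) → g ∈ G)
    (hhigh : ∀ g ∈ G, (∀ x, (g : Mat) *ᵥ D.T x = D.T ((g : Mat) *ᵥ x)) ∨
      ∀ x, (g : Mat) *ᵥ D.T x = -D.T ((g : Mat) *ᵥ x)) :
    Cfsg.Geo.IsMaximalIn (Cfsg.spGL m F) G :=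
  extension_maximal_of D (fun hMK hR _ hg h1 h2 => exists_centre D h3 hMK hR hg h1 h2) G hG hlow hhigh

end Cfsg.Agent.Forms.Max.SympExt
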