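import Mathlib
import Cfsg.Agent.Lib.Forms.Max.SympExt
import Cfsg.Agent.Lib.Forms.Max.QuadExt

/-!
# Normalisers of adjoint-closed quadratic subfields in symplectic groups of odd characteristic
-/

set_option autoImplicit false
open Cfsg
open scoped Matrix

namespace Cfsg.Agent.Forms.Max.SympExtAdjoint

/-- normalisers of quadratic subfields with non-trivial adjoint are maximal, given the extension step -/
theorem maximal_of {F : Type*} [Field F] [Fintype F] (m : ℕ) (hm : 2 ≤ m) (hcen : ∀ (D : Agent.Forms.Max.SympExt.Data F m) {M : Subgroup (GL (Fin m ⊕ Fin m) F)}, M ≤ Cfsg.spGL m F → Agent.Forms.Max.SympExt.RatM D M → ∀ {g : GL (Fin m ⊕ Fin m) F}, g ∈ M → (¬ ∀ x, (g : Matrix (Fin m ⊕ Fin m) (Fin m ⊕ Fin m) F) *ᵥ D.T x = D.T ((g : Matrix (Fin m ⊕ Fin m) (Fin m ⊕ Fin m) F) *ᵥ x)) → (¬ ∀ x, (g : Matrix (Fin m ⊕ Fin m) (Fin m ⊕ Fin m) F) *ᵥ D.T x = -D.T ((g : Matrix (Fin m ⊕ Fin m) (Fin m ⊕ Fin m) F) *ᵥ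 x)) → ∃ x, Agent.Forms.Max.SympExt.phi D x ≠ 0 ∧ x ∈ Agent.Forms.Max.Symp.centres M) (hodd : Odd (Fintype.card F)) (K : Subalgebra F (Matrix (Fin m ⊕ Fin m) (Fin m ⊕ Fin m) F)) (hK : Cfsg.Geo.IsFieldSubalgebra 2 K) (hac : Cfsg.Geo.IsAdjointClosedFor (Cfsg.sympForm m F) K) (hnsa : ¬ Cfsg.Geo.IsSelfAdjointFor (Cfsg.sympForm m F) K) : Cfsg.Geo.IsMaximalIn (Cfsg.spGL m F) (Cfsg.Geo.subalgebraNormalizer K ⊓ Cfsg.spGL m F) := by
  classical
  have h2 : (2 : F) ≠ 0 := Agent.Classical.OrthForms.two_ne_zero_of_odd hodd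
  haveI : Nonempty (Fin m ⊕ Fin m) := ⟨.inl ⟨0, by omega⟩⟩
  obtain ⟨θ, a, N, hθ, hsq, hne, hirr, hspan⟩ := Agent.Forms.Max.QuadExt.exists_gen hK
  have hext : ∀ A C : Matrix (Fin m ⊕ Fin m) (Fin m ⊕ Fin m) F,
      (∀ u v, Agent.Forms.SympStd.sympB m F u (A *ᵥ v) = Agent.Forms.SympStd.sympB m F u (C *ᵥ v)) → A = C := fun A C h =>
    Matrix.ext_of_mulVec_single fun i => sub_eq_zero.1 (Agent.Forms.Max.Symp.nondeg.2 _ fun u => by
      rw [map_sub, h, sub_self])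
  obtain ⟨k', hk', hadj0⟩ := hac θ hθ
  have hadj : ∀ u v, Agent.Forms.SympStd.sympB m F (θ *ᵥ u) v = Agent.Forms.SympStd.sympB m F u (k' *ᵥ v) := fun u v => by
    rw [Agent.Forms.SympStd.sympB_apply, Agent.Forms.SympStd.sympB_apply]
    exact hadj0 u v
  have hk'sq : k' * k' = a • k' - N • (1 : Matrix (Fin m ⊕ Fin m) (Fin m ⊕ Fin m) F) := hext _ _ fun u v => by
    rw [← Matrix.mulVec_mulVec, ← hadj, ← hadj, Matrix.mulVec_mulVec, hsq]
    simp only [Matrix.sub_mulVec, Matrix.smul_mulVec, Matrix.one_mulVec, map_sub, map_smul, LinearMap.sub_apply,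
      LinearMap.smul_apply, hadj]
  have hbar : k' = a • (1 : Matrix (Fin m ⊕ Fin m) (Fin m ⊕ Fin m) F) - θ := by
    have hprod : (k' - θ) * (k' - (a • (1 : Matrix (Fin m ⊕ Fin m) (Fin m ⊕ Fin m) F) - θ)) = 0 := by
      simp only [Matrix.mul_sub, Matrix.sub_mul, Matrix.mul_smul, Matrix.mul_one, hk'sq, hK.comm k' hk' θ hθ, hsq]
      module
    have hne' : k' - θ ≠ 0 := fun e => hnsa fun k hk u v => by
      obtain ⟨s, t, rfl⟩ := hspan k hk
      rw [← Agent.Forms.SympStd.sympB_apply, ← Agent.Forms.SympStd.sympB_apply]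
      simp only [Matrix.add_mulVec, Matrix.smul_mulVec, Matrix.one_mulVec, map_add, map_smul, LinearMap.add_apply,
        LinearMap.smul_apply, hadj, sub_eq_zero.1 e]
    obtain ⟨y, -, hy⟩ := hK.inv _ (K.sub_mem hk' hθ) hne'
    refine sub_eq_zero.1 ?_
    calc k' - (a • (1 : Matrix (Fin m ⊕ Fin m) (Fin m ⊕ Fin m) F) - θ)
        = (y * (k' - θ)) * (k' - (a • (1 : Matrix (Fin m ⊕ Fin m) (Fin m ⊕ Fin m) F) - θ)) := by
          rw [mul_eq_one_comm.1 hy, Matrix.one_mul]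
      _ = 0 := by rw [Matrix.mul_assoc, hprod, Matrix.mul_zero]
  set θ₀ := θ - (a / 2) • (1 : Matrix (Fin m ⊕ Fin m) (Fin m ⊕ Fin m) F) with hθ₀def
  have hθ₀ : θ₀ ∈ K := K.sub_mem hθ (K.smul_mem K.one_mem _)
  have hspan₀ : ∀ x ∈ K, ∃ s t : F, x = s • (1 : Matrix (Fin m ⊕ Fin m) (Fin m ⊕ Fin m) F) + t • θ₀ := fun x hx => by
    obtain ⟨s, t, rfl⟩ := hspan x hx
    exact ⟨s + t * (a / 2), t, by rw [hθ₀def]; module⟩
  have hsq₀ : θ₀ * θ₀ = (0 : F) • θ₀ - (-(a / 2 * (a / 2) - N)) • (1 : Matrix (Fin m ⊕ Fin m) (Fin m ⊕ Fin m) F) := by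
    rw [hθ₀def]
    simp only [Matrix.mul_sub, Matrix.sub_mul, Matrix.mul_smul, Matrix.smul_mul, Matrix.mul_one, Matrix.one_mul, hsq]
    match_scalars <;> field_simp <;> ring
  let D : Agent.Forms.Max.SympExt.Data F m :=
    { T := Matrix.toLin' θ₀, d := a / 2 * (a / 2) - N, h2 := h2, hm := by omega
      hd := fun s h => hirr (s + a / 2) (by field_simp at h ⊢; linear_combination h)
      hTT := fun x => by
        simp only [Matrix.toLin'_apply, Matrix.mulVec_mulVec, hsq₀, Matrix.sub_mulVec, Matrix.smul_mulVec,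
          Matrix.one_mulVec, zero_smul, zero_sub, neg_smul, neg_neg]
      hadj := fun x y => by
        simp only [Matrix.toLin'_apply, hθ₀def, Matrix.sub_mulVec, Matrix.smul_mulVec, Matrix.one_mulVec, map_sub,
          map_smul, LinearMap.sub_apply, LinearMap.smul_apply, hadj, hbar, smul_eq_mul]
        field_simp
        ring }
  refine Agent.Forms.Max.SympExt.extension_maximal_of D (hcen D) _ inf_le_right (fun g hg h => ⟨?_, hg⟩) fun g hg => ?_
  · refine (Agent.Forms.Max.QuadExt.mem_normalizer hK hspan₀ hθ₀ hsq₀ g).2 ?_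
    simpa only [D, Matrix.toLin'_apply, zero_smul, zero_sub] using h
  · have := (Agent.Forms.Max.QuadExt.mem_normalizer hK hspan₀ hθ₀ hsq₀ g).1 hg.1
    simpa only [D, Matrix.toLin'_apply, zero_smul, zero_sub] using this

/-- normalisers of quadratic subfields with non-trivial adjoint are maximal -/
theorem maximal {F : Type*} [Field F] [Fintype F] (m : ℕ) (hm : 3 ≤ m) (hodd : Odd (Fintype.card F)) (K : Subalgebra F (Matrix (Fin m ⊕ Fin m) (Fin m ⊕ Fin m) F)) (hK : Cfsg.Geo.IsFieldSubalgebra 2 K) (hac : Cfsg.Geo.IsAdjointClosedFor (Cfsg.sympForm m F) K) (hnsa : ¬ Cfsg.Geo.IsSelfAdjointFor (Cfsg.sympForm m F) K) : Cfsg.Geo.IsMaximalIn (Cfsg.spGL m F) (Cfsg.Geo.subalgebraNormalizer K ⊓ Cfsg.spGL m F) :=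
  maximal_of m (by omega) (fun D _ hMK hR _ hg h1 h2 => SympExt.exists_centre D hm hMK hR hg h1 h2) hodd K hK hac hnsa

end Cfsg.Agent.Forms.Max.SympExtAdjoint
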