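import Mathlib
import Cfsg.Agent.Lib.Forms.Max.Symp

/-!
# Stabilisers of pairs of totally isotropic subspaces in symplectic groups of odd characteristic
-/

set_option autoImplicit false
set_option linter.unusedSectionVars false

namespace Cfsg.Agent.Forms.Max.SympPair

open Matrix Cfsg.Agent.Aschbacher Cfsg.Agent.Forms.SympStd

variable {F : Type*} [Field F] {m : ℕ}

local notation "Idx" => (Fin m ⊕ Fin m)
local notation "Vec" => (Fin m ⊕ Fin m → F)
local notation "GLm" => GL (Fin m ⊕ Fin m) F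
local notation "B" => sympB m F

/-- a Siegel element lies in `M` -/
def SgS (M : Subgroup (GL (Fin m ⊕ Fin m) F)) (a w : Fin m ⊕ Fin m → F) : Prop :=
  sympB m F w a = 0 ∧ ∃ g ∈ M, ∀ x, (g : Matrix Idx Idx F) *ᵥ x = x + sympB m F x a • w + sympB m F x w • a

variable {M : Subgroup (GL (Fin m ⊕ Fin m) F)}

theorem swap0 {u v : Vec} (h : B u v = 0) : B v u = 0 := by rw [Symp.B_swap, h, neg_zero]

theorem sgS_symm {a w : Vec} (h : SgS M a w) : SgS M w a := by
  obtain ⟨hw, g, hg, hgx⟩ := h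
  exact ⟨swap0 hw, g, hg, fun x => by rw [hgx]; abel⟩

theorem sgS_map (hMK : M ≤ Cfsg.spGL m F) {a w : Vec} (h : SgS M a w) {s : GLm} (hs : s ∈ M) :
    SgS M ((s : Matrix Idx Idx F) *ᵥ a) ((s : Matrix Idx Idx F) *ᵥ w) := by
  obtain ⟨hw, g, hg, hgx⟩ := h
  have hH := Symp.mem_spGL_iff.1 (hMK hs)
  refine ⟨by rw [hH, hw], s * g * s⁻¹, mul_mem (mul_mem hs hg) (inv_mem hs), fun x => ?_⟩
  obtain ⟨y, rfl⟩ : ∃ y, (s : Matrix Idx Idx F) *ᵥ y = x := ⟨_, Max.mulVec_inv_cancel s x⟩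
  rw [Max.mulVec_mul_GL, Max.inv_mulVec_cancel, Max.mulVec_mul_GL, hgx, mulVec_add, mulVec_add, mulVec_smul,
    mulVec_smul, hH, hH]

theorem sgS_neg {a w : Vec} (h : SgS M a w) (ho : B w w = 0) : SgS M a (-w) := by
  obtain ⟨hw, g, hg, hgx⟩ := h
  refine ⟨by simp [hw], g⁻¹, inv_mem hg, fun x => Max.mulVec_inj g ?_⟩
  rw [Max.mulVec_inv_cancel]
  simp only [hgx, map_add, map_smul, map_neg, LinearMap.add_apply, LinearMap.smul_apply, LinearMap.neg_apply,
    Symp.B_self,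
    smul_eq_mul, hw, swap0 hw]
  module

theorem sgS_add {a w w' : Vec} (h : SgS M a w) (h' : SgS M a w') (ho : B w w' = 0) : SgS M a (w + w') := by
  obtain ⟨hw, g, hg, hgx⟩ := h
  obtain ⟨hw', g', hg', hgx'⟩ := h'
  refine ⟨by simp [hw, hw'], g * g', mul_mem hg hg', fun x => ?_⟩
  simp only [Max.mulVec_mul_GL, hgx, hgx', map_add, map_smul, LinearMap.add_apply, LinearMap.smul_apply,
    Symp.B_self, smul_eq_mul, hw, hw', swap0 hw, swap0 hw', swap0 ho]
  module

theorem sgS_comm {a w w' : Vec} (h : SgS M a w) (h' : SgS M a w') :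
    spTrv a (2 * B w' w) ∈ M := by
  obtain ⟨hw, g, hg, hgx⟩ := h
  obtain ⟨hw', g', hg', hgx'⟩ := h'
  have hm := mul_mem (mul_mem hg hg') (inv_mem (mul_mem hg' hg))
  refine (Max.gl_ext fun x => ?_ : spTrv a (2 * B w' w) = g * g' * (g' * g)⁻¹) ▸ hm
  obtain ⟨y, rfl⟩ : ∃ y, ((g' * g : GLm) : Matrix Idx Idx F) *ᵥ y = x :=
    ⟨_, Max.mulVec_inv_cancel (g' * g) x⟩
  rw [Symp.spTrv_apply, Max.mulVec_mul_GL (g := g * g'), Max.inv_mulVec_cancel]
  simp only [Max.mulVec_mul_GL, hgx, hgx', map_add, map_smul, LinearMap.add_apply, LinearMap.smul_apply,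
    Symp.B_self, smul_eq_mul, hw, hw', swap0 hw, swap0 hw', Symp.B_swap w' w]
  module

/-- the hypotheses on a pair of Lagrangian subspaces -/
structure Pair (M : Subgroup (GL (Fin m ⊕ Fin m) F)) (W U : Submodule F (Fin m ⊕ Fin m → F)) : Prop where
  h2 : (2 : F) ≠ 0
  hm : 2 ≤ m
  hMK : M ≤ Cfsg.spGL m F
  hW : Module.finrank F W = m
  hU : Module.finrank F U = m
  hC : IsCompl W U
  hWW : ∀ x ∈ W, ∀ y ∈ W, sympB m F x y = 0
  hUU : ∀ x ∈ U, ∀ y ∈ U, sympB m F x y = 0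
  hSg : ∀ a ∈ W, ∀ w ∈ U, sympB m F w a = 0 → SgS M a w

variable {W U : Submodule F (Fin m ⊕ Fin m → F)}

theorem Pair.symm (h : Pair M W U) : Pair M U W :=
  ⟨h.h2, h.hm, h.hMK, h.hU, h.hW, h.hC.symm, h.hUU, h.hWW,
    fun a ha w hw hwa => sgS_symm (h.hSg w hw a ha (swap0 hwa))⟩

theorem exists_ne_zero_ker {V : Submodule F Vec} {j : ℕ} (f : Fin j → (Vec →ₗ[F] F))
    (hj : j < Module.finrank F V) : ∃ v ∈ V, v ≠ 0 ∧ ∀ i, f i v = 0 := by
  by_contra hc
  push Not at hc
  have hinj : Function.Injective ((LinearMap.pi f).domRestrict V) := by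
    rw [injective_iff_map_eq_zero]
    intro v hv
    by_contra hv0
    obtain ⟨i, hi⟩ := hc v v.2 fun e => hv0 (Subtype.ext e)
    exact hi (congrFun hv i)
  have := LinearMap.finrank_le_finrank_of_injective hinj
  rw [Module.finrank_fintype_fun_eq_card, Fintype.card_fin] at this
  omega

theorem exists_ne_line {V : Submodule F Vec} {j : ℕ} (f : Fin j → (Vec →ₗ[F] F))
    (hj : j + 1 < Module.finrank F V) {y : Vec} :
    ∃ v ∈ V, v ∉ Submodule.span F {y} ∧ ∀ i, f i v = 0 := by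
  rcases eq_or_ne y 0 with rfl | hy0
  · obtain ⟨v, hv, hv0, hvf⟩ := exists_ne_zero_ker f (V := V) (by omega)
    exact ⟨v, hv, fun h => hv0 (by simpa using h), hvf⟩
  obtain ⟨φ, -, hφy⟩ := Max.exists_row_of_not_mem (S := (⊥ : Submodule F Vec)) (v := y) (by simpa using hy0)
  let φl : Vec →ₗ[F] F :=
    { toFun := fun x => φ ⬝ᵥ x
      map_add' := fun a b => dotProduct_add _ _ _
      map_smul' := fun c a => by rw [dotProduct_smul]; rfl }
  obtain ⟨v, hv, hv0, hvf⟩ := exists_ne_zero_ker (Fin.cons φl f : Fin (j + 1) → _) (V := V) hj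
  refine ⟨v, hv, fun hm => hv0 ?_, fun i => hvf i.succ⟩
  obtain ⟨t, rfl⟩ := Submodule.mem_span_singleton.1 hm
  have h : φ ⬝ᵥ (t • y) = 0 := hvf 0
  rw [dotProduct_smul, hφy, smul_eq_mul, mul_one] at h
  rw [h, zero_smul]

theorem Pair.eq_zero (h : Pair M W U) {u : Vec} (hu : u ∈ U) (h0 : ∀ w ∈ W, B w u = 0) : u = 0 :=
  Symp.nondeg.1 u fun v => by
    obtain ⟨w, hw, u', hu', rfl⟩ := Submodule.mem_sup.1 (h.hC.sup_eq_top ▸ Submodule.mem_top : v ∈ W ⊔ U)
    rw [map_add, swap0 (h0 w hw), h.hUU u hu u' hu', add_zero]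

theorem Pair.mem_of_perp (h : Pair M W U) {v : Vec} (hv : ∀ w ∈ W, B v w = 0) : v ∈ W := by
  obtain ⟨w, hw, u, hu, rfl⟩ := Submodule.mem_sup.1 (h.hC.sup_eq_top ▸ Submodule.mem_top : v ∈ W ⊔ U)
  rw [h.eq_zero hu fun w' hw' => swap0 (by
    have := hv w' hw'
    rwa [map_add, LinearMap.add_apply, h.hWW w hw w' hw', zero_add] at this), add_zero]
  exact hw

theorem Pair.exists_pairing (h : Pair M W U) {x : Vec} (hx : x ∈ W) (hx0 : x ≠ 0) :
    ∃ b ∈ U, B x b = 1 := by
  obtain ⟨b, hb, hxb⟩ : ∃ b ∈ U, B x b ≠ 0 := by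
    by_contra hc
    push Not at hc
    exact hx0 (h.symm.eq_zero hx fun b hb => swap0 (hc b hb))
  exact ⟨(B x b)⁻¹ • b, U.smul_mem _ hb, by rw [map_smul, smul_eq_mul, inv_mul_cancel₀ hxb]⟩

theorem Pair.exists_dual (h : Pair M W U) {c d : Vec} (hc : c ∈ U) (hd : d ∈ U)
    (hcd : c ∉ Submodule.span F {d}) : ∃ z ∈ W, B z d = 0 ∧ B z c ≠ 0 := by
  obtain ⟨z, hz, hcz⟩ := Max.not_mem_perp Symp.nondeg Symp.isRefl (u := c)
    (W := Submodule.span F {d} ⊔ W) fun hm => by
    obtain ⟨t, ht, w, hw, e⟩ := Submodule.mem_sup.1 hm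
    obtain ⟨l, rfl⟩ := Submodule.mem_span_singleton.1 ht
    have hw0 : w = 0 := Submodule.disjoint_def.1 h.hC.disjoint w hw (by
      rw [show w = c - l • d by rw [← e]; abel]; exact U.sub_mem hc (U.smul_mem _ hd))
    exact hcd (Submodule.mem_span_singleton.2 ⟨l, by rw [← e, hw0, add_zero]⟩)
  have hz' := LinearMap.BilinForm.mem_orthogonal_iff.1 hz
  exact ⟨z, h.mem_of_perp fun w hw => swap0 (hz' w (Submodule.mem_sup_right hw)),
    swap0 (hz' d (Submodule.mem_sup_left (Submodule.mem_span_singleton_self d))), fun e => hcz (swap0 e)⟩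

/-- a Siegel element at a mixed vector produces a centre -/
theorem Pair.core (h : Pair M W U) {u x y V z w : Vec} (hx : x ∈ W) (hy : y ∈ U) (hxy : u = x + y)
    (hy0 : y ≠ 0) (hVs : SgS M u V) (hz : z ∈ W) (hzy : B z y = 0) (hκ0 : B V z ≠ 0) (hw : w ∈ U)
    (hwy : w ∉ Submodule.span F {y}) (hwx : B w x = 0) (hwz : B w z = 0) (hwV : B w V = 0) :
    w ∈ Symp.centres M := by
  obtain ⟨-, s, hs, hsx⟩ := h.hSg z hz w hw hwz
  have hsu : (s : Matrix Idx Idx F) *ᵥ u = u := by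
    rw [hsx, hxy]
    simp [h.hWW x hx z hz, swap0 hzy, swap0 hwx, h.hUU y hy w hw]
  set κ := B V z with hκ
  have hsV : (s : Matrix Idx Idx F) *ᵥ V = V + κ • w := by
    rw [hsx, swap0 hwV, zero_smul, add_zero]
  have h1 := sgS_map h.hMK hVs hs
  rw [hsu, hsV] at h1
  have h2 := sgS_add h1 (sgS_neg hVs (Symp.B_self V)) (by simp [Symp.B_self, hwV])
  rw [add_neg_cancel_comm] at h2
  have hW := sgS_symm h2
  have hwu : B w u = 0 := by rw [hxy, map_add, hwx, h.hUU w hw y hy, add_zero]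
  -- move the scalar to the other argument
  have hW' : SgS M w (κ • u) := by
    obtain ⟨-, g, hg, hgx⟩ := hW
    refine ⟨by simp [swap0 hwu], g, hg, fun v => ?_⟩
    rw [hgx, map_smul, map_smul, smul_eq_mul, smul_eq_mul]
    module
  obtain ⟨v, hv, hvw, hvy⟩ := h.exists_dual hy hw fun hm' => by
    obtain ⟨t, ht⟩ := Submodule.mem_span_singleton.1 hm'
    rcases eq_or_ne t 0 with rfl | ht0
    · exact hy0 (by rw [← ht, zero_smul])
    · exact hwy (Submodule.mem_span_singleton.2 ⟨t⁻¹, by rw [← ht, inv_smul_smul₀ ht0]⟩)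
  intro c
  set t := c / (2 * (κ * B u v)) with ht
  have huv : B u v ≠ 0 := by
    rw [hxy, map_add, LinearMap.add_apply, h.hWW x hx v hv, zero_add]
    exact fun e => hvy (swap0 e)
  have hS := h.symm.hSg w hw (t • v) (W.smul_mem _ hv) (by simp [hvw])
  have h3 := sgS_comm hS hW'
  have e : 2 * B (κ • u) (t • v) = c := by
    simp only [map_smul, LinearMap.smul_apply, smul_eq_mul, ht]
    have := h.h2
    field_simp
  rwa [e] at h3

/-- centres fill planes -/
theorem centres_plane {c c' : Vec} (hc : c ∈ Symp.centres M) (hc' : c' ∈ Symp.centres M) (hne : B c c' ≠ 0) (t : F) :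
    c + t • c' ∈ Symp.centres M := by
  have := Symp.centres_map (spTrv_mem c' (t / B c c')) (hc' _) hc
  rwa [Symp.spTrv_apply, div_mul_cancel₀ _ hne] at this

/-- a centre which is mixed and off the quadric gives a centre in `U` -/
theorem Pair.centre_of_mixed (h : Pair M W U) {u x y : Vec} (hx : x ∈ W) (hy : y ∈ U) (hxy : u = x + y)
    (hc : B x y ≠ 0) (hu : u ∈ Symp.centres M) : ∃ w ∈ U, w ≠ 0 ∧ w ∈ Symp.centres M := by
  have hm := h.hm
  have hy0 : y ≠ 0 := fun e => hc (by rw [e, map_zero])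
  obtain ⟨a₁, ha₁, ha₁x, -⟩ := exists_ne_line (V := W) (![] : Fin 0 → (Vec →ₗ[F] F)) (y := x) (by rw [h.hW]; omega)
  obtain ⟨a, ha, hax, hay⟩ : ∃ a ∈ W, a ∉ Submodule.span F {x} ∧ B y a ≠ 0 := by
    by_cases h1 : B y a₁ = 0
    · refine ⟨a₁ + x, W.add_mem ha₁ hx, fun hm' => ha₁x ?_, ?_⟩
      · simpa using Submodule.sub_mem _ hm' (Submodule.mem_span_singleton_self x)
      · rw [map_add, h1, zero_add]; exact fun e => hc (swap0 e)
    · exact ⟨a₁, ha₁, ha₁x, h1⟩
  obtain ⟨w, hw, hwa, hwx⟩ : ∃ w ∈ U, B w a = 0 ∧ B w x ≠ 0 := h.symm.exists_dual hx ha fun hm' => by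
    obtain ⟨t, ht⟩ := Submodule.mem_span_singleton.1 hm'
    rcases eq_or_ne t 0 with rfl | ht0
    · exact hc (by rw [← ht, zero_smul, map_zero, LinearMap.zero_apply])
    · exact hax (Submodule.mem_span_singleton.2 ⟨t⁻¹, by rw [← ht, inv_smul_smul₀ ht0]⟩)
  -- a centre on the quadric
  obtain ⟨-, s, hs, hsx⟩ := h.hSg a ha w hw hwa
  have h1 := Symp.centres_map (h.hMK hs) hs hu
  rw [hsx] at h1
  have hua : B u a = B y a := by rw [hxy, map_add, LinearMap.add_apply, h.hWW x hx a ha, zero_add]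
  have huw : B u w = B x w := by rw [hxy, map_add, LinearMap.add_apply, h.hUU y hy w hw, add_zero]
  rw [hua, huw] at h1
  set d := B x w • a with hd
  set e := B y a • w with he
  have hxw : B x w ≠ 0 := fun e0 => hwx (swap0 e0)
  have hde : d + e ∈ Symp.centres M := by
    have h2 := centres_plane h1 hu (by
      rw [map_add, LinearMap.add_apply, map_add, LinearMap.add_apply, Symp.B_self, zero_add]
      simp only [hd, he, hxy, map_smul, map_add, LinearMap.smul_apply, h.hUU w hw y hy, h.hWW a ha x hx, smul_eq_mul,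
        add_zero, zero_add]
      rw [Symp.B_swap x w, Symp.B_swap y a]
      intro e0
      exact mul_ne_zero (mul_ne_zero h.h2 hxw) hay (by linear_combination -e0)) (-1)
    rwa [show u + B y a • w + B x w • a + (-1 : F) • u = d + e by rw [hd, he]; module] at h2
  -- move its first part onto the line of `x`
  obtain ⟨w₂, hw₂, hw₂x, hw₂a⟩ := h.symm.exists_dual ha hx hax
  obtain ⟨-, s', hs', hs'x⟩ := h.hSg x hx w₂ hw₂ hw₂x
  have h3 := Symp.centres_map (h.hMK hs') hs' hde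
  rw [hs'x] at h3
  have hex : B (d + e) x = B y a * B w x := by
    simp [hd, he, h.hWW a ha x hx]
  have hdw : B (d + e) w₂ = B x w * B a w₂ := by
    simp [hd, he, h.hUU w hw w₂ hw₂]
  rw [hex, hdw] at h3
  have haw : B a w₂ ≠ 0 := fun e0 => hw₂a (swap0 e0)
  have h4 := centres_plane h3 hde (by
    rw [add_assoc (d + e) _ _, map_add (B) (d + e), LinearMap.add_apply, Symp.B_self, zero_add]
    simp only [hd, he, map_smul, map_add, LinearMap.add_apply, LinearMap.smul_apply, h.hUU w₂ hw₂ w hw, h.hWW x hx a ha, smul_eq_mul,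
      mul_zero, add_zero, zero_add]
    rw [Symp.B_swap a w₂, Symp.B_swap x w]
    intro e0
    exact mul_ne_zero (mul_ne_zero (mul_ne_zero (mul_ne_zero h.h2 hxw) hay) haw) hxw (by linear_combination e0)) (-1)
  rw [show d + e + (B y a * B w x) • w₂ + (B x w * B a w₂) • x + (-1 : F) • (d + e) =
    (B x w * B a w₂) • x + (B y a * B w x) • w₂ by module] at h4
  have h5 := Symp.centres_smul (B x w * B a w₂)⁻¹ h4
  rw [smul_add, inv_smul_smul₀ (mul_ne_zero hxw haw), smul_smul] at h5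
  set w₃ := ((B x w * B a w₂)⁻¹ * (B y a * B w x)) • w₂ with hw₃
  have hxw₃ : B x w₃ = 0 := by rw [hw₃, map_smul, swap0 hw₂x, smul_zero]
  have hw₃U : w₃ ∈ U := U.smul_mem _ hw₂
  have h6 := centres_plane hu h5 (by
    simp only [hxy, map_add, LinearMap.add_apply, Symp.B_self, hxw₃, h.hUU y hy w₃ hw₃U, add_zero, zero_add]
    exact fun e0 => hc (swap0 e0)) (-1)
  rw [hxy, show x + y + (-1 : F) • (x + w₃) = y - w₃ by module] at h6
  exact ⟨y - w₃, U.sub_mem hy hw₃U, fun e0 => hc (by rw [sub_eq_zero.1 e0, hxw₃]), h6⟩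

theorem Pair.class_swap (h : Pair M W U) {x y p p' : Vec} (hx : x ∈ W) (hy : y ∈ U) (hp : p ∈ W) (hp' : p' ∈ U)
    (ho : B (x + y) (p + p') = 0) : B x p' = B p y := by
  rw [map_add, map_add, LinearMap.add_apply, LinearMap.add_apply, h.hWW x hx p hp, h.hUU y hy p' hp', zero_add,
    add_zero, Symp.B_swap p y] at ho
  linear_combination ho

/-- a mixed image off the quadric gives a centre -/
theorem Pair.exists_centre_off (h : Pair M W U) (h3 : 3 ≤ m) {u x y V p p' : Vec} (hx : x ∈ W) (hy : y ∈ U) (hxy : u = x + y)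
    (hc : B x y ≠ 0) (hVs : ∀ t : F, SgS M u (t • V)) (hp : p ∈ W) (hp' : p' ∈ U) (hpp : V = p + p')
    (hp'y : p' ∉ Submodule.span F {y}) :
    ∃ w ∈ U, w ≠ 0 ∧ w ∈ Symp.centres M := by
  have hm := h.hm
  have hy0 : y ≠ 0 := fun e => hc (by rw [e, map_zero])
  obtain ⟨z, hz, hzy, hzp⟩ := h.exists_dual hp' hy hp'y
  obtain ⟨w, hw, hw0, hwf⟩ := exists_ne_zero_ker ![(B).flip x, (B).flip z] (V := U) (by rw [h.hU]; omega)
  have hwx : B w x = 0 := hwf 0
  have hwz : B w z = 0 := hwf 1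
  have hwy : w ∉ Submodule.span F {y} := fun hm' => by
    obtain ⟨t, rfl⟩ := Submodule.mem_span_singleton.1 hm'
    rw [map_smul, LinearMap.smul_apply, smul_eq_zero] at hwx
    rcases hwx with rfl | hwx
    · exact hw0 (zero_smul _ _)
    · exact hc (swap0 hwx)
  have hV1 : SgS M u V := by simpa using hVs 1
  have hκ0 : B V z ≠ 0 := by
    rw [hpp, map_add, LinearMap.add_apply, h.hWW p hp z hz, zero_add]
    exact fun e => hzp (swap0 e)
  by_cases hwV : B w V = 0
  · exact ⟨w, hw, hw0, h.core hx hy hxy hy0 hV1 hz hzy hκ0 hw hwy hwx hwz hwV⟩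
  refine h.centre_of_mixed hx hy hxy hc fun c => ?_
  obtain ⟨-, s, hs, hsx⟩ := h.hSg z hz w hw hwz
  have hsu : (s : Matrix Idx Idx F) *ᵥ u = u := by
    rw [hsx, hxy]
    simp [h.hWW x hx z hz, swap0 hzy, swap0 hwx, h.hUU y hy w hw]
  have h1 := sgS_map h.hMK hV1 hs
  rw [hsu, hsx] at h1
  have e : B (V + B V z • w + B V w • z) V = 2 * (B V z * B w V) := by
    simp only [map_add, map_smul, LinearMap.add_apply, LinearMap.smul_apply, Symp.B_self, smul_eq_mul, Symp.B_swap V z,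
      Symp.B_swap w V, zero_add]
    ring
  have h3 := sgS_comm (hVs (c / (2 * (2 * (B V z * B w V))))) h1
  rw [map_smul, smul_eq_mul, e] at h3
  have := h.h2
  have hcc : 2 * (c / (2 * (2 * (B V z * B w V))) * (2 * (B V z * B w V))) = c := by field_simp
  rwa [hcc] at h3

/-- a mixed image with non-degenerate plane gives a centre -/
theorem Pair.exists_centre_det (h : Pair M W U) (h3 : 3 ≤ m) {u x y V p p' : Vec} (hx : x ∈ W) (hy : y ∈ U) (hxy : u = x + y)
    (hy0 : y ≠ 0) (hVs : SgS M u V) (hp : p ∈ W) (hp' : p' ∈ U) (hpp : V = p + p') (ho : B u V = 0)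
    (hdet : B x y * B p p' - B p y * B p y ≠ 0) : ∃ w ∈ U, w ≠ 0 ∧ w ∈ Symp.centres M := by
  have hm := h.hm
  obtain ⟨w, hw, hw0, hwf⟩ := exists_ne_zero_ker ![(B).flip x, (B).flip p] (V := U) (by rw [h.hU]; omega)
  have hwx : B w x = 0 := hwf 0
  have hwp : B w p = 0 := hwf 1
  subst hxy hpp
  have hcl := h.class_swap hx hy hp hp' ho
  set z := B x y • p - B p y • x with hz
  refine ⟨w, hw, hw0, h.core hx hy rfl hy0 hVs (z := z) (W.sub_mem (W.smul_mem _ hp) (W.smul_mem _ hx)) ?_ ?_ hw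
    (fun hm' => ?_) hwx (by simp [hz, hwx, hwp]) (by rw [map_add, hwp, h.hUU w hw p' hp', add_zero])⟩
  · simp [hz]; ring
  · intro e0
    refine hdet ?_
    simp only [hz, map_add, map_sub, map_smul, LinearMap.add_apply, smul_eq_mul, h.hWW p hp p hp, h.hWW p hp x hx,
      zero_add, Symp.B_swap p p', Symp.B_swap x p'] at e0
    linear_combination -e0 + B p y * hcl
  · obtain ⟨t, rfl⟩ := Submodule.mem_span_singleton.1 hm'
    simp only [map_smul, LinearMap.smul_apply, smul_eq_zero] at hwx hwp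
    rcases hwx with rfl | hwx
    · exact hw0 (zero_smul _ _)
    rcases hwp with rfl | hwp
    · exact hw0 (zero_smul _ _)
    rw [swap0 hwx, swap0 hwp] at hdet
    exact hdet (by ring)

/-- a mixed image gives a centre -/
theorem Pair.exists_centre (h : Pair M W U) (h3 : 3 ≤ m) {a : Vec} (ha : a ∈ W) {g : GLm} (hg : g ∈ M)
    (hW : (g : Matrix Idx Idx F) *ᵥ a ∉ W) (hU : (g : Matrix Idx Idx F) *ᵥ a ∉ U) :
    ∃ w, w ≠ 0 ∧ (w ∈ W ∨ w ∈ U) ∧ w ∈ Symp.centres M := by
  have hm := h.hm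
  by_contra hcon
  have hB := Symp.mem_spGL_iff.1 (h.hMK hg)
  have hsplit : ∀ v : Vec, ∃ p ∈ W, ∃ p' ∈ U, v = p + p' := fun v => by
    obtain ⟨p, hp, p', hp', e⟩ := Submodule.mem_sup.1 (h.hC.sup_eq_top ▸ Submodule.mem_top : v ∈ W ⊔ U)
    exact ⟨p, hp, p', hp', e.symm⟩
  have huniq : ∀ {p p' q q' : Vec}, p ∈ W → p' ∈ U → q ∈ W → q' ∈ U → p + p' = q + q' → p = q ∧ p' = q' := by
    intro p p' q q' hp hp' hq hq' e
    have h0 : p - q = 0 := Submodule.disjoint_def.1 h.hC.disjoint _ (W.sub_mem hp hq) (by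
      rw [show p - q = q' - p' by linear_combination (norm := module) e]; exact U.sub_mem hq' hp')
    exact ⟨sub_eq_zero.1 h0, by rw [sub_eq_zero.1 h0] at e; exact add_left_cancel e⟩
  -- images off the quadric
  have hoff : ∀ {a : Vec}, a ∈ W → ∀ {x y : Vec}, x ∈ W → y ∈ U → (g : Matrix Idx Idx F) *ᵥ a = x + y →
      B x y = 0 := by
    intro a ha x y hx hy hxy
    by_contra hc
    have hx0 : x ≠ 0 := fun e => hc (by rw [e, map_zero, LinearMap.zero_apply])
    have hy0 : y ≠ 0 := fun e => hc (by rw [e, map_zero])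
    obtain ⟨v₀, hv₀, hv₀a, hV⟩ : ∃ v₀ ∈ U, B v₀ a = 0 ∧
        (g : Matrix Idx Idx F) *ᵥ v₀ ∉ Submodule.span F (Set.range ![x, y]) := by
      by_contra hc'
      push Not at hc'
      have hle : Max.img g (U ⊓ LinearMap.ker ((B).flip a)) ≤ Submodule.span F (Set.range ![x, y]) := fun v hv => by
        obtain ⟨v', hv', rfl⟩ := Max.mem_img.1 hv
        exact hc' v' hv'.1 hv'.2
      have h1 := Submodule.finrank_mono hle
      have h2 : Module.finrank F (Submodule.span F (Set.range ![x, y])) ≤ 2 :=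
        (finrank_range_le_card ![x, y]).trans_eq (Fintype.card_fin 2)
      have h3 := Submodule.finrank_sup_add_finrank_inf_eq U (LinearMap.ker ((B).flip a))
      have h4 := Submodule.finrank_le (U ⊔ LinearMap.ker ((B).flip a))
      have h5 := LinearMap.finrank_range_add_finrank_ker ((B).flip a)
      have h6 := Submodule.finrank_le (LinearMap.range ((B).flip a))
      rw [Module.finrank_self] at h6
      rw [h.hU] at h3
      have heq := Submodule.eq_of_le_of_finrank_le hle (by rw [Max.finrank_img] at h1 ⊢; omega)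
      have hu : (g : Matrix Idx Idx F) *ᵥ a ∈ Submodule.span F (Set.range ![x, y]) := by
        rw [hxy]
        exact Submodule.add_mem _ (Submodule.subset_span ⟨0, rfl⟩) (Submodule.subset_span ⟨1, rfl⟩)
      rw [← heq] at hu
      obtain ⟨a', ha', e⟩ := Max.mem_img.1 hu
      have e' := Max.mulVec_inj g e
      subst e'
      rw [Submodule.disjoint_def.1 h.hC.disjoint _ ha ha'.1, mulVec_zero] at hxy
      exact hx0 (huniq hx hy W.zero_mem U.zero_mem (by rw [← hxy, add_zero])).1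
    have hVs : ∀ t : F, SgS M (x + y) (t • (g : Matrix Idx Idx F) *ᵥ v₀) := fun t => by
      rw [← hxy, ← mulVec_smul]
      exact sgS_map h.hMK (h.hSg a ha (t • v₀) (U.smul_mem t hv₀) (by simp [hv₀a])) hg
    obtain ⟨p, hp, p', hp', hpp⟩ := hsplit ((g : Matrix Idx Idx F) *ᵥ v₀)
    by_cases hp'y : p' ∈ Submodule.span F {y}
    · have hpx : p ∉ Submodule.span F {x} := fun hm' => hV (by
        rw [hpp]
        exact Submodule.add_mem _ (Submodule.span_mono (by simp) hm') (Submodule.span_mono (by simp) hp'y))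
      obtain ⟨w, hw, hw0, hwc⟩ := h.symm.exists_centre_off h3 hy hx (add_comm x y) (fun e => hc (swap0 e)) hVs hp' hp
        (by rw [add_comm]; exact hpp) hpx
      exact hcon ⟨w, hw0, Or.inl hw, hwc⟩
    · obtain ⟨w, hw, hw0, hwc⟩ := h.exists_centre_off h3 hx hy rfl hc hVs hp hp' hpp hp'y
      exact hcon ⟨w, hw0, Or.inr hw, hwc⟩
  obtain ⟨x, hx, y, hy, hxy⟩ := hsplit ((g : Matrix Idx Idx F) *ᵥ a)
  have hy0 : y ≠ 0 := fun e => hW (by rw [hxy, e, add_zero]; exact hx)
  have hx0 : x ≠ 0 := fun e => hU (by rw [hxy, e, zero_add]; exact hy)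
  have hc := hoff ha hx hy hxy
  -- the opposite vector is orthogonal to the image of the hyperplane
  have hW' : ∀ a' ∈ W, B (x - y) ((g : Matrix Idx Idx F) *ᵥ a') = 0 := by
    intro a' ha'
    obtain ⟨x', hx', y', hy', hxy'⟩ := hsplit ((g : Matrix Idx Idx F) *ᵥ a')
    have hs := hoff (W.add_mem ha ha') (W.add_mem hx hx') (U.add_mem hy hy') (by
      rw [mulVec_add, hxy, hxy']; abel)
    simp only [map_add, LinearMap.add_apply, hc, hoff ha' hx' hy' hxy', Symp.B_swap y x', zero_add, add_zero] at hs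
    rw [hxy', map_sub, LinearMap.sub_apply, map_add, map_add, h.hWW x hx x' hx', h.hUU y hy y' hy', zero_add, add_zero]
    linear_combination hs
  have hU' : ∀ v ∈ U, B v a = 0 → B (x - y) ((g : Matrix Idx Idx F) *ᵥ v) = 0 := by
    intro v hv hva
    obtain ⟨p, hp, p', hp', hpp⟩ := hsplit ((g : Matrix Idx Idx F) *ᵥ v)
    have ho : B (x + y) ((g : Matrix Idx Idx F) *ᵥ v) = 0 := by rw [← hxy, hB]; exact swap0 hva
    by_contra hne
    rw [hpp] at ho
    have hcl := h.class_swap hx hy hp hp' ho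
    rw [hpp, map_sub, LinearMap.sub_apply, map_add, map_add, h.hWW x hx p hp, h.hUU y hy p' hp', zero_add, add_zero,
      Symp.B_swap p y, hcl, sub_neg_eq_add] at hne
    obtain ⟨w, hw, hw0, hwc⟩ := h.exists_centre_det h3 hx hy rfl hy0
      (by rw [← hxy]; exact sgS_map h.hMK (h.hSg a ha v hv hva) hg) hp hp' hpp (hpp ▸ ho) (by
        rw [hc, zero_mul, zero_sub]
        exact neg_ne_zero.2 (mul_self_ne_zero.2 fun e => hne (by rw [e, add_zero])))
    exact hcon ⟨w, hw0, Or.inr hw, hwc⟩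
  obtain ⟨q, hq⟩ : ∃ q, (g : Matrix Idx Idx F) *ᵥ q = x - y := ⟨_, Max.mulVec_inv_cancel g _⟩
  have hqa : q ∈ Submodule.span F {a} := by
    by_contra hm'
    obtain ⟨v, hv, hqv⟩ := Max.not_mem_perp Symp.nondeg Symp.isRefl hm'
    have hva : B a v = 0 :=
      LinearMap.BilinForm.mem_orthogonal_iff.1 hv a (Submodule.mem_span_singleton_self a)
    obtain ⟨w, hw, u', hu', rfl⟩ := hsplit v
    rw [map_add, h.hWW a ha w hw, zero_add] at hva
    refine hqv ?_
    rw [← hB, hq, mulVec_add, map_add, hW' w hw, hU' u' hu' (swap0 hva), add_zero]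
  obtain ⟨t, rfl⟩ := Submodule.mem_span_singleton.1 hqa
  rw [mulVec_smul, hxy, smul_add, sub_eq_add_neg] at hq
  obtain ⟨e1, e2⟩ := huniq (W.smul_mem t hx) (U.smul_mem t hy) hx (U.neg_mem hy) hq
  have ht : t = 1 := by
    have e3 : (t - 1) • x = 0 := by rw [sub_smul, one_smul, e1, sub_self]
    linear_combination (smul_eq_zero.1 e3).resolve_right hx0
  rw [ht, one_smul] at e2
  have e4 : (2 : F) • y = 0 := by rw [two_smul]; nth_rw 2 [e2]; exact add_neg_cancel y
  exact hy0 ((smul_eq_zero.1 e4).resolve_left h.h2)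

/-- stabilisers of pairs of Lagrangian subspaces are maximal, given centres for moved vectors -/
theorem pair_maximal_of (h2 : (2 : F) ≠ 0) (hm : 2 ≤ m)
    (hcen : ∀ {M : Subgroup GLm} {W U : Submodule F Vec}, Pair M W U →
      (∀ g ∈ Cfsg.spGL m F, Max.img g W = W → Max.img g U = U → g ∈ M) →
      ∀ a ∈ W, ∀ g ∈ M, (g : Matrix Idx Idx F) *ᵥ a ∉ W → (g : Matrix Idx Idx F) *ᵥ a ∉ U →
      ∃ w, w ≠ 0 ∧ (w ∈ W ∨ w ∈ U) ∧ w ∈ Symp.centres M)
    (hfW : Module.finrank F W = m)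
    (hfU : Module.finrank F U = m) (hC : IsCompl W U)
    (hWW : ∀ x ∈ W, ∀ y ∈ W, B x y = 0) (hUU : ∀ x ∈ U, ∀ y ∈ U, B x y = 0)
    (G : Subgroup GLm) (hG : G ≤ Cfsg.spGL m F)
    (hlow : ∀ g ∈ Cfsg.spGL m F,
      ((Max.img g W = W ∧ Max.img g U = U) ∨ (Max.img g W = U ∧ Max.img g U = W)) → g ∈ G)
    (hhigh : ∀ g ∈ G, (Max.img g W = W ∧ Max.img g U = U) ∨ (Max.img g W = U ∧ Max.img g U = W)) :
    Cfsg.Geo.IsMaximalIn (Cfsg.spGL m F) G := by
  classical
  have himg : ∀ (g : GLm) {A C : Submodule F Vec}, Module.finrank F C = Module.finrank F A →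
      (∀ a ∈ A, (g : Matrix Idx Idx F) *ᵥ a ∈ C) → Max.img g A = C := fun g A C hfr h => by
    refine Submodule.eq_of_le_of_finrank_eq (fun v hv => ?_) (by rw [Max.finrank_img, hfr])
    obtain ⟨a, ha, rfl⟩ := Max.mem_img.1 hv
    exact h a ha
  refine isMaximalIn_of hG (fun hle => ?_) fun M hM hMK g hgM hg => ?_
  · -- a transvection with centre in `W`
    obtain ⟨w, hw, hw0, -⟩ := exists_ne_zero_ker (V := W) (![] : Fin 0 → (Vec →ₗ[F] F)) (by omega)
    obtain ⟨u, hu, hwu⟩ : ∃ u ∈ U, B u w ≠ 0 := by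
      by_contra hc
      push Not at hc
      refine hw0 (Symp.nondeg.1 w fun v => ?_)
      obtain ⟨a, ha, b, hb, rfl⟩ := Submodule.mem_sup.1 (hC.sup_eq_top ▸ Submodule.mem_top : v ∈ W ⊔ U)
      rw [map_add, hWW w hw a ha, swap0 (hc b hb), add_zero]
    have hsu : (spTrv w 1 : GLm) *ᵥ u = u + (1 * B u w) • w := Symp.spTrv_apply w 1 u
    have hmem : (spTrv w 1 : GLm) *ᵥ u ∈ Max.img (spTrv w 1) U := Max.mulVec_mem_img hu
    rcases hhigh _ (hle (spTrv_mem w (1 : F))) with ⟨-, e⟩ | ⟨-, e⟩ <;> rw [e, hsu, one_mul] at hmem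
    · have h3 : (B u w) • w ∈ U := by simpa using U.sub_mem hmem hu
      exact smul_ne_zero hwu hw0 (Submodule.disjoint_def.1 hC.disjoint _ (W.smul_mem _ hw) h3)
    · have h3 : u ∈ W := by simpa using W.sub_mem hmem (W.smul_mem (B u w) hw)
      exact hwu (hWW u h3 w hw)
  have hSg : ∀ a ∈ W, ∀ w ∈ U, B w a = 0 → SgS M a w := by
    intro a ha w hw hwa
    obtain ⟨s, hs, hsx⟩ := Symp.exists_siegel a w (swap0 hwa)
    refine ⟨hwa, s, hM (hlow s hs (Or.inl ⟨himg s rfl fun x hx => ?_, himg s rfl fun x hx => ?_⟩)), hsx⟩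
    · rw [hsx, hWW x hx a ha, zero_smul, add_zero]; exact W.add_mem hx (W.smul_mem _ ha)
    · rw [hsx, hUU x hx w hw, zero_smul, add_zero]; exact U.add_mem hx (U.smul_mem _ hw)
  have hP : Pair M W U := ⟨h2, hm, hMK, hfW, hfU, hC, hWW, hUU, hSg⟩
  -- one centre
  obtain ⟨w₀, hw₀0, hw₀, hw₀c⟩ : ∃ w, w ≠ 0 ∧ (w ∈ W ∨ w ∈ U) ∧ w ∈ Symp.centres M := by
    by_contra hcon
    have hA : ∀ a ∈ W, (g : Matrix Idx Idx F) *ᵥ a ∈ W ∨ (g : Matrix Idx Idx F) *ᵥ a ∈ U := fun a ha => by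
      by_contra hc
      push Not at hc
      exact hcon (hcen hP (fun s hs h h' => hM (hlow s hs (Or.inl ⟨h, h'⟩))) a ha g hgM hc.1 hc.2)
    have hB : ∀ a ∈ U, (g : Matrix Idx Idx F) *ᵥ a ∈ W ∨ (g : Matrix Idx Idx F) *ᵥ a ∈ U := fun a ha => by
      by_contra hc
      push Not at hc
      obtain ⟨w, h0, h1, h2⟩ := hcen hP.symm (fun s hs h h' => hM (hlow s hs (Or.inl ⟨h', h⟩))) a ha g hgM
        hc.2 hc.1
      exact hcon ⟨w, h0, h1.symm, h2⟩
    have key : ∀ {A : Submodule F Vec}, Module.finrank F A = m →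
        (∀ a ∈ A, (g : Matrix Idx Idx F) *ᵥ a ∈ W ∨ (g : Matrix Idx Idx F) *ᵥ a ∈ U) →
        Max.img g A = W ∨ Max.img g A = U := fun {A} hA' h => by
      rcases Max.le_or_le_of_forall (S := Max.img g A) (W := W) (U := U) (fun v hv => by
        obtain ⟨a, ha, rfl⟩ := Max.mem_img.1 hv
        exact h a ha) with h1 | h1
      · exact Or.inl (Submodule.eq_of_le_of_finrank_eq h1 (by rw [Max.finrank_img, hA', hfW]))
      · exact Or.inr (Submodule.eq_of_le_of_finrank_eq h1 (by rw [Max.finrank_img, hA', hfU]))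
    have hne : Max.img g W ≠ Max.img g U := fun e => by
      have h0 : W ≤ U := fun a ha => by
        obtain ⟨b, hb, hab⟩ := Max.mem_img.1 (e ▸ Max.mulVec_mem_img (g := g) ha)
        exact Max.mulVec_inj g hab ▸ hb
      have h3 : W = ⊥ := le_bot_iff.1 (hC.disjoint le_rfl h0)
      rw [h3, finrank_bot] at hfW
      omega
    refine hg (hlow g (hMK hgM) ?_)
    rcases key hfW hA with h1 | h1 <;> rcases key hfU hB with h3 | h3
    · exact absurd (h1.trans h3.symm) hne
    · exact Or.inl ⟨h1, h3⟩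
    · exact Or.inr ⟨h1, h3⟩
    · exact absurd (h1.trans h3.symm) hne
  -- transitivity
  have htrans : ∀ {A C : Submodule F Vec}, Pair M A C → ∀ w ∈ C, w ≠ 0 → w ∈ Symp.centres M →
      ∀ w' ∈ C, w' ∈ Symp.centres M := by
    intro A C hAC w hw hw0 hwc w' hw'
    have step : ∀ p ∈ C, ∀ p' ∈ C, p ∉ Submodule.span F {p'} → p' ∉ Submodule.span F {p} →
        p ∈ Symp.centres M → p' ∈ Symp.centres M := by
      intro p hp p' hp' h1 h3 hpc
      obtain ⟨z₁, hz₁, hz₁', hz₁p⟩ := hAC.exists_dual hp hp' h1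
      obtain ⟨z₂, hz₂, hz₂p, hz₂'⟩ := hAC.exists_dual hp' hp h3
      set b := -(B z₁ p)⁻¹ • z₁ + -(B z₂ p')⁻¹ • z₂ with hb
      have hbp : B b p = -1 := by simp [hb, hz₂p, hz₁p]
      have hbp' : B b p' = -1 := by simp [hb, hz₁', hz₂']
      have hpb : B p b = 1 := by rw [Symp.B_swap, hbp, neg_neg]
      have hp'b : B p' b = 1 := by rw [Symp.B_swap, hbp', neg_neg]
      obtain ⟨-, s, hs, hsx⟩ := hAC.hSg b (A.add_mem (A.smul_mem _ hz₁) (A.smul_mem _ hz₂)) (p' - p)
        (C.sub_mem hp' hp) (by rw [map_sub, LinearMap.sub_apply, hp'b, hpb, sub_self])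
      have e : (s : Matrix Idx Idx F) *ᵥ p = p' := by
        rw [hsx, hpb, hAC.hUU p hp _ (C.sub_mem hp' hp), one_smul, zero_smul, add_zero, add_sub_cancel]
      exact e ▸ Symp.centres_map (hMK hs) hs hpc
    by_cases hdep : w' ∈ Submodule.span F {w}
    · obtain ⟨t, rfl⟩ := Submodule.mem_span_singleton.1 hdep
      exact Symp.centres_smul t hwc
    refine step w hw w' hw' (fun hm' => hdep ?_) hdep hwc
    obtain ⟨t, ht⟩ := Submodule.mem_span_singleton.1 hm'
    rcases eq_or_ne t 0 with rfl | ht0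
    · exact absurd (by rw [← ht, zero_smul]) hw0
    · exact Submodule.mem_span_singleton.2 ⟨t⁻¹, by rw [← ht, inv_smul_smul₀ ht0]⟩
  -- the swap
  obtain ⟨sw, hswG, hswW, hswU⟩ : ∃ s ∈ M, Max.img s W = U ∧ Max.img s U = W := by
    let b : Module.Basis (Fin m) F W := Module.finBasisOfFinrankEq F W hfW
    let L : U →ₗ[F] (Fin m → F) := (LinearMap.pi fun i => (B).flip ((b i : W) : Vec)).domRestrict U
    have hL : Function.Injective L := by
      rw [injective_iff_map_eq_zero]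
      intro u hu
      refine Subtype.ext (hP.eq_zero u.2 fun w hw => swap0 ?_)
      have e : w = ((∑ i, (b.repr ⟨w, hw⟩) i • b i : W) : Vec) := by rw [b.sum_repr]
      rw [e, Submodule.coe_sum, map_sum]
      exact Finset.sum_eq_zero fun i _ => by
        rw [Submodule.coe_smul, map_smul, show B (u : Vec) (b i : Vec) = 0 from congrFun hu i, smul_zero]
    have hL' : Function.Surjective L := (LinearMap.injective_iff_surjective_of_finrank_eq_finrank (by
      rw [hfU, Module.finrank_fintype_fun_eq_card, Fintype.card_fin])).1 hL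
    choose c hc using fun i => hL' (Pi.single i 1)
    set β : Fin m → Vec := fun i => (b i : Vec) with hβ
    set γ : Fin m → Vec := fun i => (c i : Vec) with hγ
    have hγβ : ∀ i j, B (γ i) (β j) = (Pi.single i 1 : Fin m → F) j := fun i j => congrFun (hc i) j
    have hβγ : ∀ i j, B (β j) (γ i) = -(Pi.single i 1 : Fin m → F) j := fun i j => by rw [Symp.B_swap, hγβ]
    have hββ : ∀ i j, B (β i) (β j) = 0 := fun i j => hWW _ (b i).2 _ (b j).2
    have hγγ : ∀ i j, B (γ i) (γ j) = 0 := fun i j => hUU _ (c i).2 _ (c j).2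
    have key : ∀ S : Finset (Fin m), ∃ s ∈ Cfsg.spGL m F, ∀ i,
        (i ∈ S → (∃ l : F, (s : Matrix Idx Idx F) *ᵥ β i = l • γ i) ∧ ∃ l : F, (s : Matrix Idx Idx F) *ᵥ γ i = l • β i) ∧
        (i ∉ S → (s : Matrix Idx Idx F) *ᵥ β i = β i ∧ (s : Matrix Idx Idx F) *ᵥ γ i = γ i) := by
      intro S
      induction S using Finset.induction with
      | empty => exact ⟨1, one_mem _, fun i => ⟨fun h => absurd h (Finset.notMem_empty i), fun _ => by simp⟩⟩
      | @insert j S hj ih =>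
        obtain ⟨s, hs, hsi⟩ := ih
        set t : GLm := spTrv (β j) 1
        set t' : GLm := spTrv (γ j) 1
        have htx : ∀ x, (t : Matrix Idx Idx F) *ᵥ x = x + (1 * B x (β j)) • β j := Symp.spTrv_apply _ _
        have htx' : ∀ x, (t' : Matrix Idx Idx F) *ᵥ x = x + (1 * B x (γ j)) • γ j := Symp.spTrv_apply _ _
        have hb : ∀ i, (i = j → ((t * t' * t : GLm) : Matrix Idx Idx F) *ᵥ β i = (-1 : F) • γ i ∧
              ((t * t' * t : GLm) : Matrix Idx Idx F) *ᵥ γ i = (1 : F) • β i) ∧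
            (i ≠ j → ((t * t' * t : GLm) : Matrix Idx Idx F) *ᵥ β i = β i ∧
              ((t * t' * t : GLm) : Matrix Idx Idx F) *ᵥ γ i = γ i) := by
          intro i
          constructor
          · rintro rfl
            constructor <;>
              simp only [Max.mulVec_mul_GL, htx, htx', map_add, map_smul, LinearMap.add_apply, LinearMap.smul_apply,
                hββ, hγγ, hγβ, hβγ, Pi.single_eq_same, smul_eq_mul, mul_zero, mul_one, one_mul, zero_smul, add_zero,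
                zero_add] <;>
              module
          · intro hne
            simp only [Max.mulVec_mul_GL, htx, htx', hββ, hγγ, hγβ, hβγ, Pi.single_eq_of_ne hne,
              Pi.single_eq_of_ne hne.symm, neg_zero, mul_zero, zero_smul, add_zero, and_self]
        refine ⟨t * t' * t * s, mul_mem (mul_mem (mul_mem (spTrv_mem _ _) (spTrv_mem _ _)) (spTrv_mem _ _)) hs,
          fun i => ⟨fun hi => ?_, fun hi => ?_⟩⟩
        · rcases Finset.mem_insert.1 hi with rfl | hi'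
          · obtain ⟨h1, h3⟩ := (hsi i).2 hj
            rw [Max.mulVec_mul_GL, Max.mulVec_mul_GL (g := t * t' * t), h1, h3]
            exact ⟨⟨_, ((hb i).1 rfl).1⟩, ⟨_, ((hb i).1 rfl).2⟩⟩
          · obtain ⟨⟨l, h1⟩, ⟨l', h3⟩⟩ := (hsi i).1 hi'
            have hne : i ≠ j := fun e => hj (e ▸ hi')
            rw [Max.mulVec_mul_GL, Max.mulVec_mul_GL (g := t * t' * t), h1, h3, mulVec_smul, mulVec_smul,
              ((hb i).2 hne).1, ((hb i).2 hne).2]
            exact ⟨⟨l, rfl⟩, ⟨l', rfl⟩⟩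
        · rw [Finset.mem_insert, not_or] at hi
          obtain ⟨h1, h3⟩ := (hsi i).2 hi.2
          rw [Max.mulVec_mul_GL, Max.mulVec_mul_GL (g := t * t' * t), h1, h3]
          exact (hb i).2 hi.1
    obtain ⟨s, hs, hsi⟩ := key Finset.univ
    have hWU : Max.img s W = U := himg s (by rw [hfU, hfW]) fun w hw => by
      have e : w = ((∑ i, (b.repr ⟨w, hw⟩) i • b i : W) : Vec) := by rw [b.sum_repr]
      rw [e, Submodule.coe_sum, mulVec_sum]
      refine U.sum_mem fun i _ => ?_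
      rw [Submodule.coe_smul, mulVec_smul]
      obtain ⟨l, hl⟩ := ((hsi i).1 (Finset.mem_univ i)).1
      rw [show ((b i : W) : Vec) = β i from rfl, hl]
      exact U.smul_mem _ (U.smul_mem _ (c i).2)
    have hUW : Max.img s U = W := himg s (by rw [hfU, hfW]) fun u hu => by
      have e : u = ∑ i, L ⟨u, hu⟩ i • γ i := by
        have h1 : (⟨u, hu⟩ : U) = ∑ i, L ⟨u, hu⟩ i • c i := hL (by
          simp only [map_sum, map_smul, hc]
          exact pi_eq_sum_univ' _)
        have h3 := congrArg Subtype.val h1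
        simpa [hγ] using h3
      rw [e, mulVec_sum]
      refine W.sum_mem fun i _ => ?_
      rw [mulVec_smul]
      obtain ⟨l, hl⟩ := ((hsi i).1 (Finset.mem_univ i)).2
      rw [hl]
      exact W.smul_mem _ (W.smul_mem _ (b i).2)
    exact ⟨s, hM (hlow s hs (Or.inr ⟨hWU, hUW⟩)), hWU, hUW⟩
  have hboth : (∀ w ∈ W, w ∈ Symp.centres M) ∧ ∀ w ∈ U, w ∈ Symp.centres M := by
    have hmove : ∀ {A C : Submodule F Vec}, Max.img sw A = C → (∀ w ∈ A, w ∈ Symp.centres M) →
        ∀ w ∈ C, w ∈ Symp.centres M := fun {A C} e h w hw => by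
      rw [← e] at hw
      obtain ⟨a, ha, rfl⟩ := Max.mem_img.1 hw
      exact Symp.centres_map (hMK hswG) hswG (h a ha)
    rcases hw₀ with h | h
    · exact ⟨htrans hP.symm w₀ h hw₀0 hw₀c, hmove hswW (htrans hP.symm w₀ h hw₀0 hw₀c)⟩
    · exact ⟨hmove hswU (htrans hP w₀ h hw₀0 hw₀c), htrans hP w₀ h hw₀0 hw₀c⟩
  -- every vector
  refine Symp.spGL_le_of_centres fun v => ?_
  obtain ⟨x, hx, y, hy, rfl⟩ := Submodule.mem_sup.1 (hC.sup_eq_top ▸ Submodule.mem_top : v ∈ W ⊔ U)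
  have key : ∀ y ∈ U, ∀ z : Vec, z ∈ Symp.centres M → ∀ η : F,
      z + (η * B z y) • y ∈ Symp.centres M := fun y hy z hz η => by
    have := Symp.centres_map (spTrv_mem y η) (hboth.2 y hy η) hz
    rwa [Symp.spTrv_apply] at this
  have hsk : ∀ y ∈ U, B x y ≠ 0 → x + y ∈ Symp.centres M := fun y hy hne => by
    have := key y hy x (hboth.1 x hx) (B x y)⁻¹
    rwa [inv_mul_cancel₀ hne, one_smul] at this
  by_cases hxy : B x y = 0
  swap
  · exact hsk y hy hxy
  rcases eq_or_ne x 0 with rfl | hx0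
  · rw [zero_add]; exact hboth.2 y hy
  obtain ⟨e, he, hxe⟩ := hP.exists_pairing hx hx0
  have hz := hsk e he (by rw [hxe]; exact one_ne_zero)
  have h3 := key (y - e) (U.sub_mem hy he) _ hz (-1)
  rw [map_add, LinearMap.add_apply, map_sub, map_sub, hxy, hxe, hUU e he y hy, hUU e he e he] at h3
  simp only [sub_self, add_zero, zero_sub, neg_mul_neg, mul_one, one_smul] at h3
  rwa [add_add_sub_cancel] at h3

/-- stabilisers of pairs of Lagrangian subspaces are maximal -/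
theorem pair_maximal (h2 : (2 : F) ≠ 0) (hm : 3 ≤ m) (hfW : Module.finrank F W = m)
    (hfU : Module.finrank F U = m) (hC : IsCompl W U)
    (hWW : ∀ x ∈ W, ∀ y ∈ W, B x y = 0) (hUU : ∀ x ∈ U, ∀ y ∈ U, B x y = 0)
    (G : Subgroup GLm) (hG : G ≤ Cfsg.spGL m F)
    (hlow : ∀ g ∈ Cfsg.spGL m F,
      ((Max.img g W = W ∧ Max.img g U = U) ∨ (Max.img g W = U ∧ Max.img g U = W)) → g ∈ G)
    (hhigh : ∀ g ∈ G, (Max.img g W = W ∧ Max.img g U = U) ∨ (Max.img g W = U ∧ Max.img g U = W)) :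
    Cfsg.Geo.IsMaximalIn (Cfsg.spGL m F) G :=
  pair_maximal_of h2 (by omega) (fun hP _ _ ha _ hg hW hU => hP.exists_centre hm ha hg hW hU)
    hfW hfU hC hWW hUU G hG hlow hhigh

end Cfsg.Agent.Forms.Max.SympPair
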