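import Mathlib
import Cfsg.Agent.Lib.Forms.Max.Symp
import Cfsg.Agent.Lib.Forms.Max.SubfieldLinear

/-!
# Subfield groups in the symplectic group
-/

set_option autoImplicit false
set_option linter.unusedSectionVars false

namespace Cfsg.Agent.Forms.Max.SubfieldSymp

open Matrix Cfsg.Agent.Aschbacher Cfsg.Agent.Forms.SympStd

variable {F : Type*} [Field F] [Fintype F] {m : ℕ}

local notation "Idx" => (Fin m ⊕ Fin m)
local notation "Vec" => (Fin m ⊕ Fin m → F)
local notation "GLm" => GL (Fin m ⊕ Fin m) F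

/-- the data of a rational structure of the form -/
structure Data (F : Type*) [Field F] (m : ℕ) where
  F₀ : Subfield F
  P : GL (Fin m ⊕ Fin m) F
  ζ : F
  hζ : ζ ≠ 0
  hP : Cfsg.Geo.IsFormRationalStructure (Cfsg.sympForm m F) F₀ ζ P

variable (D : Data F m)

/-- a rational vector -/
def rv (a : Idx → D.F₀) : Vec := (D.P : Matrix Idx Idx F) *ᵥ SubfieldLinear.ic D.F₀ a

/-- the scaled form -/
noncomputable def Bz : LinearMap.BilinForm F Vec := D.ζ • sympB m F

/-- the transvection of the scaled form -/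
noncomputable def T (v : Vec) (c : F) : GLm := spTrv v (c * D.ζ)

local notation "B" => Bz D

theorem B_self (v : Vec) : B v v = 0 := by simp [Bz, Symp.B_self]

theorem B_swap (u v : Vec) : B v u = -B u v := by simp [Bz, Symp.B_swap u v]

theorem T_apply (v : Vec) (c : F) (x : Vec) :
    (T D v c : Matrix Idx Idx F) *ᵥ x = x + (c * B x v) • v := by
  rw [T, Symp.spTrv_apply]
  simp [Bz, mul_assoc]

theorem T_mem (v : Vec) (c : F) : T D v c ∈ Cfsg.spGL m F := spTrv_mem v _

theorem T_smul (k : F) (v : Vec) (c : F) : T D (k • v) c = T D v (c * (k * k)) := gl_ext fun x => by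
  simp only [T_apply, map_smul, smul_eq_mul, smul_smul]
  ring_nf

theorem T_add (v : Vec) (c d : F) : T D v (c + d) = T D v c * T D v d := gl_ext fun x => by
  simp only [mulVec_mul_GL, T_apply, map_add, map_smul, LinearMap.add_apply, LinearMap.smul_apply,
    B_self, smul_eq_mul, mul_zero, add_zero]
  module

theorem T_zero (v : Vec) : T D v 0 = 1 := gl_ext fun x => by simp [T_apply]

theorem T_inv (v : Vec) (c : F) : (T D v c)⁻¹ = T D v (-c) :=
  inv_eq_of_mul_eq_one_right (by rw [← T_add, add_neg_cancel, T_zero])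

theorem B_iso {g : GLm} (hg : g ∈ Cfsg.spGL m F) (u v : Vec) :
    B ((g : Matrix Idx Idx F) *ᵥ u) ((g : Matrix Idx Idx F) *ᵥ v) = B u v := by
  simp [Bz, Symp.mem_spGL_iff.1 hg u v]

theorem T_conj {g : GLm} (hg : g ∈ Cfsg.spGL m F) (v : Vec) (c : F) :
    g * T D v c * g⁻¹ = T D ((g : Matrix Idx Idx F) *ᵥ v) c := by
  rw [mul_inv_eq_iff_eq_mul]
  refine gl_ext fun x => ?_
  rw [mulVec_mul_GL, mulVec_mul_GL, T_apply, T_apply, mulVec_add, mulVec_smul, B_iso D hg]

/-- the cube identity -/
theorem T_cube {a b c : Vec} (hab : B a b = 0) (hac : B a c = 0) (hbc : B b c = 0) (t : F) :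
    T D (a + b + c) t * T D a t * T D b t * T D c t = T D (a + b) t * T D (a + c) t * T D (b + c) t := by
  have hba : B b a = 0 := by rw [B_swap, hab, neg_zero]
  have hca : B c a = 0 := by rw [B_swap, hac, neg_zero]
  have hcb : B c b = 0 := by rw [B_swap, hbc, neg_zero]
  refine gl_ext fun x => ?_
  simp only [mulVec_mul_GL, T_apply, map_add, map_smul, LinearMap.add_apply, LinearMap.smul_apply, B_self,
    hab, hac, hbc, hba, hca, hcb, smul_eq_mul, mul_zero, add_zero]
  module

theorem rv_add (a b : Idx → D.F₀) : rv D (a + b) = rv D a + rv D b := by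
  rw [rv, rv, rv, ← mulVec_add]; rfl

theorem rv_smul (t : D.F₀) (a : Idx → D.F₀) : rv D (t • a) = (t : F) • rv D a := by
  rw [rv, rv, SubfieldLinear.ic_smul, mulVec_smul]

theorem rv_zero : rv D 0 = 0 := by
  rw [rv, show SubfieldLinear.ic D.F₀ (0 : Idx → D.F₀) = 0 from rfl, mulVec_zero]

theorem rv_eq_zero {a : Idx → D.F₀} (h : rv D a = 0) : a = 0 := by
  by_contra hne
  exact mulVec_ne_zero D.P (SubfieldLinear.ic_ne_zero hne) h

theorem B_rat (a b : Idx → D.F₀) : B (rv D a) (rv D b) ∈ D.F₀ := by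
  simp only [Bz, LinearMap.smul_apply, smul_eq_mul, sympB_apply]
  exact D.hP _ _ (fun i => (a i).2) (fun i => (b i).2)

/-- the rational form -/
noncomputable def B0 : LinearMap.BilinForm D.F₀ (Idx → D.F₀) :=
  LinearMap.mk₂ D.F₀ (fun a b => (⟨B (rv D a) (rv D b), B_rat D a b⟩ : D.F₀))
    (fun a a' b => Subtype.ext (by simp [rv_add]))
    (fun t a b => Subtype.ext (by simp [rv_smul]))
    (fun a b b' => Subtype.ext (by simp [rv_add]))
    (fun t a b => Subtype.ext (by simp [rv_smul]))

theorem B_rv (a b : Idx → D.F₀) : B (rv D a) (rv D b) = ((B0 D a b : D.F₀) : F) := rfl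

theorem ext_rat {w : Vec} (h : ∀ a : Idx → D.F₀, B w (rv D a) = 0) : w = 0 := by
  refine (Symp.nondeg (m := m) (F := F)).1 w fun x => ?_
  have hP : ∀ i, sympB m F w ((D.P : Matrix Idx Idx F) *ᵥ Pi.single i 1) = 0 := fun i => by
    have := h (Pi.single i 1)
    rw [rv, SubfieldLinear.ic_single] at this
    simpa [Bz, D.hζ] using this
  rw [← mulVec_inv_cancel D.P x]
  set y := ((D.P⁻¹ : GLm) : Matrix Idx Idx F) *ᵥ x
  rw [pi_eq_sum_univ' y, mulVec_sum, map_sum]
  exact Finset.sum_eq_zero fun i _ => by rw [mulVec_smul, map_smul, hP, smul_zero]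

theorem B0_nondeg : (B0 D).Nondegenerate := by
  have hl : ∀ a, (∀ b, B0 D a b = 0) → a = 0 := fun a h =>
    rv_eq_zero D (ext_rat D fun b => by rw [B_rv, h b]; rfl)
  exact ⟨hl, fun b h => hl b fun a => Subtype.ext (by
    show B (rv D b) (rv D a) = 0
    rw [B_swap, B_rv, h a]; simp)⟩

theorem B0_self (a : Idx → D.F₀) : B0 D a a = 0 := Subtype.ext (B_self D _)

theorem B0_swap (a b : Idx → D.F₀) : B0 D b a = -B0 D a b := Subtype.ext (B_swap D _ _)

theorem exists_value {a : Idx → D.F₀} {S : Submodule D.F₀ (Idx → D.F₀)} (h : a ∉ S) :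
    ∃ e, (∀ s ∈ S, B0 D s e = 0) ∧ B0 D a e = 1 := by
  have hr : (B0 D).IsRefl := fun x y h => by rw [B0_swap, h, neg_zero]
  obtain ⟨y, hy, hay⟩ := Max.not_mem_perp (B0_nondeg D) hr h
  refine ⟨(B0 D a y)⁻¹ • y, fun s hs => ?_, by rw [map_smul, smul_eq_mul, inv_mul_cancel₀ hay]⟩
  rw [map_smul, LinearMap.BilinForm.mem_orthogonal_iff.1 hy s hs, smul_zero]

/-- not a scalar multiple of a rational vector -/
def Irr (v : Vec) : Prop := ∀ (k : F) (a : Idx → D.F₀), v ≠ k • rv D a

/-- the root group with rational parameters -/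
def RT (M : Subgroup GLm) (v : Vec) : Prop := ∀ t : D.F₀, T D v (t : F) ∈ M

variable {D}

theorem RT.map {M : Subgroup GLm} (hMK : M ≤ Cfsg.spGL m F) {v : Vec} (h : RT D M v) {g : GLm} (hg : g ∈ M) :
    RT D M ((g : Matrix Idx Idx F) *ᵥ v) := fun t => by
  rw [← T_conj D (hMK hg)]
  exact mul_mem (mul_mem hg (h t)) (inv_mem hg)

variable (D) in
/-- the short root element on an isotropic pair, in characteristic two -/
noncomputable def Sg (u w : Vec) (s : F) : GLm := T D (u + s • w) 1 * T D u 1 * T D w (s * s)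

theorem Sg_apply (h2 : (2 : F) = 0) {u w : Vec} (huw : B u w = 0) (s : F) (x : Vec) :
    (Sg D u w s : Matrix Idx Idx F) *ᵥ x = x + (s * B x u) • w + (s * B x w) • u := by
  have hwu : B w u = 0 := by rw [B_swap, huw, neg_zero]
  simp only [Sg, mulVec_mul_GL, T_apply, map_add, map_smul, LinearMap.add_apply, LinearMap.smul_apply, B_self, huw,
    hwu, smul_eq_mul, mul_zero, add_zero]
  match_scalars <;> first | ring1 | linear_combination (B x u) * h2 | linear_combination (s * s * B x w) * h2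

theorem Sg_conj {g : GLm} (hg : g ∈ Cfsg.spGL m F) (u w : Vec) (s : F) :
    g * Sg D u w s * g⁻¹ = Sg D ((g : Matrix Idx Idx F) *ᵥ u) ((g : Matrix Idx Idx F) *ᵥ w) s := by
  simp only [Sg, ← T_conj D hg, ← mulVec_smul, ← mulVec_add]
  group

theorem two_eq_zero₀ (h2 : (2 : F) = 0) : (2 : D.F₀) = 0 := Subtype.ext (by push_cast; exact h2)

theorem B0_symm (h2 : (2 : F) = 0) (a b : Idx → D.F₀) : B0 D b a = B0 D a b := by
  rw [B0_swap D a b, neg_eq_iff_add_eq_zero, ← two_mul, two_eq_zero₀ h2, zero_mul]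

theorem sg_rat_mem {M : Subgroup GLm} (hM : ∀ a : Idx → D.F₀, RT D M (rv D a)) (u w : Idx → D.F₀) :
    Sg D (rv D u) (rv D w) 1 ∈ M := by
  rw [Sg, one_smul, one_mul, ← rv_add]
  exact mul_mem (mul_mem (by simpa using hM (u + w) 1) (by simpa using hM u 1)) (by simpa using hM w 1)

/-- from a short root element to a long one -/
theorem sg_square {M : Subgroup GLm} (hMK : M ≤ Cfsg.spGL m F) (hM : ∀ a : Idx → D.F₀, RT D M (rv D a))
    (h2 : (2 : F) = 0) {a d : Idx → D.F₀} (had : B0 D d a = 0) (hd : d ∉ Submodule.span D.F₀ {a}) {b : F}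
    (h : Sg D (rv D d) (rv D a) b ∈ M) : T D (rv D a) (b * b) ∈ M := by
  obtain ⟨e, he, hde⟩ := exists_value D hd
  have hae : B0 D a e = 0 := he a (Submodule.mem_span_singleton_self a)
  have k1 : B (rv D d) (rv D a) = 0 := by rw [B_rv, had]; rfl
  have k2 : B (rv D e) (rv D d) = 1 := by rw [B_rv, B0_symm h2, hde]; rfl
  have k3 : B (rv D e) (rv D a) = 0 := by rw [B_rv, B0_symm h2, hae]; rfl
  have k4 : B (rv D d) (rv D e) = 1 := by rw [B_rv, hde]; rfl
  have k5 : B (rv D a) (rv D e) = 0 := by rw [B_rv, hae]; rfl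
  have h1 : T D (rv D e + b • rv D a) 1 ∈ M := by
    have hc := mul_mem (mul_mem h (show T D (rv D e) 1 ∈ M by simpa using hM e 1)) (inv_mem h)
    rw [T_conj D (hMK h), Sg_apply h2 k1, k2, k3, mul_one, mul_zero, zero_smul, add_zero] at hc
    exact hc
  have hg : T D (rv D (d + e)) 1 ∈ M := by simpa using hM (d + e) 1
  have h3 : Sg D (rv D e) (rv D a) b ∈ M := by
    have hc := mul_mem (mul_mem hg h) (inv_mem hg)
    have eA : ((T D (rv D (d + e)) 1 : GLm) : Matrix Idx Idx F) *ᵥ rv D a = rv D a := by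
      rw [T_apply, rv_add, map_add, B_swap D (rv D d) (rv D a), k1, k5]; simp
    have eD : ((T D (rv D (d + e)) 1 : GLm) : Matrix Idx Idx F) *ᵥ rv D d = rv D e := by
      rw [T_apply, rv_add, map_add, B_self, k4]
      match_scalars <;> first | ring1 | linear_combination h2
    rwa [Sg_conj (hMK hg), eA, eD] at hc
  exact (M.mul_mem_cancel_left (mul_mem h1 (show T D (rv D e) 1 ∈ M by simpa using hM e 1))).1 h3

/-- short root elements from three shifted transvections -/
theorem sg_of_shift {M : Subgroup GLm} (hMK : M ≤ Cfsg.spGL m F) (hM : ∀ a : Idx → D.F₀, RT D M (rv D a))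
    (h2 : (2 : F) = 0) {a d : Idx → D.F₀} (had : B0 D d a = 0) (hd : d ∉ Submodule.span D.F₀ {a}) (ha : a ≠ 0)
    {k l : F} (h : T D (rv D d + k • rv D a) l ∈ M) (hl : T D (rv D (d + a)) l ∈ M) :
    Sg D (rv D d) (rv D a) (l * (k + k * k)) ∈ M := by
  have hd0 : d ≠ 0 := fun e => hd (e ▸ zero_mem _)
  have ha' : a ∉ Submodule.span D.F₀ {d} := fun hm => by
    obtain ⟨t, rfl⟩ := Submodule.mem_span_singleton.1 hm
    rcases eq_or_ne t 0 with rfl | ht
    · exact ha (zero_smul _ _)
    · exact hd (Submodule.mem_span_singleton.2 ⟨t⁻¹, inv_smul_smul₀ ht d⟩)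
  obtain ⟨e, he, hde⟩ := exists_value D hd
  obtain ⟨f, hf, haf⟩ := exists_value D ha'
  have k1 : B (rv D d) (rv D a) = 0 := by rw [B_rv, had]; rfl
  have k1' : B (rv D a) (rv D d) = 0 := by rw [B_swap, k1, neg_zero]
  have k2 : B (rv D d) (rv D e) = 1 := by rw [B_rv, hde]; rfl
  have k3 : B (rv D a) (rv D e) = 0 := by rw [B_rv, he a (Submodule.mem_span_singleton_self a)]; rfl
  have k4 : B (rv D a) (rv D f) = 1 := by rw [B_rv, haf]; rfl
  have k5 : B (rv D d) (rv D f) = 0 := by rw [B_rv, hf d (Submodule.mem_span_singleton_self d)]; rfl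
  have hfd : B (rv D f) (rv D d) = 0 := by rw [B_swap, k5, neg_zero]
  have hea : B (rv D e) (rv D a) = 0 := by rw [B_swap, k3, neg_zero]
  have hS := sg_rat_mem hM f d
  have hS' := sg_rat_mem hM e a
  have h1 : T D (rv D d + k • (rv D a + rv D d)) l ∈ M := by
    have hc := mul_mem (mul_mem hS h) (inv_mem hS)
    rw [T_conj D (hMK hS)] at hc
    convert hc using 2
    rw [mulVec_add, mulVec_smul, Sg_apply h2 hfd, Sg_apply h2 hfd, k4, k5, k1', B_self]
    module
  have h3 : T D ((1 + k) • rv D d + rv D a) l ∈ M := by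
    have hc := mul_mem (mul_mem hS' h1) (inv_mem hS')
    rw [T_conj D (hMK hS')] at hc
    convert hc using 2
    simp only [mulVec_add, mulVec_smul, Sg_apply h2 hea, map_add, map_smul, LinearMap.add_apply, LinearMap.smul_apply,
      smul_eq_mul, k2, k3, k1, B_self]
    match_scalars <;> first | ring1 | linear_combination k * h2 | linear_combination -k * h2
  have hm := mul_mem (mul_mem (mul_mem h h1) h3) hl
  convert hm using 1
  refine gl_ext fun x => ?_
  simp only [Sg_apply h2 k1, mulVec_mul_GL, T_apply, rv_add, map_add, map_smul, LinearMap.add_apply,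
    LinearMap.smul_apply, B_self, k1, k1', smul_eq_mul, mul_zero, add_zero]
  match_scalars <;> grind

/-- short root elements from two scalings -/
theorem sg_of_scale {M : Subgroup GLm} {a d : Idx → D.F₀} (h2 : (2 : F) = 0) (had : B0 D d a = 0) {x : D.F₀}
    {k l : F} (h : T D (rv D d + k • rv D a) l ∈ M) (h' : T D (rv D (x • d) + k • rv D a) l ∈ M)
    (hl : T D (rv D ((1 + x) • d)) l ∈ M) : Sg D (rv D d) (rv D a) (l * ((1 + (x : F)) * k)) ∈ M := by
  have k1 : B (rv D d) (rv D a) = 0 := by rw [B_rv, had]; rfl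
  have k1' : B (rv D a) (rv D d) = 0 := by rw [B_swap, k1, neg_zero]
  convert mul_mem (mul_mem h h') hl using 1
  refine gl_ext fun z => ?_
  simp only [Sg_apply h2 k1, mulVec_mul_GL, T_apply, rv_smul, AddMemClass.coe_add, OneMemClass.coe_one, map_add,
    map_smul, LinearMap.add_apply, LinearMap.smul_apply, B_self, k1, k1', smul_eq_mul, mul_zero, add_zero]
  match_scalars <;> grind

set_option maxHeartbeats 1600000 in
theorem exists_of_shift {M : Subgroup GLm} (hMK : M ≤ Cfsg.spGL m F) (hM : ∀ a : Idx → D.F₀, RT D M (rv D a)) (hm : 2 ≤ m) {a d : Idx → D.F₀} (had : B0 D d a = 0)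
    (hd : d ∉ Submodule.span D.F₀ {a}) (ha : a ≠ 0) {k : F} (hk : k ∉ D.F₀)
    (h : RT D M (rv D d + k • rv D a)) :
    ∃ (a : Idx → D.F₀) (c : F), a ≠ 0 ∧ c ∉ D.F₀ ∧ T D (rv D a) c ∈ M := by
  have hmove : ∀ x y : Idx → D.F₀, B0 D x a = 0 → B0 D y a = 0 → B0 D x y ≠ 0 →
      RT D M (rv D x + k • rv D a) → RT D M (rv D y + k • rv D a) := by
    intro x y hxa hya hxy hx
    have := hx.map hMK (hM (y - x) (B0 D x y)⁻¹)
    rw [T_apply] at this
    have e1 : B (rv D x + k • rv D a) (rv D (y - x)) = ((B0 D x y : D.F₀) : F) := by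
      rw [map_add, map_smul, LinearMap.add_apply, LinearMap.smul_apply, B_rv, B_rv, map_sub, map_sub,
        B0_self, B0_swap D x a, hxa, B0_swap D y a, hya]
      simp
    rw [e1] at this
    push_cast at this
    rw [inv_mul_cancel₀ (fun e => hxy (Subtype.ext e)), one_smul] at this
    have e2 : rv D (y - x) = rv D y - rv D x := by
      rw [eq_sub_iff_add_eq, ← rv_add, sub_add_cancel]
    rw [e2] at this
    convert this using 1
    abel
  by_cases h2 : (2 : F) = 0
  swap
  ·-- a double step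
    obtain ⟨e, he, hae⟩ := exists_value D (a := d) (S := Submodule.span D.F₀ {a}) hd
    have h1 : RT D M (rv D (d + a) + k • rv D a) := by
      have hea : B0 D e a = 0 := by rw [B0_swap, he a (Submodule.mem_span_singleton_self a), neg_zero]
      refine hmove e _ hea (by rw [map_add, LinearMap.add_apply, had, B0_self, add_zero]) ?_
        (hmove d e had hea (by rw [hae]; exact one_ne_zero) h)
      rw [map_add, B0_swap D d e, hae, hea, add_zero]; simp
    refine ⟨a, 1 + 2 * k, ha, fun hmem => hk ?_, ?_⟩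
    · have h2k : 2 * k ∈ D.F₀ := by simpa using D.F₀.sub_mem hmem (one_mem _)
      have := D.F₀.div_mem h2k (show (2 : F) ∈ D.F₀ from by
        rw [show (2 : F) = 1 + 1 by norm_num]; exact add_mem (one_mem _) (one_mem _))
      rwa [mul_div_cancel_left₀ _ h2] at this
    · have hc := T_cube D (a := rv D d) (b := rv D a) (c := k • rv D a)
        (by rw [B_rv, had]; rfl) (by rw [map_smul, B_rv, had]; simp) (by rw [map_smul, B_self, smul_zero]) 1
      rw [← rv_add, show rv D a + k • rv D a = (1 + k) • rv D a by module, T_smul, T_smul, one_mul, one_mul,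
        ← eq_mul_inv_iff_mul_eq, T_inv] at hc
      have e : T D (rv D a) ((1 + k) * (1 + k)) * T D (rv D a) (-(k * k)) ∈ M := by
        have hl : T D (rv D (d + a) + k • rv D a) 1 * T D (rv D d) 1 * T D (rv D a) 1 ∈ M :=
          mul_mem (mul_mem (by simpa using h1 1) (by simpa using hM d 1)) (by simpa using hM a 1)
        rw [hc, mul_assoc] at hl
        have hx : T D (rv D (d + a)) 1 * T D (rv D d + k • rv D a) 1 ∈ M :=
          mul_mem (by simpa using hM (d + a) 1) (by simpa using h 1)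
        exact (M.mul_mem_cancel_left hx).1 hl
      rw [← T_add] at e
      convert e using 2
      ring
  have key : ∀ z : F, z * z ∈ D.F₀ → z ∈ D.F₀ := fun z hz => by
    haveI : CharP D.F₀ 2 := CharTwo.of_one_ne_zero_of_two_eq_zero one_ne_zero (two_eq_zero₀ h2)
    obtain ⟨j, hj⟩ := FiniteField.isSquare_of_char_two (ringChar.eq D.F₀ 2) (⟨z * z, hz⟩ : D.F₀)
    rcases mul_self_eq_mul_self_iff.1 (congrArg Subtype.val hj : z * z = (j : F) * j) with e | e
    · exact e ▸ j.2
    · exact e ▸ neg_mem j.2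
  have hfin : ∀ b : F, b ∉ D.F₀ → Sg D (rv D d) (rv D a) b ∈ M →
      ∃ (a : Idx → D.F₀) (c : F), a ≠ 0 ∧ c ∉ D.F₀ ∧ T D (rv D a) c ∈ M := fun b hb hS =>
    ⟨a, b * b, ha, fun h => hb (key _ h), sg_square hMK hM h2 had hd hS⟩
  have hT : T D (rv D d + k • rv D a) 1 ∈ M := by simpa using h 1
  by_cases hkk : k + k * k ∈ D.F₀
  swap
  · exact hfin _ hkk (by simpa using sg_of_shift hMK hM h2 had hd ha hT (by simpa using hM (d + a) 1))
  obtain ⟨e, he, hde⟩ := exists_value D (a := d) (S := Submodule.span D.F₀ {a}) hd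
  have hae : B0 D a e = 0 := he a (Submodule.mem_span_singleton_self a)
  have hea : B0 D e a = 0 := by rw [B0_symm h2, hae]
  by_cases hx : ∃ x : D.F₀, x ≠ 0 ∧ x ≠ 1
  · obtain ⟨x, hx0, hx1⟩ := hx
    have h1 : RT D M (rv D (x • d) + k • rv D a) := by
      refine hmove e _ hea (by rw [map_smul, LinearMap.smul_apply, had, smul_zero]) ?_
        (hmove d e had hea (by rw [hde]; exact one_ne_zero) h)
      rw [map_smul, B0_symm h2, hde, smul_eq_mul, mul_one]
      exact hx0
    have hne : (1 : F) + (x : F) ≠ 0 := fun e => hx1 (Subtype.ext (by push_cast; linear_combination e - h2))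
    refine hfin ((1 + (x : F)) * k) (fun hm => hk ?_)
      (by simpa using sg_of_scale h2 had hT (by simpa using h1 1) (by simpa using hM ((1 + x) • d) 1))
    have := D.F₀.mul_mem (D.F₀.inv_mem (D.F₀.add_mem D.F₀.one_mem x.2)) hm
    rwa [inv_mul_cancel_left₀ hne] at this
  push Not at hx
  -- the field of four elements
  have hk1 : k + k * k = 1 := by
    have : (⟨_, hkk⟩ : D.F₀) = 1 := hx _ fun e0 => by
      have : k * (1 + k) = 0 := by linear_combination (congrArg (Subtype.val) e0).trans (ZeroMemClass.coe_zero D.F₀)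
      rcases mul_eq_zero.1 this with e | e
      · exact hk (e ▸ zero_mem _)
      · exact hk (by rw [show k = -1 by linear_combination e]; exact neg_mem (one_mem _))
    exact congrArg Subtype.val this
  have ha' : a ∉ Submodule.span D.F₀ {d} := fun hm => by
    obtain ⟨t, rfl⟩ := Submodule.mem_span_singleton.1 hm
    rcases eq_or_ne t 0 with rfl | ht
    · exact ha (zero_smul _ _)
    · exact hd (Submodule.mem_span_singleton.2 ⟨t⁻¹, inv_smul_smul₀ ht d⟩)
  obtain ⟨f, hf, haf⟩ := exists_value D ha'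
  have k1 : B (rv D d) (rv D a) = 0 := by rw [B_rv, had]; rfl
  have k1' : B (rv D a) (rv D d) = 0 := by rw [B_swap, k1, neg_zero]
  have k4 : B (rv D a) (rv D f) = 1 := by rw [B_rv, haf]; rfl
  have k4' : B (rv D f) (rv D a) = 1 := by rw [B_rv, B0_symm h2, haf]; rfl
  have k5 : B (rv D d) (rv D f) = 0 := by rw [B_rv, hf d (Submodule.mem_span_singleton_self d)]; rfl
  have k5' : B (rv D f) (rv D d) = 0 := by rw [B_swap, k5, neg_zero]
  have m1 : RT D M (rv D d + k • rv D f) := by
    have := h.map hMK (hM (a + f) 1)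
    convert this using 1
    simp only [T_apply, rv_add, map_add, map_smul, LinearMap.add_apply, LinearMap.smul_apply, B_self, k1, k4, k5,
      OneMemClass.coe_one, smul_eq_mul]
    match_scalars <;> grind
  have m2 : RT D M (rv D f + k • rv D (d + a)) := by
    have := h.map hMK (m1 1)
    convert this using 1
    simp only [T_apply, rv_add, map_add, map_smul, LinearMap.add_apply, LinearMap.smul_apply, B_self, k1', k4, k5,
      OneMemClass.coe_one, smul_eq_mul]
    match_scalars <;> grind
  have m3 : RT D M (k • rv D f + rv D (d + a)) := by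
    have := m2.map hMK (hM (f + (d + a)) 1)
    convert this using 1
    simp only [T_apply, rv_add, map_add, map_smul, LinearMap.add_apply, LinearMap.smul_apply, B_self, k1, k1', k4,
      k4', k5, k5', OneMemClass.coe_one, smul_eq_mul]
    match_scalars <;> grind
  have m4 : RT D M (k • rv D f) := by
    have := m2.map hMK (m3 1)
    convert this using 1
    simp only [T_apply, rv_add, map_add, map_smul, LinearMap.add_apply, LinearMap.smul_apply, B_self, k1, k1', k4,
      k4', k5, k5', OneMemClass.coe_one, smul_eq_mul]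
    match_scalars <;> grind
  refine ⟨f, k * k, fun e => ?_, fun h => hk (key _ h), by simpa [T_smul] using m4 1⟩
  rw [e, map_zero] at haf
  exact zero_ne_one haf

theorem exists_perp_rat {a : Idx → D.F₀} (hm : 2 ≤ m) :
    ∃ d, B0 D d a = 0 ∧ d ∉ Submodule.span D.F₀ {a} := by
  by_contra hc
  push Not at hc
  have hle : LinearMap.ker ((B0 D).flip a) ≤ Submodule.span D.F₀ {a} := fun x hx => hc x hx
  have h1 := Submodule.finrank_mono hle
  have h2 : Module.finrank D.F₀ (Submodule.span D.F₀ ({a} : Set (Idx → D.F₀))) ≤ 1 :=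
    (finrank_span_le_card ({a} : Set (Idx → D.F₀))).trans (by simp)
  have h3 := LinearMap.finrank_range_add_finrank_ker ((B0 D).flip a)
  have h4 := Submodule.finrank_le (LinearMap.range ((B0 D).flip a))
  rw [Module.finrank_self] at h4
  rw [Module.finrank_fintype_fun_eq_card, Fintype.card_sum, Fintype.card_fin] at h3
  omega

/-- a centre orthogonal to a rational vector -/
theorem exists_of_dep {M : Subgroup GLm} (hMK : M ≤ Cfsg.spGL m F) (hM : ∀ a : Idx → D.F₀, RT D M (rv D a)) (hm : 2 ≤ m) {u : Vec} (h : RT D M u) {a : Idx → D.F₀} (ha : a ≠ 0)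
    (hua : B u (rv D a) = 0) (hu : Irr D u) :
    ∃ (a : Idx → D.F₀) (c : F), a ≠ 0 ∧ c ∉ D.F₀ ∧ T D (rv D a) c ∈ M := by
  by_cases hbad : ∃ d d₀, B0 D d a = 0 ∧ B0 D d₀ a = 0 ∧ B u (rv D d) * B u (rv D d₀) ∉ D.F₀
  · obtain ⟨d, d₀, hda, hd₀a, hk⟩ := hbad
    have hd : d ∉ Submodule.span D.F₀ {a} := fun hm => by
      obtain ⟨t, rfl⟩ := Submodule.mem_span_singleton.1 hm
      rw [rv_smul, map_smul, hua, smul_zero, zero_mul] at hk
      exact hk (zero_mem _)
    set s := B u (rv D d₀) with hs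
    have hSM : T D (rv D (a + d₀)) 1 * (T D (rv D a) 1)⁻¹ * (T D (rv D d₀) 1)⁻¹ ∈ M :=
      mul_mem (mul_mem (by simpa using hM (a + d₀) 1) (inv_mem (by simpa using hM a 1)))
        (inv_mem (by simpa using hM d₀ 1))
    have had₀ : B (rv D d₀) (rv D a) = 0 := by rw [B_rv, hd₀a]; rfl
    have hd₀a' : B (rv D a) (rv D d₀) = 0 := by rw [B_swap, had₀, neg_zero]
    have h1 : RT D M (u + s • rv D a) := by
      have := h.map hMK hSM
      convert this using 1
      simp only [mulVec_mul_GL, T_inv, T_apply, rv_add, map_add, map_smul, LinearMap.add_apply,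
        LinearMap.smul_apply, B_self, hua, ← hs, had₀, hd₀a', smul_eq_mul]
      module
    have hE : T D (u + s • rv D a) 1 * (T D u 1)⁻¹ ∈ M :=
      mul_mem (by simpa using h1 1) (inv_mem (by simpa using h 1))
    have hEd : ((T D (u + s • rv D a) 1 * (T D u 1)⁻¹ : GLm) : Matrix Idx Idx F) *ᵥ rv D d =
        rv D d + (B (rv D d) u * s) • rv D a := by
      simp only [mulVec_mul_GL, T_inv, T_apply, map_add, map_smul, LinearMap.add_apply,
        LinearMap.smul_apply, B_self, hua, B_rv, hda, smul_eq_mul, ZeroMemClass.coe_zero]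
      module
    refine exists_of_shift hMK hM hm hda hd ha (k := B (rv D d) u * s) ?_ (hEd ▸ (hM d).map hMK hE)
    rw [B_swap D u (rv D d)]
    intro hmem
    exact hk (by simpa using neg_mem hmem)
  push Not at hbad
  -- all products are rational
  obtain ⟨e, -, hae⟩ := exists_value D (a := a) (S := ⊥) (by simpa using ha)
  obtain ⟨r, s₀, hs0, hs00, hr⟩ : ∃ (r : Idx → D.F₀) (s₀ : F), s₀ * s₀ ∈ D.F₀ ∧ s₀ ≠ 0 ∧
      ∀ x, B0 D x a = 0 → B u (rv D x) = s₀ * B (rv D r) (rv D x) := by
    by_cases hz : ∀ x, B0 D x a = 0 → B u (rv D x) = 0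
    · exact ⟨0, 1, by rw [one_mul]; exact one_mem _, one_ne_zero, fun x hx => by simp [rv_zero, hz x hx]⟩
    push Not at hz
    obtain ⟨x₀, hx₀, hne⟩ := hz
    set s₀ := B u (rv D x₀) with hs₀
    have hval : ∀ x, B u (rv D (x + B0 D x a • e)) / s₀ ∈ D.F₀ := fun x => by
      have hx : B0 D (x + B0 D x a • e) a = 0 := by
        rw [map_add, map_smul, LinearMap.add_apply, LinearMap.smul_apply, B0_swap D a e, hae]; simp
      have := D.F₀.div_mem (hbad _ x₀ hx hx₀) (hbad _ _ hx₀ hx₀)
      rwa [mul_div_mul_right _ _ hne] at this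
    let ψ : (Idx → D.F₀) →ₗ[D.F₀] D.F₀ :=
      { toFun := fun x => ⟨_, hval x⟩
        map_add' := fun x y => Subtype.ext (by
          show B u (rv D (x + y + B0 D (x + y) a • e)) / s₀ = B u (rv D (x + B0 D x a • e)) / s₀ + B u (rv D (y + B0 D y a • e)) / s₀
          simp only [rv_add, rv_smul, map_add, map_smul, LinearMap.add_apply, AddMemClass.coe_add, add_smul]
          ring)
        map_smul' := fun t x => Subtype.ext (by
          show B u (rv D (t • x + B0 D (t • x) a • e)) / s₀ = (t : F) * (B u (rv D (x + B0 D x a • e)) / s₀)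
          simp only [rv_add, rv_smul, map_add, map_smul, LinearMap.smul_apply, smul_eq_mul, MulMemClass.coe_mul]
          ring) }
    refine ⟨((B0 D).toDual (B0_nondeg D)).symm ψ, s₀, hbad x₀ x₀ hx₀ hx₀, hne, fun x hx => ?_⟩
    have hh : B0 D (((B0 D).toDual (B0_nondeg D)).symm ψ) x = ψ x :=
      LinearMap.BilinForm.apply_toDual_symm_apply (hB := B0_nondeg D) ψ x
    rw [B_rv, hh]
    show _ = s₀ * (B u (rv D (x + B0 D x a • e)) / s₀)
    rw [hx, zero_smul, add_zero, mul_div_cancel₀ _ hne]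
  set w := u - s₀ • rv D r with hw
  set μ := B w (rv D e) with hμ
  have hspan : w - μ • rv D a = 0 := ext_rat D fun x => by
    have hx : B0 D (x + B0 D x a • e) a = 0 := by
      rw [map_add, map_smul, LinearMap.add_apply, LinearMap.smul_apply, B0_swap D a e, hae]; simp
    have h1 : B w (rv D (x + B0 D x a • e)) = 0 := by
      rw [hw, map_sub, map_smul, LinearMap.sub_apply, LinearMap.smul_apply, hr _ hx, smul_eq_mul, sub_self]
    rw [rv_add, rv_smul, map_add, map_smul, ← hμ, smul_eq_mul] at h1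
    rw [map_sub, map_smul, LinearMap.sub_apply, LinearMap.smul_apply, B_rv D a x, B0_swap D x a, smul_eq_mul]
    push_cast
    linear_combination h1
  have hu' : u = s₀ • rv D r + μ • rv D a := by
    rw [← sub_eq_zero.1 hspan, hw]; abel
  have hra : B0 D r a = 0 := by
    have h0 := hua
    rw [hu', map_add, map_smul, map_smul, LinearMap.add_apply, LinearMap.smul_apply, LinearMap.smul_apply,
      B_self, B_rv, smul_zero, add_zero, smul_eq_mul] at h0
    exact Subtype.ext ((mul_eq_zero.1 h0).resolve_left hs00)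
  have hr' : r ∉ Submodule.span D.F₀ {a} := fun hm => by
    obtain ⟨t, rfl⟩ := Submodule.mem_span_singleton.1 hm
    exact hu (s₀ * t + μ) a (by rw [hu', rv_smul]; module)
  set k := μ / s₀ with hk
  have he : u = s₀ • (rv D r + k • rv D a) := by
    rw [hu', smul_add, smul_smul, hk, mul_div_cancel₀ _ hs00]
  refine exists_of_shift hMK hM hm hra hr' ha (k := k) (fun hmem => ?_) fun t => ?_
  · exact hu s₀ (r + (⟨k, hmem⟩ : D.F₀) • a) (by rw [rv_add, rv_smul]; exact he)
  · have h2 := h (t / ⟨s₀ * s₀, hs0⟩)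
    rw [he, T_smul] at h2
    push_cast at h2
    rwa [div_mul_cancel₀ _ (mul_ne_zero hs00 hs00)] at h2

set_option maxHeartbeats 1600000 in
/-- two values with irrational ratio of squares -/
theorem exists_of_indep {M : Subgroup GLm} (hMK : M ≤ Cfsg.spGL m F) (hM : ∀ a : Idx → D.F₀, RT D M (rv D a)) (hm : 2 ≤ m) (hpr : (Module.finrank D.F₀ F).Prime) {u : Vec} (h : RT D M u)
    (hinj : ∀ a : Idx → D.F₀, B u (rv D a) = 0 → a = 0) :
    ∃ (a : Idx → D.F₀) (c : F), a ≠ 0 ∧ c ∉ D.F₀ ∧ T D (rv D a) c ∈ M := by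
  classical
  by_contra hno
  have hIrrNo : ∀ v : Vec, RT D M v → ∀ x : Idx → D.F₀, x ≠ 0 → B v (rv D x) = 0 → ¬ Irr D v :=
    fun v hv x hx hvx hI => hno (exists_of_dep hMK hM hm hv hx hvx hI)
  obtain ⟨i⟩ : Nonempty Idx := ⟨Sum.inl ⟨0, by omega⟩⟩
  set a : Idx → D.F₀ := Pi.single i 1 with ha'
  have ha : a ≠ 0 := fun e => one_ne_zero (α := D.F₀) (by simpa [ha'] using congrFun e i)
  set s := B u (rv D a) with hs
  have hs0 : s ≠ 0 := fun e => ha (hinj a e)
  obtain ⟨b, hba, hq⟩ : ∃ b, B0 D b a = 0 ∧ B u (rv D b) * B u (rv D b) / (s * s) ∉ D.F₀ := by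
    by_contra hc
    push Not at hc
    obtain ⟨b₁, hb₁, hb₁a⟩ := exists_perp_rat (D := D) (a := a) hm
    -- values with rational squares
    have hsq : ∀ x, B0 D x a = 0 → B u (rv D x) / s * (B u (rv D x) / s) ∈ D.F₀ := fun x hx => by
      rw [div_mul_div_comm]; exact hc x hx
    set x₁ := B u (rv D b₁) / s with hx₁
    have hx₁0 : x₁ ≠ 0 := div_ne_zero (fun e => hb₁a (by rw [hinj b₁ e]; exact zero_mem _)) hs0
    have hrat : ∀ x, B0 D x a = 0 → B u (rv D x) / s / x₁ ∈ D.F₀ := by
      intro x hx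
      set y := B u (rv D x) / s with hy
      by_cases h2 : (2 : F) = 0
      · haveI : CharP D.F₀ 2 := CharTwo.of_one_ne_zero_of_two_eq_zero one_ne_zero
          (Subtype.ext (by push_cast; exact h2))
        have key : ∀ z : F, z * z ∈ D.F₀ → z ∈ D.F₀ := fun z hz => by
          obtain ⟨j, hj⟩ := FiniteField.isSquare_of_char_two (ringChar.eq D.F₀ 2) (⟨z * z, hz⟩ : D.F₀)
          rcases mul_self_eq_mul_self_iff.1 (congrArg Subtype.val hj : z * z = (j : F) * j) with e | e
          · exact e ▸ j.2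
          · exact e ▸ neg_mem j.2
        exact D.F₀.div_mem (key _ (hsq x hx)) (key _ (hsq b₁ hb₁))
      · have h3 := hsq (x + b₁) (by rw [map_add, LinearMap.add_apply, hx, hb₁, add_zero])
        rw [rv_add, map_add, add_div, ← hy, ← hx₁] at h3
        have h4 : 2 * (x₁ * y) ∈ D.F₀ := by
          have := D.F₀.sub_mem (D.F₀.sub_mem h3 (hsq x hx)) (hsq b₁ hb₁)
          rw [← hy, ← hx₁] at this
          convert this using 1
          ring
        have h5 : x₁ * y ∈ D.F₀ := by
          have := D.F₀.div_mem h4 (show (2 : F) ∈ D.F₀ from by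
            rw [show (2 : F) = 1 + 1 by norm_num]; exact add_mem (one_mem _) (one_mem _))
          rwa [mul_div_cancel_left₀ _ h2] at this
        have := D.F₀.div_mem h5 (hsq b₁ hb₁)
        rwa [← hx₁, mul_div_mul_left _ _ hx₁0] at this
    obtain ⟨x, hxa, hxb⟩ : ∃ x, B0 D x a = 0 ∧ x ∉ Submodule.span D.F₀ {b₁} := by
      by_contra hc'
      push Not at hc'
      have h1 := Submodule.finrank_mono (show LinearMap.ker ((B0 D).flip a) ≤ Submodule.span D.F₀ {b₁} from
        fun x hx => hc' x hx)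
      have h2 : Module.finrank D.F₀ (Submodule.span D.F₀ ({b₁} : Set (Idx → D.F₀))) ≤ 1 :=
        (finrank_span_le_card ({b₁} : Set (Idx → D.F₀))).trans (by simp)
      have h3 := LinearMap.finrank_range_add_finrank_ker ((B0 D).flip a)
      have h4 := Submodule.finrank_le (LinearMap.range ((B0 D).flip a))
      rw [Module.finrank_self] at h4
      rw [Module.finrank_fintype_fun_eq_card, Fintype.card_sum, Fintype.card_fin] at h3
      omega
    refine hxb (Submodule.mem_span_singleton.2 ⟨⟨_, hrat x hxa⟩, (sub_eq_zero.1 (hinj _ ?_)).symm⟩)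
    rw [sub_eq_add_neg, ← neg_smul, rv_add, rv_smul, map_add, map_smul, smul_eq_mul]
    show B u (rv D x) + -(B u (rv D x) / s / x₁) * B u (rv D b₁) = 0
    rw [hx₁]
    have hb0 : B u (rv D b₁) ≠ 0 := fun e => hb₁a (by rw [hinj b₁ e]; exact zero_mem _)
    field_simp
    ring
  set tb := B u (rv D b) with htb
  set z := tb • rv D a - s • rv D b with hz
  have hab : B (rv D a) (rv D b) = 0 := by rw [B_rv, B0_swap, hba]; simp
  have hba' : B (rv D b) (rv D a) = 0 := by rw [B_rv, hba]; rfl
  have hau : B (rv D a) u = -s := by rw [B_swap]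
  have hbu : B (rv D b) u = -tb := by rw [B_swap]
  have huz : B u z = 0 := by rw [hz, map_sub, map_smul, map_smul, ← hs, ← htb, smul_eq_mul, smul_eq_mul]; ring
  have hzu : B z u = 0 := by rw [B_swap, huz, neg_zero]
  have haz : B (rv D a) z = 0 := by simp [hz, map_sub, B_self, hab]
  have hbz : B (rv D b) z = 0 := by simp [hz, map_sub, B_self, hba']
  let G : Subgroup (SpecialLinearGroup (Fin 2) F) :=
    { carrier := {X | ∃ g ∈ M, ∃ ζ₁ ζ₂ : F,
        (g : Matrix Idx Idx F) *ᵥ rv D a = X 0 0 • rv D a + (X 1 0 * s) • u + ζ₁ • z ∧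
        (g : Matrix Idx Idx F) *ᵥ u = (X 0 1 / s) • rv D a + X 1 1 • u + ζ₂ • z ∧
        (g : Matrix Idx Idx F) *ᵥ z = z ∧
        ∀ x, ∃ α β γ : F, (g : Matrix Idx Idx F) *ᵥ x = x + α • rv D a + β • rv D b + γ • u}
      one_mem' := ⟨1, one_mem M, 0, 0, by simp, by simp, by simp, fun x => ⟨0, 0, 0, by simp⟩⟩
      mul_mem' := by
        rintro X Y ⟨g, hg, c1, c2, e1, e2, e3, e4⟩ ⟨k, hk, d1, d2, f1, f2, f3, f4⟩
        refine ⟨g * k, mul_mem hg hk, d1 + Y 0 0 * c1 + Y 1 0 * s * c2, d2 + Y 0 1 / s * c1 + Y 1 1 * c2,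
          ?_, ?_, ?_, fun x => ?_⟩
        · rw [show ((X * Y : SpecialLinearGroup (Fin 2) F) : Matrix (Fin 2) (Fin 2) F) =
            (X : Matrix (Fin 2) (Fin 2) F) * (Y : Matrix (Fin 2) (Fin 2) F) from rfl]
          simp only [mulVec_mul_GL, f1, mulVec_add, mulVec_smul, e1, e2, e3, Matrix.mul_apply, Fin.sum_univ_two]
          match_scalars <;> field_simp <;> ring
        · rw [show ((X * Y : SpecialLinearGroup (Fin 2) F) : Matrix (Fin 2) (Fin 2) F) =
            (X : Matrix (Fin 2) (Fin 2) F) * (Y : Matrix (Fin 2) (Fin 2) F) from rfl]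
          simp only [mulVec_mul_GL, f2, mulVec_add, mulVec_smul, e1, e2, e3, Matrix.mul_apply, Fin.sum_univ_two]
          match_scalars <;> field_simp <;> ring
        · rw [mulVec_mul_GL, f3, e3]
        · obtain ⟨α, β, γ, hk'⟩ := f4 x
          obtain ⟨α₁, β₁, γ₁, h1⟩ := e4 x
          obtain ⟨α₂, β₂, γ₂, h2⟩ := e4 (rv D a)
          obtain ⟨α₃, β₃, γ₃, h3⟩ := e4 (rv D b)
          obtain ⟨α₄, β₄, γ₄, h4⟩ := e4 u
          refine ⟨α₁ + α + α * α₂ + β * α₃ + γ * α₄, β₁ + β + α * β₂ + β * β₃ + γ * β₄,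
            γ₁ + γ + α * γ₂ + β * γ₃ + γ * γ₄, ?_⟩
          simp only [mulVec_mul_GL, hk', mulVec_add, mulVec_smul, h1, h2, h3, h4]
          module
      inv_mem' := by
        rintro X ⟨g, hg, c1, c2, e1, e2, e3, e4⟩
        have hd := X.det_coe
        rw [Matrix.det_fin_two] at hd
        have ei : ((X⁻¹ : SpecialLinearGroup (Fin 2) F) : Matrix (Fin 2) (Fin 2) F) =
            !![X 1 1, -X 0 1; -X 1 0, X 0 0] := by
          show (X : Matrix (Fin 2) (Fin 2) F).adjugate = _
          exact Matrix.adjugate_fin_two _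
        refine ⟨g⁻¹, inv_mem hg, -(X 1 1 * c1 - X 1 0 * s * c2), -(-(X 0 1 / s) * c1 + X 0 0 * c2),
          Max.mulVec_inj g ?_, Max.mulVec_inj g ?_, Max.mulVec_inj g ?_, fun x => ?_⟩
        · rw [ei]
          simp [mulVec_inv_cancel, mulVec_add, mulVec_smul, mulVec_neg, mulVec_sub, e1, e2, e3]
          match_scalars <;> field_simp <;> first | ring1 | linear_combination hd | linear_combination -hd
        · rw [ei]
          simp [mulVec_inv_cancel, mulVec_add, mulVec_smul, mulVec_neg, mulVec_sub, e1, e2, e3]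
          match_scalars <;> field_simp <;> first | ring1 | linear_combination hd | linear_combination -hd
        · rw [mulVec_inv_cancel, e3]
        · obtain ⟨α, β, γ, h1⟩ := e4 (((g⁻¹ : GLm) : Matrix Idx Idx F) *ᵥ x)
          rw [mulVec_inv_cancel] at h1
          refine ⟨-α, -β, -γ, ?_⟩
          conv_rhs => rw [h1]
          module }
  have hga : ∀ t : D.F₀, Classical.GL2.uniSL ((t : F) * (s * s)) ∈ G := fun t => by
    refine ⟨_, hM a t, 0, 0, ?_, ?_, ?_, fun x => ⟨t * B x (rv D a), 0, 0, ?_⟩⟩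
    · simp [T_apply, B_self, Classical.GL2.coe_uniSL]
    · rw [T_apply, ← hs, Classical.GL2.coe_uniSL]
      simp
      match_scalars <;> field_simp
    · rw [T_apply, B_swap D (rv D a) z, haz]; simp
    · rw [T_apply]; module
  have hgb : ∀ t : D.F₀, Classical.GL2.uniSL ((t : F) * (tb * tb)) ∈ G := fun t => by
    refine ⟨_, hM b t, 0, -((t : F) * tb / s), ?_, ?_, ?_, fun x => ⟨0, t * B x (rv D b), 0, ?_⟩⟩
    · simp [T_apply, hab, Classical.GL2.coe_uniSL]
    · rw [T_apply, ← htb, hz, Classical.GL2.coe_uniSL]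
      simp
      match_scalars <;> field_simp <;> ring
    · rw [T_apply, B_swap D (rv D b) z, hbz]; simp
    · rw [T_apply]; module
  have hgu : Classical.GL2.lowSL (-1 : F) ∈ G := by
    refine ⟨_, h 1, 0, 0, ?_, ?_, ?_, fun x => ⟨0, 0, B x u, ?_⟩⟩
    · simp [T_apply, hau, Classical.GL2.coe_lowSL]
    · simp [T_apply, B_self, Classical.GL2.coe_lowSL]
    · rw [T_apply, hzu]; simp
    · simp [T_apply]
  let A : AddSubgroup F :=
    { carrier := {x | Classical.GL2.uniSL x ∈ G}
      zero_mem' := by show _ ∈ G; rw [Classical.GL2.uniSL_zero]; exact one_mem G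
      add_mem' := fun {x y} hx hy => by
        show _ ∈ G; rw [← Classical.GL2.uniSL_mul]; exact mul_mem hx hy
      neg_mem' := fun {x} hx => by
        show _ ∈ G; rw [← Classical.GL2.uniSL_inv]; exact inv_mem hx }
  obtain ⟨-, X, ⟨g, hg, c1, c2, e1, e2, e3, e4⟩, hX10, hX11⟩ := DicksonSwap.exists_torus G A (fun x hx => hx)
    (a₁ := s * s) (a₂ := tb * tb) (show Classical.GL2.uniSL _ ∈ G by simpa using hga 1)
    (show Classical.GL2.uniSL _ ∈ G by simpa using hgb 1) (mul_ne_zero hs0 hs0)
    (fun hmem => by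
      obtain ⟨j, hj⟩ := AddSubgroup.mem_zmultiples_iff.1 hmem
      refine hq ?_
      rw [← hj, zsmul_eq_mul, mul_div_assoc, div_self (mul_ne_zero hs0 hs0), mul_one]
      exact intCast_mem _ j)
    (neg_ne_zero.2 one_ne_zero) hgu
  rw [hX10, zero_mul, zero_smul, add_zero] at e1
  set ξ := X 1 1 with hξ
  have hξ0 : ξ ≠ 0 := fun e => by
    have hd := X.det_coe
    rw [Matrix.det_fin_two, hX10, mul_zero, sub_zero] at hd
    have h' : X 0 0 * ξ = 1 := hd
    rw [e, mul_zero] at h'
    exact zero_ne_one h'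
  have hξ1 : ξ ≠ 1 := fun e => hX11 (by rw [e, one_mul])
  set ma := (g : Matrix Idx Idx F) *ᵥ rv D a with hma
  have hma0 : ma ≠ 0 := mulVec_ne_zero g fun e => ha (rv_eq_zero D e)
  have hmaa : B ma (rv D a) = 0 := by
    rw [e1, map_add, map_smul, map_smul, LinearMap.add_apply, LinearMap.smul_apply, LinearMap.smul_apply,
      B_self, B_swap D (rv D a) z, haz]; simp
  obtain ⟨lam, r', hr'⟩ : ∃ (lam : F) (r' : Idx → D.F₀), ma = lam • rv D r' := by
    have := hIrrNo ma ((hM a).map hMK hg) a ha hmaa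
    simpa [Irr] using this
  have hlam : lam ≠ 0 := fun e => hma0 (by rw [hr', e, zero_smul])
  have hr'0 : r' ≠ 0 := fun e => hma0 (by rw [hr', e, rv_zero, smul_zero])
  obtain ⟨ea, hea0, hea⟩ := exists_value D (a := a) (S := Submodule.span D.F₀ {b}) (fun hm => by
    obtain ⟨t, ht⟩ := Submodule.mem_span_singleton.1 hm
    refine hq ?_
    rcases eq_or_ne t 0 with rfl | ht0
    · exact absurd (by rw [← ht, zero_smul]) ha
    · have e : tb = s / (t : F) := by
        rw [eq_div_iff (fun e => ht0 (Subtype.ext e)), hs, ← ht, rv_smul, map_smul, smul_eq_mul, mul_comm]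
      rw [e, show s / (t : F) * (s / t) / (s * s) = ((t : F) * t)⁻¹ by field_simp]
      exact inv_mem (mul_mem t.2 t.2))
  have hbs : b ∉ Submodule.span D.F₀ {a} := fun hm => by
    obtain ⟨t, rfl⟩ := Submodule.mem_span_singleton.1 hm
    refine hq ?_
    rw [htb, rv_smul, map_smul, smul_eq_mul, ← hs, show (t : F) * s * (t * s) / (s * s) = t * t by field_simp]
    exact mul_mem t.2 t.2
  obtain ⟨eb, heb0, heb⟩ := exists_value D hbs
  -- the induced matrix on the line pencil of `a` and `b`
  have hmul : X 0 0 * ξ = 1 := by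
    have hd := X.det_coe
    rw [Matrix.det_fin_two, hX10, mul_zero, sub_zero] at hd
    exact hd
  have hgb : s • ((g : Matrix Idx Idx F) *ᵥ rv D b) = tb • ma - z := by
    conv_rhs => arg 2; rw [← e3]
    rw [hma, hz, mulVec_sub, mulVec_smul, mulVec_smul]
    module
  set p₁ := X 0 0 + c1 * tb
  set q₁ := -(c1 * s)
  set p₂ := tb * (p₁ - 1) / s
  set q₂ := (tb * q₁ + s) / s
  have hA : ma = p₁ • rv D a + q₁ • rv D b := by rw [e1, hz]; module
  have hBv : (g : Matrix Idx Idx F) *ᵥ rv D b = p₂ • rv D a + q₂ • rv D b := by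
    rw [← inv_smul_smul₀ hs0 ((g : Matrix Idx Idx F) *ᵥ rv D b), hgb, hA, hz]
    simp only [p₂, q₂]
    match_scalars <;> field_simp <;> ring
  have hline : ∀ (p q : F) (x : Idx → D.F₀), (g : Matrix Idx Idx F) *ᵥ rv D x = p • rv D a + q • rv D b →
      ∃ (l : F) (α β : D.F₀), p = l * α ∧ q = l * β := by
    intro p q x hx
    obtain ⟨l, y, hy⟩ : ∃ (l : F) (y : Idx → D.F₀), (g : Matrix Idx Idx F) *ᵥ rv D x = l • rv D y := by
      have := hIrrNo _ ((hM x).map hMK hg) a ha (by rw [hx]; simp [B_self, hba'])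
      simpa [Irr] using this
    refine ⟨l, B0 D y ea, B0 D y eb, ?_, ?_⟩
    · have := congrArg (fun v => B v (rv D ea)) (hx.symm.trans hy)
      simpa [B_rv, hea, hea0 b (Submodule.mem_span_singleton_self b)] using this
    · have := congrArg (fun v => B v (rv D eb)) (hx.symm.trans hy)
      simpa [B_rv, heb, heb0 a (Submodule.mem_span_singleton_self a)] using this
  obtain ⟨l₁, α, γ, hα, hγ⟩ := hline _ _ a (hma ▸ hA)
  obtain ⟨l₂, β, δ, hβ, hδ⟩ := hline _ _ b hBv
  obtain ⟨l₃, p, q, hp, hq'⟩ := hline (p₁ + p₂) (q₁ + q₂) (a + b)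
    (by rw [rv_add, mulVec_add, ← hma, hA, hBv]; module)
  have hdet : p₁ * q₂ - q₁ * p₂ ≠ 0 := by
    have e : p₁ * q₂ - q₁ * p₂ = X 0 0 := by
      simp only [p₂, q₂, p₁, q₁]
      field_simp
      ring
    rw [e]
    exact left_ne_zero_of_mul_eq_one hmul
  have hl₁ : l₁ ≠ 0 := fun e => hdet (by rw [hα, hγ, e]; ring)
  obtain ⟨ρ, hρ⟩ : ∃ ρ : D.F₀, l₂ = l₁ * ρ := by
    have e1' : l₁ * ((α : F) * q - γ * p) = l₂ * ((δ : F) * p - β * q) := by
      linear_combination (q : F) * hp - (p : F) * hq' + (-(q : F)) * hα + (p : F) * hγ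
        + (-(q : F)) * hβ + (p : F) * hδ
    by_cases hz' : ((δ : F) * p - β * q) = 0
    · exfalso
      rw [hz', mul_zero, mul_eq_zero, or_iff_right hl₁] at e1'
      have hp0 : (p : F) * ((α : F) * δ - β * γ) = 0 := by linear_combination (α : F) * hz' + (β : F) * e1'
      have hq0 : (q : F) * ((α : F) * δ - β * γ) = 0 := by linear_combination (γ : F) * hz' + (δ : F) * e1'
      have hd' : (α : F) * δ - β * γ ≠ 0 := fun e => hdet (by
        rw [hα, hγ, hβ, hδ]; linear_combination (l₁ * l₂) * e)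
      rcases mul_eq_zero.1 hp0 with e | e
      · rcases mul_eq_zero.1 hq0 with e' | e'
        · refine hdet ?_
          rw [e, mul_zero] at hp
          rw [e', mul_zero] at hq'
          linear_combination q₂ * hp - p₂ * hq'
        · exact hd' e'
      · exact hd' e
    · refine ⟨⟨_, D.F₀.div_mem (show (α : F) * q - γ * p ∈ D.F₀ from
        D.F₀.sub_mem (D.F₀.mul_mem α.2 q.2) (D.F₀.mul_mem γ.2 p.2)) (show (δ : F) * p - β * q ∈ D.F₀ from
        D.F₀.sub_mem (D.F₀.mul_mem δ.2 p.2) (D.F₀.mul_mem β.2 q.2))⟩, ?_⟩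
      show l₂ = l₁ * (_ / _)
      rw [mul_div_assoc', e1', mul_div_assoc, div_self hz', mul_one]
  set τ := tb / s with hτ
  have hτsq : tb * tb / (s * s) = τ * τ := by rw [hτ, div_mul_div_comm]
  -- the fixed vector has irrational slope
  have h1 : p₁ * τ - p₂ = τ := by simp only [p₂, hτ]; field_simp; ring
  have h3 : q₁ * τ - q₂ = -1 := by simp only [q₂, hτ]; field_simp; ring
  rw [hα, hβ, hρ] at h1
  rw [hγ, hδ, hρ] at h3
  have hquad : (γ : F) * (τ * τ) + ((α : F) - (ρ : F) * δ) * τ - (ρ : F) * β = 0 :=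
    mul_left_cancel₀ hl₁ (by linear_combination h1 + τ * h3)
  have hτ0 : τ ∉ D.F₀ := fun hm => hq (by rw [hτsq]; exact D.F₀.mul_mem hm hm)
  rcases eq_or_ne γ 0 with hγ0 | hγ0
  · simp only [hγ0, ZeroMemClass.coe_zero, mul_zero, zero_mul, zero_add, sub_eq_neg_add] at hquad hγ h3
    have e : (α : F) - (ρ : F) * δ = 0 := by
      by_contra hne
      refine hτ0 ?_
      rw [show τ = (ρ : F) * β / ((α : F) - (ρ : F) * δ) by rw [eq_div_iff hne]; linear_combination hquad]
      exact D.F₀.div_mem (D.F₀.mul_mem ρ.2 β.2) (D.F₀.sub_mem α.2 (D.F₀.mul_mem ρ.2 δ.2))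
    have hc : c1 = 0 := by simpa [q₁, hs0] using hγ
    have hX : X 0 0 = 1 := by
      have e5 : q₂ = 1 := by simp [q₂, q₁, hc, hs0]
      have e6 : p₁ = X 0 0 := by simp [p₁, hc]
      rw [← e6, hα, ← e5, hδ, hρ]
      linear_combination l₁ * e
    rw [hX, one_mul] at hmul
    exact hξ1 hmul
  · set A := -((α - ρ * δ) / γ) with hAdef
    set C := ρ * β / γ with hCdef
    have hττ : τ * τ = (A : F) * τ + (C : F) := by
      have hne : (γ : F) ≠ 0 := fun e => hγ0 (Subtype.ext e)
      simp only [hAdef, hCdef]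
      push_cast
      field_simp
      linear_combination hquad
    let K : Subalgebra D.F₀ F :=
      { carrier := {x | ∃ u v : D.F₀, x = u + v * τ}
        zero_mem' := ⟨0, 0, by simp⟩
        one_mem' := ⟨1, 0, by simp⟩
        algebraMap_mem' := fun t => ⟨t, 0, by simp; rfl⟩
        add_mem' := by
          rintro _ _ ⟨u, v, rfl⟩ ⟨u', v', rfl⟩
          exact ⟨u + u', v + v', by push_cast; ring⟩
        mul_mem' := by
          rintro _ _ ⟨u, v, rfl⟩ ⟨u', v', rfl⟩
          exact ⟨u * u' + v * v' * C, u * v' + v * u' + v * v' * A,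
            by push_cast; linear_combination ((v : F) * v') * hττ⟩ }
    haveI := Subalgebra.isSimpleOrder_of_finrank_prime D.F₀ F hpr
    rcases IsSimpleOrder.eq_bot_or_eq_top K with hK | hK
    · have hmem : τ ∈ K := ⟨0, 1, by simp⟩
      rw [hK, Algebra.mem_bot] at hmem
      obtain ⟨t, ht⟩ := hmem
      exact hτ0 (ht ▸ t.2)
    · have hle : Module.finrank D.F₀ F ≤ 2 := by
        let φ : (Fin 2 → D.F₀) →ₗ[D.F₀] F := Fintype.linearCombination D.F₀ ![(1 : F), τ]
        have hφ : Function.Surjective φ := fun x => by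
          obtain ⟨u, v, hx⟩ := (show x ∈ K by rw [hK]; trivial)
          exact ⟨![u, v], by simp [φ, Fintype.linearCombination_apply, Fin.sum_univ_two, Subfield.smul_def, hx]⟩
        have := LinearMap.finrank_le_finrank_of_surjective hφ
        rwa [Module.finrank_fintype_fun_eq_card, Fintype.card_fin] at this
      let V : (Idx → D.F₀) →ₗ[D.F₀] F :=
        { toFun := fun x => B u (rv D x)
          map_add' := fun x y => by simp [rv_add]
          map_smul' := fun t x => by
            show B u (rv D (t • x)) = (t : F) * B u (rv D x)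
            rw [rv_smul, map_smul, smul_eq_mul] }
      have := LinearMap.finrank_le_finrank_of_injective (f := V) ((injective_iff_map_eq_zero V).2 hinj)
      rw [Module.finrank_fintype_fun_eq_card, Fintype.card_sum, Fintype.card_fin] at this
      omega

set_option maxHeartbeats 1600000 in
variable (D) in
/-- subfield groups are maximal in the symplectic group -/
theorem subfield_maximal (hm : 2 ≤ m) {r : ℕ} (hr : r.Prime)
    (hcard : Fintype.card F = Nat.card D.F₀ ^ r) (H : Subgroup GLm) (hH : H ≤ Cfsg.spGL m F)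
    (hlow : ∀ g ∈ Cfsg.spGL m F, (∃ k : F, k ≠ 0 ∧ ∀ a : Idx → D.F₀, ∃ b : Idx → D.F₀,
      k • ((g : Matrix Idx Idx F) *ᵥ rv D a) = rv D b) → g ∈ H)
    (hhigh : ∀ g ∈ H, ∃ k : F, k ≠ 0 ∧ ∀ a : Idx → D.F₀, ∃ b : Idx → D.F₀,
      k • ((g : Matrix Idx Idx F) *ᵥ rv D a) = rv D b) :
    Cfsg.Geo.IsMaximalIn (Cfsg.spGL m F) H := by
  classical
  have hpr : (Module.finrank D.F₀ F).Prime := by
    have := Module.card_eq_pow_finrank (K := D.F₀) (V := F)
    rw [hcard, Nat.card_eq_fintype_card] at this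
    rw [← Nat.pow_right_injective Fintype.one_lt_card this]; exact hr
  have hF₀ : ∃ c : F, c ∉ D.F₀ := by
    by_contra hc
    push Not at hc
    have e : Nat.card D.F₀ = Fintype.card F := by
      rw [← Nat.card_eq_fintype_card]; exact Nat.card_congr (Equiv.subtypeUnivEquiv hc)
    rw [e] at hcard
    exact absurd ((Nat.pow_eq_self_iff Fintype.one_lt_card).1 hcard.symm) hr.ne_one
  have h2F : ∀ (h2 : (2 : F) = 0) (x : F), x * x ∈ D.F₀ → x ∈ D.F₀ := fun h2 x hx => by
    haveI : CharP D.F₀ 2 := CharTwo.of_one_ne_zero_of_two_eq_zero one_ne_zero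
      (Subtype.ext (by push_cast; exact h2))
    obtain ⟨j, hj⟩ := FiniteField.isSquare_of_char_two (ringChar.eq D.F₀ 2) (⟨x * x, hx⟩ : D.F₀)
    rcases mul_self_eq_mul_self_iff.1 (congrArg Subtype.val hj : x * x = (j : F) * j) with e | e
    · exact e ▸ j.2
    · exact e ▸ neg_mem j.2
  have hdual : ∀ (a b : Idx → D.F₀), a ∉ Submodule.span D.F₀ {b} →
      ∃ e, B0 D b e = 0 ∧ B0 D a e = 1 := fun a b h => by
    obtain ⟨e, he, hae⟩ := exists_value D h
    exact ⟨e, he b (Submodule.mem_span_singleton_self b), hae⟩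
  have hdual0 : ∀ a : Idx → D.F₀, a ≠ 0 → ∃ e, B0 D a e = 1 := fun a h => by
    obtain ⟨e, -, hae⟩ := exists_value D (a := a) (S := ⊥) (by simpa using h)
    exact ⟨e, hae⟩
  refine isMaximalIn_of hH (fun hle => ?_) fun M hM' hMK g hgM hg => ?_
  · -- an irrational transvection
    obtain ⟨c, hc⟩ := hF₀
    obtain ⟨i⟩ : Nonempty Idx := ⟨Sum.inl ⟨0, by omega⟩⟩
    set a : Idx → D.F₀ := Pi.single i 1 with ha'
    have ha : a ≠ 0 := fun e => one_ne_zero (α := D.F₀) (by simpa [ha'] using congrFun e i)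
    obtain ⟨k, hk, hkF⟩ := hhigh _ (hle (T_mem D (rv D a) c))
    obtain ⟨e, hae⟩ := hdual0 a ha
    obtain ⟨b, hb⟩ := hkF a
    rw [T_apply, B_self, mul_zero, zero_smul, add_zero] at hb
    have h1 := congrArg (fun v => B v (rv D e)) hb
    simp [B_rv, hae] at h1
    obtain ⟨b', hb'⟩ := hkF e
    rw [T_apply, B_rv D e a, B0_swap D a e, hae] at hb'
    have h2 := congrArg (fun v => B v (rv D e)) hb'
    simp [B_rv, hae, B0_self] at h2
    refine hc ?_
    have hkc : k * c ∈ D.F₀ := by
      have : -(k * c) ∈ D.F₀ := by rw [h2]; exact (B0 D b' e).2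
      simpa using neg_mem this
    have := D.F₀.mul_mem (inv_mem (show k ∈ D.F₀ from h1 ▸ (B0 D b e).2)) hkc
    rwa [inv_mul_cancel_left₀ hk] at this
  have hM : ∀ a : Idx → D.F₀, RT D M (rv D a) := fun a t => by
    refine hM' (hlow _ (T_mem D _ _) ⟨1, one_ne_zero, fun x => ⟨x + (t * B0 D x a) • a, ?_⟩⟩)
    rw [one_smul, T_apply, rv_add, rv_smul, B_rv]
    push_cast
    rfl
  obtain ⟨a₀, c₀, ha₀, hc₀, hT₀⟩ : ∃ (a : Idx → D.F₀) (c : F), a ≠ 0 ∧ c ∉ D.F₀ ∧ T D (rv D a) c ∈ M := by
    by_cases hirr : ∃ a, Irr D ((g : Matrix Idx Idx F) *ᵥ rv D a)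
    · obtain ⟨a, hirr⟩ := hirr
      have hu := (hM a).map hMK hgM
      by_cases hdep : ∃ x : Idx → D.F₀, x ≠ 0 ∧ B ((g : Matrix Idx Idx F) *ᵥ rv D a) (rv D x) = 0
      · obtain ⟨x, hx, hxu⟩ := hdep
        exact exists_of_dep hMK hM hm hu hx hxu hirr
      · push Not at hdep
        exact exists_of_indep hMK hM hm hpr hu fun x hx => by
          by_contra h0
          exact hdep x h0 hx
    · simp only [Irr, not_exists, not_forall, not_not] at hirr
      choose lam y hy using hirr
      by_contra hno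
      push Not at hno
      refine hg (hlow g (hMK hgM) ?_)
      have hne : ∀ a, a ≠ 0 → lam a ≠ 0 ∧ y a ≠ 0 := fun a ha => by
        have h0 : lam a • rv D (y a) ≠ 0 := hy a ▸ mulVec_ne_zero g fun e => ha (rv_eq_zero D e)
        exact ⟨fun e => h0 (by rw [e, zero_smul]), fun e => h0 (by rw [e, rv_zero, smul_zero])⟩
      -- the scalars agree up to the subfield
      have hpair : ∀ a b, a ∉ Submodule.span D.F₀ {b} → b ≠ 0 → lam a / lam b ∈ D.F₀ := by
        intro a b hab hb
        have hsum : lam (a + b) • rv D (y (a + b)) = lam a • rv D (y a) + lam b • rv D (y b) := by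
          rw [← hy, ← hy, ← hy, rv_add, mulVec_add]
        have ha0 : a ≠ 0 := fun e => hab (e ▸ zero_mem _)
        have hab0 : a + b ≠ 0 := fun e => hab (by
          rw [eq_neg_of_add_eq_zero_left e]; exact neg_mem (Submodule.mem_span_singleton_self b))
        have hne' : ∀ p q, p ∉ Submodule.span D.F₀ {q} → q ≠ 0 → y p ∉ Submodule.span D.F₀ {y q} := by
          intro p q hpq hq hm'
          obtain ⟨t, ht⟩ := Submodule.mem_span_singleton.1 hm'
          have h0 : lam p • rv D (y p) = (lam p * t / lam q) • (lam q • rv D (y q)) := by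
            rw [← ht, rv_smul, smul_smul, smul_smul, div_mul_cancel₀ _ (hne q hq).1]
          rw [← hy, ← hy, ← mulVec_smul] at h0
          have h1 := mulVec_inj g h0
          set c := lam p * t / lam q
          obtain ⟨e, he⟩ := hdual0 q hq
          have hc : c ∈ D.F₀ := by
            have := congrArg (fun v => B v (rv D e)) h1
            simp [B_rv, he] at this
            exact this ▸ (B0 D p e).2
          refine hpq (Submodule.mem_span_singleton.2 ⟨⟨c, hc⟩, ?_⟩)
          have h2 : rv D (p + -((⟨c, hc⟩ : D.F₀) • q)) = 0 := by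
            rw [← neg_smul, rv_add, rv_smul, h1]; push_cast; module
          exact (add_neg_eq_zero.1 (rv_eq_zero D h2)).symm
        obtain ⟨e, hbe, hae⟩ := hdual _ _ (hne' a b hab hb)
        obtain ⟨e', hae', hbe'⟩ := hdual _ _ (hne' b a (fun hm' => by
          obtain ⟨t, rfl⟩ := Submodule.mem_span_singleton.1 hm'
          rcases eq_or_ne t 0 with rfl | ht
          · exact hb (zero_smul _ _)
          · exact hab (Submodule.mem_span_singleton.2 ⟨t⁻¹, inv_smul_smul₀ ht a⟩)) ha0)
        have k1 := congrArg (fun v => B v (rv D e)) hsum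
        have k2 := congrArg (fun v => B v (rv D e')) hsum
        simp [B_rv, hbe, hae, hae', hbe'] at k1 k2
        rw [← k1, ← k2, mul_div_mul_left _ _ (hne _ hab0).1]
        exact D.F₀.div_mem (B0 D _ e).2 (B0 D _ e').2
      obtain ⟨i⟩ : Nonempty Idx := ⟨Sum.inl ⟨0, by omega⟩⟩
      set a₁ : Idx → D.F₀ := Pi.single i 1 with ha₁'
      have ha₁ : a₁ ≠ 0 := fun e => one_ne_zero (α := D.F₀) (by simpa [ha₁'] using congrFun e i)
      obtain ⟨a₂, -, ha₂⟩ := exists_perp_rat (D := D) (a := a₁) hm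
      have ha₂0 : a₂ ≠ 0 := fun e => ha₂ (e ▸ zero_mem _)
      refine ⟨(lam a₁)⁻¹, inv_ne_zero (hne a₁ ha₁).1, fun x => ?_⟩
      have hx : lam x / lam a₁ ∈ D.F₀ ∨ x = 0 := by
        rcases eq_or_ne x 0 with h | hx0
        · exact Or.inr h
        left
        by_cases hxm : x ∈ Submodule.span D.F₀ {a₁}
        · have h1 : x ∉ Submodule.span D.F₀ {a₂} := by
            intro h'
            obtain ⟨t, rfl⟩ := Submodule.mem_span_singleton.1 h'
            obtain ⟨t', ht'⟩ := Submodule.mem_span_singleton.1 hxm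
            have ht : t ≠ 0 := fun e => hx0 (by rw [e, zero_smul])
            exact ha₂ (Submodule.mem_span_singleton.2 ⟨t⁻¹ * t', by rw [← smul_smul, ht', inv_smul_smul₀ ht]⟩)
          have := D.F₀.mul_mem (hpair x a₂ h1 ha₂0) (hpair a₂ a₁ ha₂ ha₁)
          rwa [div_mul_div_cancel₀ (hne a₂ ha₂0).1] at this
        · exact hpair x a₁ hxm ha₁
      rcases hx with hx | rfl
      · exact ⟨(⟨_, hx⟩ : D.F₀) • y x, by rw [rv_smul, hy, smul_smul]; congr 1; ring⟩
      · exact ⟨0, by rw [rv_zero, mulVec_zero, smul_zero]⟩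
  -- the coefficients
  have htrans : ∀ (c : F) (a b : Idx → D.F₀), a ≠ 0 → b ≠ 0 → T D (rv D a) c ∈ M → T D (rv D b) c ∈ M := by
    intro c a b ha hb h
    have step : ∀ x y : Idx → D.F₀, B0 D x y ≠ 0 → T D (rv D x) c ∈ M → T D (rv D y) c ∈ M := by
      intro x y hxy hx
      set k := T D (rv D (y - x)) (((B0 D x y)⁻¹ : D.F₀) : F) with hk
      have hkM : k ∈ M := hM (y - x) _
      have hkx : (k : Matrix Idx Idx F) *ᵥ rv D x = rv D y := by
        rw [hk, T_apply, B_rv, map_sub, B0_self, sub_zero, ← MulMemClass.coe_mul, inv_mul_cancel₀ hxy,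
          OneMemClass.coe_one, one_smul, ← rv_add, add_sub_cancel]
      rw [← hkx, ← T_conj D (hMK hkM)]
      exact mul_mem (mul_mem hkM hx) (inv_mem hkM)
    obtain ⟨x, -, h1, h2⟩ := exists_common (B0 D) ⊤
      (by obtain ⟨e, he⟩ := hdual0 a ha; exact ⟨e, trivial, by rw [he]; exact one_ne_zero⟩)
      (by obtain ⟨e, he⟩ := hdual0 b hb; exact ⟨e, trivial, by rw [he]; exact one_ne_zero⟩)
    exact step x b (by rw [B0_swap]; exact neg_ne_zero.2 h2) (step a x h1 h)
  let Lset : Set F := {c | ∀ a : Idx → D.F₀, T D (rv D a) c ∈ M}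
  have hadd : ∀ k l, k ∈ Lset → l ∈ Lset → k + l ∈ Lset := fun k l hk hl a => by
    rw [T_add]; exact mul_mem (hk a) (hl a)
  have hneg : ∀ k, k ∈ Lset → -k ∈ Lset := fun k hk a => by rw [← T_inv]; exact inv_mem (hk a)
  have hcast : ∀ t : D.F₀, (t : F) ∈ Lset := fun t a => hM a t
  have hT0 : ∀ c : F, T D (rv D 0) c = 1 := fun c => gl_ext fun x => by simp [T_apply, rv_zero]
  have hmk : ∀ c : F, (∀ b d : Idx → D.F₀, b ≠ 0 → B0 D d b = 0 → d ∉ Submodule.span D.F₀ {b} →
      T D (rv D b) c ∈ M) → c ∈ Lset := by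
    intro c hc b
    rcases eq_or_ne b 0 with rfl | hb
    · rw [hT0]; exact one_mem M
    obtain ⟨d, hdb, hd⟩ := exists_perp_rat (D := D) (a := b) hm
    exact hc b d hb hdb hd
  have hmove : ∀ {k l : F}, k ∈ Lset → l ∈ Lset → ∀ {b p : Idx → D.F₀}, B0 D p b = 0 →
      p ∉ Submodule.span D.F₀ {b} → T D (rv D p + k • rv D b) l ∈ M := by
    intro k l hk hl b p hpb hp
    obtain ⟨f, hbf, hpf⟩ := hdual p b hp
    have hs : T D (rv D (f + b)) k * T D (rv D f) (-k) * T D (rv D b) (-k) ∈ M :=
      mul_mem (mul_mem (hk _) (hneg k hk _)) (hneg k hk _)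
    have hfb : B0 D f b = 0 := by rw [B0_swap, hbf, neg_zero]
    have hsp : ((T D (rv D (f + b)) k * T D (rv D f) (-k) * T D (rv D b) (-k) : GLm) : Matrix Idx Idx F) *ᵥ rv D p =
        rv D p + k • rv D b := by
      simp only [mulVec_mul_GL, T_apply, rv_add, map_add, map_smul, LinearMap.add_apply, LinearMap.smul_apply,
        B_self, B_rv, hpb, hpf, hfb, hbf, smul_eq_mul, ZeroMemClass.coe_zero, OneMemClass.coe_one]
      module
    rw [← hsp, ← T_conj D (hMK hs)]
    exact mul_mem (mul_mem hs (hl p)) (inv_mem hs)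
  have hmulL : ∀ k l, k ∈ Lset → l ∈ Lset → k * l ∈ Lset := by
    have hone : (1 : F) ∈ Lset := hcast 1
    by_cases h2 : (2 : F) = 0
    · have hsgL : ∀ c : F, (∀ b d : Idx → D.F₀, b ≠ 0 → B0 D d b = 0 → d ∉ Submodule.span D.F₀ {b} →
          Sg D (rv D d) (rv D b) c ∈ M) → c * c ∈ Lset := fun c hc => hmk _ fun b d hb hdb hd =>
        sg_square hMK hM h2 hdb hd (hc b d hb hdb hd)
      have hss : ∀ x, x ∈ Lset → x * x ∈ Lset := fun x hx => hsgL x fun b d hb hdb hd => by
        have k1 : B (rv D d) (rv D b) = 0 := by rw [B_rv, hdb]; rfl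
        have k1' : B (rv D b) (rv D d) = 0 := by rw [B_swap, k1, neg_zero]
        convert mul_mem (mul_mem (hx (d + b)) (hx d)) (hx b) using 1
        refine gl_ext fun z => ?_
        simp only [Sg_apply h2 k1, mulVec_mul_GL, T_apply, rv_add, map_add, map_smul, LinearMap.add_apply,
          LinearMap.smul_apply, B_self, k1, k1', smul_eq_mul, mul_zero, add_zero]
        match_scalars <;> grind
      -- every element of the set is a square in it
      let sq : {x // x ∈ Lset} → {x // x ∈ Lset} := fun x => ⟨x.1 * x.1, hss _ x.2⟩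
      have hinj : Function.Injective sq := fun x y e => by
        have e' : x.1 * x.1 = y.1 * y.1 := congrArg Subtype.val e
        rcases mul_self_eq_mul_self_iff.1 e' with h | h
        · exact Subtype.ext h
        · exact Subtype.ext (h.trans (neg_eq_iff_add_eq_zero.2 (by linear_combination (y : F) * h2)))
      have hroot : ∀ c : F, c * c ∈ Lset → c ∈ Lset := fun c hc => by
        obtain ⟨⟨j, hj⟩, hjk⟩ := Finite.injective_iff_surjective.1 hinj ⟨_, hc⟩
        rcases mul_self_eq_mul_self_iff.1 (congrArg Subtype.val hjk : j * j = c * c) with e | e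
        · exact e ▸ hj
        · rwa [show c = j by linear_combination e - j * h2]
      have hphi : ∀ k l, k ∈ Lset → l ∈ Lset → l * (k + k * k) ∈ Lset := fun k l hk hl =>
        hroot _ (hsgL _ fun b d hb hdb hd => sg_of_shift hMK hM h2 hdb hd hb (hmove hk hl hdb hd) (hl _))
      have hscale : ∀ (x : D.F₀) (k l : F), x ≠ 0 → k ∈ Lset → l ∈ Lset → l * ((1 + (x : F)) * k) ∈ Lset := by
        intro x k l hx hk hl
        refine hroot _ (hsgL _ fun b d hb hdb hd => sg_of_scale h2 hdb (hmove hk hl hdb hd)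
          (hmove hk hl (by rw [map_smul, LinearMap.smul_apply, hdb, smul_zero]) fun hm => hd ?_) (hl _))
        simpa [smul_smul, inv_mul_cancel₀ hx] using Submodule.smul_mem _ x⁻¹ hm
      have hmul0 : ∀ (t : D.F₀) (x : F), x ∈ Lset → (t : F) * x ∈ Lset := by
        intro t x hx
        rcases eq_or_ne t 0 with rfl | ht0
        · simpa using hcast 0
        by_cases ht1 : t = 1
        · simpa [ht1] using hx
        have h01 : 1 + t ≠ 0 := fun e => ht1 (Subtype.ext (by
          have := congrArg Subtype.val e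
          push_cast at this ⊢
          linear_combination this - h2))
        have := hscale (1 + t) 1 x h01 hone hx
        convert this using 1
        push_cast
        linear_combination -x * h2
      intro k l hk hl
      by_cases hx : ∃ x : D.F₀, x ≠ 0 ∧ x ≠ 1
      · obtain ⟨x, hx0, hx1⟩ := hx
        have := hmul0 (1 + x)⁻¹ _ (hscale x k l hx0 hk hl)
        have hne : (1 : F) + (x : F) ≠ 0 := fun e => hx1 (Subtype.ext (by push_cast; linear_combination e - h2))
        convert this using 1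
        push_cast
        field_simp
      push Not at hx
      by_cases hkF : k ∈ D.F₀
      · exact hmul0 ⟨k, hkF⟩ l hl
      haveI := Subalgebra.isSimpleOrder_of_finrank_prime D.F₀ F hpr
      let R : Subalgebra D.F₀ F :=
        { carrier := {y | ∀ z ∈ Lset, y * z ∈ Lset}
          one_mem' := fun z hz => by rwa [one_mul]
          zero_mem' := fun z _ => by rw [zero_mul]; simpa using hcast 0
          add_mem' := fun {y y'} hy hy' z hz => by rw [add_mul]; exact hadd _ _ (hy z hz) (hy' z hz)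
          mul_mem' := fun {y y'} hy hy' z hz => by rw [mul_assoc]; exact hy _ (hy' z hz)
          algebraMap_mem' := fun t z hz => hmul0 t z hz }
      have hfull : ∀ y : F, y ∈ Lset := by
        by_cases hkk : k + k * k ∈ D.F₀
        · have hk1 : k + k * k = 1 := by
            have : (⟨_, hkk⟩ : D.F₀) = 1 := hx _ fun e0 => by
              have : k * (1 + k) = 0 := by linear_combination (congrArg (Subtype.val) e0).trans (ZeroMemClass.coe_zero D.F₀)
              rcases mul_eq_zero.1 this with e | e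
              · exact hkF (e ▸ zero_mem _)
              · exact hkF (by rw [show k = -1 by linear_combination e]; exact neg_mem (one_mem _))
            exact congrArg Subtype.val this
          let K : Subalgebra D.F₀ F :=
            { carrier := {y | ∃ u v : D.F₀, y = u + v * k}
              zero_mem' := ⟨0, 0, by simp⟩
              one_mem' := ⟨1, 0, by simp⟩
              algebraMap_mem' := fun t => ⟨t, 0, by simp; rfl⟩
              add_mem' := by
                rintro _ _ ⟨u, v, rfl⟩ ⟨u', v', rfl⟩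
                exact ⟨u + u', v + v', by push_cast; ring⟩
              mul_mem' := by
                rintro _ _ ⟨u, v, rfl⟩ ⟨u', v', rfl⟩
                exact ⟨u * u' + v * v', u * v' + v * u' + v * v',
                  by push_cast; linear_combination ((v : F) * v') * hk1 - ((v : F) * v' * k) * h2⟩ }
          intro y
          have hK : K = ⊤ := (IsSimpleOrder.eq_bot_or_eq_top K).resolve_left fun e => by
            have hm : k ∈ K := ⟨0, 1, by simp⟩
            rw [e, Algebra.mem_bot] at hm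
            obtain ⟨t, ht⟩ := hm
            exact hkF (ht ▸ t.2)
          obtain ⟨u, v, rfl⟩ := (show y ∈ K by rw [hK]; trivial)
          exact hadd _ _ (hcast u) (hmul0 v k hk)
        · have hR : R = ⊤ := (IsSimpleOrder.eq_bot_or_eq_top R).resolve_left fun e => by
            have hm : k + k * k ∈ R := fun z hz => by rw [mul_comm]; exact hphi k z hk hz
            rw [e, Algebra.mem_bot] at hm
            obtain ⟨t, ht⟩ := hm
            exact hkk (ht ▸ t.2)
          intro y
          simpa using (show y ∈ R by rw [hR]; trivial) 1 hone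
      exact hfull _
    · have h2kl : ∀ k l, k ∈ Lset → l ∈ Lset → 2 * (k * l) ∈ Lset := fun k l hk hl => hmk _ fun b d hb hdb hd => by
        have hdb' : d + b ∉ Submodule.span D.F₀ {b} := fun h => hd (by
          simpa using sub_mem h (Submodule.mem_span_singleton_self b))
        have hc := T_cube D (a := rv D d) (b := rv D b) (c := k • rv D b)
          (by rw [B_rv, hdb]; rfl) (by rw [map_smul, B_rv, hdb]; simp) (by rw [map_smul, B_self, smul_zero]) l
        rw [← rv_add, show rv D b + k • rv D b = (1 + k) • rv D b by module, T_smul, T_smul] at hc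
        have hA : T D (rv D (d + b)) l * T D (rv D d + k • rv D b) l ∈ M :=
          mul_mem (hl _) (hmove hk hl hdb hd)
        have hL : T D (rv D (d + b) + k • rv D b) l * T D (rv D d) l * T D (rv D b) l ∈ M :=
          mul_mem (mul_mem (hmove hk hl (by rw [map_add, LinearMap.add_apply, hdb, B0_self, add_zero]) hdb') (hl _))
            (hl _)
        rw [← eq_mul_inv_iff_mul_eq, T_inv] at hc
        rw [hc, mul_assoc, ← T_add] at hL
        have := mul_mem ((M.mul_mem_cancel_left hA).1 hL) (hneg l hl b)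
        rw [← T_add] at this
        convert this using 2
        ring
      intro k l hk hl
      obtain ⟨t, ht⟩ : ∃ t : D.F₀, (t : F) = (2 : F)⁻¹ * (2 : F)⁻¹ := ⟨(2 : D.F₀)⁻¹ * (2 : D.F₀)⁻¹, by push_cast; rfl⟩
      have := h2kl _ _ (hcast t) (h2kl k l hk hl)
      convert this using 1
      rw [ht]
      field_simp
  let L : Subalgebra D.F₀ F :=
    { carrier := Lset
      one_mem' := hcast 1
      zero_mem' := hcast 0
      add_mem' := fun {k l} hk hl => hadd k l hk hl
      mul_mem' := fun {k l} hk hl => hmulL k l hk hl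
      algebraMap_mem' := hcast }
  have hL : L = ⊤ := by
    haveI := Subalgebra.isSimpleOrder_of_finrank_prime D.F₀ F hpr
    refine (IsSimpleOrder.eq_bot_or_eq_top L).resolve_left fun hb => hc₀ ?_
    have : c₀ ∈ L := fun a => by
      rcases eq_or_ne a 0 with rfl | ha
      · have : T D (rv D 0) c₀ = 1 := gl_ext fun x => by simp [T_apply, rv_zero]
        rw [this]; exact one_mem M
      · exact htrans c₀ a₀ a ha₀ ha hT₀
    rw [hb, Algebra.mem_bot] at this
    obtain ⟨t, rfl⟩ := this
    exact t.2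
  -- every vector is a centre
  set C := Symp.centres M with hC
  have hCr : ∀ a : Idx → D.F₀, rv D a ∈ C := fun a c => by
    have h := (show c * D.ζ⁻¹ ∈ L by rw [hL]; trivial) a
    rwa [T, inv_mul_cancel_right₀ D.hζ] at h
  have hCstep : ∀ x y, x ∈ C → y ∈ C → B x y ≠ 0 → x + y ∈ C := fun x y hx hy hxy => by
    have hk : T D y (B x y)⁻¹ ∈ M := hy _
    have := Symp.centres_map (T_mem D y _) hk hx
    rwa [T_apply, inv_mul_cancel₀ hxy, one_smul] at this
  have hCplane : ∀ (a b : Idx → D.F₀) (k : F), rv D a + k • rv D b ∈ C := by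
    intro a b k
    by_cases hk : k ∈ D.F₀
    · have := hCr (a + (⟨k, hk⟩ : D.F₀) • b)
      rwa [rv_add, rv_smul] at this
    by_cases hab : B0 D a b = 0
    swap
    · exact hCstep _ _ (hCr a) (Symp.centres_smul k (hCr b)) (by
        rw [map_smul, B_rv, smul_eq_mul]
        exact mul_ne_zero (fun e => hk (e ▸ zero_mem _)) fun e => hab (Subtype.ext e))
    by_cases hdep : a ∈ Submodule.span D.F₀ {b}
    · obtain ⟨t, rfl⟩ := Submodule.mem_span_singleton.1 hdep
      rw [rv_smul, ← add_smul]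
      exact Symp.centres_smul _ (hCr b)
    by_cases hbne : b = 0
    · rw [hbne, rv_zero, smul_zero, add_zero]; exact hCr a
    have hb0 : b ∉ Submodule.span D.F₀ {a} := fun h => by
      obtain ⟨t, rfl⟩ := Submodule.mem_span_singleton.1 h
      rcases eq_or_ne t 0 with rfl | ht
      · exact hbne (zero_smul _ _)
      · exact hdep (Submodule.mem_span_singleton.2 ⟨t⁻¹, inv_smul_smul₀ ht a⟩)
    obtain ⟨e, hbe, hae⟩ := hdual a b hdep
    obtain ⟨f, haf, hbf⟩ := hdual b a hb0
    set c := e + f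
    have hac : B (rv D a) (rv D c) = 1 := by rw [B_rv, map_add, hae, haf, add_zero]; rfl
    have hbc : B (rv D b) (rv D c) = 1 := by rw [B_rv, map_add, hbe, hbf, zero_add]; rfl
    have hab' : B (rv D a) (rv D b) = 0 := by rw [B_rv, hab]; rfl
    have hcb : B (rv D c) (rv D b) = -1 := by rw [B_swap D (rv D b), hbc]
    have hk0 : k ≠ 0 := fun e => hk (e ▸ zero_mem _)
    have h1 := hCstep _ _ (hCr a) (hCr c) (by rw [hac]; exact one_ne_zero)
    have h2 := hCstep _ _ h1 (Symp.centres_smul k (hCr b)) (by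
      rw [map_add, LinearMap.add_apply, map_smul, map_smul, hab', hcb]
      simp [hk0])
    have h3 := hCstep _ _ h2 (Symp.centres_smul (-1) (hCr c)) (by
      simp only [map_add, map_smul, LinearMap.add_apply, LinearMap.smul_apply, hac, hbc, B_self, smul_eq_mul]
      intro e
      refine hk ?_
      rw [show k = -1 by linear_combination -e]
      exact neg_mem (one_mem _))
    convert h3 using 1
    module
  have hCadd : ∀ x y, x ∈ C → y ∈ C → x + y ∈ C := by
    intro x y hx hy
    by_cases hxy : B x y = 0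
    swap
    · exact hCstep x y hx hy hxy
    rcases eq_or_ne x 0 with rfl | hx0
    · rwa [zero_add]
    rcases eq_or_ne y 0 with rfl | hy0
    · rwa [add_zero]
    rcases eq_or_ne (x + y) 0 with h0 | h0
    · rw [h0]; simpa [rv_zero] using hCr 0
    have hex : ∀ w : Vec, w ≠ 0 → ∃ a, B w (rv D a) ≠ 0 := fun w hw => by
      by_contra h
      push Not at h
      exact hw (ext_rat D h)
    obtain ⟨a₁, ha₁⟩ := hex x hx0
    obtain ⟨a₂, ha₂⟩ := hex y hy0
    obtain ⟨b, hb⟩ := hex (x + y) h0
    obtain ⟨a, hax, hay⟩ : ∃ a, B x (rv D a) ≠ 0 ∧ B y (rv D a) ≠ 0 := by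
      by_cases h1 : B y (rv D a₁) = 0
      · by_cases h2 : B x (rv D a₂) = 0
        · exact ⟨a₁ + a₂, by rw [rv_add, map_add, h2, add_zero]; exact ha₁,
            by rw [rv_add, map_add, h1, zero_add]; exact ha₂⟩
        · exact ⟨a₂, h2, ha₂⟩
      · exact ⟨a₁, ha₁, h1⟩
    obtain ⟨z, hz, hzx, hzy, hzs⟩ : ∃ z ∈ C, B x z ≠ 0 ∧ B y z ≠ 0 ∧ B (x + y) z ≠ 0 := by
      by_cases hs : B (x + y) (rv D a) = 0
      swap
      · exact ⟨_, hCr a, hax, hay, hs⟩
      obtain ⟨k, hk⟩ : ∃ k : F, k ∉ ({0, -(B x (rv D a) / B x (rv D b)), -(B y (rv D a) / B y (rv D b))} : Finset F) := by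
        by_contra hc
        push Not at hc
        have h1 := Finset.card_le_card (show (Finset.univ : Finset F) ⊆ _ from fun k _ => hc k)
        rw [Finset.card_univ, hcard] at h1
        have h2 : 2 ^ 2 ≤ Nat.card D.F₀ ^ r :=
          (Nat.pow_le_pow_left (Finite.one_lt_card : 1 < Nat.card D.F₀) 2).trans
            (Nat.pow_le_pow_right Finite.card_pos hr.two_le)
        have := h1.trans Finset.card_le_three
        omega
      simp only [Finset.mem_insert, Finset.mem_singleton, not_or] at hk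
      have key : ∀ p q : F, p ≠ 0 → k ≠ -(p / q) → p + k * q ≠ 0 := fun p q hp hne e => by
        rcases eq_or_ne q 0 with rfl | hq
        · exact hp (by simpa using e)
        · exact hne (by rw [eq_neg_iff_add_eq_zero]; field_simp; linear_combination e)
      refine ⟨_, hCplane a b k, ?_, ?_, ?_⟩
      · rw [map_add, map_smul, smul_eq_mul]; exact key _ _ hax hk.2.1
      · rw [map_add, map_smul, smul_eq_mul]; exact key _ _ hay hk.2.2
      · rw [map_add, map_smul, hs, zero_add, smul_eq_mul]; exact mul_ne_zero hk.1 hb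
    have h1 := hCstep _ _ (hCstep _ _ hx hz hzx) hy (by
      rw [map_add, LinearMap.add_apply, hxy, zero_add, B_swap D y z, neg_ne_zero]; exact hzy)
    have h2 := hCstep _ _ h1 (Symp.centres_smul (-1) hz) (by
      rw [map_smul, smul_eq_mul, neg_one_mul, neg_ne_zero, add_right_comm, map_add, LinearMap.add_apply, B_self,
        add_zero]
      exact hzs)
    convert h2 using 1
    module
  let Cs : Submodule F Vec :=
    { carrier := C
      add_mem' := fun hx hy => hCadd _ _ hx hy
      zero_mem' := by simpa [rv_zero] using hCr 0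
      smul_mem' := fun c _ hx => Symp.centres_smul c hx }
  refine Symp.spGL_le_of_centres fun v => ?_
  show v ∈ Cs
  rw [← mulVec_inv_cancel D.P v]
  set w := ((D.P⁻¹ : GLm) : Matrix Idx Idx F) *ᵥ v
  rw [pi_eq_sum_univ' w, mulVec_sum]
  refine Cs.sum_mem fun i _ => ?_
  rw [mulVec_smul]
  refine Cs.smul_mem _ ?_
  have := hCr (Pi.single i 1)
  rwa [rv, SubfieldLinear.ic_single] at this

end Cfsg.Agent.Forms.Max.SubfieldSymp
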