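import Mathlib
import Cfsg.Agent.Lib.Forms.Max.SubfieldSymp

/-!
# Subfield subgroups are maximal in the symplectic group
-/

set_option autoImplicit false
open Cfsg

namespace Cfsg.Agent.Forms.Max.SubfieldSympGeo

theorem maximal {F : Type*} [Field F] [Fintype F] (m : ℕ) (hm : 2 ≤ m) (F₀ : Subfield F) (r : ℕ) (hr : r.Prime) (hcard : Fintype.card F = Nat.card F₀ ^ r) (P : Matrix.GeneralLinearGroup (Fin m ⊕ Fin m) F) (ζ : F) (hζ : ζ ≠ 0) (hP : Cfsg.Geo.IsFormRationalStructure (Cfsg.sympForm m F) F₀ ζ P) : Cfsg.Geo.IsMaximalIn (Cfsg.spGL m F) (Cfsg.Geo.subfieldSubgroup F₀ P ⊓ Cfsg.spGL m F) := by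
  classical
  let D : Forms.Max.SubfieldSymp.Data F m := ⟨F₀, P, ζ, hζ, hP⟩
  refine Forms.Max.SubfieldSymp.subfield_maximal D hm hr hcard _ inf_le_right (fun g hg ⟨k, hk, hkg⟩ => ⟨?_, hg⟩) (fun g hg => ?_)
  · choose b hb using fun j => hkg (Pi.single j 1)
    set h : Matrix.GeneralLinearGroup (Fin m ⊕ Fin m) F := P⁻¹ * g * P with hh
    have hent : ∀ i j, k * (h : Matrix (Fin m ⊕ Fin m) (Fin m ⊕ Fin m) F) i j = (b j i : F) := fun i j => by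
      have e : k • ((g : Matrix (Fin m ⊕ Fin m) (Fin m ⊕ Fin m) F).mulVec ((P : Matrix (Fin m ⊕ Fin m) (Fin m ⊕ Fin m) F).mulVec (Forms.Max.SubfieldLinear.ic F₀ (Pi.single j 1)))) = (P : Matrix (Fin m ⊕ Fin m) (Fin m ⊕ Fin m) F).mulVec (Forms.Max.SubfieldLinear.ic F₀ (b j)) := hb j
      have e2 := congrArg (fun v => ((P⁻¹ : Matrix.GeneralLinearGroup (Fin m ⊕ Fin m) F) : Matrix (Fin m ⊕ Fin m) (Fin m ⊕ Fin m) F).mulVec v i) e
      simp only [Matrix.mulVec_smul, Pi.smul_apply, smul_eq_mul, ← Forms.Max.mulVec_mul_GL, inv_mul_cancel, Units.val_one, Matrix.one_mulVec] at e2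
      rw [← mul_assoc, Forms.Max.SubfieldLinear.ic_single, Matrix.mulVec_single_one] at e2
      exact e2
    let A₀ : Matrix (Fin m ⊕ Fin m) (Fin m ⊕ Fin m) F₀ := fun i j => b j i
    have hA : A₀.map F₀.subtype = k • (h : Matrix (Fin m ⊕ Fin m) (Fin m ⊕ Fin m) F) := by
      ext i j
      exact (hent i j).symm
    have hdet : A₀.det ≠ 0 := fun h0 => by
      have h' : (F₀.subtype : F₀ →+* F) A₀.det = 0 := by rw [h0]; rfl
      rw [RingHom.map_det, RingHom.mapMatrix_apply, hA, Matrix.det_smul] at h'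
      rcases mul_eq_zero.1 h' with h1 | h1
      · exact hk (eq_zero_of_pow_eq_zero h1)
      · exact (h.isUnit.map Matrix.detMonoidHom).ne_zero h1
    let r₀ : Matrix.GeneralLinearGroup (Fin m ⊕ Fin m) F₀ := Matrix.GeneralLinearGroup.mkOfDetNeZero A₀ hdet
    have hs : (Units.map (Matrix.scalar (Fin m ⊕ Fin m) : F →+* Matrix (Fin m ⊕ Fin m) (Fin m ⊕ Fin m) F).toMonoidHom (Units.mk0 k⁻¹ (inv_ne_zero hk))) ∈ Cfsg.Geo.scalars (Fin m ⊕ Fin m) F := ⟨_, rfl⟩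
    refine ⟨_, mul_mem (Subgroup.mem_sup_left ⟨r₀, rfl⟩) (Subgroup.mem_sup_right hs), ?_⟩
    have he : (Matrix.GeneralLinearGroup.map (F₀.subtype : F₀ →+* F) r₀) * (Units.map (Matrix.scalar (Fin m ⊕ Fin m) : F →+* Matrix (Fin m ⊕ Fin m) (Fin m ⊕ Fin m) F).toMonoidHom (Units.mk0 k⁻¹ (inv_ne_zero hk))) = h := by
      refine Units.ext ?_
      show A₀.map F₀.subtype * Matrix.scalar (Fin m ⊕ Fin m) k⁻¹ = (h : Matrix (Fin m ⊕ Fin m) (Fin m ⊕ Fin m) F)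
      rw [hA]
      simp [Matrix.mul_diagonal, ← Matrix.ext_iff, hk, mul_comm k]
    rw [he, hh]
    simp [mul_assoc]
  · obtain ⟨x, hx, rfl⟩ := hg.1
    obtain ⟨_, ⟨r₀, rfl⟩, s, hs, rfl⟩ := Subgroup.mem_sup_of_normal_right.1 hx
    obtain ⟨c, hc⟩ := (Cfsg.Geo.mem_scalars_iff _).1 hs
    refine ⟨(c : F)⁻¹, inv_ne_zero c.ne_zero, fun a => ⟨(r₀ : Matrix (Fin m ⊕ Fin m) (Fin m ⊕ Fin m) F₀).mulVec a, ?_⟩⟩
    have e : ((r₀ : Matrix (Fin m ⊕ Fin m) (Fin m ⊕ Fin m) F₀).map F₀.subtype).mulVec (Forms.Max.SubfieldLinear.ic F₀ a) = Forms.Max.SubfieldLinear.ic F₀ ((r₀ : Matrix (Fin m ⊕ Fin m) (Fin m ⊕ Fin m) F₀).mulVec a) :=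
      funext fun i => (RingHom.map_mulVec F₀.subtype _ a i).symm
    show (c : F)⁻¹ • ((P * (Matrix.GeneralLinearGroup.map (F₀.subtype : F₀ →+* F) r₀ * s) * P⁻¹ : Matrix.GeneralLinearGroup (Fin m ⊕ Fin m) F) : Matrix (Fin m ⊕ Fin m) (Fin m ⊕ Fin m) F).mulVec ((P : Matrix (Fin m ⊕ Fin m) (Fin m ⊕ Fin m) F).mulVec (Forms.Max.SubfieldLinear.ic F₀ a)) = (P : Matrix (Fin m ⊕ Fin m) (Fin m ⊕ Fin m) F).mulVec (Forms.Max.SubfieldLinear.ic F₀ ((r₀ : Matrix (Fin m ⊕ Fin m) (Fin m ⊕ Fin m) F₀).mulVec a))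
    rw [Forms.Max.mulVec_mul_GL, Forms.Max.inv_mulVec_cancel, Forms.Max.mulVec_mul_GL, Forms.Max.mulVec_mul_GL, hc,
      Matrix.smul_mulVec, Matrix.one_mulVec, Matrix.mulVec_smul, Matrix.mulVec_smul, smul_smul,
      inv_mul_cancel₀ c.ne_zero, one_smul, ← e]
    rfl


end Cfsg.Agent.Forms.Max.SubfieldSympGeo
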