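import Mathlib
import Cfsg.Agent.Lib.Forms.Max.Symp
import Cfsg.Agent.Lib.Forms.Bases

/-!
# Stabilisers of orthogonal decompositions in symplectic groups
-/

set_option autoImplicit false
set_option linter.unusedSectionVars false

namespace Cfsg.Agent.Forms.Max.Symp

open Matrix Cfsg.Agent.Aschbacher Cfsg.Agent.Forms.SympStd

variable {F : Type*} [Field F] {m : ℕ}

local notation "B" => sympB m F

/-- a subspace inside a union of independent subspaces lies in one of them -/
theorem le_of_forall_exists {V : Type*} [AddCommGroup V] [Module F V] {t : ℕ}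
    {D : Fin t → Submodule F V} (hi : iSupIndep D) {S : Submodule F V} (hS : S ≠ ⊥)
    (h : ∀ v ∈ S, ∃ i, v ∈ D i) : ∃ i, S ≤ D i := by
  obtain ⟨v, hv, hv0⟩ := S.exists_mem_ne_zero_of_ne_bot hS
  obtain ⟨a, ha⟩ := h v hv
  refine ⟨a, fun w hw => ?_⟩
  obtain ⟨b, hb⟩ := h w hw
  by_cases hab : b = a
  · exact hab ▸ hb
  obtain ⟨c, hc⟩ := h (v + w) (S.add_mem hv hw)
  by_cases hca : c = a
  · subst hca
    simpa using (D c).sub_mem hc ha
  · exfalso
    refine hv0 (Submodule.disjoint_def.1 (hi a) v ha ?_)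
    have e : v = (v + w) - w := by abel
    rw [e]
    exact Submodule.sub_mem _ (Submodule.mem_iSup_of_mem c (Submodule.mem_iSup_of_mem hca hc))
      (Submodule.mem_iSup_of_mem b (Submodule.mem_iSup_of_mem hab hb))

/-- exchanging two orthogonal symplectic families -/
theorem exists_exchange {k : ℕ} (e f e' f' : Fin k → (Fin m ⊕ Fin m → F))
    (hef : ∀ a b, B (e a) (f b) = if a = b then 1 else 0) (hee : ∀ a b, B (e a) (e b) = 0)
    (hff : ∀ a b, B (f a) (f b) = 0)
    (hef' : ∀ a b, B (e' a) (f' b) = if a = b then 1 else 0) (hee' : ∀ a b, B (e' a) (e' b) = 0)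
    (hff' : ∀ a b, B (f' a) (f' b) = 0)
    (horth : ∀ a b, B (e a) (e' b) = 0 ∧ B (e a) (f' b) = 0 ∧ B (f a) (e' b) = 0 ∧ B (f a) (f' b) = 0) :
    ∃ g ∈ Cfsg.spGL m F,
      (∀ x, (∀ a, B x (e a) = 0 ∧ B x (f a) = 0 ∧ B x (e' a) = 0 ∧ B x (f' a) = 0) →
        (g : Matrix _ _ F) *ᵥ x = x) ∧
      ∀ a, (g : Matrix _ _ F) *ᵥ e a = e' a ∧ (g : Matrix _ _ F) *ᵥ f a = f' a ∧
        (g : Matrix _ _ F) *ᵥ e' a = e a ∧ (g : Matrix _ _ F) *ᵥ f' a = f a := by
  classical
  suffices key : ∀ S : Finset (Fin k), ∃ g ∈ Cfsg.spGL m F,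
      (∀ x, (∀ a ∈ S, B x (e a) = 0 ∧ B x (f a) = 0 ∧ B x (e' a) = 0 ∧ B x (f' a) = 0) →
        (g : Matrix _ _ F) *ᵥ x = x) ∧
      ∀ a ∈ S, (g : Matrix _ _ F) *ᵥ e a = e' a ∧ (g : Matrix _ _ F) *ᵥ f a = f' a ∧
        (g : Matrix _ _ F) *ᵥ e' a = e a ∧ (g : Matrix _ _ F) *ᵥ f' a = f a by
    obtain ⟨g, hg, h1, h2⟩ := key Finset.univ
    exact ⟨g, hg, fun x hx => h1 x fun a _ => hx a, fun a => h2 a (Finset.mem_univ a)⟩
  intro S
  induction S using Finset.induction_on with
  | empty => exact ⟨1, one_mem _, fun x _ => by simp, by simp⟩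
  | insert b S hb ih =>
    obtain ⟨g, hg, h1, h2⟩ := ih
    -- the exchange on the `b`-th pairs
    let L : (Fin m ⊕ Fin m → F) →ₗ[F] (Fin m ⊕ Fin m → F) :=
      LinearMap.id - ((B).flip (f b - f' b)).smulRight (e b - e' b) +
        ((B).flip (e b - e' b)).smulRight (f b - f' b)
    have hL : ∀ x, L x = x - B x (f b - f' b) • (e b - e' b) + B x (e b - e' b) • (f b - f' b) :=
      fun x => by simp [L]
    have hEF : B (e b - e' b) (f b - f' b) = 2 := by
      obtain ⟨o1, o2, o3, o4⟩ := horth b b
      simp only [map_sub, LinearMap.sub_apply, hef, hef', if_true, o2, B_swap (f b) (e' b), o3]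
      ring
    have hLiso : ∀ x y, B (L x) (L y) = B x y := fun x y => by
      rw [hL, hL]
      generalize e b - e' b = E at hEF ⊢
      generalize f b - f' b = G at hEF ⊢
      simp only [map_add, map_sub, map_smul, LinearMap.add_apply, LinearMap.sub_apply,
        LinearMap.smul_apply, smul_eq_mul, B_self, B_swap E G, hEF, B_swap y E, B_swap y G]
      ring
    have hLinj : Function.Injective L := by
      rw [← LinearMap.ker_eq_bot, LinearMap.ker_eq_bot']
      intro x hx
      exact nondeg.1 x fun y => by rw [← hLiso, hx, map_zero, LinearMap.zero_apply]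
    let Le := LinearEquiv.ofBijective L ⟨hLinj, LinearMap.injective_iff_surjective.1 hLinj⟩
    let h : GL (Fin m ⊕ Fin m) F := ⟨LinearMap.toMatrix' Le.toLinearMap,
      LinearMap.toMatrix' Le.symm.toLinearMap, by rw [← LinearMap.toMatrix'_comp]; simp,
      by rw [← LinearMap.toMatrix'_comp]; simp⟩
    have hh : ∀ x, (h : Matrix _ _ F) *ᵥ x = L x := fun x => by
      show LinearMap.toMatrix' Le.toLinearMap *ᵥ x = _
      rw [LinearMap.toMatrix'_mulVec]
      rfl
    have hfix : ∀ x, (B x (e b) = 0 ∧ B x (f b) = 0 ∧ B x (e' b) = 0 ∧ B x (f' b) = 0) → L x = x :=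
      fun x ⟨a1, a2, a3, a4⟩ => by rw [hL]; simp [a1, a2, a3, a4]
    obtain ⟨o1, o2, o3, o4⟩ := horth b b
    have hb' : L (e b) = e' b ∧ L (f b) = f' b ∧ L (e' b) = e b ∧ L (f' b) = f b := by
      refine ⟨?_, ?_, ?_, ?_⟩ <;> rw [hL] <;>
        simp [hef, hef', hee, hee', hff, hff', o1, o2, o3, o4, B_swap (e b) (e' b), B_swap (f b) (e' b),
          B_swap (e b) (f' b), B_swap (f b) (f' b), B_swap (e b) (f b), B_swap (e' b) (f' b)]
    refine ⟨h * g, mul_mem (mem_spGL_iff.2 fun x y => by rw [hh, hh, hLiso]) hg, fun x hx => ?_,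
      fun a ha => ?_⟩
    · rw [mulVec_mul_GL, h1 x fun a ha => hx a (Finset.mem_insert_of_mem ha), hh,
        hfix x (hx b (Finset.mem_insert_self b S))]
    · simp only [mulVec_mul_GL, hh]
      rcases Finset.mem_insert.1 ha with rfl | ha
      · have h0 : ∀ x, (∀ c ∈ S, B x (e c) = 0 ∧ B x (f c) = 0 ∧ B x (e' c) = 0 ∧ B x (f' c) = 0) →
            (g : Matrix _ _ F) *ᵥ x = x := h1
        have hne : ∀ c ∈ S, a ≠ c := fun c hc e0 => hb (e0 ▸ hc)
        rw [h0 (e a) fun c hc => ⟨hee a c, by rw [hef, if_neg (hne c hc)], (horth a c).1, (horth a c).2.1⟩,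
          h0 (f a) fun c hc => ⟨by rw [B_swap (e c), hef, if_neg (hne c hc).symm, neg_zero], hff a c,
            (horth a c).2.2.1, (horth a c).2.2.2⟩,
          h0 (e' a) fun c hc => ⟨by rw [B_swap (e c), (horth c a).1, neg_zero],
            by rw [B_swap (f c), (horth c a).2.2.1, neg_zero], hee' a c, by rw [hef', if_neg (hne c hc)]⟩,
          h0 (f' a) fun c hc => ⟨by rw [B_swap (e c), (horth c a).2.1, neg_zero],
            by rw [B_swap (f c), (horth c a).2.2.2, neg_zero],
            by rw [B_swap (e' c), hef', if_neg (hne c hc).symm, neg_zero], hff' a c⟩]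
        exact hb'
      · have hne : a ≠ b := fun e0 => hb (e0 ▸ ha)
        obtain ⟨q1, q2, q3, q4⟩ := h2 a ha
        rw [q1, q2, q3, q4]
        refine ⟨?_, ?_, ?_, ?_⟩ <;> apply hfix
        · exact ⟨by rw [B_swap (e b), (horth b a).1, neg_zero],
            by rw [B_swap (f b), (horth b a).2.2.1, neg_zero], hee' a b, by rw [hef', if_neg hne]⟩
        · exact ⟨by rw [B_swap (e b), (horth b a).2.1, neg_zero],
            by rw [B_swap (f b), (horth b a).2.2.2, neg_zero],
            by rw [B_swap (e' b), hef', if_neg hne.symm, neg_zero], hff' a b⟩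
        · exact ⟨hee a b, by rw [hef, if_neg hne], (horth a b).1, (horth a b).2.1⟩
        · exact ⟨by rw [B_swap (e b), hef, if_neg hne.symm, neg_zero], hff a b,
            (horth a b).2.2.1, (horth a b).2.2.2⟩

/-- Stabilisers of orthogonal decompositions are maximal in the symplectic group. -/
theorem blocks_maximal [Fintype F] {t k : ℕ} (ht : 2 ≤ t) (hk : 0 < k)
    (D : Fin t → Submodule F (Fin m ⊕ Fin m → F)) (hfin : ∀ i, Module.finrank F (D i) = k)
    (hind : iSupIndep D) (htop : iSup D = ⊤)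
    (hnd : ∀ i, ∀ w ∈ D i, w ≠ 0 → ∃ x ∈ D i, B w x ≠ 0)
    (horth : ∀ i j, i ≠ j → ∀ u ∈ D i, ∀ v ∈ D j, B u v = 0)
    (hex : ¬ (k = 2 ∧ Fintype.card F = 2)) :
    Cfsg.Geo.IsMaximalIn (Cfsg.spGL m F) (Cfsg.Geo.decompositionStabilizer D ⊓ Cfsg.spGL m F) := by
  classical
  have hinj : Function.Injective D := fun i j hij => by
    by_contra hne
    have h1 : Disjoint (D i) (D j) := hind.pairwiseDisjoint hne
    rw [hij] at h1
    have h2 := hfin j
    rw [disjoint_self.1 h1, finrank_bot] at h2
    omega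
  have hbot : ∀ i, D i ≠ ⊥ := fun i h => by
    have h2 := hfin i
    rw [h, finrank_bot] at h2
    omega
  have hcomp : ∀ w, ∃ a : Fin t → (Fin m ⊕ Fin m → F), (∀ i, a i ∈ D i) ∧ ∑ i, a i = w := by
    intro w
    have hw : w ∈ ⨆ i, D i := htop.symm ▸ Submodule.mem_top
    obtain ⟨a, ha, hs⟩ := (Submodule.mem_iSup_iff_exists_finsupp D w).1 hw
    exact ⟨a, ha, by rw [← hs, Finsupp.sum_fintype _ _ fun _ => rfl]⟩
  have hBsum : ∀ (i : Fin t) (x : Fin m ⊕ Fin m → F), x ∈ D i → ∀ a : Fin t → (Fin m ⊕ Fin m → F),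
      (∀ j, a j ∈ D j) → B (∑ j, a j) x = B (a i) x := fun i x hx a ha => by
    rw [map_sum, LinearMap.sum_apply]
    exact Finset.sum_eq_single i (fun j _ hji => horth j i hji _ (ha j) x hx) (by simp)
  have hBB : ∀ a u : Fin t → (Fin m ⊕ Fin m → F), (∀ i, a i ∈ D i) → (∀ i, u i ∈ D i) →
      B (∑ i, a i) (∑ i, u i) = ∑ i, B (a i) (u i) := fun a u ha hu => by
    rw [map_sum]
    exact Finset.sum_congr rfl fun i _ => hBsum i _ (hu i) a ha
  -- vectors in a block orthogonal to a given one
  have haux : ∀ i, ∀ a ∈ D i, a ≠ 0 → ∃ y ∈ D i, y ≠ 0 ∧ y ≠ a ∧ B a y = 0 := by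
    intro i a ha ha0
    by_cases hq : ∃ μ : F, μ ≠ 0 ∧ μ ≠ 1
    · obtain ⟨μ, h0, h1⟩ := hq
      refine ⟨μ • a, (D i).smul_mem μ ha, smul_ne_zero h0 ha0, fun e => h1 ?_,
        by rw [map_smul, B_self, smul_zero]⟩
      exact smul_left_injective F ha0 (by simpa using e)
    push Not at hq
    have hF : Fintype.card F = 2 := le_antisymm (by
      rw [← Finset.card_univ]
      exact (Finset.card_le_card (t := {(0 : F), 1}) fun x _ => by
        rcases eq_or_ne x 0 with rfl | hx
        · simp
        · simp [hq x hx]).trans Finset.card_le_two) Fintype.one_lt_card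
    by_contra hc
    push Not at hc
    let φ : D i →ₗ[F] F := (B a).domRestrict (D i)
    have hker : Submodule.map (D i).subtype (LinearMap.ker φ) ≤ Submodule.span F {a} := by
      rintro _ ⟨⟨y, hy⟩, hy0, rfl⟩
      by_cases h0 : y = 0
      · subst h0; exact zero_mem _
      by_cases h1 : y = a
      · subst h1; exact Submodule.mem_span_singleton_self _
      exact absurd hy0 (hc y hy h0 h1)
    have h1 := Submodule.finrank_mono hker
    rw [finrank_span_singleton ha0, Submodule.finrank_map_subtype_eq] at h1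
    have h2 := LinearMap.finrank_range_add_finrank_ker φ
    have h3 := (Submodule.finrank_le (LinearMap.range φ)).trans_eq (Module.finrank_self F)
    rw [hfin] at h2
    have h4 : k ≠ 1 := by
      intro hk1
      obtain ⟨x, hx, hne⟩ := hnd i a ha ha0
      have e := Submodule.eq_of_le_of_finrank_le ((Submodule.span_singleton_le_iff_mem a (D i)).2 ha)
        (by rw [hfin, finrank_span_singleton ha0, hk1])
      rw [← e] at hx
      obtain ⟨c, rfl⟩ := Submodule.mem_span_singleton.1 hx
      rw [map_smul, B_self, smul_zero] at hne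
      exact hne rfl
    exact hex ⟨by omega, hF⟩
  have hfam : ∀ i, ∃ (n : ℕ) (e f : Fin n → (Fin m ⊕ Fin m → F)), n + n = k ∧
      (∀ a b, B (e a) (f b) = if a = b then 1 else 0) ∧ (∀ a b, B (e a) (e b) = 0) ∧
      (∀ a b, B (f a) (f b) = 0) ∧ (∀ a, e a ∈ D i) ∧ (∀ a, f a ∈ D i) ∧
      Submodule.span F (Set.range (Sum.elim e f)) = D i := fun i => by
    obtain ⟨n, e, f, h⟩ := Bases.exists_sympFamily B sympB_isAlt (D i) fun u hu h => by
      by_contra h0
      obtain ⟨x, hx, hne⟩ := hnd i u hu h0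
      exact hne (h x hx)
    have hsp : Submodule.span F (Set.range (Sum.elim e f)) = D i := le_antisymm
      (Submodule.span_le.2 (by rintro _ ⟨a | a, rfl⟩; exacts [h.e_mem a, h.f_mem a])) h.span
    refine ⟨n, e, f, ?_, h.ef, h.ee, h.ff, h.e_mem, h.f_mem, hsp⟩
    rw [← hfin i, ← hsp, finrank_span_eq_card h.linearIndependent]
    simp
  refine isMaximalIn_of inf_le_right (fun h => ?_) fun M hM hMK g hgM hg => ?_
  · -- a transvection moving a block
    let i₀ : Fin t := ⟨0, by omega⟩
    let j₀ : Fin t := ⟨1, by omega⟩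
    have hne : i₀ ≠ j₀ := by simp [i₀, j₀, Fin.ext_iff]
    obtain ⟨u, hu, hu0⟩ := (D i₀).exists_mem_ne_zero_of_ne_bot (hbot i₀)
    obtain ⟨v, hv, hv0⟩ := (D j₀).exists_mem_ne_zero_of_ne_bot (hbot j₀)
    obtain ⟨x, hx, hux⟩ := hnd i₀ u hu hu0
    obtain ⟨σ, hσ⟩ := (h (spTrv_mem (u + v) (1 : F))).1
    have hmem : (spTrv (u + v) (1 : F) : Matrix _ _ F) *ᵥ x ∈ D (σ i₀) := by
      rw [← hσ i₀]; exact ⟨x, hx, Matrix.toLin'_apply _ _⟩
    have hxv : B x v = 0 := horth i₀ j₀ hne x hx v hv
    rw [spTrv_apply, one_mul, map_add, hxv, add_zero] at hmem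
    set c := B x u with hc
    have hc0 : c ≠ 0 := by rw [hc, B_swap, neg_ne_zero]; exact hux
    -- pairing with `D i₀` and `D j₀` gives two different blocks
    obtain ⟨y, hy, hvy⟩ := hnd j₀ v hv hv0
    by_cases hs : σ i₀ = j₀
    · obtain ⟨z, hz, huz⟩ : ∃ z ∈ D i₀, B (x + c • u) z ≠ 0 := by
        refine hnd i₀ _ ((D i₀).add_mem hx ((D i₀).smul_mem c hu)) fun e => hux ?_
        rw [eq_neg_of_add_eq_zero_left e, map_neg, map_smul, B_self, smul_zero, neg_zero]
      refine huz ?_
      have h0 := horth _ _ (hs ▸ hne.symm) _ hmem z hz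
      rw [smul_add, ← add_assoc, map_add (B), LinearMap.add_apply, map_smul (B), LinearMap.smul_apply,
        horth j₀ i₀ hne.symm v hv z hz, smul_zero, add_zero] at h0
      exact h0
    · have h0 := horth _ _ hs _ hmem y hy
      simp only [map_add, map_smul, LinearMap.add_apply, LinearMap.smul_apply,
        horth i₀ j₀ hne x hx y hy, horth i₀ j₀ hne u hu y hy, smul_eq_mul, zero_add, mul_zero] at h0
      exact mul_ne_zero hc0 hvy h0
  -- centres
  have hpure : ∀ i, ∀ v ∈ D i, v ∈ centres M := fun i v hv c => hM ⟨⟨1, fun j => by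
      refine Submodule.eq_of_le_of_finrank_le ?_ ?_
      · rintro _ ⟨x, hx, rfl⟩
        rw [Matrix.toLin'_apply, spTrv_apply, Equiv.Perm.one_apply]
        by_cases hij : j = i
        · subst hij; exact (D j).add_mem hx ((D j).smul_mem _ hv)
        · rw [horth j i hij x hx v hv, mul_zero, zero_smul, add_zero]; exact hx
      · rw [finrank_img, Equiv.Perm.one_apply]⟩, spTrv_mem v c⟩
  -- changing one component
  have move1 : ∀ a : Fin t → (Fin m ⊕ Fin m → F), (∀ i, a i ∈ D i) → ∑ i, a i ∈ centres M →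
      ∀ i, a i ≠ 0 → ∀ y ∈ D i, y ≠ 0 → ∑ j, Function.update a i y j ∈ centres M := by
    intro a ha hS i hai y hy hy0
    have step : ∀ (z : Fin m ⊕ Fin m → F), z ∈ D i → ∀ y ∈ D i, B z y ≠ 0 →
        ∑ j, Function.update a i z j ∈ centres M → ∑ j, Function.update a i y j ∈ centres M := by
      intro z hz y hy hzy hc
      have hupd : ∀ j, Function.update a i z j ∈ D j := fun j => by
        rcases eq_or_ne j i with rfl | hji
        · rw [Function.update_self]; exact hz
        · rw [Function.update_of_ne hji]; exact ha j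
      have h1 := centres_map (spTrv_mem _ _) (hpure i (y - z) ((D i).sub_mem hy hz) (B z y)⁻¹) hc
      rw [spTrv_apply, hBsum i _ ((D i).sub_mem hy hz) _ hupd, Function.update_self, map_sub, B_self,
        sub_zero, inv_mul_cancel₀ hzy, one_smul] at h1
      convert h1 using 1
      rw [Finset.sum_update_of_mem (Finset.mem_univ i), Finset.sum_update_of_mem (Finset.mem_univ i)]
      abel
    obtain ⟨w, hw, h1, h2⟩ := exists_common B (D i) (hnd i _ (ha i) hai) (hnd i y hy hy0)
    exact step w hw y hy (by rw [B_swap, neg_ne_zero]; exact h2)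
      (step (a i) (ha i) w hw h1 (by rwa [Function.update_eq_self]))
  let Good : Finset (Fin t) → Prop := fun T => ∀ a : Fin t → (Fin m ⊕ Fin m → F), (∀ i, a i ∈ D i) →
    (∀ i, a i ≠ 0 ↔ i ∈ T) → ∑ i, a i ∈ centres M
  have hgood : ∀ a : Fin t → (Fin m ⊕ Fin m → F), (∀ i, a i ∈ D i) → ∑ i, a i ∈ centres M →
      Good (Finset.univ.filter fun i => a i ≠ 0) := by
    intro a ha hS b hb hsupp
    have key : ∀ T : Finset (Fin t), ∑ i, (if i ∈ T then b i else a i) ∈ centres M := by
      intro T
      induction T using Finset.induction_on with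
      | empty => simpa using hS
      | insert i T hi ih =>
        have e : (fun j => if j ∈ insert i T then b j else a j) =
            Function.update (fun j => if j ∈ T then b j else a j) i (b i) := by
          funext j
          rcases eq_or_ne j i with rfl | hji
          · simp
          · simp [Function.update_of_ne hji, hji]
        rw [show (∑ j, if j ∈ insert i T then b j else a j) =
          ∑ j, Function.update (fun j => if j ∈ T then b j else a j) i (b i) j from
          Finset.sum_congr rfl fun j _ => congrFun e j]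
        by_cases hai : a i = 0
        · have hbi : b i = 0 := by
            by_contra hne
            exact (Finset.mem_filter.1 ((hsupp i).1 hne)).2 hai
          have e2 : Function.update (fun j => if j ∈ T then b j else a j) i (b i) =
              fun j => if j ∈ T then b j else a j := by
            refine Function.update_eq_self_iff.2 ?_
            simp [hi, hai, hbi]
          rw [e2]; exact ih
        · refine move1 _ (fun j => by split_ifs; exacts [hb j, ha j]) ih i (by simp [hi, hai]) _ (hb i) ?_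
          exact (hsupp i).2 (Finset.mem_filter.2 ⟨Finset.mem_univ i, hai⟩)
    simpa using key Finset.univ
  have hsupp2 : ∀ (T : Finset (Fin t)), ∃ a : Fin t → (Fin m ⊕ Fin m → F),
      (∀ i, a i ∈ D i) ∧ ∀ i, a i ≠ 0 ↔ i ∈ T := fun T => by
    choose v hv hv0 using fun i => (D i).exists_mem_ne_zero_of_ne_bot (hbot i)
    refine ⟨fun i => if i ∈ T then v i else 0, fun i => ?_, fun i => ?_⟩
    · dsimp only; split_ifs; exacts [hv i, zero_mem _]
    · by_cases hi : i ∈ T <;> simp [hi, hv0 i]
  -- a pair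
  obtain ⟨i, j, hij, hpair⟩ : ∃ i j, i ≠ j ∧ Good {i, j} := by
    obtain ⟨T, hT, hT2⟩ : ∃ T : Finset (Fin t), Good T ∧ 1 < T.card := by
      by_contra hcon
      push Not at hcon
      refine hg ⟨?_, hMK hgM⟩
      have himg : ∀ l, ∃ l', img g (D l) ≤ D l' := fun l => by
        refine le_of_forall_exists hind (fun e => hbot l ?_) fun v hv => ?_
        · rw [← Submodule.finrank_eq_zero, ← finrank_img g, e, finrank_bot]
        obtain ⟨x, hx, rfl⟩ := mem_img.1 hv
        obtain ⟨a, ha, hs⟩ := hcomp ((g : Matrix _ _ F) *ᵥ x)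
        have hc := centres_map (hMK hgM) hgM (hpure l x hx)
        rw [← hs] at hc
        have h1 := hcon _ (hgood a ha hc)
        rcases Classical.em (∃ i, a i ≠ 0) with ⟨i, hi⟩ | hno
        · refine ⟨i, ?_⟩
          rw [← hs, Finset.sum_eq_single i (fun j _ hji => by
            by_contra hj
            exact hji (Finset.card_le_one.1 h1 j (Finset.mem_filter.2 ⟨Finset.mem_univ j, hj⟩) i
              (Finset.mem_filter.2 ⟨Finset.mem_univ i, hi⟩))) (by simp)]
          exact ha i
        · push Not at hno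
          exact ⟨l, by rw [← hs]; simp [hno]⟩
      choose s hs using himg
      have hse : ∀ l, img g (D l) = D (s l) := fun l =>
        Submodule.eq_of_le_of_finrank_le (hs l) (by rw [finrank_img, hfin, hfin])
      have hsinj : Function.Injective s := fun a b hab => hinj (by
        have h1 := hse a
        rw [hab, ← hse b] at h1
        exact Submodule.map_injective_of_injective (fun x y h => mulVec_inj g
          (by simpa [Matrix.toLin'_apply] using h)) h1)
      exact ⟨Equiv.ofBijective s ⟨hsinj, Finite.injective_iff_surjective.1 hsinj⟩, hse⟩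
    obtain ⟨i, hi, j, hj, hij⟩ := Finset.one_lt_card.1 hT2
    refine ⟨i, j, hij, ?_⟩
    obtain ⟨a, ha, hsa⟩ := hsupp2 T
    have hai : a i ≠ 0 := (hsa i).2 hi
    have haj : a j ≠ 0 := (hsa j).2 hj
    obtain ⟨y, hy, hy0, hya, hBy⟩ := haux i _ (ha i) hai
    obtain ⟨z, hz, hBz⟩ : ∃ z ∈ D j, B (a j) z = 1 := by
      obtain ⟨x, hx, hne⟩ := hnd j _ (ha j) haj
      exact ⟨(B (a j) x)⁻¹ • x, (D j).smul_mem _ hx, by rw [map_smul, smul_eq_mul, inv_mul_cancel₀ hne]⟩
    let u : Fin t → (Fin m ⊕ Fin m → F) := Function.update (Function.update a i y) j z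
    have hui : u i = y := by simp [u, hij]
    have huj : u j = z := by simp [u]
    have hul : ∀ l, l ≠ i → l ≠ j → u l = a l := fun l h1 h2 => by simp [u, h1, h2]
    have hu : ∀ l, u l ∈ D l := fun l => by
      by_cases h2 : l = j
      · subst h2; rw [huj]; exact hz
      by_cases h1 : l = i
      · subst h1; rw [hui]; exact hy
      rw [hul l h1 h2]; exact ha l
    have huS : ∑ l, u l ∈ centres M := hT u hu fun l => by
      by_cases h2 : l = j
      · subst h2; rw [huj]
        exact iff_of_true (fun e => by rw [e, map_zero] at hBz; exact zero_ne_one hBz) hj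
      by_cases h1 : l = i
      · subst h1; rw [hui]; exact iff_of_true hy0 hi
      rw [hul l h1 h2]; exact hsa l
    have hBau : B (∑ l, a l) (∑ l, u l) = 1 := by
      rw [hBB a u ha hu, Finset.sum_eq_single j]
      · rw [huj, hBz]
      · intro l _ hlj
        by_cases hli : l = i
        · subst hli; rw [hui, hBy]
        · rw [hul l hli hlj, B_self]
      · simp
    have h1 := centres_map (hMK (huS (-1))) (huS (-1)) (hT a ha hsa)
    rw [spTrv_apply, hBau, mul_one, Finset.smul_sum, ← Finset.sum_add_distrib] at h1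
    have h2 := hgood _ (fun l => (D l).add_mem (ha l) ((D l).smul_mem _ (hu l))) h1
    have e : ({i, j} : Finset (Fin t)) =
        Finset.univ.filter fun l => a l + (-1 : F) • u l ≠ 0 := by
      ext l
      simp only [Finset.mem_insert, Finset.mem_singleton, Finset.mem_filter, Finset.mem_univ, true_and,
        neg_one_smul, ← sub_eq_add_neg, ne_eq, sub_eq_zero]
      by_cases h3 : l = j
      · subst h3; rw [huj]
        refine iff_of_true (Or.inr rfl) fun e => ?_
        rw [← e, B_self] at hBz; exact zero_ne_one hBz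
      by_cases h4 : l = i
      · subst h4; rw [hui]; exact iff_of_true (Or.inl rfl) (Ne.symm hya)
      rw [hul l h4 h3]; simp [h3, h4]
    rw [e]; exact h2
  -- all pairs
  have hswap : ∀ a b : Fin t, a ≠ b → ∀ T, Good T → Good (T.image (Equiv.swap a b)) := by
    intro a b hab T hT c hc hsc
    obtain ⟨n, e, f, hn, hef, hee, hff, he, hf, hsp⟩ := hfam a
    obtain ⟨n', e', f', hn', hef', hee', hff', he', hf', hsp'⟩ := hfam b
    obtain rfl : n = n' := by omega
    obtain ⟨h, hh, hfix, hex'⟩ := exists_exchange e f e' f' hef hee hff hef' hee' hff' fun x y =>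
      ⟨horth a b hab _ (he x) _ (he' y), horth a b hab _ (he x) _ (hf' y),
        horth a b hab _ (hf x) _ (he' y), horth a b hab _ (hf x) _ (hf' y)⟩
    have hmap : ∀ l, img h (D l) ≤ D (Equiv.swap a b l) := fun l => by
      by_cases hla : l = a
      · subst hla
        rw [Equiv.swap_apply_left, ← hsp, img, Submodule.map_span, Submodule.span_le]
        rintro _ ⟨_, ⟨x | x, rfl⟩, rfl⟩ <;> simp only [Sum.elim_inl, Sum.elim_inr, Matrix.toLin'_apply]
        · rw [(hex' x).1]; exact he' x
        · rw [(hex' x).2.1]; exact hf' x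
      by_cases hlb : l = b
      · subst hlb
        rw [Equiv.swap_apply_right, ← hsp', img, Submodule.map_span, Submodule.span_le]
        rintro _ ⟨_, ⟨x | x, rfl⟩, rfl⟩ <;> simp only [Sum.elim_inl, Sum.elim_inr, Matrix.toLin'_apply]
        · rw [(hex' x).2.2.1]; exact he x
        · rw [(hex' x).2.2.2]; exact hf x
      rw [Equiv.swap_apply_of_ne_of_ne hla hlb]
      rintro _ ⟨x, hx, rfl⟩
      rw [Matrix.toLin'_apply, hfix x fun y => ⟨horth l a hla x hx _ (he y), horth l a hla x hx _ (hf y),
        horth l b hlb x hx _ (he' y), horth l b hlb x hx _ (hf' y)⟩]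
      exact hx
    have hhM : h ∈ M := hM ⟨⟨Equiv.swap a b, fun l =>
      Submodule.eq_of_le_of_finrank_le (hmap l) (by rw [finrank_img, hfin, hfin])⟩, hh⟩
    obtain ⟨d, hd, hsd⟩ := hsupp2 T
    let d' : Fin t → (Fin m ⊕ Fin m → F) := fun l => (h : Matrix _ _ F) *ᵥ d (Equiv.swap a b l)
    have hd' : ∀ l, d' l ∈ D l := fun l => by
      have := hmap _ (mulVec_mem_img (hd (Equiv.swap a b l)))
      rwa [Equiv.swap_apply_self] at this
    have hdS : ∑ l, d' l ∈ centres M := by
      have := centres_map hh hhM (hT d hd hsd)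
      rw [mulVec_sum] at this
      rwa [← Equiv.sum_comp (Equiv.swap a b)] at this
    refine hgood d' hd' hdS c hc fun l => (hsc l).trans ?_
    rw [Finset.mem_filter, Finset.mem_image]
    refine ⟨fun ⟨x, hx, e⟩ => ⟨Finset.mem_univ l, ?_⟩, fun ⟨_, hl⟩ => ⟨_, (hsd _).1 ?_, Equiv.swap_apply_self a b l⟩⟩
    · subst e
      show (h : Matrix (Fin m ⊕ Fin m) (Fin m ⊕ Fin m) F) *ᵥ d (Equiv.swap a b (Equiv.swap a b x)) ≠ 0
      rw [Equiv.swap_apply_self]
      exact mulVec_ne_zero h ((hsd x).2 hx)
    · exact fun e => hl (by show _ *ᵥ _ = 0; rw [e, mulVec_zero])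
  have hpairs : ∀ a b, a ≠ b → Good {a, b} := by
    intro a b hab
    have h1 : Good {a, Equiv.swap i a j} := by
      rcases eq_or_ne i a with rfl | hia
      · simpa using hpair
      · simpa [Finset.image_insert] using hswap i a hia _ hpair
    have hja : Equiv.swap i a j ≠ a := fun e => hij.symm (by
      have h0 := congrArg (Equiv.swap i a) e
      rwa [Equiv.swap_apply_self, Equiv.swap_apply_right] at h0)
    rcases eq_or_ne (Equiv.swap i a j) b with e | hne
    · exact e ▸ h1
    · have := hswap _ b hne _ h1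
      rwa [Finset.image_insert, Finset.image_singleton, Equiv.swap_apply_left,
        Equiv.swap_apply_of_ne_of_ne hja.symm hab] at this
  -- all supports
  have hall : ∀ T : Finset (Fin t), 2 ≤ T.card → Good T := by
    intro T
    induction T using Finset.strongInduction with
    | H T ih =>
      intro hT
      by_cases h2 : T.card = 2
      · obtain ⟨a, b, hab, rfl⟩ := Finset.card_eq_two.1 h2
        exact hpairs a b hab
      obtain ⟨l, hl⟩ := Finset.card_pos.1 (show 0 < T.card by omega)
      obtain ⟨i₁, hi₁⟩ := Finset.card_pos.1 (show 0 < (T.erase l).card by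
        rw [Finset.card_erase_of_mem hl]; omega)
      have hil : i₁ ≠ l := (Finset.mem_erase.1 hi₁).1
      have hG := ih _ (Finset.erase_ssubset hl) (by rw [Finset.card_erase_of_mem hl]; omega)
      obtain ⟨a, ha, hsa⟩ := hsupp2 (T.erase l)
      obtain ⟨x, hx, hBx⟩ := hnd i₁ _ (ha i₁) ((hsa i₁).2 hi₁)
      obtain ⟨y, hy, hy0⟩ := (D l).exists_mem_ne_zero_of_ne_bot (hbot l)
      let u : Fin t → (Fin m ⊕ Fin m → F) :=
        Function.update (Function.update 0 i₁ ((B (a i₁) x)⁻¹ • x)) l y
      have hui : u i₁ = (B (a i₁) x)⁻¹ • x := by simp [u, hil]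
      have hul : u l = y := by simp [u]
      have hu0 : ∀ c, c ≠ i₁ → c ≠ l → u c = 0 := fun c h1 h2 => by simp [u, h1, h2]
      have hu : ∀ c, u c ∈ D c := fun c => by
        by_cases h3 : c = l
        · subst h3; rw [hul]; exact hy
        by_cases h4 : c = i₁
        · subst h4; rw [hui]; exact (D c).smul_mem _ hx
        rw [hu0 c h4 h3]; exact zero_mem _
      have huS := hpairs i₁ l hil u hu fun c => by
        by_cases h3 : c = l
        · subst h3; rw [hul]; simp [hy0]
        by_cases h4 : c = i₁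
        · subst h4; rw [hui]
          refine iff_of_true (smul_ne_zero (inv_ne_zero hBx) fun e => hBx (by rw [e, map_zero])) (by simp)
        rw [hu0 c h4 h3]; simp [h3, h4]
      have hal : a l = 0 := by
        by_contra hne
        exact (Finset.mem_erase.1 ((hsa l).1 hne)).1 rfl
      have hBau : B (∑ c, a c) (∑ c, u c) = 1 := by
        rw [hBB a u ha hu, Finset.sum_eq_single i₁]
        · rw [hui, map_smul, smul_eq_mul, inv_mul_cancel₀ hBx]
        · intro c _ hc
          by_cases h3 : c = l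
          · subst h3; rw [hal, map_zero, LinearMap.zero_apply]
          · rw [hu0 c hc h3, map_zero]
        · simp
      have h1 := centres_map (hMK (huS 1)) (huS 1) (hG a ha hsa)
      rw [spTrv_apply, hBau, mul_one, one_smul, ← Finset.sum_add_distrib] at h1
      have h2 := hgood _ (fun c => (D c).add_mem (ha c) (hu c)) h1
      have e : T = Finset.univ.filter fun c => a c + u c ≠ 0 := by
        ext c
        simp only [Finset.mem_filter, Finset.mem_univ, true_and]
        by_cases h3 : c = l
        · subst h3; rw [hul, hal, zero_add]; exact iff_of_true hl hy0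
        by_cases h4 : c = i₁
        · subst h4
          refine iff_of_true (Finset.mem_erase.1 hi₁).2 fun e => ?_
          have h0 := congrArg (B (a c)) e
          rw [map_add, B_self, zero_add, hui, map_smul, smul_eq_mul, inv_mul_cancel₀ hBx, map_zero] at h0
          exact one_ne_zero h0
        rw [hu0 c h4 h3, add_zero]
        exact ⟨fun hc => (hsa c).2 (Finset.mem_erase.2 ⟨h3, hc⟩), fun hc => (Finset.mem_erase.1 ((hsa c).1 hc)).2⟩
      rw [e]; exact h2
  refine spGL_le_of_centres fun v => ?_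
  obtain ⟨a, ha, rfl⟩ := hcomp v
  by_cases h2 : 2 ≤ (Finset.univ.filter fun c => a c ≠ 0).card
  · exact hall _ h2 a ha fun c => by simp
  rcases Classical.em (∃ c, a c ≠ 0) with ⟨c, hc⟩ | hno
  · rw [Finset.sum_eq_single c (fun d _ hdc => by
      by_contra hd
      exact hdc (Finset.card_le_one.1 (show (Finset.univ.filter fun c => a c ≠ 0).card ≤ 1 by omega) d (Finset.mem_filter.2 ⟨Finset.mem_univ d, hd⟩) c
        (Finset.mem_filter.2 ⟨Finset.mem_univ c, hc⟩))) (by simp)]
    exact hpure c _ (ha c)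
  · push Not at hno
    rw [Finset.sum_eq_zero fun d _ => hno d]
    exact hpure ⟨0, by omega⟩ 0 (zero_mem _)

end Cfsg.Agent.Forms.Max.Symp
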