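import Mathlib
import Cfsg.Agent.Lib.Forms.Max.Symp

/-!
# Symplectic groups over extension fields of prime degree are maximal up to semilinearity

`Vec` carries a vector space structure over an extension field `K` of prime degree for which the
standard alternating form `B` is `K`-balanced.  A subgroup containing the `K`-linear isometries and
some element which is not semilinear contains a transvection centred at every vector.
-/

set_option autoImplicit false
set_option linter.unusedSectionVars false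

namespace Cfsg.Agent.Forms.Max.SympExtField

open Matrix Cfsg.Agent.Aschbacher Cfsg.Agent.Forms.SympStd Cfsg.Agent.Forms.Max.Symp

variable {F : Type*} [Field F] {m : ℕ} {K : Type*} [Field K] [Algebra F K] [FiniteDimensional F K]
  [Module K (Fin m ⊕ Fin m → F)] [IsScalarTower F K (Fin m ⊕ Fin m → F)]

local notation "Vec" => (Fin m ⊕ Fin m → F)
local notation "GLm" => GL (Fin m ⊕ Fin m) F
local notation "Mat" => Matrix (Fin m ⊕ Fin m) (Fin m ⊕ Fin m) F
local notation "B" => sympB m F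

/-- a balanced structure over an extension field of prime degree -/
structure Data (F : Type*) [Field F] (m : ℕ) (K : Type*) [Field K] [Algebra F K]
    [Module K (Fin m ⊕ Fin m → F)] where
  χ : K →ₗ[F] F
  hχ : χ ≠ 0
  hr : (Module.finrank F K).Prime
  hm : 3 ≤ m ∨ (0 < m ∧ ((∃ t : F, t ≠ 0 ∧ t ≠ 1) ∨ 3 ≤ Module.finrank F K))
  hadj : ∀ (k : K) (x y : Fin m ⊕ Fin m → F), sympB m F (k • x) y = sympB m F x (k • y)
  halt : ∀ (k : K) (x : Fin m ⊕ Fin m → F), sympB m F (k • x) x = 0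

variable (D : Data F m K)

/-- the pairing of `K` with its dual -/
noncomputable def dual : K ≃ₗ[F] Module.Dual F K :=
  LinearEquiv.ofBijective ((LinearMap.mul F K).compr₂ D.χ) (by
    have hinj : Function.Injective ((LinearMap.mul F K).compr₂ D.χ) := by
      rw [← LinearMap.ker_eq_bot, LinearMap.ker_eq_bot']
      intro a ha
      by_contra h
      refine D.hχ (LinearMap.ext fun k => ?_)
      have := LinearMap.congr_fun ha (a⁻¹ * k)
      rwa [LinearMap.compr₂_apply, LinearMap.mul_apply', mul_inv_cancel_left₀ h, LinearMap.zero_apply] at this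
    exact ⟨hinj, (LinearMap.injective_iff_surjective_of_finrank_eq_finrank Subspace.dual_finrank_eq.symm).1 hinj⟩)

theorem dual_apply (a k : K) : dual D a k = D.χ (a * k) := rfl

theorem chi_ext {a b : K} (h : ∀ k : K, D.χ (k * a) = D.χ (k * b)) : a = b :=
  (dual D).injective (LinearMap.ext fun k => by rw [dual_apply, dual_apply, mul_comm, h, mul_comm])

theorem exists_chi {a : K} (ha : a ≠ 0) (s : F) : ∃ k : K, D.χ (a * k) = s := by
  obtain ⟨k, hk⟩ : ∃ k, D.χ (a * k) ≠ 0 := by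
    by_contra hc
    push Not at hc
    exact ha (chi_ext D fun k => by rw [mul_comm, hc, mul_zero, map_zero])
  exact ⟨(s / D.χ (a * k)) • k, by rw [mul_smul_comm, map_smul, smul_eq_mul, div_mul_cancel₀ _ hk]⟩

/-- the `K`-valued form, as a function -/
noncomputable def fFun (x y : Fin m ⊕ Fin m → F) : K :=
  (dual D).symm (((sympB m F).flip y).comp ((LinearMap.toSpanSingleton K _ x).restrictScalars F))

theorem fFun_spec (k : K) (x y : Vec) : D.χ (k * fFun D x y) = B (k • x) y := by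
  rw [mul_comm, ← dual_apply, fFun, LinearEquiv.apply_symm_apply]
  rfl

/-- the `K`-valued form -/
noncomputable def fK : (Fin m ⊕ Fin m → F) →ₗ[K] (Fin m ⊕ Fin m → F) →ₗ[K] K :=
  LinearMap.mk₂ K (fFun D)
    (fun x x' y => chi_ext D fun k => by
      rw [mul_add, map_add, fFun_spec, fFun_spec, fFun_spec, smul_add, map_add, LinearMap.add_apply])
    (fun c x y => chi_ext D fun k => by rw [fFun_spec, smul_eq_mul, ← mul_assoc, fFun_spec, smul_smul])
    (fun x y y' => chi_ext D fun k => by rw [mul_add, map_add, fFun_spec, fFun_spec, fFun_spec, map_add])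
    (fun c x y => chi_ext D fun k => by
      rw [fFun_spec, smul_eq_mul, ← mul_assoc, fFun_spec, ← D.hadj, smul_smul, mul_comm])

theorem spec (k : K) (x y : Vec) : D.χ (k * fK D x y) = B (k • x) y := fFun_spec D k x y

theorem spec' (k : K) (x y : Vec) : D.χ (k * fK D x y) = B x (k • y) := by rw [spec, D.hadj]

theorem B_eq (x y : Vec) : B x y = D.χ (fK D x y) := by
  have := spec D 1 x y
  rwa [one_mul, one_smul, eq_comm] at this

theorem fK_self (x : Vec) : fK D x x = 0 := chi_ext D fun k => by rw [spec, D.halt, mul_zero, map_zero]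

theorem fK_swap (x y : Vec) : fK D y x = - fK D x y := by
  have := fK_self D (x + y)
  simp only [map_add, LinearMap.add_apply, fK_self] at this
  linear_combination this

theorem fK_nondeg {x : Vec} (h : ∀ y, fK D x y = 0) : x = 0 :=
  nondeg.1 x fun y => by rw [B_eq D, h, map_zero]

theorem exists_partner {x : Vec} (hx : x ≠ 0) : ∃ y, fK D x y = 1 := by
  by_contra hc
  push Not at hc
  refine hx (fK_nondeg D fun y => ?_)
  by_contra h
  exact hc ((fK D x y)⁻¹ • y) (by rw [map_smul, smul_eq_mul, inv_mul_cancel₀ h])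

/-- an orthogonal vector separating -/
theorem exists_sep {w y : Vec} (hw : w ≠ 0) (hy : ∀ t : K, y ≠ t • w) :
    ∃ u, fK D w u = 0 ∧ fK D y u = 1 := by
  obtain ⟨p, hp⟩ := exists_partner D hw
  by_contra hc
  push Not at hc
  refine hy (fK D y p) (sub_eq_zero.1 (fK_nondeg D fun x => ?_))
  by_contra h
  refine hc ((fK D (y - fK D y p • w) x)⁻¹ • (x - fK D w x • p)) ?_ ?_
  · simp [hp]
  · simp only [map_smul, map_sub, smul_eq_mul, LinearMap.sub_apply, LinearMap.smul_apply] at h ⊢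
    field_simp

theorem exists_elem (L : Vec →ₗ[F] Vec) (hL : ∀ x y, B (L x) (L y) = B x y) :
    ∃ g ∈ Cfsg.spGL m F, ∀ x, (g : Mat) *ᵥ x = L x := by
  have hLinj : Function.Injective L := by
    rw [← LinearMap.ker_eq_bot, LinearMap.ker_eq_bot']
    intro x hx
    exact nondeg.1 x fun y => by rw [← hL, hx, map_zero, LinearMap.zero_apply]
  let Le := LinearEquiv.ofBijective L ⟨hLinj, LinearMap.injective_iff_surjective.1 hLinj⟩
  let h : GLm := ⟨LinearMap.toMatrix' Le.toLinearMap, LinearMap.toMatrix' Le.symm.toLinearMap,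
    by rw [← LinearMap.toMatrix'_comp]; simp, by rw [← LinearMap.toMatrix'_comp]; simp⟩
  have hh : ∀ x, (h : Mat) *ᵥ x = L x := fun x => by
    show LinearMap.toMatrix' Le.toLinearMap *ᵥ x = _
    rw [LinearMap.toMatrix'_mulVec]
    rfl
  exact ⟨h, mem_spGL_iff.2 fun x y => by rw [hh, hh, hL], hh⟩

/-- the `K`-linear isometries occur -/
def LinM (M : Subgroup (GL (Fin m ⊕ Fin m) F)) : Prop :=
  ∀ g ∈ Cfsg.spGL m F, (∀ (k : K) (x : Fin m ⊕ Fin m → F),
    (g : Matrix (Fin m ⊕ Fin m) (Fin m ⊕ Fin m) F) *ᵥ (k • x) =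
      k • ((g : Matrix (Fin m ⊕ Fin m) (Fin m ⊕ Fin m) F) *ᵥ x)) → g ∈ M

variable {M : Subgroup (GL (Fin m ⊕ Fin m) F)}

theorem exists_lin (hM : LinM (K := K) M) (L : Vec →ₗ[K] Vec) (hL : ∀ x y, fK D (L x) (L y) = fK D x y) :
    ∃ g ∈ M, g ∈ Cfsg.spGL m F ∧ ∀ x, (g : Mat) *ᵥ x = L x := by
  obtain ⟨g, hg, hgx⟩ := exists_elem (L.restrictScalars F) fun x y => by
    simp only [LinearMap.restrictScalars_apply, B_eq D, hL]
  exact ⟨g, hM g hg fun k x => by simp only [hgx, LinearMap.restrictScalars_apply, map_smul], hg, hgx⟩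

/-- `K`-transvections -/
theorem exists_rt (hM : LinM (K := K) M) (u : Vec) (c : K) :
    ∃ g ∈ M, g ∈ Cfsg.spGL m F ∧ ∀ x, (g : Mat) *ᵥ x = x + (c * fK D x u) • u := by
  obtain ⟨g, h1, h2, h3⟩ := exists_lin D hM (LinearMap.id + (c • (fK D).flip u).smulRight u) fun x y => by
    simp only [LinearMap.add_apply, LinearMap.id_apply, LinearMap.smulRight_apply, LinearMap.smul_apply,
      LinearMap.flip_apply, map_add, map_smul, smul_eq_mul, fK_self, fK_swap D y u, fK_swap D x u]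
    ring
  exact ⟨g, h1, h2, fun x => by rw [h3]; simp⟩

include D in
/-- scalings of lines -/
theorem exists_scale (hM : LinM (K := K) M) {w : Vec} (hw : w ≠ 0) {c : K} (hc : c ≠ 0) :
    ∃ g ∈ M, g ∈ Cfsg.spGL m F ∧ ∀ k : K, (g : Mat) *ᵥ (k • w) = (c * k) • w := by
  obtain ⟨p, hp⟩ := exists_partner D hw
  obtain ⟨g, h1, h2, h3⟩ := exists_lin D hM
    (LinearMap.id + ((c - 1) • (fK D).flip p).smulRight w + ((c⁻¹ - 1) • fK D w).smulRight p) fun x y => by
    simp only [LinearMap.add_apply, LinearMap.id_apply, LinearMap.smulRight_apply, LinearMap.smul_apply,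
      LinearMap.flip_apply, map_add, map_smul, smul_eq_mul, fK_self, hp, fK_swap D w p, fK_swap D y w,
      fK_swap D y p, fK_swap D x w]
    field_simp
    ring
  refine ⟨g, h1, h2, fun k => ?_⟩
  rw [h3]
  simp only [LinearMap.add_apply, LinearMap.id_apply, LinearMap.smulRight_apply, LinearMap.smul_apply,
    LinearMap.flip_apply, map_smul, smul_eq_mul, fK_self, hp]
  module

/-- the movement of a line -/
noncomputable def mv (g : GL (Fin m ⊕ Fin m) F) (w : Fin m ⊕ Fin m → F) : K →ₗ[F] (Fin m ⊕ Fin m → F) :=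
  (Matrix.toLin' (g : Matrix (Fin m ⊕ Fin m) (Fin m ⊕ Fin m) F)).comp
    ((LinearMap.toSpanSingleton K _ w).restrictScalars F)

theorem mv_apply (g : GLm) (w : Vec) (k : K) : mv g w k = (g : Mat) *ᵥ (k • w) := by
  simp [mv, Matrix.toLin'_apply]

/-- the scalars mapped into a line -/
noncomputable def sect (K : Type*) [Field K] [Algebra F K] [Module K (Fin m ⊕ Fin m → F)]
    [IsScalarTower F K (Fin m ⊕ Fin m → F)] (g : GL (Fin m ⊕ Fin m) F) (w w' : Fin m ⊕ Fin m → F) :
    Submodule F K :=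
  (LinearMap.range ((LinearMap.toSpanSingleton K (Fin m ⊕ Fin m → F) w').restrictScalars F)).comap (mv g w)

theorem mem_sect {g : GLm} {w w' : Vec} {k : K} :
    k ∈ sect K g w w' ↔ ∃ t : K, t • w' = (g : Mat) *ᵥ (k • w) := by
  simp [sect, mv_apply]

/-- a moved line -/
def Pair (K : Type*) [Field K] [Algebra F K] [Module K (Fin m ⊕ Fin m → F)]
    [IsScalarTower F K (Fin m ⊕ Fin m → F)] (M : Subgroup (GL (Fin m ⊕ Fin m) F))
    (g : GL (Fin m ⊕ Fin m) F) (w w' : Fin m ⊕ Fin m → F) : Prop :=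
  g ∈ M ∧ w ≠ 0 ∧ w' ≠ 0 ∧ sect K g w w' ≠ ⊤

/-- a moved line with largest intersection -/
def MaxPair (K : Type*) [Field K] [Algebra F K] [Module K (Fin m ⊕ Fin m → F)]
    [IsScalarTower F K (Fin m ⊕ Fin m → F)] (M : Subgroup (GL (Fin m ⊕ Fin m) F))
    (g : GL (Fin m ⊕ Fin m) F) (w w' : Fin m ⊕ Fin m → F) : Prop :=
  Pair K M g w w' ∧ sect K g w w' ≠ ⊥ ∧
    ∀ g' v v', Pair K M g' v v' → Module.finrank F (sect K g' v v') ≤ Module.finrank F (sect K g w w')

/-- the conjugate of a `K`-transvection -/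
theorem exists_conj (hMK : M ≤ Cfsg.spGL m F) (hM : LinM (K := K) M) {g : GLm} (hg : g ∈ M) (u : Vec) (c : K) :
    ∃ h ∈ M, ∀ x, (h : Mat) *ᵥ x =
      x + ((g⁻¹ : GLm) : Mat) *ᵥ ((c * fK D ((g : Mat) *ᵥ x) u) • u) := by
  obtain ⟨ρ, hρ, -, hρx⟩ := exists_rt D hM u c
  exact ⟨g⁻¹ * ρ * g, mul_mem (mul_mem (inv_mem hg) hρ) hg, fun x => by
    rw [mulVec_mul_GL, mulVec_mul_GL, hρx, mulVec_add, Max.inv_mulVec_cancel]⟩

include D in
theorem exists_max (hM : LinM (K := K) M) {g : GLm} (hg : g ∈ M)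
    (hns : ¬ ∀ k : K, ∃ k' : K, ∀ x, (g : Mat) *ᵥ (k • x) = k' • ((g : Mat) *ᵥ x)) :
    ∃ g' w w', MaxPair K M g' w w' := by
  classical
  obtain ⟨w, hw, k, hk⟩ : ∃ w, w ≠ 0 ∧ ∃ k : K, ∀ t : K, t • ((g : Mat) *ᵥ w) ≠ (g : Mat) *ᵥ (k • w) := by
    by_contra hc
    push Not at hc
    refine hns fun k => ?_
    have hne : ∃ x : Vec, x ≠ 0 := ⟨Pi.single (.inl ⟨0, by rcases D.hm with h | ⟨h, -⟩ <;> omega⟩) 1, by simp⟩
    obtain ⟨x₀, hx₀⟩ := hne
    obtain ⟨k', hk'⟩ := hc x₀ hx₀ k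
    have hgx : ∀ {x : Vec}, x ≠ 0 → (g : Mat) *ᵥ x ≠ 0 := fun hx => Max.mulVec_ne_zero g hx
    -- vectors off the line of `x₀`
    have off : ∀ x, x ≠ 0 → ∀ y, (∀ t : K, y ≠ t • x) → ∀ a b : K,
        a • ((g : Mat) *ᵥ x) = (g : Mat) *ᵥ (k • x) → b • ((g : Mat) *ᵥ y) = (g : Mat) *ᵥ (k • y) →
        (∀ t : K, (g : Mat) *ᵥ y ≠ t • ((g : Mat) *ᵥ x)) → a = b := by
      intro x hx y hy a b ha hb hgy
      obtain ⟨c, hc'⟩ := hc (x + y) (fun h => hy (-1) (by rw [neg_one_smul]; exact eq_neg_of_add_eq_zero_right h)) k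
      rw [smul_add, mulVec_add, mulVec_add, ← ha, ← hb, smul_add] at hc'
      have e : (c - b) • ((g : Mat) *ᵥ y) = (a - c) • ((g : Mat) *ᵥ x) := by
        linear_combination (norm := module) hc'
      by_cases h0 : c - b = 0
      · rw [h0, zero_smul, eq_comm, smul_eq_zero, or_iff_left (hgx hx)] at e
        rw [sub_eq_zero.1 e, sub_eq_zero.1 h0]
      · refine absurd ?_ (hgy ((c - b)⁻¹ * (a - c)))
        rw [← smul_smul, ← e, inv_smul_smul₀ h0]
    refine ⟨k', fun x => ?_⟩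
    rcases eq_or_ne x 0 with rfl | hx
    · simp
    obtain ⟨b, hb⟩ := hc x hx k
    by_cases hxx : ∀ t : K, (g : Mat) *ᵥ x ≠ t • ((g : Mat) *ᵥ x₀)
    · have hxl : ∀ t : K, x ≠ t • x₀ := fun t h => by
        obtain ⟨t', ht'⟩ := hc x₀ hx₀ t
        exact hxx t' (by rw [h, ht'])
      rw [← hb, off x₀ hx₀ x hxl k' b hk' hb hxx]
    · push Not at hxx
      obtain ⟨t, ht⟩ := hxx
      obtain ⟨p, hp⟩ := exists_partner D (hgx hx₀)
      obtain ⟨y, hy⟩ : ∃ y, (g : Mat) *ᵥ y = p := ⟨_, Max.mulVec_inv_cancel g p⟩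
      have hy1 : ∀ s : K, (g : Mat) *ᵥ y ≠ s • ((g : Mat) *ᵥ x₀) := fun s h => by
        rw [hy] at h
        rw [h, map_smul, fK_self, smul_zero] at hp
        exact zero_ne_one hp
      have hy2 : ∀ s : K, (g : Mat) *ᵥ y ≠ s • ((g : Mat) *ᵥ x) := fun s h => hy1 (s * t) (by
        rw [h, ht, smul_smul])
      have hy0 : y ≠ 0 := fun h => hy1 0 (by rw [h, mulVec_zero, zero_smul])
      obtain ⟨a, ha⟩ := hc y hy0 k
      have l1 : ∀ s : K, y ≠ s • x₀ := fun s h => by
        obtain ⟨s', hs'⟩ := hc x₀ hx₀ s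
        exact hy1 s' (by rw [h, hs'])
      have l2 : ∀ s : K, y ≠ s • x := fun s h => by
        obtain ⟨s', hs'⟩ := hc x hx s
        exact hy2 s' (by rw [h, hs'])
      rw [← hb, off x₀ hx₀ y l1 k' a hk' ha hy1, ← off x hx y l2 b a hb ha hy2]
  let P : ℕ → Prop := fun e => ∃ g' v v', Pair K M g' v v' ∧ Module.finrank F (sect K g' v v') = e
  have hpair : Pair K M g w ((g : Mat) *ᵥ w) := ⟨hg, hw, Max.mulVec_ne_zero g hw, fun h => by
    obtain ⟨t, ht⟩ := mem_sect.1 (h ▸ Submodule.mem_top : k ∈ sect K g w ((g : Mat) *ᵥ w))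
    exact hk t ht⟩
  have hP : P (Module.finrank F (sect K g w ((g : Mat) *ᵥ w))) := ⟨g, w, _, hpair, rfl⟩
  obtain ⟨g', v, v', hp', he⟩ := Nat.findGreatest_spec (Submodule.finrank_le (sect K g w ((g : Mat) *ᵥ w))) hP
  have hmax : ∀ g'' y y', Pair K M g'' y y' → Module.finrank F (sect K g'' y y') ≤ Module.finrank F (sect K g' v v') :=
    fun g'' y y' h => he ▸ Nat.le_findGreatest (Submodule.finrank_le _) ⟨g'', y, y', h, rfl⟩
  refine ⟨g', v, v', hp', fun h0 => ?_, hmax⟩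
  have h1 := hmax _ _ _ hpair
  rw [h0, finrank_bot, Nat.le_zero, Submodule.finrank_eq_zero] at h1
  have : (1 : K) ∈ sect K g w ((g : Mat) *ᵥ w) := mem_sect.2 ⟨1, by rw [one_smul, one_smul]⟩
  rw [h1, Submodule.mem_bot] at this
  exact one_ne_zero this

theorem exists_good (hMK : M ≤ Cfsg.spGL m F) (hM : LinM (K := K) M) {g : GLm} {w w' : Vec}
    (hp : MaxPair K M g w w') :
    ∃ g', MaxPair K M g' w w ∧ ∃ k : K, fK D ((g' : Mat) *ᵥ (k • w)) w ≠ 0 := by
  obtain ⟨⟨hg, hw, hw', htop⟩, hbot, hmax⟩ := hp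
  obtain ⟨k₁, hk₁⟩ : ∃ k, k ∉ sect K g w w' := by
    by_contra hc
    push Not at hc
    exact htop (eq_top_iff.2 fun k _ => hc k)
  set y := (g : Mat) *ᵥ (k₁ • w) with hy
  obtain ⟨u₁, hu₁, hyu₁⟩ := exists_sep D hw' (y := y) fun t h => hk₁ (mem_sect.2 ⟨t, h.symm⟩)
  -- some conjugate moves the line off its orthogonal space
  obtain ⟨u, c, hu, k, hk⟩ : ∃ u, ∃ c : K, fK D w' u = 0 ∧
      ∃ k : K, fK D (((g⁻¹ : GLm) : Mat) *ᵥ ((c * fK D ((g : Mat) *ᵥ (k • w)) u) • u)) w ≠ 0 := by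
    by_contra hc
    push Not at hc
    have key : ∀ u, fK D w' u = 0 → fK D y u ≠ 0 → fK D (((g⁻¹ : GLm) : Mat) *ᵥ u) w = 0 := fun u hu hu' => by
      have := hc u (fK D y u)⁻¹ hu k₁
      rwa [← hy, inv_mul_cancel₀ hu', one_smul] at this
    have all : ∀ u, fK D w' u = 0 → fK D (((g⁻¹ : GLm) : Mat) *ᵥ u) w = 0 := fun u hu => by
      by_cases h : fK D y u = 0
      · have h1 := key (u + u₁) (by rw [map_add, hu, hu₁, add_zero])
          (by rw [map_add, h, hyu₁, zero_add]; exact one_ne_zero)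
        rwa [mulVec_add, map_add, LinearMap.add_apply,
          key u₁ hu₁ (by rw [hyu₁]; exact one_ne_zero), add_zero] at h1
      · exact key u hu h
    have h0 : fK D y u₁ = 0 := chi_ext D fun s => by
      rw [spec', mul_zero, map_zero, hy]
      have e : fK D w' (s • u₁) = 0 := by rw [map_smul, hu₁, smul_zero]
      have h1 := all _ e
      conv_lhs => rw [← Max.mulVec_inv_cancel g (s • u₁)]
      rw [mem_spGL_iff.1 (hMK hg), B_eq D, map_smul, LinearMap.smul_apply, fK_swap, h1, neg_zero, smul_zero,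
        map_zero]
    exact one_ne_zero (hyu₁.symm.trans h0)
  obtain ⟨h, hh, hhx⟩ := exists_conj D hMK hM hg u c
  have hk' : fK D ((h : Mat) *ᵥ (k • w)) w ≠ 0 := by
    rwa [hhx, map_add, LinearMap.add_apply, map_smul, LinearMap.smul_apply, fK_self, smul_zero, zero_add]
  have hpair : Pair K M h w w := ⟨hh, hw, hw, fun e => hk' (by
    obtain ⟨t, ht⟩ := mem_sect.1 (e ▸ Submodule.mem_top : k ∈ sect K h w w)
    rw [← ht, map_smul, LinearMap.smul_apply, fK_self, smul_zero])⟩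
  have hle : sect K g w w' ≤ sect K h w w := fun a ha => by
    obtain ⟨t, ht⟩ := mem_sect.1 ha
    refine mem_sect.2 ⟨a, ?_⟩
    rw [hhx, ← ht, map_smul, LinearMap.smul_apply, hu, smul_zero, mul_zero, zero_smul, mulVec_zero, add_zero]
  exact ⟨h, ⟨hpair, fun e => hbot (le_bot_iff.1 (e ▸ hle)), fun g' v v' hv =>
    (hmax g' v v' hv).trans (Submodule.finrank_mono hle)⟩, k, hk'⟩

theorem subalgebra_eq_bot {X : Subalgebra F K} (hX : X ≠ ⊤) (hr : (Module.finrank F K).Prime) : X = ⊥ :=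
  ((Subalgebra.isSimpleOrder_of_finrank_prime F K hr).eq_bot_or_eq_top X).resolve_right hX

/-- the action on a line of the conjugate transvections -/
theorem exists_line_transvections (hMK : M ≤ Cfsg.spGL m F) (hM : LinM (K := K) M) {g : GLm} {w w' : Vec}
    (hp : MaxPair K M g w w') {k₁ : K} (hk₁ : fK D ((g : Mat) *ᵥ (k₁ • w)) w' ≠ 0) :
    ∃ ρ : K →ₗ[F] F, ρ ≠ 0 ∧ ρ.ker = sect K g w w' ∧ ∀ k₀, ρ k₀ = 0 → ∃ c : K, ∃ h ∈ M,
      (∀ x, (h : Mat) *ᵥ x = x + ((g⁻¹ : GLm) : Mat) *ᵥ ((c * fK D ((g : Mat) *ᵥ x) w') • w')) ∧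
      ∀ k : K, (h : Mat) *ᵥ (k • w) = (k + ρ k • k₀) • w := by
  obtain ⟨⟨hg, hw, hw', htop⟩, hbot, hmax⟩ := hp
  let a : K →ₗ[F] K := (((fK D).flip w').restrictScalars F).comp (mv g w)
  have ha : ∀ k, a k = fK D ((g : Mat) *ᵥ (k • w)) w' := fun k => by simp [a, mv_apply]
  have hle : sect K g w w' ≤ a.ker := fun k hk => by
    obtain ⟨t, ht⟩ := mem_sect.1 hk
    rw [LinearMap.mem_ker, ha, ← ht, map_smul, LinearMap.smul_apply, fK_self, smul_zero]
  -- the scalars carried into the image of the line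
  let E₂ : Submodule F K :=
    (LinearMap.range (mv (K := K) g w)).comap ((LinearMap.toSpanSingleton K Vec w').restrictScalars F)
  have hE₂ : ∀ t : K, t ∈ E₂ ↔ ∃ k : K, (g : Mat) *ᵥ (k • w) = t • w' := fun t => by
    simp [E₂, mv_apply]
  have hE₂top : E₂ ≠ ⊤ := fun h => by
    have h1 : LinearMap.range ((LinearMap.toSpanSingleton K Vec w').restrictScalars F) ≤ LinearMap.range (mv (K := K) g w) := by
      rintro _ ⟨t, rfl⟩
      exact (h ▸ Submodule.mem_top : t ∈ E₂)
    have i1 : Function.Injective ((LinearMap.toSpanSingleton K Vec w').restrictScalars F) := fun x y e => by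
      simpa using smul_left_injective K hw' (by simpa using e)
    have i2 : Function.Injective (mv (K := K) g w) := fun x y e => by
      rw [mv_apply, mv_apply] at e
      exact smul_left_injective K hw (mulVec_inj g e)
    have h2 := Submodule.eq_of_le_of_finrank_eq h1
      (by rw [LinearMap.finrank_range_of_inj i1, LinearMap.finrank_range_of_inj i2])
    refine htop (eq_top_iff.2 fun k _ => ?_)
    show mv g w k ∈ LinearMap.range _
    rw [h2]
    exact ⟨k, rfl⟩
  have hmoved : ∀ {c : K} {h : GLm}, h ∈ M →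
      (∀ x, (h : Mat) *ᵥ x = x + ((g⁻¹ : GLm) : Mat) *ᵥ ((c * fK D ((g : Mat) *ᵥ x) w') • w')) →
      ∀ k, k ∈ sect K h w w ↔ c * a k ∈ E₂ := by
    intro c h _ hx k
    rw [mem_sect, hE₂, hx, ← ha]
    constructor
    · rintro ⟨t, ht⟩
      refine ⟨t - k, mulVec_inj (g⁻¹) ?_⟩
      rw [Max.inv_mulVec_cancel]
      linear_combination (norm := module) ht
    · rintro ⟨j, hj⟩
      exact ⟨k + j, by rw [← hj, Max.inv_mulVec_cancel, add_smul]⟩
  -- the kernel
  have hker : a.ker = sect K g w w' := by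
    obtain ⟨t, ht⟩ : ∃ t, t ∉ E₂ := by
      by_contra hc
      push Not at hc
      exact hE₂top (eq_top_iff.2 fun k _ => hc k)
    obtain ⟨h, hh, hhx⟩ := exists_conj D hMK hM hg w' (t / a k₁)
    have hpair : Pair K M h w w := ⟨hh, hw, hw, fun e => ht (by
      have := (hmoved hh hhx k₁).1 (e ▸ Submodule.mem_top)
      rwa [div_mul_cancel₀ _ (by rw [ha]; exact hk₁)] at this)⟩
    have h1 : a.ker ≤ sect K h w w := fun k hk => (hmoved hh hhx k).2 (by
      rw [LinearMap.mem_ker.1 hk, mul_zero]; exact E₂.zero_mem)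
    exact (Submodule.eq_of_le_of_finrank_le hle
      ((Submodule.finrank_mono h1).trans (hmax _ _ _ hpair))).symm
  have ha1 : a k₁ ≠ 0 := by rw [ha]; exact hk₁
  -- the image is a line
  have hmul : ∀ t ∈ E₂, ∀ k, t / a k₁ * a k ∈ E₂ := by
    intro t ht k
    rcases eq_or_ne t 0 with rfl | ht0
    · rw [zero_div, zero_mul]; exact E₂.zero_mem
    obtain ⟨h, hh, hhx⟩ := exists_conj D hMK hM hg w' (t / a k₁)
    refine (hmoved hh hhx k).1 ?_
    by_contra hk
    have hpair : Pair K M h w w := ⟨hh, hw, hw, fun e => hk (e ▸ Submodule.mem_top)⟩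
    have h1 : a.ker ≤ sect K h w w := fun j hj => (hmoved hh hhx j).2 (by
      rw [LinearMap.mem_ker.1 hj, mul_zero]; exact E₂.zero_mem)
    have h2 : k₁ ∈ sect K h w w := (hmoved hh hhx k₁).2 (by rwa [div_mul_cancel₀ _ ha1])
    have h3 : a.ker = sect K h w w := Submodule.eq_of_le_of_finrank_le h1 (hker ▸ hmax _ _ _ hpair)
    exact ha1 (LinearMap.mem_ker.1 (h3 ▸ h2))
  let X : Subalgebra F K :=
    { carrier := {x | ∀ t ∈ E₂, x * t ∈ E₂}
      mul_mem' := fun {x y} hx hy t ht => by rw [mul_assoc]; exact hx _ (hy t ht)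
      one_mem' := fun t ht => by rwa [one_mul]
      add_mem' := fun {x y} hx hy t ht => by rw [add_mul]; exact E₂.add_mem (hx t ht) (hy t ht)
      zero_mem' := fun t _ => by rw [zero_mul]; exact E₂.zero_mem
      algebraMap_mem' := fun s t ht => by rw [← Algebra.smul_def]; exact E₂.smul_mem s ht }
  obtain ⟨k₂, hk₂, hk₂0⟩ := (Submodule.ne_bot_iff _).1 hbot
  obtain ⟨t₂, ht₂⟩ := mem_sect.1 hk₂
  have ht₂0 : t₂ ≠ 0 := fun e => hk₂0 (by
    rw [e, zero_smul] at ht₂
    by_contra hk0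
    exact smul_ne_zero hk0 hw (mulVec_inj g (ht₂.symm.trans (mulVec_zero _).symm)))
  have hX : X = ⊥ := subalgebra_eq_bot (fun e => hE₂top (eq_top_iff.2 fun s _ => by
    have := (e ▸ Algebra.mem_top : s / t₂ ∈ X) t₂ ((hE₂ t₂).2 ⟨k₂, ht₂.symm⟩)
    rwa [div_mul_cancel₀ _ ht₂0] at this)) D.hr
  have hone : ∀ k, ∃ s : F, a k = s • a k₁ := fun k => by
    have h1 : a k / a k₁ ∈ X := fun t ht => by
      have := hmul t ht k
      rwa [show a k / a k₁ * t = t / a k₁ * a k by ring]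
    rw [hX, Algebra.mem_bot] at h1
    obtain ⟨s, hs⟩ := h1
    exact ⟨s, by rw [Algebra.smul_def, hs, div_mul_cancel₀ _ ha1]⟩
  -- the functional
  obtain ⟨φ, hφ⟩ := exists_chi D ha1 1
  let ρ : K →ₗ[F] F := D.χ.comp ((LinearMap.mulRight F φ).comp a)
  have hρ : ∀ k, a k = ρ k • a k₁ := fun k => by
    obtain ⟨s, hs⟩ := hone k
    rw [show ρ k = s by simp [ρ, hs, hφ], hs]
  have hρ1 : ρ k₁ = 1 := by simp [ρ, hφ]
  have hρk : ∀ k, ρ k = 0 ↔ a k = 0 := fun k => ⟨fun h => by rw [hρ, h, zero_smul], fun h => by simp [ρ, h]⟩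
  refine ⟨ρ, fun h => zero_ne_one (α := F) (by rw [← hρ1, h, LinearMap.zero_apply]), ?_, fun k₀ hk₀ => ?_⟩
  · rw [← hker]
    ext k
    rw [LinearMap.mem_ker, LinearMap.mem_ker, hρk]
  obtain ⟨t, ht⟩ := mem_sect.1 (show k₀ ∈ sect K g w w' by rw [← hker, LinearMap.mem_ker]; exact (hρk _).1 hk₀)
  obtain ⟨h, hh, hhx⟩ := exists_conj D hMK hM hg w' (t / a k₁)
  refine ⟨_, h, hh, hhx, fun k => ?_⟩
  rw [hhx, ← ha, hρ k, mul_smul_comm, div_mul_cancel₀ _ ha1, smul_assoc, ht, mulVec_smul, Max.inv_mulVec_cancel,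
    add_smul, smul_assoc]

/-- root elements on a line -/
def Rt (M : Subgroup (GL (Fin m ⊕ Fin m) F)) (w : Fin m ⊕ Fin m → F) (f : K → K) : Prop :=
  ∃ g ∈ M, ∀ x, (g : Matrix (Fin m ⊕ Fin m) (Fin m ⊕ Fin m) F) *ᵥ x = x + f (fK D x w) • w

theorem Rt.sub {w : Vec} {f f' : K → K} (hf : Rt D M w f) (hf' : Rt D M w f') : Rt D M w fun a => f a - f' a := by
  obtain ⟨g, hg, hgx⟩ := hf
  obtain ⟨g', hg', hgx'⟩ := hf'
  refine ⟨g * g'⁻¹, mul_mem hg (inv_mem hg'), fun x => ?_⟩
  obtain ⟨y, rfl⟩ : ∃ y, (g' : Mat) *ᵥ y = x := ⟨_, Max.mulVec_inv_cancel g' x⟩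
  have e : fK D ((g' : Mat) *ᵥ y) w = fK D y w := by simp [hgx', fK_self]
  rw [mulVec_mul_GL, Max.inv_mulVec_cancel, e, hgx, hgx', sub_smul]
  abel

/-- centres on a line, degree at least three -/
theorem line_centres (hMK : M ≤ Cfsg.spGL m F) (hM : LinM (K := K) M) {g : GLm} {w w' : Vec}
    (hp : MaxPair K M g w w') {k₁ : K} (hk₁ : fK D ((g : Mat) *ᵥ (k₁ • w)) w' ≠ 0)
    (h3 : 3 ≤ Module.finrank F K) (z : K) : z • w ∈ centres M := by
  obtain ⟨ρ, hρ0, -, hρ⟩ := exists_line_transvections D hMK hM hp hk₁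
  have hw : w ≠ 0 := hp.1.2.1
  -- every transvection of the line
  have htr : ∀ a b : K, a ≠ 0 → D.χ (a * b) = 0 →
      ∃ h ∈ M, ∀ k : K, (h : Mat) *ᵥ (k • w) = (k + D.χ (a * k) • b) • w := by
    intro a b ha hab
    obtain ⟨b₀, hb₀⟩ := (dual D).surjective ρ
    have hb00 : b₀ ≠ 0 := fun e => hρ0 (by rw [← hb₀, e, map_zero])
    have hρe : ∀ k, ρ k = D.χ (b₀ * k) := fun k => by rw [← hb₀, dual_apply]
    set c := a / b₀ with hc
    have hc0 : c ≠ 0 := div_ne_zero ha hb00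
    have hbc : b₀ * c = a := by rw [hc]; field_simp
    obtain ⟨-, h, hh, -, hhx⟩ := hρ (c * b) (by rw [hρe, ← mul_assoc, hbc, hab])
    obtain ⟨σ, hσ, -, hσx⟩ := exists_scale D hM hw hc0
    refine ⟨σ⁻¹ * h * σ, mul_mem (mul_mem (inv_mem hσ) hh) hσ, fun k => mulVec_inj σ ?_⟩
    rw [mulVec_mul_GL, mulVec_mul_GL, Max.mulVec_inv_cancel, hσx, hhx, hσx, hρe, ← mul_assoc, hbc, mul_add,
      mul_smul_comm]
  rcases eq_or_ne z 0 with rfl | hz
  · intro s
    rw [show spTrv ((0 : K) • w) s = 1 from gl_ext fun x => by simp [spTrv_apply]]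
    exact one_mem M
  -- the twisted scalars
  have hΦ : ∀ a p : K, a ≠ 0 → D.χ (a * z) = 0 → Rt D M w fun t =>
      D.χ (z * t) • p + (D.χ (p * t) + D.χ (z * t) * D.χ (a * p)) • z := by
    intro a p ha haz
    set c := p / a with hc
    have hca : c * a = p := div_mul_cancel₀ _ ha
    obtain ⟨h, hh, hhx⟩ := htr a z ha haz
    obtain ⟨ρc, hρc, -, hρcx⟩ := exists_rt D hM w c
    obtain ⟨ρ', hρ', -, hρ'x⟩ := exists_rt D hM w (-c)
    refine ⟨h * ρc * h⁻¹ * ρ', mul_mem (mul_mem (mul_mem hh hρc) (inv_mem hh)) hρ', fun x => ?_⟩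
    have key : fK D (((h⁻¹ : GLm) : Mat) *ᵥ ((ρ' : Mat) *ᵥ x)) w = fK D x w + D.χ (z * fK D x w) • a := by
      have e0 : fK D ((ρ' : Mat) *ᵥ x) w = fK D x w := by simp [hρ'x, fK_self]
      refine chi_ext D fun k => ?_
      rw [spec', ← mem_spGL_iff.1 (hMK hh), Max.mulVec_inv_cancel, hhx, ← spec', e0, add_mul, smul_mul_assoc,
        map_add, map_smul, mul_add, mul_smul_comm, map_add, map_smul, smul_eq_mul, smul_eq_mul, mul_comm k a]
      ring
    rw [mulVec_mul_GL, mulVec_mul_GL, mulVec_mul_GL, hρcx, mulVec_add, Max.mulVec_inv_cancel, hhx, key, hρ'x]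
    have e1 : D.χ (a * (c * (fK D x w + D.χ (z * fK D x w) • a))) =
        D.χ (p * fK D x w) + D.χ (z * fK D x w) * D.χ (a * p) := by
      rw [← mul_assoc, mul_comm a c, hca, mul_add, mul_smul_comm, map_add, map_smul, smul_eq_mul, mul_comm p a]
    rw [e1, mul_add, mul_smul_comm, hca]
    module
  -- two axes
  obtain ⟨a, a', ha, ha', haa, haz, haz'⟩ : ∃ a a' : K, a ≠ 0 ∧ a' ≠ 0 ∧ a - a' ≠ 0 ∧ D.χ (a * z) = 0 ∧ D.χ (a' * z) = 0 := by
    let H : Submodule F K := (D.χ.comp (LinearMap.mulRight F z)).ker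
    have hH : ∀ t, t ∈ H ↔ D.χ (t * z) = 0 := fun t => by simp [H]
    have h2 : 2 ≤ Module.finrank F H := by
      have e := (D.χ.comp (LinearMap.mulRight F z)).finrank_range_add_finrank_ker
      have := Submodule.finrank_le (LinearMap.range (D.χ.comp (LinearMap.mulRight F z)))
      rw [Module.finrank_self] at this
      change _ + Module.finrank F H = _ at e
      omega
    obtain ⟨a, haH, ha⟩ := (Submodule.ne_bot_iff H).1 fun e => by rw [e, finrank_bot] at h2; omega
    obtain ⟨a', ha'H, ha'⟩ : ∃ a' ∈ H, a' ∉ Submodule.span F {a} := by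
      by_contra hc
      push Not at hc
      have := Submodule.finrank_mono (show H ≤ Submodule.span F {a} from hc)
      rw [finrank_span_singleton ha] at this
      omega
    refine ⟨a, a', ha, fun e => ha' (e ▸ zero_mem _), fun e => ha' ?_, (hH a).1 haH, (hH a').1 ha'H⟩
    rw [← sub_eq_zero.1 e]; exact Submodule.mem_span_singleton_self a
  intro s
  obtain ⟨p, hp'⟩ := exists_chi D haa s
  obtain ⟨e, he, hex⟩ := (hΦ a p ha haz).sub D (hΦ a' p ha' haz')
  have : e = spTrv (z • w) s := gl_ext fun x => by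
    rw [hex, spTrv_apply, ← spec' D, ← hp', sub_mul, map_sub, ← smul_assoc]
    congr 2
    module
  exact this ▸ he

/-- Siegel elements on two lines -/
def Sg (M : Subgroup (GL (Fin m ⊕ Fin m) F)) (w v : Fin m ⊕ Fin m → F) (f f' : K → K) : Prop :=
  ∃ g ∈ M, ∀ x, (g : Matrix (Fin m ⊕ Fin m) (Fin m ⊕ Fin m) F) *ᵥ x =
    x + f (fK D x w) • v + f' (fK D x v) • w

theorem exists_siegelK (hM : LinM (K := K) M) {w v : Vec} (hwv : fK D w v = 0) (c : K) :
    Sg D M w v (c * ·) (c * ·) := by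
  obtain ⟨g, hg, -, hgx⟩ := exists_lin D hM
    (LinearMap.id + (c • (fK D).flip w).smulRight v + (c • (fK D).flip v).smulRight w) fun x y => by
    simp only [LinearMap.add_apply, LinearMap.id_apply, LinearMap.smulRight_apply, LinearMap.smul_apply,
      LinearMap.flip_apply, map_add, map_smul, smul_eq_mul, fK_self, hwv, fK_swap D w v, fK_swap D y w,
      fK_swap D y v]
    ring
  exact ⟨g, hg, fun x => by rw [hgx]; simp⟩

/-- centres on a line, degree two -/
theorem line_centres_two (hMK : M ≤ Cfsg.spGL m F) (hM : LinM (K := K) M) {g : GLm} {w w' : Vec}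
    (hp : MaxPair K M g w w') {k₁ : K} (hk₁ : fK D ((g : Mat) *ᵥ (k₁ • w)) w' ≠ 0)
    (h2 : Module.finrank F K = 2) (z : K) : z • w ∈ centres M := by
  obtain ⟨ρ, hρ0, hρker, hρ⟩ := exists_line_transvections D hMK hM hp hk₁
  have hw : w ≠ 0 := hp.1.2.1
  obtain ⟨k₀, hk₀, hk₀0⟩ := (Submodule.ne_bot_iff _).1 (hρker ▸ hp.2.1)
  obtain ⟨c, h, hh, hhall, hhx⟩ := hρ k₀ (LinearMap.mem_ker.1 hk₀)
  obtain ⟨a, ha⟩ := (dual D).surjective ρ
  have ha0 : a ≠ 0 := fun e => hρ0 (by rw [← ha, e, map_zero])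
  have hρe : ∀ k, ρ k = D.χ (a * k) := fun k => by rw [← ha, dual_apply]
  by_cases hsmall : ∃ t : F, t ≠ 0 ∧ t ≠ 1
  · -- two multiples of the transvection of the line
    have hak : D.χ (a * k₀) = 0 := by rw [← hρe]; exact LinearMap.mem_ker.1 hk₀
    have hE : ∀ (t : F) (p : K), t ≠ 0 → Rt D M w fun y =>
        D.χ (k₀ * y) • p + (D.χ (p * y) + t * (D.χ (k₀ * y) * D.χ (a * p))) • k₀ := by
      intro t p ht
      obtain ⟨-, h', hh', -, hh'x⟩ := hρ (t • k₀) (by rw [hρe, mul_smul_comm, map_smul, hak, smul_zero])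
      set d := p / a / algebraMap F K t with hd
      obtain ⟨ρc, hρc, -, hρcx⟩ := exists_rt D hM w d
      obtain ⟨ρ', hρ', -, hρ'x⟩ := exists_rt D hM w (-d)
      refine ⟨h' * ρc * h'⁻¹ * ρ', mul_mem (mul_mem (mul_mem hh' hρc) (inv_mem hh')) hρ', fun x => ?_⟩
      have htK : algebraMap F K t ≠ 0 := (_root_.map_ne_zero _).2 ht
      have hda : t • (d * a) = p := by rw [Algebra.smul_def, hd]; field_simp
      have key : fK D (((h'⁻¹ : GLm) : Mat) *ᵥ ((ρ' : Mat) *ᵥ x)) w = fK D x w + D.χ (t • k₀ * fK D x w) • a := by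
        have e0 : fK D ((ρ' : Mat) *ᵥ x) w = fK D x w := by simp [hρ'x, fK_self]
        refine chi_ext D fun k => ?_
        rw [spec', ← mem_spGL_iff.1 (hMK hh'), Max.mulVec_inv_cancel, hh'x, ← spec', e0, hρe, add_mul, smul_mul_assoc,
          map_add, map_smul, mul_add, mul_smul_comm, map_add, map_smul, smul_eq_mul, smul_eq_mul, mul_comm k a]
        ring
      rw [mulVec_mul_GL, mulVec_mul_GL, mulVec_mul_GL, hρcx, mulVec_add, Max.mulVec_inv_cancel, hh'x, hρe, key, hρ'x]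
      have e1 : D.χ (p * fK D x w) = t * D.χ (d * a * fK D x w) := by
        rw [← hda, smul_mul_assoc, map_smul, smul_eq_mul]
      have e2 : D.χ (a * (d * (fK D x w + D.χ (t • k₀ * fK D x w) • a))) =
          D.χ (d * a * fK D x w) + t * D.χ (k₀ * fK D x w) * D.χ (a * (d * a)) := by
        rw [smul_mul_assoc, map_smul, smul_eq_mul, mul_add, mul_smul_comm, mul_add, mul_smul_comm, map_add, map_smul,
          smul_eq_mul, show a * (d * fK D x w) = d * a * fK D x w by ring]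
      have e3 : D.χ (a * p) = t * D.χ (a * (d * a)) := by rw [← hda, mul_smul_comm, map_smul, smul_eq_mul]
      rw [e2]
      beta_reduce
      rw [e1, e3, mul_add, mul_smul_comm, smul_mul_assoc, map_smul, smul_eq_mul]
      conv_rhs => rw [← hda]
      match_scalars <;> (try simp only [Algebra.smul_def, map_mul, map_add, map_sub, map_one]) <;> ring
    have hk₀w : ∀ s : F, spTrv (k₀ • w) s ∈ M := by
      intro s
      obtain ⟨p, hp'⟩ := exists_chi D ha0 1
      obtain ⟨t', ht'0, ht'⟩ : ∃ t' : F, t' ≠ 0 ∧ s + t' ≠ 0 := by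
        obtain ⟨t, ht0, ht1⟩ := hsmall
        by_cases h1 : s + 1 = 0
        · exact ⟨t, ht0, fun e => ht1 (by linear_combination e - h1)⟩
        · exact ⟨1, one_ne_zero, h1⟩
      obtain ⟨e, he, hex⟩ := (hE (s + t') p ht').sub D (hE t' p ht'0)
      have : e = spTrv (k₀ • w) s := gl_ext fun x => by
        rw [hex, spTrv_apply, ← spec' D, hp', ← smul_assoc]
        congr 1
        simp only [Algebra.smul_def, map_add, map_mul, map_sub, map_one]
        congr 1
        ring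
      exact this ▸ he
    rcases eq_or_ne z 0 with rfl | hz
    · intro s
      rw [show spTrv ((0 : K) • w) s = 1 from gl_ext fun x => by simp [spTrv_apply]]
      exact one_mem M
    obtain ⟨σ, hσ, hσ', hσx⟩ := exists_scale D hM hw (div_ne_zero hz hk₀0)
    have := centres_map hσ' hσ hk₀w
    rwa [hσx, div_mul_cancel₀ _ hk₀0] at this
  -- a pair orthogonal to the line and to the image of `h - 1`
  obtain ⟨v, u₀, huv, hv, hu₀⟩ : ∃ v u₀, fK D u₀ v = 1 ∧
      (fK D v w = 0 ∧ ∀ k : K, fK D v (((g⁻¹ : GLm) : Mat) *ᵥ (k • w')) = 0) ∧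
      (fK D u₀ w = 0 ∧ ∀ k : K, fK D u₀ (((g⁻¹ : GLm) : Mat) *ᵥ (k • w')) = 0) := by
    -- one scalar of the moved line is carried back into the line
    obtain ⟨t₀, ht₀⟩ := mem_sect.1 (show k₀ ∈ sect K g w w' from hρker ▸ hk₀)
    have ht₀0 : t₀ ≠ 0 := fun e => by
      rw [e, zero_smul, eq_comm] at ht₀
      exact smul_ne_zero hk₀0 hw (mulVec_inj g (ht₀.trans (mulVec_zero _).symm))
    obtain ⟨t₁, ht₁⟩ : ∃ t₁ : K, t₁ ∉ Submodule.span F {t₀} := by
      by_contra hc
      push Not at hc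
      have := Submodule.finrank_mono (show (⊤ : Submodule F K) ≤ Submodule.span F {t₀} from fun x _ => hc x)
      rw [finrank_top, h2, finrank_span_singleton ht₀0] at this
      omega
    have hspan : ∀ k : K, ∃ s s' : F, s • t₀ + s' • t₁ = k := fun k => by
      have htop : Submodule.span F {t₀, t₁} = (⊤ : Submodule F K) := by
        have hlt : Submodule.span F {t₀} < Submodule.span F {t₀, t₁} :=
          lt_of_le_of_ne (Submodule.span_mono (by simp)) fun e =>
            ht₁ (e ▸ Submodule.subset_span (by simp))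
        have h1 := Submodule.finrank_lt_finrank_of_lt hlt
        rw [finrank_span_singleton ht₀0] at h1
        refine Submodule.eq_top_of_finrank_eq ?_
        have := Submodule.finrank_le (Submodule.span F ({t₀, t₁} : Set K))
        omega
      exact Submodule.mem_span_pair.1 (htop ▸ Submodule.mem_top)
    let Ψ : Vec →ₗ[F] (K × K) :=
      (((fK D).flip w).restrictScalars F).prod
        (((fK D).flip (((g⁻¹ : GLm) : Mat) *ᵥ (t₁ • w'))).restrictScalars F)
    have hΨ : ∀ x ∈ Ψ.ker, fK D x w = 0 ∧ ∀ k : K, fK D x (((g⁻¹ : GLm) : Mat) *ᵥ (k • w')) = 0 := fun x hx => by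
      simp only [Ψ, LinearMap.mem_ker, LinearMap.prod_apply, Function.prod, Prod.mk_eq_zero,
        LinearMap.restrictScalars_apply, LinearMap.flip_apply] at hx
      refine ⟨hx.1, fun k => ?_⟩
      obtain ⟨s, s', rfl⟩ := hspan k
      rw [add_smul, smul_assoc, smul_assoc, mulVec_add, mulVec_smul, mulVec_smul, ht₀, Max.inv_mulVec_cancel]
      simp only [map_add, map_smul, LinearMap.map_smul_of_tower, hx.1, hx.2, smul_zero, add_zero]
    obtain ⟨x, hx, y, hy, hxy⟩ : ∃ x ∈ Ψ.ker, ∃ y ∈ Ψ.ker, fK D x y ≠ 0 := by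
      -- the moved line meets the line outside its orthogonal space
      set e := ((g⁻¹ : GLm) : Mat) *ᵥ (t₁ • w') with he
      have hc : fK D w e ≠ 0 := fun h0 => hk₁ (chi_ext D fun j => by
        rw [spec', mul_zero, map_zero, ← Max.mulVec_inv_cancel g (j • w'), mem_spGL_iff.1 (hMK hp.1.1), B_eq D]
        obtain ⟨s, s', rfl⟩ := hspan j
        rw [add_smul, smul_assoc, smul_assoc, mulVec_add, mulVec_smul, mulVec_smul, ht₀, Max.inv_mulVec_cancel, ← he]
        simp [map_add, map_smul, LinearMap.map_smul_of_tower, fK_self, h0])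
      have hne : Ψ.ker ≠ ⊥ := fun h0 => by
        have h4 := Ψ.finrank_range_add_finrank_ker
        have h5 := Submodule.finrank_le (LinearMap.range Ψ)
        rw [Module.finrank_prod, h2] at h5
        rw [finrank_vec, h0, finrank_bot] at h4
        have := D.hm.resolve_right fun h => h.2.elim hsmall fun h3 => by omega
        omega
      obtain ⟨x, hx, hx0⟩ := (Submodule.ne_bot_iff _).1 hne
      obtain ⟨p, hp'⟩ := exists_partner D hx0
      obtain ⟨n1, n2⟩ := hΨ x hx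
      refine ⟨x, hx, p - (fK D p e / fK D w e) • w + (fK D p w / fK D w e) • e, ?_, ?_⟩
      · simp only [Ψ, LinearMap.mem_ker, LinearMap.prod_apply, Function.prod, Prod.mk_eq_zero,
          LinearMap.restrictScalars_apply, LinearMap.flip_apply, ← he, map_add, map_sub, map_smul,
          LinearMap.add_apply, LinearMap.sub_apply, LinearMap.smul_apply, smul_eq_mul, fK_self, fK_swap D w e,
          mul_zero, sub_zero, add_zero]
        simp only [Prod.ext_iff, Prod.fst_add, Prod.snd_add, Prod.fst_sub, Prod.snd_sub, Prod.fst_zero, Prod.snd_zero]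
        constructor <;> field_simp <;> ring
      · rw [map_add, map_sub, map_smul, map_smul, n1, n2 t₁, smul_zero, smul_zero, sub_zero, add_zero, hp']
        exact one_ne_zero
    obtain ⟨n1, n2⟩ := hΨ x hx
    obtain ⟨n3, n4⟩ := hΨ y hy
    refine ⟨(fK D x y)⁻¹ • y, x, by rw [map_smul, smul_eq_mul, inv_mul_cancel₀ hxy], ⟨?_, fun k => ?_⟩, n1, n2⟩
    · rw [map_smul, LinearMap.smul_apply, n3, smul_zero]
    · rw [map_smul, LinearMap.smul_apply, n4, smul_zero]
  have hfix : ∀ {u : Vec}, (fK D u w = 0 ∧ ∀ k : K, fK D u (((g⁻¹ : GLm) : Mat) *ᵥ (k • w')) = 0) → ∀ k : K,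
      (h : Mat) *ᵥ (k • u) = k • u := by
    intro u hu k
    have e : fK D ((g : Mat) *ᵥ (k • u)) w' = 0 := chi_ext D fun j => by
      rw [spec', ← Max.mulVec_inv_cancel g (j • w'), mem_spGL_iff.1 (hMK hp.1.1), B_eq D, map_smul,
        LinearMap.smul_apply, hu.2, smul_zero, map_zero, mul_zero, map_zero]
    rw [hhall, e, mul_zero, zero_smul, mulVec_zero, add_zero]
  -- the twisted Siegel elements
  have hS : ∀ {u : Vec}, (fK D u w = 0 ∧ ∀ k : K, fK D u (((g⁻¹ : GLm) : Mat) *ᵥ (k • w')) = 0) → ∀ p : K,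
      Sg D M w u (fun t => D.χ (k₀ * t) • p) (fun t => D.χ (p * t) • k₀) := by
    intro u hu p
    set d := p / a with hd
    have hda : d * a = p := div_mul_cancel₀ _ ha0
    have hwu : fK D w u = 0 := by rw [fK_swap, hu.1, neg_zero]
    obtain ⟨S, hS, hSx⟩ := exists_siegelK D hM hwu d
    obtain ⟨S', hS', hS'x⟩ := exists_siegelK D hM hwu (-d)
    refine ⟨h * S * h⁻¹ * S', mul_mem (mul_mem (mul_mem hh hS) (inv_mem hh)) hS', fun x => ?_⟩
    set y := ((h⁻¹ : GLm) : Mat) *ᵥ ((S' : Mat) *ᵥ x) with hy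
    have e1 : fK D ((S' : Mat) *ᵥ x) w = fK D x w := by simp [hS'x, hu.1, fK_self]
    have e2 : fK D ((S' : Mat) *ᵥ x) u = fK D x u := by simp [hS'x, hwu, fK_self]
    have k1 : fK D y w = fK D x w + D.χ (k₀ * fK D x w) • a := chi_ext D fun k => by
      rw [spec', hy, ← mem_spGL_iff.1 (hMK hh), Max.mulVec_inv_cancel, hhx, ← spec', e1, hρe, add_mul, smul_mul_assoc,
        map_add, map_smul, mul_add, mul_smul_comm, map_add, map_smul, smul_eq_mul, smul_eq_mul, mul_comm k a]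
      ring
    have k2 : fK D y u = fK D x u := chi_ext D fun k => by
      rw [spec', hy, ← mem_spGL_iff.1 (hMK hh), Max.mulVec_inv_cancel, hfix hu, ← spec', e2]
    rw [mulVec_mul_GL, mulVec_mul_GL, mulVec_mul_GL, hSx, ← hy, mulVec_add, mulVec_add, hy, Max.mulVec_inv_cancel,
      ← hy, k1, k2, hfix hu, hhx, hρe, hS'x]
    beta_reduce
    rw [mul_add, mul_smul_comm, hda, ← mul_assoc, mul_comm a d, hda]
    module
  have hk₀w : ∀ s : F, spTrv (k₀ • w) s ∈ M := by
    intro s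
    obtain ⟨d, hd⟩ := exists_chi D one_ne_zero s
    obtain ⟨S, hS₁, hSx⟩ := hS hv 1
    obtain ⟨S', hS₂, hS'x⟩ := hS hu₀ d
    obtain ⟨τ, hτ, -, hτx⟩ := exists_rt D hM u₀ d
    have hvu : fK D v u₀ = -1 := by rw [fK_swap, huv]
    have hwv : fK D w v = 0 := by rw [fK_swap, hv.1, neg_zero]
    have hwu : fK D w u₀ = 0 := by rw [fK_swap, hu₀.1, neg_zero]
    have e : τ * S' * spTrv (k₀ • w) s * S = S * τ := by
      refine gl_ext fun x => ?_
      have k3 : B ((S : Mat) *ᵥ x) (k₀ • w) = D.χ (k₀ * fK D x w) := by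
        rw [← spec' D, hSx]; simp [fK_self, hv.1]
      simp only [mulVec_mul_GL, spTrv_apply, k3]
      rw [← hd]
      simp only [hSx, hS'x, hτx, map_add, map_smul, LinearMap.map_smul_of_tower, LinearMap.add_apply,
        LinearMap.smul_apply, smul_eq_mul, one_mul, mul_one, fK_self, hvu, huv, hv.1, hu₀.1, hwv, hwu, mul_zero,
        zero_mul, add_zero, zero_add, smul_zero, mul_neg, smul_neg, mul_add, mul_smul_comm, neg_mul]
      simp only [map_neg, map_smul, smul_eq_mul, smul_assoc]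
      match_scalars <;> (try simp only [Algebra.smul_def, map_mul, map_neg, map_add]) <;> ring
    have : spTrv (k₀ • w) s = S'⁻¹ * τ⁻¹ * (S * τ * S⁻¹) := by rw [← e]; group
    rw [this]
    exact mul_mem (mul_mem (inv_mem hS₂) (inv_mem hτ)) (mul_mem (mul_mem hS₁ hτ) (inv_mem hS₁))
  rcases eq_or_ne z 0 with rfl | hz
  · intro s
    rw [show spTrv ((0 : K) • w) s = 1 from gl_ext fun x => by simp [spTrv_apply]]
    exact one_mem M
  obtain ⟨σ, hσ, hσ', hσx⟩ := exists_scale D hM hw (div_ne_zero hz hk₀0)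
  have := centres_map hσ' hσ hk₀w
  rwa [hσx, div_mul_cancel₀ _ hk₀0] at this

include D in
theorem sp_le (hMK : M ≤ Cfsg.spGL m F) (hM : LinM (K := K) M) {g : GLm} (hg : g ∈ M)
    (hns : ¬ ∀ k : K, ∃ k' : K, ∀ x, (g : Mat) *ᵥ (k • x) = k' • ((g : Mat) *ᵥ x)) : Cfsg.spGL m F ≤ M := by
  obtain ⟨g₁, w, w', hp⟩ := exists_max D hM hg hns
  obtain ⟨g₂, hp₂, k₁, hk₁⟩ := exists_good D hMK hM hp
  have hwc : w ∈ centres M := by
    have : ∀ z : K, z • w ∈ centres M := by
      by_cases h3 : 3 ≤ Module.finrank F K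
      · exact line_centres D hMK hM hp₂ hk₁ h3
      · exact line_centres_two D hMK hM hp₂ hk₁ (by have := D.hr.two_le; omega)
    simpa using this 1
  have hw : w ≠ 0 := hp.1.2.1
  have step : ∀ {u v : Vec}, u ∈ centres M → fK D u v ≠ 0 → v ∈ centres M := by
    intro u v hu h
    obtain ⟨τ, hτ, hτ', hτx⟩ := exists_rt D hM (v - u) (fK D u v)⁻¹
    have := centres_map hτ' hτ hu
    rwa [hτx, map_sub, fK_self, sub_zero, inv_mul_cancel₀ h, one_smul, add_sub_cancel] at this
  refine spGL_le_of_centres fun v => ?_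
  rcases eq_or_ne v 0 with rfl | hv
  · simpa using centres_smul 0 hwc
  obtain ⟨p, hp'⟩ := exists_partner D hw
  obtain ⟨p', hp''⟩ := exists_partner D hv
  obtain ⟨y, h1, h2⟩ : ∃ y, fK D w y ≠ 0 ∧ fK D y v ≠ 0 := by
    by_cases h : fK D v p = 0
    · by_cases h' : fK D w p' = 0
      · exact ⟨p + p', by rw [map_add, hp', h', add_zero]; exact one_ne_zero, by
          rw [fK_swap, map_add, h, hp'', zero_add]; simp⟩
      · exact ⟨p', h', by rw [fK_swap, hp'']; simp⟩
    · exact ⟨p, by rw [hp']; exact one_ne_zero, by rw [fK_swap]; simpa using h⟩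
  exact step (step hwc h1) h2

include D in
/-- transvections are not semilinear -/
theorem exists_not_semilinear :
    ∃ g ∈ Cfsg.spGL m F, ¬ ∀ k : K, ∃ k' : K, ∀ x, (g : Mat) *ᵥ (k • x) = k' • ((g : Mat) *ᵥ x) := by
  obtain ⟨v, hv⟩ : ∃ v : Vec, v ≠ 0 := ⟨Pi.single (.inl ⟨0, by rcases D.hm with h | ⟨h, -⟩ <;> omega⟩) 1, by simp⟩
  obtain ⟨a, ha, ha0⟩ : ∃ a, D.χ a = 0 ∧ a ≠ 0 := by
    have h := D.χ.finrank_range_add_finrank_ker
    have h1 := Submodule.finrank_le (LinearMap.range D.χ)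
    rw [Module.finrank_self] at h1
    obtain ⟨a, ha, ha0⟩ := (Submodule.ne_bot_iff D.χ.ker).1 fun e => by
      rw [e, finrank_bot] at h; have := D.hr.two_le; omega
    exact ⟨a, ha, ha0⟩
  obtain ⟨p, hp⟩ := exists_partner D hv
  have hy : fK D ((-a) • p) v = a := by
    rw [map_smul, LinearMap.smul_apply, fK_swap, hp]; simp
  refine ⟨spTrv v 1, spTrv_mem _ _, fun h => ha0 (chi_ext D fun k => ?_)⟩
  obtain ⟨k', hk'⟩ := h k
  have e := hk' ((-a) • p)
  rw [spTrv_apply, spTrv_apply, one_mul, one_mul, B_eq D ((-a) • p), hy, ha, zero_smul, add_zero] at e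
  generalize (-a) • p = y at hy e ⊢
  have e2 := congrArg (fun x => fK D x v) e
  simp only [map_add, map_smul, LinearMap.map_smul_of_tower, LinearMap.add_apply, LinearMap.smul_apply, hy, fK_self,
    smul_zero, add_zero, smul_eq_mul] at e2
  have e3 : k = k' := mul_right_cancel₀ ha0 e2
  rw [← e3, add_eq_left, smul_eq_zero, or_iff_left hv] at e
  rw [mul_zero, map_zero, ← hy, spec]
  exact e

end Cfsg.Agent.Forms.Max.SympExtField
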