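import Mathlib
import Cfsg.Agent.Lib.Forms.Max.SympExtField
import Cfsg.Agent.Lib.Forms.Max.Core

/-!
# Normalisers of self-adjoint subfields are maximal in the symplectic group
-/

set_option autoImplicit false
open Cfsg
open scoped Matrix

namespace Cfsg.Agent.Forms.Max.SympExtNormalizer

theorem maximal₃ {F : Type*} [Field F] [Fintype F] (m : ℕ) (r : ℕ) (hr : r.Prime) (hm : 3 ≤ m ∨ (0 < m ∧ ((∃ t : F, t ≠ 0 ∧ t ≠ 1) ∨ 3 ≤ r))) (K : Subalgebra F (Matrix (Fin m ⊕ Fin m) (Fin m ⊕ Fin m) F)) (hK : Cfsg.Geo.IsFieldSubalgebra r K) (hsa : Cfsg.Geo.IsSelfAdjointFor (Cfsg.sympForm m F) K) (halt : ∀ k ∈ K, ∀ v : (Fin m ⊕ Fin m → F), Cfsg.sympForm m F (Matrix.mulVec k v) v = 0) : Cfsg.Geo.IsMaximalIn (Cfsg.spGL m F) (Cfsg.Geo.subalgebraNormalizer K ⊓ Cfsg.spGL m F) := by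
  classical
  haveI : Nonempty (Fin m ⊕ Fin m) := ⟨.inl ⟨0, by rcases hm with h | ⟨h, -⟩ <;> omega⟩⟩
  have hfield : IsField K :=
    { exists_pair_ne := ⟨0, 1, zero_ne_one⟩
      mul_comm := fun x y => Subtype.ext (hK.comm x.1 x.2 y.1 y.2)
      mul_inv_cancel := fun {x} hx => by
        obtain ⟨y, hy, e⟩ := hK.inv x.1 x.2 fun h => hx (Subtype.ext h)
        exact ⟨⟨y, hy⟩, Subtype.ext e⟩ }
  letI : Field K := hfield.toField
  haveI : FiniteDimensional F K := Module.finite_of_finrank_pos (by rw [hK.finrank_eq]; exact hr.pos)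
  letI : Module K (Fin m ⊕ Fin m → F) :=
    { smul := fun k x => (k : Matrix (Fin m ⊕ Fin m) (Fin m ⊕ Fin m) F) *ᵥ x
      one_smul := fun x => Matrix.one_mulVec x
      mul_smul := fun k k' x => (Matrix.mulVec_mulVec x _ _).symm
      smul_zero := fun k => Matrix.mulVec_zero _
      smul_add := fun k x y => Matrix.mulVec_add _ x y
      add_smul := fun k k' x => Matrix.add_mulVec _ _ x
      zero_smul := fun x => Matrix.zero_mulVec x }
  haveI : IsScalarTower F K (Fin m ⊕ Fin m → F) := ⟨fun s k x => Matrix.smul_mulVec s _ x⟩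
  have hdim : Module.finrank F K = r := hK.finrank_eq
  obtain ⟨χ, hχ⟩ : ∃ χ : K →ₗ[F] F, χ ≠ 0 := by
    let e := Module.finBasisOfFinrankEq F K hdim
    refine ⟨e.coord ⟨0, hr.pos⟩, fun h => ?_⟩
    have := LinearMap.congr_fun h (e ⟨0, hr.pos⟩)
    simp at this
  let D : Agent.Forms.Max.SympExtField.Data F m K :=
    { χ := χ, hχ := hχ, hr := hdim.symm ▸ hr, hm := hdim.symm ▸ hm
      hadj := fun k x y => by
        rw [Agent.Forms.SympStd.sympB_apply, Agent.Forms.SympStd.sympB_apply]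
        exact hsa k.1 k.2 x y
      halt := fun k x => by
        rw [Agent.Forms.SympStd.sympB_apply]
        exact halt k.1 k.2 x }
  have hN : ∀ g : GL (Fin m ⊕ Fin m) F, g ∈ Cfsg.Geo.subalgebraNormalizer K ↔
      ∀ k : K, ∃ k' : K, ∀ x, (g : Matrix (Fin m ⊕ Fin m) (Fin m ⊕ Fin m) F) *ᵥ (k • x) =
        k' • ((g : Matrix (Fin m ⊕ Fin m) (Fin m ⊕ Fin m) F) *ᵥ x) := by
    intro g
    constructor
    · intro hg k
      refine ⟨⟨_, (hg k.1).1 k.2⟩, fun x => ?_⟩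
      show (g : Matrix _ _ F) *ᵥ (k.1 *ᵥ x) = (_ * k.1 * _) *ᵥ ((g : Matrix _ _ F) *ᵥ x)
      rw [← Matrix.mulVec_mulVec, ← Matrix.mulVec_mulVec, Agent.Forms.Max.inv_mulVec_cancel]
    · intro h
      choose σ hσ using h
      have hconj : ∀ k : K, (g : Matrix (Fin m ⊕ Fin m) (Fin m ⊕ Fin m) F) * k.1 *
          ((g⁻¹ : GL (Fin m ⊕ Fin m) F) : Matrix (Fin m ⊕ Fin m) (Fin m ⊕ Fin m) F) = (σ k).1 := fun k =>
        Matrix.ext_of_mulVec_single fun i => by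
          rw [← Matrix.mulVec_mulVec, ← Matrix.mulVec_mulVec]
          exact (hσ k _).trans (congrArg (fun x => (σ k).1 *ᵥ x) (Agent.Forms.Max.mulVec_inv_cancel g _))
      haveI : Finite K := Module.finite_of_finite F
      have hinj : Function.Injective σ := fun a b e => Subtype.ext ((Units.mul_right_inj g).1
        ((Units.mul_left_inj g⁻¹).1 (by rw [hconj, hconj, e])))
      refine fun z => ⟨fun hz => hconj ⟨z, hz⟩ ▸ (σ ⟨z, hz⟩).2, fun hz => ?_⟩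
      obtain ⟨k, hk⟩ := Finite.injective_iff_surjective.1 hinj ⟨_, hz⟩
      have e := hconj k
      rw [hk] at e
      exact (Units.mul_right_inj g).1 ((Units.mul_left_inj g⁻¹).1 e) ▸ k.2
  refine Agent.Forms.Max.isMaximalIn_of inf_le_right (fun hle => ?_) fun M hM hMK g hgM hg =>
    Agent.Forms.Max.SympExtField.sp_le D hMK (fun h hh hh' => hM ⟨(hN h).2 fun k => ⟨k, hh' k⟩, hh⟩) hgM
      fun h => hg ⟨(hN g).2 h, hMK hgM⟩
  obtain ⟨g, hg, hg'⟩ := Agent.Forms.Max.SympExtField.exists_not_semilinear D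
  exact hg' ((hN g).1 (hle hg).1)

theorem maximal' {F : Type*} [Field F] [Fintype F] (m : ℕ) (r : ℕ) (hr : r.Prime) (hm : 5 ≤ m ∨ (0 < m ∧ ((∃ t : F, t ≠ 0 ∧ t ≠ 1) ∨ 3 ≤ r))) (K : Subalgebra F (Matrix (Fin m ⊕ Fin m) (Fin m ⊕ Fin m) F)) (hK : Cfsg.Geo.IsFieldSubalgebra r K) (hsa : Cfsg.Geo.IsSelfAdjointFor (Cfsg.sympForm m F) K) (halt : ∀ k ∈ K, ∀ v : (Fin m ⊕ Fin m → F), Cfsg.sympForm m F (Matrix.mulVec k v) v = 0) : Cfsg.Geo.IsMaximalIn (Cfsg.spGL m F) (Cfsg.Geo.subalgebraNormalizer K ⊓ Cfsg.spGL m F) :=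
  maximal₃ m r hr (hm.imp (fun h => by omega) id) K hK hsa halt

theorem maximal {F : Type*} [Field F] [Fintype F] (m : ℕ) (hm : 7 ≤ m ∨ (0 < m ∧ ∃ t : F, t ≠ 0 ∧ t ≠ 1)) (r : ℕ) (hr : r.Prime) (K : Subalgebra F (Matrix (Fin m ⊕ Fin m) (Fin m ⊕ Fin m) F)) (hK : Cfsg.Geo.IsFieldSubalgebra r K) (hsa : Cfsg.Geo.IsSelfAdjointFor (Cfsg.sympForm m F) K) (halt : ∀ k ∈ K, ∀ v : (Fin m ⊕ Fin m → F), Cfsg.sympForm m F (Matrix.mulVec k v) v = 0) : Cfsg.Geo.IsMaximalIn (Cfsg.spGL m F) (Cfsg.Geo.subalgebraNormalizer K ⊓ Cfsg.spGL m F) :=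
  maximal' m r hr (hm.imp (fun h => by omega) fun h => ⟨h.1, Or.inl h.2⟩) K hK hsa halt

end Cfsg.Agent.Forms.Max.SympExtNormalizer
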