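import Mathlib
import Cfsg.Agent.Lib.Forms.Max.Unitary
import Cfsg.Agent.Lib.Forms.Max.SubfieldLinear

/-!
# Symplectic groups over the subfield of index two in unitary groups
-/

set_option autoImplicit false
set_option linter.unusedSectionVars false

namespace Cfsg.Agent.Forms.Max.SympInUnitary

open Matrix Cfsg.Agent.Classical.Unitary

variable {F : Type*} [Field F] [Fintype F] {q n : ℕ}

local notation "Idx" => (Fin n)
local notation "Vec" => (Fin n → F)
local notation "GLn" => GL (Fin n) F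
local notation "H" => Cfsg.hermForm n F q
local notation "SUn" => (Cfsg.GU n F q ⊓ Cfsg.Geo.specialLinear (Fin n) F)

variable (F₀ : Subfield F) (P : GL (Fin n) F)

/-- a rational vector -/
def rv (a : Fin n → F₀) : Fin n → F :=
  (P : Matrix (Fin n) (Fin n) F) *ᵥ SubfieldLinear.ic F₀ a

theorem rv_add (a b : Idx → F₀) : rv F₀ P (a + b) = rv F₀ P a + rv F₀ P b := by
  rw [rv, rv, rv, ← mulVec_add]; rfl

theorem rv_smul (t : F₀) (a : Idx → F₀) : rv F₀ P (t • a) = (t : F) • rv F₀ P a := by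
  rw [rv, rv, SubfieldLinear.ic_smul, mulVec_smul]

theorem rv_zero : rv F₀ P 0 = 0 := by
  rw [rv, show SubfieldLinear.ic F₀ (0 : Idx → F₀) = 0 from rfl, mulVec_zero]

theorem rv_eq_zero {a : Idx → F₀} (h : rv F₀ P a = 0) : a = 0 := by
  by_contra hne
  exact Max.mulVec_ne_zero P (SubfieldLinear.ic_ne_zero hne) h

theorem symp_in_unitary_maximal (hF : Fintype.card F = q ^ 2) (hn : 4 ≤ n)
    (hcard : Fintype.card F = Nat.card F₀ ^ 2) {ζ : F} (hζ0 : ζ ≠ 0) (hζ : ζ + ζ ^ q = 0)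
    (hP : Cfsg.Geo.IsFormRationalStructure (Cfsg.hermForm n F q) F₀ ζ P)
    (halt : ∀ u : Vec, (∀ i, u i ∈ F₀) →
      H ((P : Matrix Idx Idx F) *ᵥ u) ((P : Matrix Idx Idx F) *ᵥ u) = 0)
    (G : Subgroup GLn) (hG : G ≤ SUn)
    (hlow : ∀ g ∈ SUn, (∃ k : F, k ≠ 0 ∧ ∀ a : Idx → F₀, ∃ b : Idx → F₀,
      k • ((g : Matrix Idx Idx F) *ᵥ rv F₀ P a) = rv F₀ P b) → g ∈ G)
    (hhigh : ∀ g ∈ G, ∃ k : F, k ≠ 0 ∧ ∀ a : Idx → F₀, ∃ b : Idx → F₀,
      k • ((g : Matrix Idx Idx F) *ᵥ rv F₀ P a) = rv F₀ P b) :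
    Cfsg.Geo.IsMaximalIn SUn G := by
  classical
  -- the subfield is the fixed field
  have hq : Nat.card F₀ = q := Nat.pow_left_injective two_ne_zero (by
    show Nat.card F₀ ^ 2 = q ^ 2
    rw [← hcard, hF])
  have hfix : ∀ x : F, x ∈ F₀ ↔ x ^ q = x := by
    have hsub : (Finset.univ.filter fun x : F => x ∈ F₀) ⊆ Finset.univ.filter fun x : F => x ^ q = x := fun x hx => by
      haveI := Fintype.ofFinite F₀
      rw [Finset.mem_filter] at hx ⊢
      refine ⟨Finset.mem_univ _, ?_⟩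
      have h := congrArg Subtype.val (FiniteField.pow_card (⟨x, hx.2⟩ : F₀))
      rwa [← Nat.card_eq_fintype_card, hq] at h
    have hc : (Finset.univ.filter fun x : F => x ^ q = x).card ≤ q := by
      have hne : (Polynomial.X ^ q - Polynomial.X : Polynomial F) ≠ 0 :=
        FiniteField.X_pow_card_sub_X_ne_zero F (HermStd.one_lt_q hF)
      refine (Finset.card_le_card (t := (Polynomial.X ^ q - Polynomial.X : Polynomial F).roots.toFinset)
        fun x hx => ?_).trans ((Multiset.toFinset_card_le _).trans ((Polynomial.card_roots' _).trans ?_))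
      · rw [Finset.mem_filter] at hx
        rw [Multiset.mem_toFinset, Polynomial.mem_roots hne]
        simp [hx.2]
      · rw [FiniteField.X_pow_card_sub_X_natDegree_eq F (HermStd.one_lt_q hF)]
    have he := Finset.eq_of_subset_of_card_le hsub (hc.trans (by
      rw [← hq, Nat.card_eq_fintype_card, Fintype.card_subtype]))
    intro x
    simpa using Finset.ext_iff.1 he x
  have hpow : ∀ t : F₀, (t : F) ^ q = t := fun t => (hfix _).1 t.2
  have hF₀ : ∃ θ : F, θ ∉ F₀ := by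
    by_contra hc
    push Not at hc
    exact HermStd.qHom_ne_id hF (RingHom.ext fun x => (hfix x).1 (hc x))
  obtain ⟨θ, hθ⟩ := hF₀
  have hθ' : θ ^ q - θ ≠ 0 := fun e => hθ ((hfix θ).2 (sub_eq_zero.1 e))
  -- decomposition of a vector
  have hdec : ∀ v : Vec, ∃ a b : Idx → F₀, v = rv F₀ P a + θ • rv F₀ P b := by
    intro v
    set w := ((P⁻¹ : GLn) : Matrix Idx Idx F) *ᵥ v
    have hy : ∀ i, (w i ^ q - w i) / (θ ^ q - θ) ∈ F₀ := fun i => by
      rw [hfix, ← HermStd.qHom_apply hF, map_div₀, map_sub, map_sub, HermStd.qHom_apply, HermStd.qHom_apply,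
        HermStd.qHom_apply, HermStd.qHom_apply, pow_qq hF, pow_qq hF, ← neg_sub (w i ^ q),
        ← neg_sub (θ ^ q) θ, neg_div_neg_eq]
    have hx : ∀ i, w i - θ * ((w i ^ q - w i) / (θ ^ q - θ)) ∈ F₀ := fun i => by
      rw [hfix, ← HermStd.qHom_apply hF, map_sub, map_mul, HermStd.qHom_apply, HermStd.qHom_apply,
        HermStd.qHom_apply, (hfix _).1 (hy i)]
      field_simp
      ring
    refine ⟨fun i => ⟨_, hx i⟩, fun i => ⟨_, hy i⟩, ?_⟩
    rw [← Max.mulVec_inv_cancel P v, rv, rv, ← mulVec_smul, ← mulVec_add]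
    congr 1
    funext i
    simp [SubfieldLinear.ic, w]
  -- the rational alternating form
  have hrat : ∀ a b : Idx → F₀, ζ * H (rv F₀ P a) (rv F₀ P b) ∈ F₀ := fun a b =>
    hP _ _ (fun i => (a i).2) (fun i => (b i).2)
  let B0 : LinearMap.BilinForm F₀ (Idx → F₀) :=
    LinearMap.mk₂ F₀ (fun a b => (⟨ζ * H (rv F₀ P a) (rv F₀ P b), hrat a b⟩ : F₀))
      (fun a a' b => Subtype.ext (by simp [rv_add, H_add_left, mul_add]))
      (fun t a b => Subtype.ext (by simp [rv_smul, H_smul_left]; ring))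
      (fun a b b' => Subtype.ext (by simp [rv_add, H_add_right hF, mul_add]))
      (fun t a b => Subtype.ext (by simp [rv_smul, H_smul_right, hpow]; ring))
  have hB : ∀ a b, ((B0 a b : F₀) : F) = ζ * H (rv F₀ P a) (rv F₀ P b) := fun a b => rfl
  have hBz : ∀ a b, B0 a b = 0 ↔ H (rv F₀ P a) (rv F₀ P b) = 0 := fun a b => by
    rw [← mul_right_inj' hζ0 (b := H (rv F₀ P a) (rv F₀ P b)), mul_zero, ← hB]
    exact ⟨fun h => by rw [h]; rfl, fun h => Subtype.ext h⟩
  have hself : ∀ a, B0 a a = 0 := fun a => (hBz a a).2 (halt _ fun i => (a i).2)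
  have hswap : ∀ a b, B0 b a = -B0 a b := fun a b => (LinearMap.IsAlt.neg (B := B0) hself a b).symm
  have hnd : B0.Nondegenerate := by
    have hl : ∀ a, (∀ b, B0 a b = 0) → a = 0 := fun a h => rv_eq_zero F₀ P (eq_zero_of_H hF fun v => by
      obtain ⟨x, y, rfl⟩ := hdec v
      rw [H_add_right hF, H_smul_right, (hBz a x).1 (h x), (hBz a y).1 (h y), mul_zero, add_zero])
    exact ⟨hl, fun b h => hl b fun a => by rw [hswap a b, h a, neg_zero]⟩
  have hrefl : B0.IsRefl := fun a b h => by rw [hswap, h, neg_zero]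
  have hdual : ∀ (a : Idx → F₀) (S : Submodule F₀ (Idx → F₀)), a ∉ S →
      ∃ e, (∀ s ∈ S, B0 s e = 0) ∧ B0 a e ≠ 0 := fun a S h => by
    obtain ⟨y, hy, hay⟩ := Max.not_mem_perp hnd hrefl h
    exact ⟨y, fun s hs => LinearMap.BilinForm.mem_orthogonal_iff.1 hy s hs, hay⟩
  have hiso : ∀ a, H (rv F₀ P a) (rv F₀ P a) = 0 := fun a => halt _ fun i => (a i).2
  have happ : ∀ (g : GLn) (v : Idx → F₀) (t : F₀),
      (∀ x, (g : Matrix Idx Idx F) *ᵥ x = x + ((t : F) * ζ * H x (rv F₀ P v)) • rv F₀ P v) →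
      ∀ a, (g : Matrix Idx Idx F) *ᵥ rv F₀ P a = rv F₀ P (a + (t * B0 a v) • v) := by
    intro g v t hg a
    rw [hg, rv_add, rv_smul, MulMemClass.coe_mul, hB, mul_assoc]
  refine isMaximalIn_of hG (fun hle => ?_) fun M hM hMK g hgM hg => ?_
  · -- an element moving a rational vector to an irrational line
    obtain ⟨i⟩ : Nonempty Idx := ⟨⟨0, by omega⟩⟩
    set a : Idx → F₀ := Pi.single i 1 with ha'
    have ha : a ≠ 0 := fun e => one_ne_zero (α := F₀) (by simpa [ha'] using congrFun e i)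
    obtain ⟨b, hab, hb⟩ : ∃ b, B0 a b = 0 ∧ b ∉ Submodule.span F₀ {a} := by
      by_contra hc
      push Not at hc
      have h1 := Submodule.finrank_mono (show LinearMap.ker (B0 a) ≤ Submodule.span F₀ {a} from fun x hx => hc x hx)
      have h2 : Module.finrank F₀ (Submodule.span F₀ ({a} : Set (Idx → F₀))) ≤ 1 :=
        (finrank_span_le_card ({a} : Set (Idx → F₀))).trans (by simp)
      have h3 := LinearMap.finrank_range_add_finrank_ker (B0 a)
      have h4 := Submodule.finrank_le (LinearMap.range (B0 a))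
      rw [Module.finrank_self] at h4
      rw [Module.finrank_fintype_fun_eq_card, Fintype.card_fin] at h3
      omega
    set v := rv F₀ P a + θ • rv F₀ P b with hv
    have hvv : H v v = 0 := by
      simp only [hv, H_add_left, H_add_right hF, H_smul_left, H_smul_right, hiso, (hBz a b).1 hab,
        (hBz b a).1 (hrefl a b hab), mul_zero, add_zero]
    obtain ⟨s, hs, hsx⟩ := Unitary.exists_tv hF hvv hζ
    obtain ⟨k, hk, hkF⟩ := hhigh s (hle hs)
    obtain ⟨e, he, hae⟩ := hdual a (Submodule.span F₀ {b}) fun hm => by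
      obtain ⟨t, ht⟩ := Submodule.mem_span_singleton.1 hm
      rcases eq_or_ne t 0 with rfl | ht0
      · exact ha (by rw [← ht, zero_smul])
      · exact hb (Submodule.mem_span_singleton.2 ⟨t⁻¹, by rw [← ht, inv_smul_smul₀ ht0]⟩)
    have hbe := he b (Submodule.mem_span_singleton_self b)
    obtain ⟨ex, he'⟩ := hkF a
    rw [hsx, show H (rv F₀ P a) v = 0 by
      rw [hv, H_add_right hF, H_smul_right, hiso, (hBz a b).1 hab, mul_zero, add_zero], mul_zero, zero_smul,
      add_zero] at he'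
    have hkF₀ : k ∈ F₀ := by
      have h1 := congrArg (fun w => ζ * H w (rv F₀ P e)) he'
      simp only [H_smul_left, mul_left_comm ζ k, ← hB] at h1
      have := F₀.div_mem (show k * ((B0 a e : F₀) : F) ∈ F₀ from h1 ▸ (B0 ex e).2) (B0 a e).2
      rwa [mul_div_assoc, div_self (fun h0 => hae (Subtype.ext h0)), mul_one] at this
    obtain ⟨ey, he''⟩ := hkF e
    rw [hsx] at he''
    -- pairing with a dual of `b`
    obtain ⟨f, hf, hbf⟩ := hdual b (Submodule.span F₀ {a}) hb
    have haf := hf a (Submodule.mem_span_singleton_self a)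
    have h2 := congrArg (fun w => ζ * H w (rv F₀ P f)) he''
    have hev : ζ * H (rv F₀ P e) v = -((B0 a e : F₀) : F) := by
      rw [hv, H_add_right hF, H_smul_right, (hBz e b).1 (hrefl b e hbe), mul_zero, add_zero, ← hB, hswap a e]
      simp
    have hvf : ζ * H v (rv F₀ P f) = θ * ((B0 b f : F₀) : F) := by
      rw [hv, H_add_left, H_smul_left, (hBz a f).1 haf, zero_add, mul_left_comm, ← hB]
    simp only [H_smul_left, H_add_left] at h2
    have h3 : k * (((B0 e f : F₀) : F) + (-((B0 a e : F₀) : F)) * (θ * ((B0 b f : F₀) : F))) =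
        ((B0 ey f : F₀) : F) := by
      rw [hB e f, hB ey f, ← hev, ← hvf]
      linear_combination h2
    refine hθ ?_
    have hbf0 : ((B0 b f : F₀) : F) ≠ 0 := fun h0 => hbf (Subtype.ext h0)
    have hae0 : ((B0 a e : F₀) : F) ≠ 0 := fun h0 => hae (Subtype.ext h0)
    have e5 : θ = (((B0 e f : F₀) : F) - k⁻¹ * ((B0 ey f : F₀) : F)) / (((B0 a e : F₀) : F) * ((B0 b f : F₀) : F)) := by
      rw [eq_div_iff (mul_ne_zero hae0 hbf0), ← h3, inv_mul_cancel_left₀ hk]
      ring
    rw [e5]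
    exact F₀.div_mem (F₀.sub_mem (B0 e f).2 (F₀.mul_mem (inv_mem hkF₀) (B0 ey f).2)) (F₀.mul_mem (B0 a e).2 (B0 b f).2)
  have hrc : ∀ a, rv F₀ P a ∈ Unitary.centres q M := fun a => by
    refine ⟨hiso a, fun s c hc hs => hM (hlow s ?_ ⟨1, one_ne_zero, fun x => ?_⟩)⟩
    · obtain ⟨s', hs', hsx⟩ := Unitary.exists_tv hF (hiso a) hc
      exact (Max.gl_ext fun x => by rw [hs, hsx] : s = s') ▸ hs'
    · have ht : c / ζ ∈ F₀ := by
        rw [hfix, ← HermStd.qHom_apply hF, map_div₀, HermStd.qHom_apply, HermStd.qHom_apply,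
          eq_neg_of_add_eq_zero_right hc, eq_neg_of_add_eq_zero_right hζ, neg_div_neg_eq]
      exact ⟨_, by rw [one_smul]; exact happ s a ⟨_, ht⟩ (fun y => by
        rw [hs]; show _ = y + (c / ζ * ζ * _) • _
        rw [div_mul_cancel₀ _ hζ0]) x⟩
  -- one irrational centre
  obtain ⟨a₀, b₀, ha₀0, hab₀, hb₀, hu⟩ : ∃ a b, a ≠ 0 ∧ B0 a b = 0 ∧ b ∉ Submodule.span F₀ {a} ∧
      rv F₀ P a + θ • rv F₀ P b ∈ Unitary.centres q M := by
    by_contra hcon
    push Not at hcon
    refine hg (hlow g (hMK hgM) ?_)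
    have hline : ∀ a, ∃ (l : F) (y : Idx → F₀), (g : Matrix Idx Idx F) *ᵥ rv F₀ P a = l • rv F₀ P y := by
      intro a
      have hc := Unitary.centres_map hF hMK hgM (hrc a)
      obtain ⟨x, y, hxy⟩ := hdec ((g : Matrix Idx Idx F) *ᵥ rv F₀ P a)
      by_cases hx : y ∈ Submodule.span F₀ {x}
      · obtain ⟨t, rfl⟩ := Submodule.mem_span_singleton.1 hx
        exact ⟨1 + θ * t, x, by rw [hxy, rv_smul]; module⟩
      by_cases hx0 : x = 0
      · exact ⟨θ, y, by rw [hxy, hx0, rv_zero, zero_add]⟩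
      refine absurd (hxy ▸ hc) (hcon x y hx0 ((hBz x y).2 ?_) hx)
      have h0 := hc.1
      rw [hxy] at h0
      simp only [H_add_left, H_add_right hF, H_smul_left, H_smul_right, hiso, mul_zero, add_zero, zero_add] at h0
      have e : H (rv F₀ P y) (rv F₀ P x) = -H (rv F₀ P x) (rv F₀ P y) :=
        mul_left_cancel₀ hζ0 (by rw [mul_neg, ← hB, ← hB, hswap x y]; rfl)
      rw [e] at h0
      exact (mul_eq_zero.1 (show (θ ^ q - θ) * H (rv F₀ P x) (rv F₀ P y) = 0 by linear_combination h0)).resolve_left hθ'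
    choose lam y hy using hline
    have hne : ∀ a, a ≠ 0 → lam a ≠ 0 ∧ y a ≠ 0 := fun a ha => by
      have h0 : lam a • rv F₀ P (y a) ≠ 0 := hy a ▸ Max.mulVec_ne_zero g fun e => ha (rv_eq_zero F₀ P e)
      exact ⟨fun e => h0 (by rw [e, zero_smul]), fun e => h0 (by rw [e, rv_zero, smul_zero])⟩
    obtain ⟨i⟩ : Nonempty Idx := ⟨⟨0, by omega⟩⟩
    set a₁ : Idx → F₀ := Pi.single i 1 with ha₁'
    have ha₁ : a₁ ≠ 0 := fun e => one_ne_zero (α := F₀) (by simpa [ha₁'] using congrFun e i)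
    -- non-orthogonal vectors have scalars with rational product
    have hprod : ∀ a b, B0 a b ≠ 0 → lam a * lam b ^ q ∈ F₀ := fun a b hab => by
      have h := (Unitary.SUn_H (hMK hgM) (rv F₀ P a) (rv F₀ P b))
      rw [hy, hy, H_smul_left, H_smul_right] at h
      have h' : lam a * lam b ^ q * ((B0 (y a) (y b) : F₀) : F) = ((B0 a b : F₀) : F) := by
        rw [hB, hB, ← h]; ring
      have hy0 : ((B0 (y a) (y b) : F₀) : F) ≠ 0 := fun e => hab (Subtype.ext (by rw [← h', e, mul_zero]; rfl))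
      rw [(eq_div_iff hy0).2 h']
      exact F₀.div_mem (B0 a b).2 (B0 _ _).2
    refine ⟨(lam a₁)⁻¹, inv_ne_zero (hne a₁ ha₁).1, fun x => ?_⟩
    rcases eq_or_ne x 0 with rfl | hx
    · exact ⟨0, by rw [rv_zero, mulVec_zero, smul_zero]⟩
    obtain ⟨z, -, hz1, hz2⟩ := exists_common B0 ⊤
      (by obtain ⟨e, -, he⟩ := hdual x ⊥ (by simpa using hx); exact ⟨e, trivial, he⟩)
      (by obtain ⟨e, -, he⟩ := hdual a₁ ⊥ (by simpa using ha₁); exact ⟨e, trivial, he⟩)
    have hz : z ≠ 0 := fun e => hz1 (by rw [e, map_zero])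
    have h1 := F₀.div_mem (hprod x z hz1) (hprod a₁ z hz2)
    rw [mul_div_mul_right _ _ (pow_ne_zero q (hne z hz).1)] at h1
    exact ⟨(⟨_, h1⟩ : F₀) • y x, by rw [rv_smul, hy, smul_smul]; congr 1; ring⟩
  -- all irrational centres
  have hmap : ∀ (v a b : Idx → F₀) (t : F₀), rv F₀ P a + θ • rv F₀ P b ∈ Unitary.centres q M →
      rv F₀ P (a + (t * B0 a v) • v) + θ • rv F₀ P (b + (t * B0 b v) • v) ∈ Unitary.centres q M := by
    intro v a b t h
    have hc : (t : F) * ζ + ((t : F) * ζ) ^ q = 0 := by rw [mul_pow, hpow, ← mul_add, hζ, mul_zero]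
    obtain ⟨s, -, hsx⟩ := Unitary.exists_tv hF (hiso v) hc
    have := Unitary.centres_map hF hMK ((hrc v).2 s _ hc hsx) h
    rwa [mulVec_add, mulVec_smul, happ s v t hsx, happ s v t hsx] at this
  let Pr : (Idx → F₀) → (Idx → F₀) → Prop := fun a b => B0 a b = 0 ∧ b ∉ Submodule.span F₀ {a}
  have hsecond : ∀ a b b' : Idx → F₀, a ≠ 0 → Pr a b → Pr a b' →
      rv F₀ P a + θ • rv F₀ P b ∈ Unitary.centres q M → rv F₀ P a + θ • rv F₀ P b' ∈ Unitary.centres q M := by
    intro a b b' ha hb hb'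
    have step : ∀ c c', B0 a c = 0 → B0 a c' = 0 → B0 c c' ≠ 0 → rv F₀ P a + θ • rv F₀ P c ∈ Unitary.centres q M →
        rv F₀ P a + θ • rv F₀ P c' ∈ Unitary.centres q M := by
      intro c c' hac hac' hcc' h
      have := hmap (c' - c) a c (B0 c c')⁻¹ h
      rwa [map_sub, map_sub, hac, hac', hself, sub_zero, sub_zero, inv_mul_cancel₀ hcc', mul_zero, zero_smul,
        add_zero, one_smul, add_sub_cancel] at this
    intro h
    obtain ⟨e, he, h1⟩ := hdual b _ hb.2
    obtain ⟨e', he', h2⟩ := hdual b' _ hb'.2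
    obtain ⟨z, hz, hz1, hz2⟩ := exists_common B0 (LinearMap.ker (B0 a))
      ⟨e, he a (Submodule.mem_span_singleton_self a), h1⟩ ⟨e', he' a (Submodule.mem_span_singleton_self a), h2⟩
    exact step z b' hz hb'.1 (fun e0 => hz2 (hrefl z b' e0)) (step b z hb.1 hz hz1 h)
  have hfirst : ∀ a b a' : Idx → F₀, a ≠ 0 → a' ≠ 0 → Pr a b →
      rv F₀ P a + θ • rv F₀ P b ∈ Unitary.centres q M →
      ∃ b', Pr a' b' ∧ rv F₀ P a' + θ • rv F₀ P b' ∈ Unitary.centres q M := by
    intro a b a' ha ha' hb h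
    have step : ∀ x y c : Idx → F₀, B0 x y ≠ 0 → Pr x c →
        rv F₀ P x + θ • rv F₀ P c ∈ Unitary.centres q M →
        ∃ c', Pr y c' ∧ rv F₀ P y + θ • rv F₀ P c' ∈ Unitary.centres q M := by
      intro x y c hxy hc h
      set v := y - x with hv
      set t := (B0 x y)⁻¹
      have e1 : x + (t * B0 x v) • v = y := by
        rw [hv, map_sub, hself, sub_zero, inv_mul_cancel₀ hxy, one_smul, add_sub_cancel]
      have hh := hmap v x c t h
      rw [e1] at hh
      refine ⟨c + (t * B0 c v) • v, ⟨?_, fun hm => ?_⟩, hh⟩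
      · rw [← e1]
        simp only [map_add, map_smul, LinearMap.add_apply, LinearMap.smul_apply, hc.1, hself, hswap x c, hswap x v,
          hswap c v, smul_eq_mul]
        ring
      · refine hc.2 ?_
        obtain ⟨l, hl⟩ := Submodule.mem_span_singleton.1 hm
        refine Submodule.mem_span_singleton.2 ⟨l, ?_⟩
        have key : ∀ z : Idx → F₀, z + (t * B0 z v) • v = 0 → z = 0 := fun z hz => by
          have hzv : B0 z v = 0 := by
            have := congrArg (fun w => B0 w v) hz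
            simpa [hself] using this
          rwa [hzv, mul_zero, zero_smul, add_zero] at hz
        refine (sub_eq_zero.1 (key (l • x - c) ?_))
        rw [← e1] at hl
        simp only [map_sub, map_smul, LinearMap.sub_apply, LinearMap.smul_apply, smul_eq_mul] at hl ⊢
        linear_combination (norm := module) hl
    obtain ⟨e, -, he⟩ := hdual a ⊥ (by simpa using ha)
    obtain ⟨e', -, he'⟩ := hdual a' ⊥ (by simpa using ha')
    obtain ⟨z, -, hz1, hz2⟩ := exists_common B0 ⊤ ⟨e, trivial, he⟩ ⟨e', trivial, he'⟩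
    obtain ⟨c, hc, hc'⟩ := step a z b hz1 hb h
    exact step z a' c (fun e0 => hz2 (hrefl z a' e0)) hc hc'
  refine Unitary.SUn_le_of_centres hF (by omega) fun v hv => ?_
  obtain ⟨a, b, rfl⟩ := hdec v
  by_cases ha : a = 0
  · rw [ha, rv_zero, zero_add]
    exact Unitary.centres_smul hF θ (hrc b)
  by_cases hb : b ∈ Submodule.span F₀ {a}
  · obtain ⟨t, rfl⟩ := Submodule.mem_span_singleton.1 hb
    rw [rv_smul, smul_smul, ← one_smul F (rv F₀ P a), smul_smul, ← add_smul]
    exact Unitary.centres_smul hF _ (hrc a)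
  have hab : B0 a b = 0 := by
    simp only [H_add_left, H_add_right hF, H_smul_left, H_smul_right, hiso, mul_zero, add_zero, zero_add] at hv
    have e : H (rv F₀ P b) (rv F₀ P a) = -H (rv F₀ P a) (rv F₀ P b) :=
      mul_left_cancel₀ hζ0 (by rw [mul_neg, ← hB, ← hB, hswap a b]; rfl)
    rw [e] at hv
    exact (hBz a b).2 ((mul_eq_zero.1 (show (θ ^ q - θ) * H (rv F₀ P a) (rv F₀ P b) = 0 by
      linear_combination hv)).resolve_left hθ')
  obtain ⟨b', hb', h'⟩ := hfirst a₀ b₀ a ha₀0 ha ⟨hab₀, hb₀⟩ hu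
  exact hsecond a b' b ha hb' ⟨hab, hb⟩ h'

end Cfsg.Agent.Forms.Max.SympInUnitary
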