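import Mathlib
import Cfsg.Agent.Lib.Forms.Max.SympBlocks
import Cfsg.Agent.Lib.Forms.Max.SympPair
import Cfsg.Agent.Lib.Forms.Max.PairMem
import Cfsg.Agent.Lib.Forms.Max.QuadInSymp
import Cfsg.Agent.Lib.Forms.Max.SympExtNormalizer
import Cfsg.Agent.Lib.Forms.Max.SympExtAdjoint
import Cfsg.Agent.Lib.Forms.Max.SubfieldSympGeo

/-!
# The geometric families common to the lists of maximal subgroups of symplectic groups
-/

set_option autoImplicit false
open Cfsg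

namespace Cfsg.Agent.Forms.Max.SympLists

variable {F : Type*} [Field F] [Fintype F] {m : ℕ}

/-- totally singular subspaces -/
theorem singular (hm : 1 ≤ m) (W : Submodule F (Fin m ⊕ Fin m → F)) (hW0 : W ≠ ⊥)
    (hW : Cfsg.Geo.IsTotallySingularFor (Cfsg.sympForm m F) W) :
    Cfsg.Geo.IsMaximalIn (Cfsg.spGL m F) (Cfsg.Geo.subspaceStabilizer W ⊓ Cfsg.spGL m F) := by
  refine Symp.singular_maximal W hW0 (fun u hu v hv => ?_) fun h => ?_
  · rw [SympStd.sympB_apply]; exact hW u hu v hv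
  · subst h
    have := hW (Pi.single (Sum.inr (⟨0, hm⟩ : Fin m)) 1) trivial (Pi.single (Sum.inl ⟨0, hm⟩) 1) trivial
    rw [SympStd.sympForm_inr_inl, if_pos rfl] at this
    exact one_ne_zero this

/-- non-degenerate subspaces -/
theorem nondeg (W : Submodule F (Fin m ⊕ Fin m → F)) (hW0 : W ≠ ⊥)
    (hW : Cfsg.Geo.IsNondegenerateOn (Cfsg.sympForm m F) W) (hdim : Module.finrank F W < m) :
    Cfsg.Geo.IsMaximalIn (Cfsg.spGL m F) (Cfsg.Geo.subspaceStabilizer W ⊓ Cfsg.spGL m F) := by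
  refine Symp.nondeg_maximal W hW0 (fun w hw hw0 => ?_) hdim
  obtain ⟨-, x, hx, h⟩ := hW w hw hw0
  exact ⟨x, hx, by rwa [SympStd.sympB_apply]⟩

/-- orthogonal decompositions -/
theorem blocks {t k : ℕ} (D : Fin t → Submodule F (Fin m ⊕ Fin m → F))
    (hD : Cfsg.Geo.IsNondegenerateMDecomposition (Cfsg.sympForm m F) k D)
    (hex : ¬ (k = 2 ∧ Fintype.card F = 2)) :
    Cfsg.Geo.IsMaximalIn (Cfsg.spGL m F) (Cfsg.Geo.decompositionStabilizer D ⊓ Cfsg.spGL m F) := by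
  have hd := hD.decomp
  refine Symp.blocks_maximal hd.two_le hd.pos D hd.finrank_eq hd.indep hd.iSup_eq_top
    (fun i w hw hw0 => ?_) (fun i j hij u hu v hv => ?_) hex
  · obtain ⟨-, x, hx, h⟩ := hD.nondegenerate i w hw hw0
    exact ⟨x, hx, by rwa [SympStd.sympB_apply]⟩
  · rw [SympStd.sympB_apply]
    exact hD.orthogonal i j hij u hu v hv

/-- pairs of Lagrangian subspaces -/
theorem pair (hm : 3 ≤ m) (hodd : Odd (Fintype.card F)) (D : Fin 2 → Submodule F (Fin m ⊕ Fin m → F))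
    (hD : Cfsg.Geo.IsMDecomposition m D)
    (hts : ∀ i, Cfsg.Geo.IsTotallySingularFor (Cfsg.sympForm m F) (D i)) :
    Cfsg.Geo.IsMaximalIn (Cfsg.spGL m F) (Cfsg.Geo.decompositionStabilizer D ⊓ Cfsg.spGL m F) := by
  refine SympPair.pair_maximal (Classical.OrthForms.two_ne_zero_of_odd hodd) hm (hD.finrank_eq 0) (hD.finrank_eq 1)
    (PairMem.isCompl hD) (fun x hx y hy => ?_) (fun x hx y hy => ?_) _ inf_le_right
    (fun g hg h => ⟨(PairMem.mem_iff D g).2 h, hg⟩) (fun g hg => (PairMem.mem_iff D g).1 hg.1)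
  · rw [SympStd.sympB_apply]; exact hts 0 x hx y hy
  · rw [SympStd.sympB_apply]; exact hts 1 x hx y hy

/-- self-adjoint subfields of prime degree -/
theorem selfAdjoint (hm : 1 ≤ m) (r : ℕ) (hr : r.Prime) (hsmall : 5 ≤ m ∨ 3 ≤ r)
    (K : Subalgebra F (Matrix (Fin m ⊕ Fin m) (Fin m ⊕ Fin m) F)) (hK : Cfsg.Geo.IsFieldSubalgebra r K)
    (hsa : Cfsg.Geo.IsSelfAdjointFor (Cfsg.sympForm m F) K)
    (halt : ∀ k ∈ K, ∀ v : (Fin m ⊕ Fin m → F), Cfsg.sympForm m F (Matrix.mulVec k v) v = 0) :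
    Cfsg.Geo.IsMaximalIn (Cfsg.spGL m F) (Cfsg.Geo.subalgebraNormalizer K ⊓ Cfsg.spGL m F) :=
  SympExtNormalizer.maximal' m r hr (hsmall.imp id fun h => ⟨hm, Or.inr h⟩) K hK hsa halt

/-- quadratic forms polarising to the form -/
theorem quad (hm : 2 ≤ m) (heven : ¬ Odd (Fintype.card F)) (Q : (Fin m ⊕ Fin m → F) → F)
    (hQ : Cfsg.Geo.IsNondegenerateQuadraticForm Q)
    (hpol : ∀ u v : (Fin m ⊕ Fin m → F), QuadraticMap.polar Q u v = Cfsg.sympForm m F u v) :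
    Cfsg.Geo.IsMaximalIn (Cfsg.spGL m F) (Cfsg.Geo.quadSimilarityGroup Q ⊓ Cfsg.spGL m F) := by
  haveI : CharP F 2 := by
    have h2 : ringChar F = 2 := FiniteField.even_card_iff_char_two.2 (Nat.even_iff.1 (Nat.not_odd_iff_even.1 heven))
    exact ringChar.of_eq h2
  let Q' : QuadraticForm F (Fin m ⊕ Fin m → F) :=
    QuadraticMap.ofPolar Q (fun a v => by rw [hQ.smul, smul_eq_mul]; ring)
      hQ.polar_bilinear.add_left (fun c x y => hQ.polar_bilinear.smul_left c x y)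
  refine Symp.quad_sim_maximal hm Q' (fun u v => by rw [SympStd.sympB_apply]; exact hpol u v) _ inf_le_right
    fun g => ?_
  exact ⟨fun h => ⟨h.2, h.1⟩, fun h => ⟨h.2, h.1⟩⟩

end Cfsg.Agent.Forms.Max.SympLists
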