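import Mathlib
import Cfsg.Agent.Aschbacher.Sp.Lists.PairsF2
import Cfsg.Agent.Aschbacher.Sp.Lists.Proper
import Cfsg.Agent.Lib.Forms.Max.Core

/-!
# Decompositions into symplectic planes over the field of two elements
-/

set_option autoImplicit false
set_option linter.unusedSectionVars false

namespace Cfsg.Agent.Forms.Max.SympPlanes

open Matrix Cfsg.Agent.Aschbacher

variable {F : Type*} [Field F] [Fintype F] {m : ℕ}

local notation "ι" => Fin m ⊕ Fin m

theorem planes_between (hm : 2 ≤ m) (hq : Fintype.card F = 2) {t : ℕ} (ht : 3 ≤ t)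
    {E : Fin t → Submodule F (ι → F)}
    (hE : Cfsg.Geo.IsNondegenerateMDecomposition (Cfsg.sympForm m F) 2 E) :
    ∃ K : Subgroup (GL ι F),
      Cfsg.Geo.decompositionStabilizer E ⊓ Cfsg.spGL m F < K ∧ K < Cfsg.spGL m F := by
  obtain ⟨Q, ⟨⟨hsmul, hbil, -⟩, hpol⟩, hle⟩ := exists_quad_of_planes (by omega) hq hE
  set D := sympData m F with hD
  have h11 : (1 : F) + 1 = 0 := two_eq_zero_of_card hq
  have h2 : (2 : F) = 0 := by linear_combination h11
  have hv01 : ∀ a : F, a = 0 ∨ a = 1 := forall_two_values hq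
  have hadd : ∀ x y, Q (x + y) = Q x + Q y + D.form x y := fun x y => by
    have := hpol x y
    simp only [QuadraticMap.polar] at this
    linear_combination this
  have horth : ∀ i j, i ≠ j → ∀ x ∈ E i, ∀ y ∈ E j, D.form x y = 0 := hE.orthogonal
  have hone : ∀ i, ∃ a ∈ E i, ∃ b ∈ E i, Q a = 1 ∧ D.form b a = 1 := by
    intro i
    obtain ⟨x, hx, hx0⟩ := Submodule.exists_mem_ne_zero_of_ne_bot (p := E i) fun h => by
      have := hE.decomp.finrank_eq i
      rw [h, finrank_bot] at this
      omega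
    obtain ⟨y, hy, hxy⟩ := (hE.nondegenerate i x hx hx0).2
    have hxy1 : D.form x y = 1 := (hv01 _).resolve_left hxy
    have hswap : D.form y x = 1 := by rw [hD, sympData_swap, ← hD, hxy1]; linear_combination -h11
    rcases hv01 (Q x) with h | h
    · rcases hv01 (Q y) with h' | h'
      · refine ⟨x + y, (E i).add_mem hx hy, x, hx, by rw [hadd, h, h', hxy1, zero_add, zero_add], ?_⟩
        rw [D.form_add_right, hD, sympData_self, ← hD, hxy1, zero_add]
      · exact ⟨y, hy, x, hx, h', hxy1⟩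
    · exact ⟨x, hx, y, hy, h, hswap⟩
  choose a ha b hb hQa hba using hone
  let i0 : Fin t := ⟨0, by omega⟩
  let i1 : Fin t := ⟨1, by omega⟩
  let i2 : Fin t := ⟨2, by omega⟩
  have h01 : i0 ≠ i1 := by simp [i0, i1]
  have h02 : i0 ≠ i2 := by simp [i0, i2]
  have h12 : i1 ≠ i2 := by simp [i1, i2]
  set v := a i0 + a i1 + a i2 with hv
  have hQv : Q v = 1 := by
    rw [hv, hadd, hadd, D.form_add_left, hQa, hQa, hQa, horth _ _ h01 _ (ha i0) _ (ha i1),
      horth _ _ h02 _ (ha i0) _ (ha i2), horth _ _ h12 _ (ha i1) _ (ha i2)]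
    linear_combination h11
  set g := spTrv (m := m) v (1 : F) with hg
  have hgQ : g ∈ Cfsg.Geo.quadSimilarityGroup Q := by
    refine ⟨1, fun x => ?_⟩
    rw [Units.val_one, one_mul, hg, spTrv_mulVec, one_mul, ← hD]
    rcases hv01 (D.form x v) with h | h <;> rw [h]
    · rw [zero_smul, add_zero]
    · rw [one_smul, hadd, hQv, h]; linear_combination h11
  refine exists_between (K := Cfsg.Geo.quadSimilarityGroup Q ⊓ Cfsg.spGL m F)
    (le_inf (inf_le_left.trans hle) inf_le_right) ⟨g, ⟨hgQ, spTrv_mem v 1⟩, fun h => ?_⟩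
    inf_le_right ?_
  · obtain ⟨σ, hσ⟩ := h.1
    have hz := (hσ i0).le ⟨b i0, hb i0, rfl⟩
    rw [Matrix.toLin'_apply, hg, spTrv_mulVec, one_mul, ← hD] at hz
    have hbv : D.form (b i0) v = 1 := by
      rw [hv, D.form_add_right, D.form_add_right, hba, horth _ _ h01 _ (hb i0) _ (ha i1),
        horth _ _ h02 _ (hb i0) _ (ha i2), add_zero, add_zero]
    rw [hbv, one_smul] at hz
    have key : ∀ j, i0 ≠ j → D.form v (b j) = 1 → σ i0 = j := fun j hj hvj => by
      by_contra hne
      have := horth _ _ hne _ hz _ (hb j)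
      rw [D.form_add_left, horth _ _ hj _ (hb i0) _ (hb j), hvj, zero_add] at this
      exact one_ne_zero this
    have hsw : ∀ x y : ι → F, D.form x y = D.form y x := fun x y => by
      rw [hD, sympData_swap y x, neg_eq_iff_add_eq_zero]
      linear_combination ((sympData m F).form y x) * h2
    have e1 := key i1 h01 (by
      rw [hsw, hv, D.form_add_right, D.form_add_right, hba, horth _ _ h01.symm _ (hb i1) _ (ha i0),
        horth _ _ h12 _ (hb i1) _ (ha i2), zero_add, add_zero])
    have e2 := key i2 h02 (by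
      rw [hsw, hv, D.form_add_right, D.form_add_right, hba, horth _ _ h02.symm _ (hb i2) _ (ha i0),
        horth _ _ h12.symm _ (hb i2) _ (ha i1), zero_add, zero_add])
    exact h12 (e1.symm.trans e2)
  · obtain ⟨g', h1, h2'⟩ := SetLike.not_le_iff_exists.1 (not_spGL_le_quad h2 hm hsmul hpol)
    exact ⟨g', h1, fun h => h2' h.1⟩

end Cfsg.Agent.Forms.Max.SympPlanes
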