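import Mathlib
import Cfsg.Agent.Lib.Forms.Max.UnitaryBase
import Cfsg.Agent.Lib.Forms.Max.OrthFrames

/-!
# Decompositions into hermitian planes over the field of four elements
-/

set_option autoImplicit false
set_option linter.unusedSectionVars false

namespace Cfsg.Agent.Forms.Max.Unitary

open Matrix Cfsg.Agent.Classical.Unitary

variable {F : Type*} [Field F] [Fintype F] {n : ℕ}

local notation "Vec" => (Fin n → F)
local notation "H" => Cfsg.hermForm n F 2

/-- in a hermitian plane every anisotropic vector lies on one of two lines -/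
theorem plane_lines (hF : Fintype.card F = 2 ^ 2) {S : Submodule F Vec}
    (hdim : Module.finrank F S = 2) (hS : ∀ w ∈ S, w ≠ 0 → ∃ x ∈ S, H w x ≠ 0) {e : Vec}
    (he : e ∈ S) (hee : H e e = 1) {v : Vec} (hv : v ∈ S) (hvv : H v v ≠ 0) :
    H v e = 0 ∨ ∃ c : F, v = c • e := by
  by_cases h : H v e = 0
  · exact Or.inl h
  refine Or.inr ⟨H v e, ?_⟩
  set a := H v e with ha
  set s := v - a • e with hs
  have hse : H s e = 0 := by rw [hs, H_sub_left, H_smul_left, hee, mul_one, sub_self]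
  have hone : ∀ x : F, x ^ 2 = x → x ≠ 0 → x = 1 := fun x hx hx0 =>
    mul_left_cancel₀ hx0 (by rw [← sq, hx, mul_one])
  have ha3 : a * a ^ 2 = 1 := by
    have := FiniteField.pow_card_sub_one_eq_one a h
    rw [hF] at this
    rw [← pow_succ']
    simpa using this
  have hss : H s s = 0 := by
    have e1 : v = a • e + s := by rw [hs]; abel
    have e2 := hone _ (H_self_pow hF v) hvv
    rw [e1, H_add_left, H_add_right hF, H_add_right hF, H_smul_left, H_smul_left, H_smul_right,
      H_smul_right, hee, (H_eq_zero_comm hF).1 hse, hse] at e2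
    simp only [mul_zero, mul_one, add_zero, zero_add, ha3] at e2
    linear_combination e2
  by_contra hne
  have hs0 : s ≠ 0 := fun h0 => hne (sub_eq_zero.1 h0)
  have he0 : e ≠ 0 := fun h0 => one_ne_zero (α := F) (by rw [← hee, h0, H_zero_left])
  have hspan : Submodule.span F {e} ⊔ Submodule.span F {s} = S := by
    refine Submodule.eq_of_le_of_finrank_le (sup_le ((Submodule.span_singleton_le_iff_mem _ _).2 he)
      ((Submodule.span_singleton_le_iff_mem _ _).2 (S.sub_mem hv (S.smul_mem _ he)))) ?_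
    have hlt : Submodule.span F {e} < Submodule.span F {e} ⊔ Submodule.span F {s} := by
      refine lt_of_le_not_ge le_sup_left fun hle => ?_
      obtain ⟨c, hc⟩ := Submodule.mem_span_singleton.1
        (hle (Submodule.mem_sup_right (Submodule.mem_span_singleton_self s)))
      rw [← hc, H_smul_left, hee, mul_one] at hse
      exact hs0 (by rw [← hc, hse, zero_smul])
    have := Submodule.finrank_lt_finrank_of_lt hlt
    rw [finrank_span_singleton he0] at this
    omega
  obtain ⟨y, hy, hsy⟩ := hS s (S.sub_mem hv (S.smul_mem _ he)) hs0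
  rw [← hspan] at hy
  obtain ⟨y₁, hy₁, y₂, hy₂, rfl⟩ := Submodule.mem_sup.1 hy
  obtain ⟨c₁, rfl⟩ := Submodule.mem_span_singleton.1 hy₁
  obtain ⟨c₂, rfl⟩ := Submodule.mem_span_singleton.1 hy₂
  exact hsy (by rw [H_add_right hF, H_smul_right, H_smul_right, hse, hss, mul_zero, mul_zero,
    add_zero])

/-- decompositions into hermitian planes over four elements -/
theorem planes_between (hF : Fintype.card F = 2 ^ 2) {t : ℕ} (ht : 3 ≤ t)
    {D : Fin t → Submodule F Vec} (hD : Cfsg.Geo.IsNondegenerateMDecomposition H 2 D) :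
    ∃ K : Subgroup (GL (Fin n) F),
      Cfsg.Geo.decompositionStabilizer D ⊓ (Cfsg.GU n F 2 ⊓ Cfsg.Geo.specialLinear (Fin n) F) < K ∧
        K < Cfsg.GU n F 2 ⊓ Cfsg.Geo.specialLinear (Fin n) F := by
  have hnd : ∀ i, ∀ w ∈ D i, w ≠ 0 → ∃ x ∈ D i, H w x ≠ 0 :=
    fun i w hw hw0 => (hD.nondegenerate i w hw hw0).2
  have hD0 : ∀ i, D i ≠ ⊥ := fun i h => by
    have := hD.decomp.finrank_eq i
    rw [h, finrank_bot] at this
    omega
  choose e he hee using fun i => exists_value hF (hD0 i) (hnd i) (one_pow 2) one_ne_zero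
  choose a ha ha0 haa using fun i => exists_iso hF (hnd i) (by rw [hD.decomp.finrank_eq])
  have horth : ∀ i j, i ≠ j → ∀ x ∈ D i, ∀ y ∈ D j, H x y = 0 := hD.orthogonal
  have hidx : ∀ {i j : Fin t} {x y : Vec}, x ∈ D i → y ∈ D j → H x y ≠ 0 → i = j :=
    fun {i j x y} hx hy h => by_contra fun hij => h (horth i j hij x hx y hy)
  have h2 : (2 : F) = 0 := by
    by_contra h2
    have := FiniteField.odd_card_of_char_ne_two (F := F) fun hc => h2 (by
      have : CharP F 2 := (ringChar.eq_iff).1 hc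
      exact CharTwo.two_eq_zero)
    omega
  have hc1 : (1 : F) + 1 ^ 2 = 0 := by linear_combination h2
  have he1 : ∀ i, H (e i) (e i) = 1 := hee
  have he0 : ∀ i, e i ≠ 0 := fun i h => one_ne_zero (α := F) (by rw [← he1 i, h, H_zero_left])
  have hee' : ∀ i j, i ≠ j → H (e i) (e j) = 0 := fun i j h => horth i j h _ (he i) _ (he j)
  set S : Set Vec := {v | (∃ i, v ∈ D i) ∧ H v v ≠ 0} with hS
  set i0 : Fin t := ⟨0, by omega⟩
  set i1 : Fin t := ⟨1, by omega⟩
  set i2 : Fin t := ⟨2, by omega⟩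
  have h01 : i0 ≠ i1 := by simp [i0, i1]
  have h02 : i0 ≠ i2 := by simp [i0, i2]
  have h12 : i1 ≠ i2 := by simp [i1, i2]
  set d := e i0 + e i1 with hd
  have hdd : H d d = 0 := by
    rw [hd, H_add_left, H_add_right hF, H_add_right hF, he1, he1, hee' _ _ h01, hee' _ _ h01.symm]
    linear_combination h2
  obtain ⟨T, hT, hTx⟩ := exists_tv hF hdd hc1
  have hT0 : (T : Matrix (Fin n) (Fin n) F) *ᵥ e i0 = e i1 := by
    rw [hTx, hd, H_add_right hF, he1, hee' _ _ h01, add_zero, mul_one, one_smul, ← add_assoc]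
    rw [show e i0 + e i0 = 0 from funext fun k => by
      simp only [Pi.add_apply, Pi.zero_apply]; linear_combination (e i0 k) * h2, zero_add]
  have hT1 : (T : Matrix (Fin n) (Fin n) F) *ᵥ e i1 = e i0 := by
    rw [hTx, hd, H_add_right hF, he1, hee' _ _ h01.symm, zero_add, mul_one, one_smul]
    funext k
    simp only [Pi.add_apply]
    linear_combination (e i1 k) * h2
  have hTfix : ∀ x, H x (e i0) = 0 → H x (e i1) = 0 →
      (T : Matrix (Fin n) (Fin n) F) *ᵥ x = x := fun x h h' => by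
    rw [hTx, hd, H_add_right hF, h, h', add_zero, mul_zero, zero_smul, add_zero]
  refine Max.exists_between
    (K := Cfsg.stabilizing (Cfsg.glToMat (Fin n) F) S ⊓
      (Cfsg.GU n F 2 ⊓ Cfsg.Geo.specialLinear (Fin n) F)) ?_ ?_ inf_le_right ?_
  · rintro x ⟨⟨σ, hσ⟩, hx⟩
    refine ⟨Orth.mem_setStab fun v hv => ?_, hx⟩
    obtain ⟨⟨i, hi⟩, hvv⟩ := hv
    refine ⟨⟨σ i, (hσ i).le ⟨v, hi, Matrix.toLin'_apply _ _⟩⟩, ?_⟩
    rw [(mem_SUn.1 hx).1]; exact hvv
  · refine ⟨T, ⟨Orth.mem_setStab fun v hv => ?_, hT⟩, fun h => ?_⟩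
    · obtain ⟨⟨l, hl⟩, hvv⟩ := hv
      refine ⟨?_, by rw [(mem_SUn.1 hT).1]; exact hvv⟩
      by_cases hl0 : l = i0
      · subst hl0
        rcases plane_lines hF (hD.decomp.finrank_eq _) (hnd _) (he i0) (he1 _) hl hvv with h | ⟨c, rfl⟩
        · exact ⟨i0, by rw [hTfix v h (horth _ _ h01 v hl _ (he i1))]; exact hl⟩
        · exact ⟨i1, by rw [Matrix.mulVec_smul, hT0]; exact (D i1).smul_mem _ (he i1)⟩
      by_cases hl1 : l = i1
      · subst hl1
        rcases plane_lines hF (hD.decomp.finrank_eq _) (hnd _) (he i1) (he1 _) hl hvv with h | ⟨c, rfl⟩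
        · exact ⟨i1, by rw [hTfix v (horth _ _ h01.symm v hl _ (he i0)) h]; exact hl⟩
        · exact ⟨i0, by rw [Matrix.mulVec_smul, hT1]; exact (D i0).smul_mem _ (he i0)⟩
      · exact ⟨l, by rw [hTfix v (horth _ _ hl0 v hl _ (he i0)) (horth _ _ hl1 v hl _ (he i1))]
                     exact hl⟩
    · obtain ⟨σ, hσ⟩ := h.1
      obtain ⟨y, hy, hy0, hye⟩ : ∃ y ∈ D i0, y ≠ 0 ∧ H y (e i0) = 0 := by
        refine ⟨a i0 - H (a i0) (e i0) • e i0,
          (D i0).sub_mem (ha i0) ((D i0).smul_mem _ (he i0)), fun h0 => ?_, ?_⟩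
        · have := haa i0
          rw [sub_eq_zero.1 h0, H_smul_left, H_smul_right, he1, mul_one] at this
          rcases mul_eq_zero.1 this with h1 | h1
          · exact ha0 i0 (by rw [sub_eq_zero.1 h0, h1, zero_smul])
          · exact ha0 i0 (by rw [sub_eq_zero.1 h0, eq_zero_of_pow_eq_zero h1, zero_smul])
        · rw [H_sub_left, H_smul_left, he1, mul_one, sub_self]
      have m1 : e i1 ∈ D (σ i0) := (hσ i0).le ⟨e i0, he i0, by rw [Matrix.toLin'_apply, hT0]⟩
      have m2 : y ∈ D (σ i0) := (hσ i0).le ⟨y, hy, by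
        rw [Matrix.toLin'_apply, hTfix y hye (horth _ _ h01 y hy _ (he i1))]⟩
      obtain ⟨z, hz, hyz⟩ := hnd i0 y hy hy0
      have k1 : σ i0 = i1 := hidx m1 (he i1) (by rw [he1]; exact one_ne_zero)
      exact h01 ((hidx m2 hz hyz).symm.trans k1)
  · obtain ⟨b, hb, hab⟩ := hnd i2 (a i2) (ha i2) (ha0 i2)
    set d' := e i0 + e i1 + a i2 with hd'
    have hdd' : H d' d' = 0 := by
      simp only [hd', H_add_left, H_add_right hF, he1, haa, hee' _ _ h01, hee' _ _ h01.symm,
        horth _ _ h02 _ (he i0) _ (ha i2), horth _ _ h12 _ (he i1) _ (ha i2),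
        horth _ _ h02.symm _ (ha i2) _ (he i0), horth _ _ h12.symm _ (ha i2) _ (he i1)]
      linear_combination h2
    obtain ⟨T', hT', hT'x⟩ := exists_tv hF hdd' hc1
    refine ⟨T', hT', fun h => ?_⟩
    have hmem := (h.1 (e i0)).1 ⟨⟨i0, he i0⟩, by rw [he1]; exact one_ne_zero⟩
    rw [Cfsg.glToMat] at hmem
    simp only [Units.coeHom_apply] at hmem
    obtain ⟨⟨j, hj⟩, -⟩ := hmem
    rw [hT'x, hd', H_add_right hF, H_add_right hF, he1, hee' _ _ h01,
      horth _ _ h02 _ (he i0) _ (ha i2)] at hj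
    simp only [add_zero, mul_one, one_smul] at hj
    have k1 : j = i1 := hidx hj (he i1) (by
      simp only [H_add_left, he1, hee' _ _ h01, horth _ _ h12.symm _ (ha i2) _ (he i1), zero_add,
        add_zero]
      exact one_ne_zero)
    have k2 : j = i2 := hidx hj hb (by
      simp only [H_add_left, horth _ _ h02 _ (he i0) _ hb, horth _ _ h12 _ (he i1) _ hb, zero_add]
      exact hab)
    exact h12 (k1.symm.trans k2)

end Cfsg.Agent.Forms.Max.Unitary
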