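import Mathlib
import Cfsg.Agent.Lib.Forms.Max.SubfieldUnitary

/-!
# Stabilisers of pairs of totally isotropic subspaces in unitary groups
-/

set_option autoImplicit false
set_option linter.unusedSectionVars false

namespace Cfsg.Agent.Forms.Max.UnitaryPair

open Matrix Cfsg.Agent.Classical.Unitary
open SubfieldUnitary (InM inM_of Sg sg_comm)

variable {F : Type*} [Field F] [Fintype F] {q n : ℕ}

local notation "Idx" => (Fin n)
local notation "Vec" => (Fin n → F)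
local notation "GLn" => GL (Fin n) F
local notation "H" => Cfsg.hermForm n F q
local notation "SUn" => (Cfsg.GU n F q ⊓ Cfsg.Geo.specialLinear (Fin n) F)

/-- a Siegel element with isotropic direction and no correction -/
def SgZ (q : ℕ) (M : Subgroup (GL (Fin n) F)) (a w : Fin n → F) : Prop :=
  Cfsg.hermForm n F q w a = 0 ∧ Cfsg.hermForm n F q w w = 0 ∧ ∃ g ∈ M, ∀ x, (g : Matrix Idx Idx F) *ᵥ x =
    x + Cfsg.hermForm n F q x a • w + -Cfsg.hermForm n F q x w • a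

variable {M : Subgroup (GL (Fin n) F)}

theorem SgZ.sg {a w : Vec} (h : SgZ q M a w) : Sg q M a w := by
  obtain ⟨hw, -, g, hg, hgx⟩ := h
  exact ⟨hw, g, hg, 0, fun x => by rw [hgx, zero_mul, add_zero]⟩

section siegel

variable (hF : Fintype.card F = q ^ 2) {a : Fin n → F} (haa : Cfsg.hermForm n F q a a = 0)
include hF haa

theorem sgZ_map (hMK : M ≤ SUn) {w : Vec} (h : SgZ q M a w) {s : GLn} (hs : s ∈ M) :
    SgZ q M ((s : Matrix Idx Idx F) *ᵥ a) ((s : Matrix Idx Idx F) *ᵥ w) := by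
  obtain ⟨hw, hww, g, hg, hgx⟩ := h
  have hH : ∀ y z, H ((s : Matrix Idx Idx F) *ᵥ y) ((s : Matrix Idx Idx F) *ᵥ z) = H y z :=
    Unitary.SUn_H (hMK hs)
  refine ⟨by rw [hH, hw], by rw [hH, hww], s * g * s⁻¹, mul_mem (mul_mem hs hg) (inv_mem hs), fun x => ?_⟩
  obtain ⟨y, rfl⟩ : ∃ y, (s : Matrix Idx Idx F) *ᵥ y = x := ⟨_, Max.mulVec_inv_cancel s x⟩
  rw [Max.mulVec_mul_GL, Max.inv_mulVec_cancel, Max.mulVec_mul_GL, hgx, mulVec_add, mulVec_add, mulVec_smul,
    mulVec_smul, hH, hH]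

theorem sgZ_neg {w : Vec} (h : SgZ q M a w) : SgZ q M a (-w) := by
  obtain ⟨hw, hww, g, hg, hgx⟩ := h
  have e : ∀ y, H (-w) y = -H w y := fun y => by rw [← neg_one_smul F w, H_smul_left, neg_one_mul]
  refine ⟨by rw [e, hw, neg_zero], by rw [e, H_neg_right hF, hww, neg_zero, neg_zero], g⁻¹, inv_mem hg, fun x =>
    Max.mulVec_inj g ?_⟩
  rw [Max.mulVec_inv_cancel]
  simp only [hgx, H_neg_right hF, e, H_add_left, H_smul_left, haa, hww, (H_eq_zero_comm hF).1 hw]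
  simp only [hw]
  module

theorem sgZ_add {w w' : Vec} (h : SgZ q M a w) (h' : SgZ q M a w') (ho : H w w' = 0) : SgZ q M a (w + w') := by
  obtain ⟨hw, hww, g, hg, hgx⟩ := h
  obtain ⟨hw', hww', g', hg', hgx'⟩ := h'
  have ho' := (H_eq_zero_comm hF).1 ho
  refine ⟨by rw [H_add_left, hw, hw', add_zero],
    by simp [H_add_left, H_add_right hF, hww, hww', ho, ho'], g * g', mul_mem hg hg', fun x => ?_⟩
  simp only [Max.mulVec_mul_GL, hgx, hgx', H_add_left, H_smul_left, haa, hw', (H_eq_zero_comm hF).1 hw,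
    H_add_right hF, ho']
  module

end siegel

variable (W U : Submodule F (Fin n → F))

/-- the hypotheses on a pair of maximal totally isotropic subspaces -/
structure Pair (q k : ℕ) (M : Subgroup (GL (Fin n) F)) (W U : Submodule F (Fin n → F)) : Prop where
  hF : Fintype.card F = q ^ 2
  hk : 2 ≤ k
  hsmall : 3 ≤ k ∨ 4 ≤ q
  hT : ∀ g ∈ Cfsg.GU n F q ⊓ Cfsg.Geo.specialLinear (Fin n) F, Max.img g W = W → Max.img g U = U → g ∈ M
  hMK : M ≤ Cfsg.GU n F q ⊓ Cfsg.Geo.specialLinear (Fin n) F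
  hW : Module.finrank F W = k
  hU : Module.finrank F U = k
  hC : IsCompl W U
  hWW : ∀ x ∈ W, ∀ y ∈ W, Cfsg.hermForm n F q x y = 0
  hUU : ∀ x ∈ U, ∀ y ∈ U, Cfsg.hermForm n F q x y = 0
  hSg : ∀ a ∈ W, ∀ w ∈ U, Cfsg.hermForm n F q w a = 0 → SgZ q M a w

variable {W U} {k : ℕ}

theorem Pair.symm (h : Pair q k M W U) : Pair q k M U W where
  hF := h.hF
  hk := h.hk
  hsmall := h.hsmall
  hT := fun g hg h1 h2 => h.hT g hg h2 h1
  hMK := h.hMK
  hW := h.hU
  hU := h.hW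
  hC := h.hC.symm
  hWW := h.hUU
  hUU := h.hWW
  hSg := fun a ha w hw hwa => by
    have hF := h.hF
    obtain ⟨-, -, g, hg, hgx⟩ := h.hSg w hw a ha ((H_eq_zero_comm hF).1 hwa)
    have haa := h.hUU a ha a ha
    have hww := h.hWW w hw w hw
    have haw : H a w = 0 := (H_eq_zero_comm hF).1 hwa
    refine ⟨hwa, hww, g⁻¹, inv_mem hg, fun x => Max.mulVec_inj g ?_⟩
    rw [Max.mulVec_inv_cancel]
    simp only [hgx, H_add_left, H_smul_left, haa, hww, haw, hwa]
    module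

theorem exists_ne_zero_ker {V : Submodule F Vec} {j : ℕ} (f : Fin j → (Vec →ₗ[F] F))
    (hj : j < Module.finrank F V) : ∃ v ∈ V, v ≠ 0 ∧ ∀ i, f i v = 0 := by
  by_contra hc
  push Not at hc
  have hinj : Function.Injective ((LinearMap.pi f).domRestrict V) := by
    rw [injective_iff_map_eq_zero]
    intro v hv
    by_contra hv0
    obtain ⟨i, hi⟩ := hc v v.2 fun e => hv0 (Subtype.ext e)
    exact hi (congrFun hv i)
  have := LinearMap.finrank_le_finrank_of_injective hinj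
  rw [Module.finrank_fintype_fun_eq_card, Fintype.card_fin] at this
  omega

theorem exists_ne_line {V : Submodule F Vec} {j : ℕ} (f : Fin j → (Vec →ₗ[F] F))
    (hj : j + 1 < Module.finrank F V) {y : Vec} :
    ∃ v ∈ V, v ∉ Submodule.span F {y} ∧ ∀ i, f i v = 0 := by
  rcases eq_or_ne y 0 with rfl | hy0
  · obtain ⟨v, hv, hv0, hvf⟩ := exists_ne_zero_ker f (V := V) (by omega)
    exact ⟨v, hv, fun h => hv0 (by simpa using h), hvf⟩
  obtain ⟨φ, -, hφy⟩ := Max.exists_row_of_not_mem (S := (⊥ : Submodule F Vec)) (v := y) (by simpa using hy0)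
  let φl : Vec →ₗ[F] F :=
    { toFun := fun x => φ ⬝ᵥ x
      map_add' := fun a b => dotProduct_add _ _ _
      map_smul' := fun c a => by rw [dotProduct_smul]; rfl }
  obtain ⟨v, hv, hv0, hvf⟩ := exists_ne_zero_ker (Fin.cons φl f : Fin (j + 1) → _) (V := V) hj
  refine ⟨v, hv, fun hm => hv0 ?_, fun i => hvf i.succ⟩
  obtain ⟨t, rfl⟩ := Submodule.mem_span_singleton.1 hm
  have h : φ ⬝ᵥ (t • y) = 0 := hvf 0
  rw [dotProduct_smul, hφy, smul_eq_mul, mul_one] at h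
  rw [h, zero_smul]

theorem Pair.eq_zero (h : Pair q k M W U) {u : Vec} (hu : u ∈ U) (h0 : ∀ w ∈ W, H w u = 0) : u = 0 :=
  eq_zero_of_H h.hF fun v => by
    obtain ⟨w, hw, u', hu', rfl⟩ := Submodule.mem_sup.1 (h.hC.sup_eq_top ▸ Submodule.mem_top : v ∈ W ⊔ U)
    rw [H_add_right h.hF, (H_eq_zero_comm h.hF).1 (h0 w hw), h.hUU u hu u' hu', add_zero]

theorem Pair.exists_pairing (h : Pair q k M W U) {x : Vec} (hx : x ∈ W) (hx0 : x ≠ 0) :
    ∃ b ∈ U, H x b = 1 ∧ H b x = 1 := by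
  obtain ⟨b, hb, hxb⟩ : ∃ b ∈ U, H b x ≠ 0 := by
    by_contra hc
    push Not at hc
    exact hx0 (h.symm.eq_zero hx hc)
  refine ⟨(H b x)⁻¹ • b, U.smul_mem _ hb, ?_, by rw [H_smul_left, inv_mul_cancel₀ hxb]⟩
  rw [← H_conj h.hF ((H b x)⁻¹ • b), H_smul_left, inv_mul_cancel₀ hxb, one_pow]

theorem Pair.mem_of_perp (h : Pair q k M W U) {v : Vec} (hv : ∀ w ∈ W, H v w = 0) : v ∈ W := by
  obtain ⟨w, hw, u, hu, rfl⟩ := Submodule.mem_sup.1 (h.hC.sup_eq_top ▸ Submodule.mem_top : v ∈ W ⊔ U)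
  rw [h.eq_zero hu fun w' hw' => (H_eq_zero_comm h.hF).1 (by
    have := hv w' hw'
    rwa [H_add_left, h.hWW w hw w' hw', zero_add] at this), add_zero]
  exact hw

/-- prescribed products with two vectors -/
theorem Pair.exists_dual (h : Pair q k M W U) {c d : Vec} (hc : c ∈ U) (hd : d ∈ U)
    (hcd : c ∉ Submodule.span F {d}) : ∃ z ∈ W, H z d = 0 ∧ H z c ≠ 0 := by
  obtain ⟨z, hz, hcz⟩ := Unitary.not_mem_perp h.hF (u := c) (W := Submodule.span F {d} ⊔ W) fun hm => by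
    obtain ⟨t, ht, w, hw, e⟩ := Submodule.mem_sup.1 hm
    obtain ⟨l, rfl⟩ := Submodule.mem_span_singleton.1 ht
    have hw0 : w = 0 := Submodule.disjoint_def.1 h.hC.disjoint w hw (by
      rw [show w = c - l • d by rw [← e]; abel]; exact U.sub_mem hc (U.smul_mem _ hd))
    exact hcd (Submodule.mem_span_singleton.2 ⟨l, by rw [← e, hw0, add_zero]⟩)
  refine ⟨z, h.mem_of_perp fun w hw => Unitary.mem_perp.1 hz w (Submodule.mem_sup_right hw),
    Unitary.mem_perp.1 hz d (Submodule.mem_sup_left (Submodule.mem_span_singleton_self d)),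
    fun e => hcz ((H_eq_zero_comm h.hF).1 e)⟩

/-- a Siegel element at a mixed vector produces a centre -/
theorem Pair.core (h : Pair q k M W U) {u x y w : Vec} {κ : F} (hx : x ∈ W) (hy : y ∈ U) (hxy : u = x + y)
    (hy0 : y ≠ 0) (huu : H u u = 0) (hw : w ∈ U) (hwy : w ∉ Submodule.span F {y}) (hwx : H w x = 0) (hκ0 : κ ≠ 0)
    (h2 : SgZ q M u (κ • w)) :
    ∃ w ∈ U, w ≠ 0 ∧ w ∈ Unitary.centres q M := by
  have hF := h.hF
  have hw0 : w ≠ 0 := fun e => hwy (e ▸ zero_mem _)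
  have hww : H w w = 0 := h.hUU w hw w hw
  -- the same element seen from `w`
  have hwu : H w u = 0 := by rw [hxy, H_add_right hF, hwx, h.hUU w hw y hy, add_zero]
  have hW : SgZ q M w (-(κ ^ q) • u) := by
    obtain ⟨-, -, g, hg, hgx⟩ := h2
    refine ⟨by rw [H_smul_left, (H_eq_zero_comm hF).1 hwu, mul_zero],
      by rw [H_smul_left, H_smul_right, huu, mul_zero, mul_zero], g, hg, fun v => ?_⟩
    rw [hgx]
    have e : (-(κ ^ q)) ^ q = -κ := by
      rw [← HermStd.qHom_apply hF, map_neg, HermStd.qHom_apply, pow_qq hF]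
    simp only [H_smul_right, e]
    module
  obtain ⟨v, hv, hvw, hvy⟩ := h.exists_dual hy hw fun hm => by
    obtain ⟨t, ht⟩ := Submodule.mem_span_singleton.1 hm
    rcases eq_or_ne t 0 with rfl | ht0
    · exact hy0 (by rw [← ht, zero_smul])
    · exact hwy (Submodule.mem_span_singleton.2 ⟨t⁻¹, by rw [← ht, inv_smul_smul₀ ht0]⟩)
  refine ⟨w, hw, hw0, hww, ?_⟩
  intro t c hc htx
  obtain ⟨l, hl⟩ : ∃ l : F, l - l ^ q = c := by
    obtain ⟨θ, hθ⟩ : ∃ θ : F, θ - θ ^ q ≠ 0 := by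
      by_contra hcon
      push Not at hcon
      exact HermStd.qHom_ne_id hF (RingHom.ext fun x => (sub_eq_zero.1 (hcon x)).symm)
    refine ⟨θ * (c / (θ - θ ^ q)), ?_⟩
    have e : (θ * (c / (θ - θ ^ q))) ^ q = θ ^ q * (c / (θ - θ ^ q)) := by
      rw [mul_pow, div_pow, eq_neg_of_add_eq_zero_right hc,
        show (θ - θ ^ q) ^ q = -(θ - θ ^ q) by
          rw [← HermStd.qHom_apply hF, ← HermStd.qHom_apply hF θ, map_sub, HermStd.qHom_qHom, neg_sub],
        neg_div_neg_eq]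
    rw [e, ← sub_mul, mul_div_cancel₀ _ hθ]
  set m := l / (-κ * H v y) with hm
  have hne : -κ * H v y ≠ 0 := mul_ne_zero (neg_ne_zero.2 hκ0) hvy
  have hS := h.symm.hSg w hw (m • v) (W.smul_mem _ hv) (by rw [H_smul_left, hvw, mul_zero])
  have h3 := sg_comm hF hww hS.sg hW.sg
  have e : H (m • v) (-(κ ^ q) • u) - H (-(κ ^ q) • u) (m • v) = c := by
    rw [← H_conj hF (m • v) (-(κ ^ q) • u)]
    have e1 : H (m • v) (-(κ ^ q) • u) = l := by
      rw [H_smul_left, H_smul_right, hxy, H_add_right hF, h.hWW v hv x hx, zero_add, ← HermStd.qHom_apply hF,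
        map_neg, HermStd.qHom_apply, pow_qq hF, hm, div_mul_cancel₀ _ hne]
    rw [e1, hl]
  rw [e] at h3
  exact h3 t htx

/-- moving a Siegel element at a mixed vector along a Siegel element fixing it -/
theorem Pair.step (h : Pair q k M W U) {u x y V z z' z₁ w : Vec} {α : F} (hx : x ∈ W) (hy : y ∈ U) (hxy : u = x + y)
    (hxy0 : H x y ≠ 0) (huu : H u u = 0) (hVs : SgZ q M u V) (hz : z ∈ W) (hz' : z' ∈ U)
    (hV : V = α • u + z + z') (hz₁ : z₁ ∈ W) (hz₁y : H z₁ y = 0) (hz₁z' : H z' z₁ ≠ 0) (hw : w ∈ U) (hw0 : w ≠ 0)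
    (hwx : H w x = 0) (hwz₁ : H w z₁ = 0) (hwz : H w z = 0) :
    ∃ w ∈ U, w ≠ 0 ∧ w ∈ Unitary.centres q M := by
  have hF := h.hF
  obtain ⟨-, -, s, hs, hsx⟩ := h.hSg z₁ hz₁ w hw hwz₁
  have hu1 : H u z₁ = 0 := by rw [hxy, H_add_left, h.hWW x hx z₁ hz₁, (H_eq_zero_comm hF).1 hz₁y, add_zero]
  have hu2 : H u w = 0 := by rw [hxy, H_add_left, (H_eq_zero_comm hF).1 hwx, h.hUU y hy w hw, add_zero]
  have hsu : (s : Matrix Idx Idx F) *ᵥ u = u := by
    rw [hsx, hu1, hu2, neg_zero, zero_smul, zero_smul, add_zero, add_zero]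
  have hV1 : H V z₁ = H z' z₁ := by
    rw [hV, H_add_left, H_add_left, H_smul_left, hu1, h.hWW z hz z₁ hz₁, mul_zero, zero_add, zero_add]
  have hVw : H V w = 0 := by
    rw [hV, H_add_left, H_add_left, H_smul_left, hu2, (H_eq_zero_comm hF).1 hwz, h.hUU z' hz' w hw, mul_zero,
      zero_add, zero_add]
  have hsV : (s : Matrix Idx Idx F) *ᵥ V = V + H z' z₁ • w := by
    rw [hsx, hV1, hVw, neg_zero, zero_smul, add_zero]
  have h1 := sgZ_map hF huu h.hMK hVs hs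
  rw [hsu, hsV] at h1
  have h2 := sgZ_add hF huu h1 (sgZ_neg hF huu hVs) (by
    rw [H_neg_right hF, H_add_left, H_smul_left, hVs.2.1, (H_eq_zero_comm hF).1 hVw, mul_zero, add_zero, neg_zero])
  rw [add_neg_cancel_comm] at h2
  refine h.core hx hy hxy (fun e => hxy0 (by rw [e, H_zero_right hF])) huu hw (fun hm => hw0 ?_) hwx hz₁z' h2
  obtain ⟨t, rfl⟩ := Submodule.mem_span_singleton.1 hm
  rw [H_smul_left] at hwx
  rw [(mul_eq_zero.1 hwx).resolve_right fun e => hxy0 ((H_eq_zero_comm hF).1 e), zero_smul]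

/-- a dual vector for a part off the mixed vector -/
theorem Pair.exists_dual' (h : Pair q k M W U) {x y z' : Vec} (hy : y ∈ U) (hxy0 : H x y ≠ 0) (hz' : z' ∈ U)
    (hz'0 : z' ≠ 0) (hz'x : H z' x = 0) : ∃ z₁ ∈ W, H z₁ y = 0 ∧ H z' z₁ ≠ 0 := by
  have hF := h.hF
  obtain ⟨z₁, hz₁, hz₁y, hz₁z'⟩ := h.exists_dual hz' hy fun hm => hz'0 (by
    obtain ⟨t, rfl⟩ := Submodule.mem_span_singleton.1 hm
    rw [H_smul_left] at hz'x
    rw [(mul_eq_zero.1 hz'x).resolve_right fun e => hxy0 ((H_eq_zero_comm hF).1 e), zero_smul])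
  exact ⟨z₁, hz₁, hz₁y, fun e => hz₁z' ((H_eq_zero_comm hF).1 e)⟩

/-- a vector of a plane is a combination of two independent ones -/
theorem span_plane {A : Submodule F Vec} (hA : Module.finrank F A = 2) {u v : Vec} (hu : u ∈ A) (hv : v ∈ A)
    (hu0 : u ≠ 0) (huv : v ∉ Submodule.span F {u}) {z : Vec} (hz : z ∈ A) : ∃ s t : F, z = s • u + t • v := by
  have hli : LinearIndependent F ![u, v] := by
    refine LinearIndependent.pair_iff.2 fun s t h => ?_
    have ht : t = 0 := by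
      by_contra ht
      refine huv (Submodule.mem_span_singleton.2 ⟨-(s / t), ?_⟩)
      linear_combination (norm := (match_scalars <;> field_simp <;> ring)) (-t⁻¹) • h
    rw [ht, zero_smul, add_zero, smul_eq_zero] at h
    exact ⟨h.resolve_right hu0, ht⟩
  have hle : Submodule.span F (Set.range ![u, v]) ≤ A := Submodule.span_le.2 (by
    rintro _ ⟨i, rfl⟩
    fin_cases i <;> assumption)
  have heq := Submodule.eq_of_le_of_finrank_eq hle (by rw [finrank_span_eq_card hli, Fintype.card_fin, hA])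
  rw [← heq, range_cons_cons_empty, Submodule.mem_span_pair] at hz
  obtain ⟨s, t, h⟩ := hz
  exact ⟨s, t, h.symm⟩

/-- a non-trivial torus parameter -/
theorem exists_param (hF : Fintype.card F = q ^ 2) (hq : 4 ≤ q) :
    ∃ μ : F, μ ^ q = μ ∧ μ ≠ 0 ∧ μ * μ ≠ 1 := by
  classical
  obtain ⟨θ, hθ⟩ := IsCyclic.exists_generator (α := Fˣ)
  have hord : orderOf θ = q ^ 2 - 1 := by
    rw [orderOf_eq_card_of_forall_mem_zpowers hθ, Nat.card_eq_fintype_card, Fintype.card_units, hF]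
  refine ⟨(θ : F) ^ (q + 1), ?_, pow_ne_zero _ θ.ne_zero, fun h => ?_⟩
  · rw [← pow_mul, add_one_mul q q, pow_add, pow_mul, pow_qq hF, pow_succ, mul_comm]
  · have h1 : θ ^ ((q + 1) * 2) = 1 := Units.ext (by rw [Units.val_pow_eq_pow_val, pow_mul, sq, h, Units.val_one])
    have h2 := Nat.le_of_dvd (by positivity) (orderOf_dvd_of_pow_eq_one h1)
    have h3 : q ^ 2 ≥ 4 * q := by rw [sq]; exact Nat.mul_le_mul_right q hq
    omega

/-- the swap of a hyperbolic pair -/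
theorem exists_swap (hF : Fintype.card F = q ^ 2) {a w : Vec} (haa : H a a = 0) (hww : H w w = 0) (hwa : H w a = 1)
    {ζ : F} (hζ0 : ζ ≠ 0) (hζ : ζ + ζ ^ q = 0) : ∃ s ∈ SUn, ∀ x, (s : Matrix Idx Idx F) *ᵥ x =
      x + (ζ * H x a - H x w) • a + (-ζ⁻¹ * H x w - H x a) • w := by
  have haw : H a w = 1 := by rw [← H_conj hF, hwa, one_pow]
  have hη : -ζ⁻¹ + (-ζ⁻¹) ^ q = 0 := by
    rw [← HermStd.qHom_apply hF, map_neg, map_inv₀, HermStd.qHom_apply, eq_neg_of_add_eq_zero_right hζ, inv_neg,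
      neg_neg, neg_add_cancel]
  obtain ⟨t, ht, htx⟩ := Unitary.exists_tv hF haa hζ
  obtain ⟨t', ht', htx'⟩ := Unitary.exists_tv hF hww hη
  refine ⟨t * t' * t, mul_mem (mul_mem ht ht') ht, fun x => ?_⟩
  simp only [Max.mulVec_mul_GL, htx, htx', H_add_left, H_smul_left, haa, hww, haw, hwa, mul_zero, mul_one,
    add_zero]
  match_scalars <;> field_simp <;> ring

/-- the torus of a hyperbolic pair -/
theorem exists_torus (hF : Fintype.card F = q ^ 2) {a w : Vec} (haa : H a a = 0) (hww : H w w = 0) (hwa : H w a = 1)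
    {μ : F} (hμ0 : μ ≠ 0) (hμ : μ ^ q = μ) : ∃ s ∈ SUn, ∀ x, (s : Matrix Idx Idx F) *ᵥ x =
      x + ((μ - 1) * H x w) • a + ((μ⁻¹ - 1) * H x a) • w := by
  obtain ⟨ζ, hζ0, hζ⟩ : ∃ ζ : F, ζ ≠ 0 ∧ ζ + ζ ^ q = 0 := by
    obtain ⟨θ, hθ⟩ : ∃ θ : F, θ - θ ^ q ≠ 0 := by
      by_contra hcon
      push Not at hcon
      exact HermStd.qHom_ne_id hF (RingHom.ext fun x => (sub_eq_zero.1 (hcon x)).symm)
    refine ⟨_, hθ, ?_⟩
    rw [← HermStd.qHom_apply hF (θ - θ ^ q), map_sub, HermStd.qHom_apply, HermStd.qHom_apply, pow_qq hF]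
    ring
  have haw : H a w = 1 := by rw [← H_conj hF, hwa, one_pow]
  have hζ' : -μ * ζ + (-μ * ζ) ^ q = 0 := by
    rw [neg_mul, ← HermStd.qHom_apply hF, map_neg, map_mul, HermStd.qHom_apply, HermStd.qHom_apply, hμ,
      eq_neg_of_add_eq_zero_right hζ]
    ring
  obtain ⟨s, hs, hsx⟩ := exists_swap hF haa hww hwa hζ0 hζ
  obtain ⟨s', hs', hsx'⟩ := exists_swap hF haa hww hwa (mul_ne_zero (neg_ne_zero.2 hμ0) hζ0) hζ'
  refine ⟨s' * s, mul_mem hs' hs, fun x => ?_⟩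
  simp only [Max.mulVec_mul_GL, hsx, hsx', H_add_left, H_smul_left, haa, hww, haw, hwa, mul_zero, mul_one,
    add_zero, zero_add]
  match_scalars <;> field_simp <;> ring

/-- a centre off both planes gives one inside, by the torus of its components -/
theorem Pair.centre_of_mixed (h : Pair q k M W U) (hq : 4 ≤ q) {u x y : Vec} (hx : x ∈ W) (hy : y ∈ U)
    (hxy : u = x + y) (hs0 : H x y ≠ 0) (hu : u ∈ Unitary.centres q M) : x ∈ Unitary.centres q M := by
  have hF := h.hF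
  obtain ⟨μ, hμq, hμ0, hμ1⟩ := exists_param hF hq
  have hμμ : μ - μ⁻¹ ≠ 0 := fun e => hμ1 (by
    have := congrArg (· * μ) (sub_eq_zero.1 e)
    simpa [inv_mul_cancel₀ hμ0] using this)
  have hxx : H x x = 0 := h.hWW x hx x hx
  have hyy : H y y = 0 := h.hUU y hy y hy
  have hsum : H x y + H y x = 0 := by
    simpa [hxy, H_add_left, H_add_right hF, hxx, hyy, add_comm] using hu.1
  have hyx : H y x = -H x y := eq_neg_of_add_eq_zero_right hsum
  have hyx0 : H y x ≠ 0 := by rw [hyx]; exact neg_ne_zero.2 hs0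
  set w := (H y x)⁻¹ • y with hw
  have hwU : w ∈ U := U.smul_mem _ hy
  have hwx : H w x = 1 := by rw [hw, H_smul_left, inv_mul_cancel₀ hyx0]
  have hxw : H x w = 1 := by rw [← H_conj hF, hwx, one_pow]
  obtain ⟨T, hT, hTx⟩ := exists_torus hF hxx (h.hUU w hwU w hwU) hwx hμ0 hμq
  have hTM : T ∈ M := by
    refine h.hT T hT (Submodule.eq_of_le_of_finrank_eq (fun z hz => ?_) (by rw [Max.finrank_img]))
      (Submodule.eq_of_le_of_finrank_eq (fun z hz => ?_) (by rw [Max.finrank_img]))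
    · obtain ⟨b, hb, rfl⟩ := Max.mem_img.1 hz
      rw [hTx, h.hWW b hb x hx, mul_zero, zero_smul, add_zero]
      exact W.add_mem hb (W.smul_mem _ hx)
    · obtain ⟨b, hb, rfl⟩ := Max.mem_img.1 hz
      rw [hTx, h.hUU b hb w hwU, mul_zero, zero_smul, add_zero]
      exact U.add_mem hb (U.smul_mem _ hwU)
  have hTu : (T : Matrix Idx Idx F) *ᵥ u = μ • x + μ⁻¹ • y := by
    rw [hTx, hxy, H_add_left, H_add_left, hxx, h.hUU y hy w hwU, hxw, zero_add, add_zero, mul_one, hw, smul_smul,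
      mul_assoc, mul_inv_cancel₀ hyx0, mul_one]
    module
  have h1 := Unitary.centres_map hF h.hMK hTM hu
  set c := -μ⁻¹ / (H x y * (μ - μ⁻¹)) with hc
  have hcs : c + c ^ q = 0 := by
    have e1 : (H x y) ^ q = -H x y := by rw [H_conj hF, hyx]
    rw [hc, ← HermStd.qHom_apply hF, map_div₀, map_neg, map_mul, map_sub, map_inv₀, HermStd.qHom_apply,
      HermStd.qHom_apply, hμq, e1, neg_mul, div_neg, add_neg_cancel]
  obtain ⟨t, -, htx⟩ := Unitary.exists_tv hF hu.1 hcs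
  have h2 := Unitary.centres_map hF h.hMK (hu.2 t c hcs htx) h1
  have e : (t : Matrix Idx Idx F) *ᵥ ((T : Matrix Idx Idx F) *ᵥ u) = (μ - μ⁻¹) • x := by
    have e1 : c * H (μ • x + μ⁻¹ • y) u = -μ⁻¹ := by
      simp only [hxy, H_add_left, H_add_right hF, H_smul_left, hxx, hyy, hyx, mul_zero, zero_add, add_zero]
      rw [show μ⁻¹ * -H x y + μ * H x y = H x y * (μ - μ⁻¹) by ring, hc,
        div_mul_cancel₀ _ (mul_ne_zero hs0 hμμ)]
    rw [htx, hTu, e1, hxy]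
    module
  rw [e] at h2
  have := Unitary.centres_smul hF (μ - μ⁻¹)⁻¹ h2
  rwa [inv_smul_smul₀ hμμ] at this

/-- two-dimensional subspaces: a mixed image with non-orthogonal components gives a centre -/
theorem Pair.good_two (h : Pair q k M W U) (hk : k = 2) (hq : 4 ≤ q) {a : Vec} (ha : a ∈ W) {g : GLn} (hg : g ∈ M)
    {x y : Vec} (hx : x ∈ W) (hy : y ∈ U) (hga : (g : Matrix Idx Idx F) *ᵥ a = x + y) (hxy0 : H x y ≠ 0) :
    ∃ w, w ≠ 0 ∧ (w ∈ W ∨ w ∈ U) ∧ w ∈ Unitary.centres q M := by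
  have hF := h.hF
  set u := (g : Matrix Idx Idx F) *ᵥ a with hu
  have haa : H a a = 0 := h.hWW a ha a ha
  have huu : H u u = 0 := by rw [hu, Unitary.SUn_H (h.hMK hg)]; exact haa
  have hxx : H x x = 0 := h.hWW x hx x hx
  have hyy : H y y = 0 := h.hUU y hy y hy
  have hsum : H x y + H y x = 0 := by
    simpa [hga, H_add_left, H_add_right hF, hxx, hyy, add_comm] using huu
  have hx0 : x ≠ 0 := fun e => hxy0 (by rw [e, H_zero_left])
  have hy0 : y ≠ 0 := fun e => hxy0 (by rw [e, H_zero_right hF])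
  have hyx0 : H y x ≠ 0 := fun e => hxy0 ((H_eq_zero_comm hF).1 e)
  -- the complementary hyperbolic line
  obtain ⟨a₁, ha₁, ha₁0, ha₁f⟩ := exists_ne_zero_ker ![hlin q y] (V := W) (by rw [h.hW]; omega)
  obtain ⟨w₁, hw₁, hw₁0, hw₁f⟩ := exists_ne_zero_ker ![hlin q x] (V := U) (by rw [h.hU]; omega)
  have hay : H a₁ y = 0 := ha₁f 0
  have hya : H y a₁ = 0 := (H_eq_zero_comm hF).1 hay
  have hw₁x : H w₁ x = 0 := hw₁f 0
  have hxa : a₁ ∉ Submodule.span F {x} := fun hm => by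
    obtain ⟨s, rfl⟩ := Submodule.mem_span_singleton.1 hm
    rw [H_smul_left] at hay
    exact ha₁0 (by rw [(mul_eq_zero.1 hay).resolve_right hxy0, zero_smul])
  have hκ : H w₁ a₁ ≠ 0 := fun e => hw₁0 (h.eq_zero hw₁ fun z hz => (H_eq_zero_comm hF).1 (by
    obtain ⟨s, t, rfl⟩ := span_plane (h.hW.trans hk) hx ha₁ hx0 hxa hz
    rw [H_add_right hF, H_smul_right, H_smul_right, hw₁x, e, mul_zero, mul_zero, add_zero]))
  set w₂ := (H w₁ a₁)⁻¹ • w₁ with hw₂def
  have hw₂ : w₂ ∈ U := U.smul_mem _ hw₁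
  have hwx : H w₂ x = 0 := by rw [hw₂def, H_smul_left, hw₁x, mul_zero]
  have hxw : H x w₂ = 0 := (H_eq_zero_comm hF).1 hwx
  have hwa : H w₂ a₁ = 1 := by rw [hw₂def, H_smul_left, inv_mul_cancel₀ hκ]
  have haw : H a₁ w₂ = 1 := by rw [← H_conj hF, hwa, one_pow]
  have hw₂0 : w₂ ≠ 0 := fun e => by rw [e, H_zero_left] at hwa; exact zero_ne_one hwa
  have hyw₂ : w₂ ∉ Submodule.span F {y} := fun hm => by
    obtain ⟨t, ht⟩ := Submodule.mem_span_singleton.1 hm
    rw [← ht, H_smul_left] at hwx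
    exact hw₂0 (by rw [← ht, (mul_eq_zero.1 hwx).resolve_right hyx0, zero_smul])
  have hxa' : a₁ ∉ Submodule.span F {x} := hxa
  have haa₁ : H a₁ a₁ = 0 := h.hWW a₁ ha₁ a₁ ha₁
  have hww₂ : H w₂ w₂ = 0 := h.hUU w₂ hw₂ w₂ hw₂
  -- the image of a vector of `U`
  obtain ⟨v, hv, hv0, hvf⟩ := exists_ne_zero_ker ![hlin q a] (V := U) (by rw [h.hU]; omega)
  have hva : H v a = 0 := hvf 0
  set V := (g : Matrix Idx Idx F) *ᵥ v with hV
  obtain ⟨p, hp, p', hp', hpp⟩ := Submodule.mem_sup.1 (h.hC.sup_eq_top ▸ Submodule.mem_top : V ∈ W ⊔ U)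
  obtain ⟨α, r, rfl⟩ := span_plane (h.hW.trans hk) hx ha₁ hx0 hxa hp
  obtain ⟨β, r', rfl⟩ := span_plane (h.hU.trans hk) hy hw₂ hy0 hyw₂ hp'
  have hβ : β = α := by
    have e : H V u = 0 := by rw [hV, hu, Unitary.SUn_H (h.hMK hg)]; exact hva
    rw [← hpp, hga] at e
    simp only [H_add_left, H_smul_left, H_add_right hF, hxx, hyy, h.hWW a₁ ha₁ x hx, hay, h.hUU w₂ hw₂ y hy, hwx,
      mul_zero, add_zero, zero_add] at e
    have e' : (α - β) * H x y = 0 := by linear_combination e - β * hsum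
    exact (sub_eq_zero.1 ((mul_eq_zero.1 e').resolve_right hxy0)).symm
  subst hβ
  have hVeq : V = β • u + r • a₁ + r' • w₂ := by rw [← hpp, hga]; module
  have hua : H u a₁ = 0 := by rw [hga, H_add_left, h.hWW x hx a₁ ha₁, hya, add_zero]
  have huw : H u w₂ = 0 := by rw [hga, H_add_left, hxw, h.hUU y hy w₂ hw₂, add_zero]
  have hau : H a₁ u = 0 := (H_eq_zero_comm hF).1 hua
  have hwu : H w₂ u = 0 := (H_eq_zero_comm hF).1 huw
  have hne : r ≠ 0 ∨ r' ≠ 0 := by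
    by_contra hn
    push Not at hn
    rw [hV, hn.1, hn.2, zero_smul, zero_smul, add_zero, add_zero, hu, ← mulVec_smul] at hVeq
    exact hv0 (Submodule.disjoint_def.1 h.hC.disjoint v (Max.mulVec_inj g hVeq ▸ W.smul_mem _ ha) hv)
  have hrr : r * r' ^ q + r' * r ^ q = 0 := by
    have e : H V V = 0 := by rw [hV, Unitary.SUn_H (h.hMK hg)]; exact h.hUU v hv v hv
    rw [hVeq] at e
    simp only [H_add_left, H_smul_left, H_add_right hF, H_smul_right, huu, hua, huw, hau, hwu, haa₁, hww₂, haw, hwa,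
      mul_zero, mul_one, add_zero, zero_add] at e
    linear_combination e
  have hVs : ∀ t : F, SgZ q M u (t • V) := fun t => by
    rw [hV, ← mulVec_smul]
    exact sgZ_map hF haa h.hMK (h.hSg a ha (t • v) (U.smul_mem t hv) (by rw [H_smul_left, hva, mul_zero])) hg
  -- the torus fixing the image
  obtain ⟨μ, hμq, hμ0, hμ1⟩ := exists_param hF hq
  have hμμ : μ - μ⁻¹ ≠ 0 := fun e => hμ1 (by
    have := congrArg (· * μ) (sub_eq_zero.1 e)
    simpa [inv_mul_cancel₀ hμ0] using this)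
  have hμi : μ⁻¹ ^ q = μ⁻¹ := by rw [inv_pow, hμq]
  obtain ⟨T, hT, hTx⟩ := exists_torus hF haa₁ hww₂ hwa hμ0 hμq
  have hTM : T ∈ M := by
    refine h.hT T hT (Submodule.eq_of_le_of_finrank_eq (fun z hz => ?_) (by rw [Max.finrank_img]))
      (Submodule.eq_of_le_of_finrank_eq (fun z hz => ?_) (by rw [Max.finrank_img]))
    · obtain ⟨b, hb, rfl⟩ := Max.mem_img.1 hz
      rw [hTx, h.hWW b hb a₁ ha₁, mul_zero, zero_smul, add_zero]
      exact W.add_mem hb (W.smul_mem _ ha₁)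
    · obtain ⟨b, hb, rfl⟩ := Max.mem_img.1 hz
      rw [hTx, h.hUU b hb w₂ hw₂, mul_zero, zero_smul, add_zero]
      exact U.add_mem hb (U.smul_mem _ hw₂)
  have hTu : (T : Matrix Idx Idx F) *ᵥ u = u := by
    rw [hTx, hua, huw, mul_zero, mul_zero, zero_smul, zero_smul, add_zero, add_zero]
  have hTV : (T : Matrix Idx Idx F) *ᵥ V = β • u + (μ * r) • a₁ + (μ⁻¹ * r') • w₂ := by
    rw [hTx, hVeq]
    simp only [H_add_left, H_smul_left, hua, huw, haa₁, hww₂, haw, hwa, mul_zero, mul_one, add_zero, zero_add]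
    module
  have hTS : ∀ t : F, SgZ q M u (t • (T : Matrix Idx Idx F) *ᵥ V) := fun t => by
    rw [← mulVec_smul, ← hTu]; exact sgZ_map hF huu h.hMK (hVs t) hTM
  by_cases hr : r * r' = 0
  swap
  · obtain ⟨hr0, hr'0⟩ := mul_ne_zero_iff.1 hr
    have huc : u ∈ Unitary.centres q M := by
      refine ⟨huu, fun t c hc htx => ?_⟩
      obtain ⟨l, hl⟩ : ∃ l : F, l - l ^ q = c := by
        obtain ⟨θ, hθ⟩ : ∃ θ : F, θ - θ ^ q ≠ 0 := by
          by_contra hcon
          push Not at hcon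
          exact HermStd.qHom_ne_id hF (RingHom.ext fun x => (sub_eq_zero.1 (hcon x)).symm)
        refine ⟨θ * (c / (θ - θ ^ q)), ?_⟩
        have e : (θ * (c / (θ - θ ^ q))) ^ q = θ ^ q * (c / (θ - θ ^ q)) := by
          rw [mul_pow, div_pow, eq_neg_of_add_eq_zero_right hc,
            show (θ - θ ^ q) ^ q = -(θ - θ ^ q) by
              rw [← HermStd.qHom_apply hF, ← HermStd.qHom_apply hF θ, map_sub, HermStd.qHom_qHom, neg_sub],
            neg_div_neg_eq]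
        rw [e, ← sub_mul, mul_div_cancel₀ _ hθ]
      set d := (μ - μ⁻¹) * (r * r' ^ q) with hd
      have hd0 : d ≠ 0 := mul_ne_zero hμμ (mul_ne_zero hr0 (pow_ne_zero _ hr'0))
      have h3 := sg_comm hF huu (hTS (l / d)).sg (by simpa using (hVs 1).sg)
      have e1 : H ((l / d) • (T : Matrix Idx Idx F) *ᵥ V) V = l := by
        rw [H_smul_left, hTV, hVeq]
        simp only [H_add_left, H_smul_left, H_add_right hF, H_smul_right, huu, hua, huw, hau, hwu, haa₁, hww₂, haw,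
          hwa, mul_zero, mul_one, add_zero, zero_add]
        rw [show r ^ q * (μ⁻¹ * r') + r' ^ q * (μ * r) = d by rw [hd]; linear_combination μ⁻¹ * hrr,
          div_mul_cancel₀ _ hd0]
      rw [← H_conj hF ((l / d) • (T : Matrix Idx Idx F) *ᵥ V) V, e1, hl] at h3
      exact h3 t htx
    exact ⟨x, hx0, Or.inl hx, h.centre_of_mixed hq hx hy hga hxy0 huc⟩
  have hdiff : SgZ q M u (((μ - 1) * r) • a₁ + ((μ⁻¹ - 1) * r') • w₂) := by
    have h1 := hTS 1
    have h2 := hVs 1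
    rw [one_smul] at h1 h2
    have := sgZ_add hF huu h1 (sgZ_neg hF huu h2) (by
      rw [H_neg_right hF, hTV, hVeq]
      simp only [H_add_left, H_smul_left, H_add_right hF, H_smul_right, huu, hua, huw, hau, hwu, haa₁, hww₂, haw,
        hwa, mul_zero, mul_one, add_zero, zero_add, neg_eq_zero]
      rcases mul_eq_zero.1 hr with h0 | h0 <;> simp [h0, zero_pow (q_ne_zero hF)])
    convert this using 1
    rw [hTV, hVeq]
    module
  have hμ1' : μ - 1 ≠ 0 := fun e => hμ1 (by rw [sub_eq_zero.1 e, one_mul])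
  have hμ1'' : μ⁻¹ - 1 ≠ 0 := fun e => hμ1' (by
    rw [sub_eq_zero, inv_eq_one] at e; rw [e, sub_self])
  rcases mul_eq_zero.1 hr with h0 | h0
  · have hr'0 : r' ≠ 0 := hne.resolve_left fun hh => hh h0
    rw [h0, mul_zero, zero_smul, zero_add] at hdiff
    obtain ⟨w, hw, hw0, hwc⟩ := h.core hx hy hga hy0 huu hw₂ hyw₂ hwx (mul_ne_zero hμ1'' hr'0) hdiff
    exact ⟨w, hw0, Or.inr hw, hwc⟩
  · have hr0 : r ≠ 0 := hne.resolve_right fun hh => hh h0
    rw [h0, mul_zero, zero_smul, add_zero] at hdiff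
    obtain ⟨w, hw, hw0, hwc⟩ := h.symm.core hy hx (by rw [hga, add_comm]) hx0 huu ha₁ hxa' hay
      (mul_ne_zero hμ1' hr0) hdiff
    exact ⟨w, hw0, Or.inl hw, hwc⟩

/-- a mixed image with non-orthogonal components gives a centre -/
theorem Pair.good_centre (h : Pair q k M W U) {a : Vec} (ha : a ∈ W) {g : GLn} (hg : g ∈ M) {x y : Vec} (hx : x ∈ W)
    (hy : y ∈ U) (hga : (g : Matrix Idx Idx F) *ᵥ a = x + y) (hxy0 : H x y ≠ 0) :
    ∃ w, w ≠ 0 ∧ (w ∈ W ∨ w ∈ U) ∧ w ∈ Unitary.centres q M := by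
  rcases Nat.lt_or_ge k 3 with h3 | hk
  · exact h.good_two (by have := h.hk; omega) (h.hsmall.resolve_left (by omega)) ha hg hx hy hga hxy0
  have hF := h.hF
  by_contra hcon
  have hnoU : ¬ ∃ w ∈ U, w ≠ 0 ∧ w ∈ Unitary.centres q M := fun ⟨w, h1, h2, h3⟩ => hcon ⟨w, h2, Or.inr h1, h3⟩
  have hnoW : ¬ ∃ w ∈ W, w ≠ 0 ∧ w ∈ Unitary.centres q M := fun ⟨w, h1, h2, h3⟩ => hcon ⟨w, h2, Or.inl h1, h3⟩
  set u := (g : Matrix Idx Idx F) *ᵥ a with hu
  have haa : H a a = 0 := h.hWW a ha a ha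
  have huu : H u u = 0 := by rw [hu, Unitary.SUn_H (h.hMK hg)]; exact haa
  have hsum : H x y + H y x = 0 := by
    simpa [hga, H_add_left, H_add_right hF, h.hWW x hx x hx, h.hUU y hy y hy, add_comm] using huu
  -- the normal form of the image of a vector of `U`
  have hdec : ∀ v ∈ U, H v a = 0 → ∃ α : F, ∃ z ∈ W, ∃ z' ∈ U,
      (g : Matrix Idx Idx F) *ᵥ v = α • u + z + z' ∧ H z y = 0 ∧ H z' x = 0 := by
    intro v hv hva
    obtain ⟨p, hp, p', hp', hpp⟩ := Submodule.mem_sup.1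
      (h.hC.sup_eq_top ▸ Submodule.mem_top : (g : Matrix Idx Idx F) *ᵥ v ∈ W ⊔ U)
    have h0 : H p y + H p' x = 0 := by
      have e : H (p + p') u = 0 := by rw [hpp, hu, Unitary.SUn_H (h.hMK hg), hva]
      simpa [hga, H_add_left, H_add_right hF, h.hWW p hp x hx, h.hUU p' hp' y hy, add_comm] using e
    refine ⟨H p y / H x y, p - (H p y / H x y) • x, W.sub_mem hp (W.smul_mem _ hx), p' - (H p y / H x y) • y,
      U.sub_mem hp' (U.smul_mem _ hy), ?_, ?_, ?_⟩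
    · rw [← hpp, hga]; module
    · rw [H_sub_left, H_smul_left, div_mul_cancel₀ _ hxy0, sub_self]
    · rw [H_sub_left, H_smul_left, eq_neg_of_add_eq_zero_right hsum, mul_neg, div_mul_cancel₀ _ hxy0]
      linear_combination h0
  -- in every normal form both parts are non-zero, and they are orthogonal
  have hbad : ∀ v ∈ U, v ≠ 0 → H v a = 0 → ∀ (α : F) (z z' : Vec), z ∈ W → z' ∈ U →
      (g : Matrix Idx Idx F) *ᵥ v = α • u + z + z' → H z y = 0 → H z' x = 0 →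
      z ≠ 0 ∧ z' ≠ 0 ∧ H z z' = 0 ∧ k = 3 := by
    intro v hv hv0 hva α z z' hz hz' e hzy hz'x
    have hVs : SgZ q M u (α • u + z + z') := e ▸ sgZ_map hF haa h.hMK (h.hSg a ha v hv hva) hg
    have hboth : z ≠ 0 ∨ z' ≠ 0 := by
      by_contra hc
      push Not at hc
      rw [hc.1, hc.2, add_zero, add_zero, hu, ← mulVec_smul] at e
      exact hv0 (Submodule.disjoint_def.1 h.hC.disjoint v (Max.mulVec_inj g e ▸ W.smul_mem α ha) hv)
    have hz'0 : z' ≠ 0 := by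
      rintro rfl
      have hz0 : z ≠ 0 := hboth.resolve_right fun hh => hh rfl
      have hyx : H y x ≠ 0 := fun e0 => hxy0 ((H_eq_zero_comm hF).1 e0)
      obtain ⟨z₁, hz₁, hz₁x, hz₁z⟩ := h.symm.exists_dual' hx hyx hz hz0 hzy
      obtain ⟨w, hw, hw0, hwf⟩ := exists_ne_zero_ker ![hlin q y, hlin q z₁] (V := W) (by rw [h.hW]; omega)
      exact hnoW (h.symm.step hy hx (by rw [hga, add_comm]) hyx huu hVs U.zero_mem hz
        (show α • u + z + 0 = α • u + 0 + z by abel) hz₁ hz₁x hz₁z hw hw0 (hwf 0) (hwf 1) (H_zero_right hF _))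
    obtain ⟨z₁, hz₁, hz₁y, hz₁z'⟩ := h.exists_dual' hy hxy0 hz' hz'0 hz'x
    have hz0 : z ≠ 0 := by
      rintro rfl
      obtain ⟨w, hw, hw0, hwf⟩ := exists_ne_zero_ker ![hlin q x, hlin q z₁] (V := U) (by rw [h.hU]; omega)
      exact hnoU (h.step hx hy hga hxy0 huu hVs W.zero_mem hz' rfl hz₁ hz₁y hz₁z' hw hw0 (hwf 0) (hwf 1)
        (H_zero_right hF _))
    refine ⟨hz0, hz'0, ?_, ?_⟩
    · by_contra hzz'
      obtain ⟨w, hw, hw0, hwf⟩ := exists_ne_zero_ker ![hlin q x, hlin q z] (V := U) (by rw [h.hU]; omega)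
      exact hnoU (h.step hx hy hga hxy0 huu hVs hz hz' rfl hz hzy (fun e0 => hzz' ((H_eq_zero_comm hF).1 e0)) hw
        hw0 (hwf 0) (hwf 1) (hwf 1))
    · by_contra hk3
      obtain ⟨w, hw, hw0, hwf⟩ := exists_ne_zero_ker ![hlin q x, hlin q z₁, hlin q z] (V := U) (by rw [h.hU]; omega)
      exact hnoU (h.step hx hy hga hxy0 huu hVs hz hz' rfl hz₁ hz₁y hz₁z' hw hw0 (hwf 0) (hwf 1) (hwf 2))
  -- two such vectors have proportional parts
  obtain ⟨v₂, hv₂, hv₂0, hv₂f⟩ := exists_ne_zero_ker ![hlin q a] (V := U) (by rw [h.hU]; omega)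
  obtain ⟨v, hv, hvv₂, hvf⟩ := exists_ne_line ![hlin q a] (V := U) (y := v₂) (by rw [h.hU]; omega)
  have hva : H v a = 0 := hvf 0
  have hv₂a : H v₂ a = 0 := hv₂f 0
  have hv0 : v ≠ 0 := fun e => hvv₂ (e ▸ zero_mem _)
  obtain ⟨α, z, hz, z', hz', e, hzy, hz'x⟩ := hdec v hv hva
  obtain ⟨α₂, z₂, hz₂, z₂', hz₂', e₂, hz₂y, hz₂'x⟩ := hdec v₂ hv₂ hv₂a
  obtain ⟨hz0, hz'0, hzz', hk3⟩ := hbad v hv hv0 hva α z z' hz hz' e hzy hz'x
  obtain ⟨-, -, hz₂z₂', -⟩ := hbad v₂ hv₂ hv₂0 hv₂a α₂ z₂ z₂' hz₂ hz₂' e₂ hz₂y hz₂'x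
  have hpol : ∀ c : F, c * H z₂ z' + c ^ q * H z z₂' = 0 := by
    intro c
    have h0 := (hbad (v + c • v₂) (U.add_mem hv (U.smul_mem _ hv₂)) (fun h0 => hvv₂
      (Submodule.mem_span_singleton.2 ⟨-c, by rw [neg_smul, eq_comm, ← sub_eq_zero, sub_neg_eq_add, h0]⟩))
      (by rw [H_add_left, H_smul_left, hva, hv₂a, mul_zero, add_zero])
      (α + c * α₂) (z + c • z₂) (z' + c • z₂') (W.add_mem hz (W.smul_mem _ hz₂))
      (U.add_mem hz' (U.smul_mem _ hz₂')) (by rw [mulVec_add, mulVec_smul, e, e₂]; module)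
      (by rw [H_add_left, H_smul_left, hzy, hz₂y, mul_zero, add_zero])
      (by rw [H_add_left, H_smul_left, hz'x, hz₂'x, mul_zero, add_zero])).2.2.1
    simp only [H_add_left, H_add_right hF, H_smul_left, H_smul_right, hzz', hz₂z₂', zero_add, mul_zero,
      add_zero] at h0
    linear_combination h0
  have hz₂z' : H z₂ z' = 0 := by
    obtain ⟨θ, hθ⟩ : ∃ θ : F, θ - θ ^ q ≠ 0 := by
      by_contra hcon'
      push Not at hcon'
      exact HermStd.qHom_ne_id hF (RingHom.ext fun x => (sub_eq_zero.1 (hcon' x)).symm)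
    have h1 := hpol 1
    have h2 := hpol θ
    rw [one_pow, one_mul, one_mul] at h1
    exact (mul_eq_zero.1 (show (θ - θ ^ q) * H z₂ z' = 0 by linear_combination h2 - θ ^ q * h1)).resolve_left hθ
  obtain ⟨z₁, hz₁, hz₁y, hz₁z'⟩ := h.exists_dual' hy hxy0 hz' hz'0 hz'x
  have hK : Submodule.span F {z} = W ⊓ LinearMap.ker (hlin q y) ⊓ LinearMap.ker (hlin q z') := by
    refine Submodule.eq_of_le_of_finrank_le ((Submodule.span_singleton_le_iff_mem _ _).2 ⟨⟨hz, hzy⟩, hzz'⟩) ?_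
    have h1 : Module.finrank F ↥(W ⊓ LinearMap.ker (hlin q y)) < Module.finrank F W :=
      Submodule.finrank_lt_finrank_of_lt (lt_of_le_of_ne inf_le_left fun e0 => hxy0
        (Submodule.mem_inf.1 (show x ∈ W ⊓ LinearMap.ker (hlin q y) by rw [e0]; exact hx)).2)
    have h2 : Module.finrank F ↥(W ⊓ LinearMap.ker (hlin q y) ⊓ LinearMap.ker (hlin q z')) <
        Module.finrank F ↥(W ⊓ LinearMap.ker (hlin q y)) :=
      Submodule.finrank_lt_finrank_of_lt (lt_of_le_of_ne inf_le_left fun e0 => hz₁z' ((H_eq_zero_comm hF).1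
        (Submodule.mem_inf.1 (show z₁ ∈ W ⊓ LinearMap.ker (hlin q y) ⊓ LinearMap.ker (hlin q z') by
          rw [e0]; exact ⟨hz₁, hz₁y⟩)).2))
    rw [finrank_span_singleton hz0]
    rw [h.hW] at h1
    omega
  obtain ⟨t, ht⟩ := Submodule.mem_span_singleton.1 (hK.symm ▸ ⟨⟨hz₂, hz₂y⟩, hz₂z'⟩ : z₂ ∈ Submodule.span F {z})
  refine (hbad (v₂ - t • v) (U.sub_mem hv₂ (U.smul_mem _ hv)) (fun h0 => ?_)
    (by rw [H_sub_left, H_smul_left, hva, hv₂a, mul_zero, sub_zero])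
    (α₂ - t * α) 0 (z₂' - t • z') W.zero_mem (U.sub_mem hz₂' (U.smul_mem _ hz'))
    (by rw [mulVec_sub, mulVec_smul, e, e₂, ← ht]; module) (H_zero_left _)
    (by rw [H_sub_left, H_smul_left, hz'x, hz₂'x, mul_zero, sub_zero])).1 rfl
  rw [sub_eq_zero] at h0
  rcases eq_or_ne t 0 with rfl | ht0
  · exact hv₂0 (by rw [h0, zero_smul])
  · exact hvv₂ (Submodule.mem_span_singleton.2 ⟨t⁻¹, by rw [h0, inv_smul_smul₀ ht0]⟩)

/-- without non-orthogonal mixed images the components come from the same space -/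
theorem Pair.pre_mem (h : Pair q k M W U) {g : GLn} (hg : g ∈ M)
    (hcon : ¬ ∃ w, w ≠ 0 ∧ (w ∈ W ∨ w ∈ U) ∧ w ∈ Unitary.centres q M) {a : Vec} (ha : a ∈ W) {x y : Vec}
    (hx : x ∈ W) (hy : y ∈ U) (hga : (g : Matrix Idx Idx F) *ᵥ a = x + y) :
    ∃ a₁ ∈ W, (g : Matrix Idx Idx F) *ᵥ a₁ = x := by
  have hF := h.hF
  have horth : ∀ {b p p' : Vec}, b ∈ W → p ∈ W → p' ∈ U → (g : Matrix Idx Idx F) *ᵥ b = p + p' → H p p' = 0 :=
    fun hb hp hp' e => by_contra fun h0 => hcon (h.good_centre hb hg hp hp' e h0)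
  refine ⟨_, h.mem_of_perp fun b hb => ?_, Max.mulVec_inv_cancel g x⟩
  rw [← Unitary.SUn_H (h.hMK hg), Max.mulVec_inv_cancel]
  obtain ⟨p, hp, p', hp', hpp⟩ := Submodule.mem_sup.1
    (h.hC.sup_eq_top ▸ Submodule.mem_top : (g : Matrix Idx Idx F) *ᵥ b ∈ W ⊔ U)
  have hpol : ∀ c : F, c ^ q * H x p' + c * H p y = 0 := fun c => by
    have h0 := horth (W.add_mem ha (W.smul_mem c hb)) (W.add_mem hx (W.smul_mem c hp))
      (U.add_mem hy (U.smul_mem c hp')) (by rw [mulVec_add, mulVec_smul, hga, ← hpp]; module)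
    simp only [H_add_left, H_add_right hF, H_smul_left, H_smul_right, horth ha hx hy hga,
      horth hb hp hp' hpp.symm, zero_add, mul_zero, add_zero] at h0
    linear_combination h0
  obtain ⟨θ, hθ⟩ : ∃ θ : F, θ - θ ^ q ≠ 0 := by
    by_contra hcon'
    push Not at hcon'
    exact HermStd.qHom_ne_id hF (RingHom.ext fun x => (sub_eq_zero.1 (hcon' x)).symm)
  have h1 := hpol 1
  have h2 := hpol θ
  rw [one_pow, one_mul, one_mul] at h1
  rw [← hpp, H_add_right hF, h.hWW x hx p hp, zero_add]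
  exact (mul_eq_zero.1 (show (θ - θ ^ q) * H x p' = 0 by linear_combination θ * h1 - h2)).resolve_left hθ

/-- a Siegel element inside one of the spaces gives a centre -/
theorem Pair.inner_centre (h : Pair q k M W U) {v w : Vec} (hv : v ∈ U) (hw : w ∈ U)
    (hvw : v ∉ Submodule.span F {w}) (hS : SgZ q M v w) : w ∈ Unitary.centres q M := by
  have hF := h.hF
  obtain ⟨b₀, hb₀, hb₀w, hb₀v⟩ := h.exists_dual hv hw hvw
  set b := (H b₀ v)⁻¹ • b₀ with hb
  have hbW : b ∈ W := W.smul_mem _ hb₀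
  have hbv : H b v = 1 := by rw [hb, H_smul_left, inv_mul_cancel₀ hb₀v]
  have hvb : H v b = 1 := by rw [← H_conj hF, hbv, one_pow]
  have hwb : H w b = 0 := (H_eq_zero_comm hF).1 (by rw [hb, H_smul_left, hb₀w, mul_zero])
  refine ⟨h.hUU w hw w hw, fun t c hc htx => ?_⟩
  obtain ⟨θ, hθ⟩ : ∃ θ : F, θ ^ q - θ = c := by
    obtain ⟨η, hη⟩ : ∃ η : F, η ^ q - η ≠ 0 := by
      by_contra hcon
      push Not at hcon
      exact HermStd.qHom_ne_id hF (RingHom.ext fun x => sub_eq_zero.1 (hcon x))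
    refine ⟨η * (c / (η ^ q - η)), ?_⟩
    have e : (η * (c / (η ^ q - η))) ^ q = η ^ q * (c / (η ^ q - η)) := by
      rw [mul_pow, div_pow, eq_neg_of_add_eq_zero_right hc,
        show (η ^ q - η) ^ q = -(η ^ q - η) by
          rw [← HermStd.qHom_apply hF, ← HermStd.qHom_apply hF η, map_sub, HermStd.qHom_qHom, neg_sub],
        neg_div_neg_eq]
    rw [e, ← sub_mul, mul_div_cancel₀ _ hη]
  obtain ⟨-, -, s, hs, hsx⟩ := h.hSg b hbW (θ • w) (U.smul_mem _ hw) (by rw [H_smul_left, hwb, mul_zero])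
  have hsv : (s : Matrix Idx Idx F) *ᵥ v = v + θ • w := by
    rw [hsx, hvb, H_smul_right, h.hUU v hv w hw, mul_zero, neg_zero, zero_smul, add_zero, one_smul]
  have hsw : (s : Matrix Idx Idx F) *ᵥ w = w := by
    rw [hsx, hwb, H_smul_right, h.hUU w hw w hw, mul_zero, neg_zero, zero_smul, zero_smul, add_zero, add_zero]
  have h1 := sgZ_map hF (h.hUU v hv v hv) h.hMK hS hs
  rw [hsv, hsw] at h1
  obtain ⟨-, -, g₁, hg₁, hg₁x⟩ := h1
  obtain ⟨-, -, g₀, hg₀, hg₀x⟩ := hS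
  have e : t = g₁ * g₀⁻¹ := eq_mul_inv_of_mul_eq (Max.gl_ext fun x => by
    rw [Max.mulVec_mul_GL, htx, hg₀x, hg₁x]
    simp only [H_add_left, H_smul_left, H_add_right hF, H_smul_right, h.hUU v hv w hw, h.hUU w hw w hw, mul_zero,
      add_zero, ← hθ]
    module)
  rw [e]
  exact M.mul_mem hg₁ (M.inv_mem hg₀)

/-- some image of a vector of the two spaces is mixed, hence a centre exists -/
theorem Pair.exists_centre (h : Pair q k M W U) {a : Vec} (ha : a ∈ W) {g : GLn} (hg : g ∈ M)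
    (hW : (g : Matrix Idx Idx F) *ᵥ a ∉ W) (hU : (g : Matrix Idx Idx F) *ᵥ a ∉ U) :
    ∃ w, w ≠ 0 ∧ (w ∈ W ∨ w ∈ U) ∧ w ∈ Unitary.centres q M := by
  have hF := h.hF
  have hk := h.hk
  by_contra hcon
  have hcon' : ¬ ∃ w, w ≠ 0 ∧ (w ∈ U ∨ w ∈ W) ∧ w ∈ Unitary.centres q M := fun ⟨w, h1, h2, h3⟩ =>
    hcon ⟨w, h1, h2.symm, h3⟩
  obtain ⟨x, hx, y, hy, hxy⟩ := Submodule.mem_sup.1
    (h.hC.sup_eq_top ▸ Submodule.mem_top : (g : Matrix Idx Idx F) *ᵥ a ∈ W ⊔ U)
  have hx0 : x ≠ 0 := fun e => hU (by rw [← hxy, e, zero_add]; exact hy)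
  have hy0 : y ≠ 0 := fun e => hW (by rw [← hxy, e, add_zero]; exact hx)
  obtain ⟨a₁, ha₁, hga₁⟩ := h.pre_mem hg hcon ha hx hy hxy.symm
  obtain ⟨a₂, ha₂, hga₂⟩ : ∃ a₂ ∈ W, (g : Matrix Idx Idx F) *ᵥ a₂ = y :=
    ⟨a - a₁, W.sub_mem ha ha₁, by rw [mulVec_sub, hga₁, ← hxy, add_sub_cancel_left]⟩
  -- a vector of `U` with pure image
  obtain ⟨w, hw, hw0, hgw⟩ : ∃ w ∈ U, w ≠ 0 ∧
      ((g : Matrix Idx Idx F) *ᵥ w ∈ W ∨ (g : Matrix Idx Idx F) *ᵥ w ∈ U) := by
    obtain ⟨b, hb, hb0, -⟩ := exists_ne_zero_ker (V := U) (![] : Fin 0 → (Vec →ₗ[F] F)) (by rw [h.hU]; omega)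
    obtain ⟨p, hp, p', hp', hpp⟩ := Submodule.mem_sup.1
      (h.hC.sup_eq_top ▸ Submodule.mem_top : (g : Matrix Idx Idx F) *ᵥ b ∈ W ⊔ U)
    rcases eq_or_ne p' 0 with rfl | hp'0
    · exact ⟨b, hb, hb0, Or.inl (by rw [← hpp, add_zero]; exact hp)⟩
    · obtain ⟨b₁, hb₁, hgb₁⟩ := h.symm.pre_mem hg hcon' hb hp' hp (by rw [← hpp, add_comm])
      exact ⟨b₁, hb₁, fun e => hp'0 (by rw [← hgb₁, e, mulVec_zero]), Or.inr (hgb₁ ▸ hp')⟩
  have hgw0 : (g : Matrix Idx Idx F) *ᵥ w ≠ 0 := Max.mulVec_ne_zero g hw0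
  have hind : ∀ {b v : Vec}, b ∈ W → (g : Matrix Idx Idx F) *ᵥ b = v → v ≠ 0 →
      v ∉ Submodule.span F {(g : Matrix Idx Idx F) *ᵥ w} := by
    intro b v hb hgb hv0 hm
    obtain ⟨t, ht⟩ := Submodule.mem_span_singleton.1 hm
    rw [← hgb, ← mulVec_smul] at ht
    have h0 := Submodule.disjoint_def.1 h.hC.disjoint b hb (Max.mulVec_inj g ht ▸ U.smul_mem t hw)
    exact hv0 (by rw [← hgb, h0, mulVec_zero])
  rcases hgw with hgw | hgw
  · have hwa : H w a₁ = 0 := by rw [← Unitary.SUn_H (h.hMK hg), hga₁, h.hWW _ hgw x hx]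
    have h1 := sgZ_map hF (h.hWW a₁ ha₁ a₁ ha₁) h.hMK (h.hSg a₁ ha₁ w hw hwa) hg
    rw [hga₁] at h1
    exact hcon ⟨_, hgw0, Or.inl hgw, h.symm.inner_centre hx hgw (hind ha₁ hga₁ hx0) h1⟩
  · have hwa : H w a₂ = 0 := by rw [← Unitary.SUn_H (h.hMK hg), hga₂, h.hUU _ hgw y hy]
    have h1 := sgZ_map hF (h.hWW a₂ ha₂ a₂ ha₂) h.hMK (h.hSg a₂ ha₂ w hw hwa) hg
    rw [hga₂] at h1
    exact hcon ⟨_, hgw0, Or.inr hgw, h.inner_centre hy hgw (hind ha₂ hga₂ hy0) h1⟩

set_option maxHeartbeats 1000000 in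
/-- stabilisers of pairs of totally isotropic subspaces are maximal -/
theorem pair_maximal_of (hF : Fintype.card F = q ^ 2) (hn : 4 ≤ n) (hsmall : 3 ≤ k ∨ 4 ≤ q) (hk : 2 * k = n) (hfW : Module.finrank F W = k)
    (hfU : Module.finrank F U = k) (hC : IsCompl W U)
    (hWW : ∀ x ∈ W, ∀ y ∈ W, H x y = 0) (hUU : ∀ x ∈ U, ∀ y ∈ U, H x y = 0)
    (G : Subgroup GLn) (hG : G ≤ SUn)
    (hlow : ∀ g ∈ SUn, ((Max.img g W = W ∧ Max.img g U = U) ∨ (Max.img g W = U ∧ Max.img g U = W)) → g ∈ G)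
    (hhigh : ∀ g ∈ G, (Max.img g W = W ∧ Max.img g U = U) ∨ (Max.img g W = U ∧ Max.img g U = W)) :
    Cfsg.Geo.IsMaximalIn SUn G := by
  classical
  have hk5 : 2 ≤ k := by omega
  have himg : ∀ (g : GLn) {A B : Submodule F Vec}, Module.finrank F B = Module.finrank F A →
      (∀ a ∈ A, (g : Matrix Idx Idx F) *ᵥ a ∈ B) → Max.img g A = B := fun g A B hfr h => by
    refine Submodule.eq_of_le_of_finrank_eq (fun v hv => ?_) (by rw [Max.finrank_img, hfr])
    obtain ⟨a, ha, rfl⟩ := Max.mem_img.1 hv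
    exact h a ha
  obtain ⟨ζ, hζ0, hζ⟩ : ∃ ζ : F, ζ ≠ 0 ∧ ζ + ζ ^ q = 0 := by
    obtain ⟨θ, hθ⟩ : ∃ θ : F, θ - θ ^ q ≠ 0 := by
      by_contra hcon
      push Not at hcon
      exact HermStd.qHom_ne_id hF (RingHom.ext fun x => (sub_eq_zero.1 (hcon x)).symm)
    refine ⟨_, hθ, ?_⟩
    rw [← HermStd.qHom_apply hF (θ - θ ^ q), map_sub, HermStd.qHom_apply, HermStd.qHom_apply, pow_qq hF]
    ring
  refine isMaximalIn_of hG (fun hle => ?_) fun M hM hMK g hgM hg => ?_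
  · -- a transvection with centre in `W`
    obtain ⟨w, hw, hw0, -⟩ := exists_ne_zero_ker (V := W) (![] : Fin 0 → (Vec →ₗ[F] F)) (by omega)
    obtain ⟨u, hu, hwu⟩ : ∃ u ∈ U, H u w ≠ 0 := by
      by_contra hc
      push Not at hc
      refine hw0 (eq_zero_of_H hF fun v => ?_)
      obtain ⟨a, ha, b, hb, rfl⟩ := Submodule.mem_sup.1 (hC.sup_eq_top ▸ Submodule.mem_top : v ∈ W ⊔ U)
      rw [H_add_right hF, hWW w hw a ha, (H_eq_zero_comm hF).1 (hc b hb), add_zero]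
    obtain ⟨s, hs, hsx⟩ := Unitary.exists_tv hF (hWW w hw w hw) hζ
    have hsu : (s : Matrix Idx Idx F) *ᵥ u = u + (ζ * H u w) • w := hsx u
    have hmem : (s : Matrix Idx Idx F) *ᵥ u ∈ Max.img s U := Max.mulVec_mem_img hu
    rcases hhigh s (hle hs) with ⟨-, h2⟩ | ⟨-, h2⟩ <;> rw [h2, hsu] at hmem
    · have h3 : (ζ * H u w) • w ∈ U := by simpa using U.sub_mem hmem hu
      exact smul_ne_zero (mul_ne_zero hζ0 hwu) hw0 (Submodule.disjoint_def.1 hC.disjoint _ (W.smul_mem _ hw) h3)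
    · have h3 : u ∈ W := by simpa using W.sub_mem hmem (W.smul_mem (ζ * H u w) hw)
      exact hwu (hWW u h3 w hw)
  have hSg : ∀ a ∈ W, ∀ w ∈ U, H w a = 0 → SgZ q M a w := by
    intro a ha w hw hwa
    obtain ⟨s, hs, hsx⟩ := Unitary.exists_siegel hF (hWW a ha a ha) ((H_eq_zero_comm hF).1 hwa) (β := 0)
      (by simp [hUU w hw w hw, HermStd.one_lt_q hF, zero_pow (q_ne_zero hF)])
    have hsx' : ∀ x, (s : Matrix Idx Idx F) *ᵥ x = x + H x a • w + -H x w • a := fun x => by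
      rw [hsx, zero_mul, add_zero]
    refine ⟨hwa, hUU w hw w hw, s, hM (hlow s hs (Or.inl ⟨himg s rfl fun x hx => ?_, himg s rfl fun x hx => ?_⟩)),
      hsx'⟩
    · rw [hsx', hWW x hx a ha, zero_smul, add_zero]; exact W.add_mem hx (W.smul_mem _ ha)
    · rw [hsx', hUU x hx w hw, neg_zero, zero_smul, add_zero]; exact U.add_mem hx (U.smul_mem _ hw)
  have hP : Pair q k M W U := ⟨hF, hk5, hsmall, fun g hg h1 h2 => hM (hlow g hg (Or.inl ⟨h1, h2⟩)), hMK, hfW, hfU,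
    hC, hWW, hUU, hSg⟩
  -- one centre
  obtain ⟨w₀, hw₀0, hw₀, hw₀c⟩ : ∃ w, w ≠ 0 ∧ (w ∈ W ∨ w ∈ U) ∧ w ∈ Unitary.centres q M := by
    by_contra hcon
    have hA : ∀ a ∈ W, (g : Matrix Idx Idx F) *ᵥ a ∈ W ∨ (g : Matrix Idx Idx F) *ᵥ a ∈ U := fun a ha => by
      by_contra hc
      push Not at hc
      exact hcon (hP.exists_centre ha hgM hc.1 hc.2)
    have hB : ∀ a ∈ U, (g : Matrix Idx Idx F) *ᵥ a ∈ W ∨ (g : Matrix Idx Idx F) *ᵥ a ∈ U := fun a ha => by
      by_contra hc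
      push Not at hc
      obtain ⟨w, h0, h1, h2⟩ := hP.symm.exists_centre ha hgM hc.2 hc.1
      exact hcon ⟨w, h0, h1.symm, h2⟩
    have key : ∀ {A : Submodule F Vec}, Module.finrank F A = k →
        (∀ a ∈ A, (g : Matrix Idx Idx F) *ᵥ a ∈ W ∨ (g : Matrix Idx Idx F) *ᵥ a ∈ U) →
        Max.img g A = W ∨ Max.img g A = U := fun {A} hA' h => by
      rcases Max.le_or_le_of_forall (S := Max.img g A) (W := W) (U := U) (fun v hv => by
        obtain ⟨a, ha, rfl⟩ := Max.mem_img.1 hv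
        exact h a ha) with h1 | h1
      · exact Or.inl (Submodule.eq_of_le_of_finrank_eq h1 (by rw [Max.finrank_img, hA', hfW]))
      · exact Or.inr (Submodule.eq_of_le_of_finrank_eq h1 (by rw [Max.finrank_img, hA', hfU]))
    have hne : Max.img g W ≠ Max.img g U := fun e => by
      have h0 : W ≤ U := fun a ha => by
        obtain ⟨b, hb, hab⟩ := Max.mem_img.1 (e ▸ Max.mulVec_mem_img (g := g) ha)
        exact Max.mulVec_inj g hab ▸ hb
      have h2 : W = ⊥ := le_bot_iff.1 (hC.disjoint le_rfl h0)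
      rw [h2, finrank_bot] at hfW
      omega
    refine hg (hlow g (hMK hgM) ?_)
    rcases key hfW hA with h1 | h1 <;> rcases key hfU hB with h2 | h2
    · exact absurd (h1.trans h2.symm) hne
    · exact Or.inl ⟨h1, h2⟩
    · exact Or.inr ⟨h1, h2⟩
    · exact absurd (h1.trans h2.symm) hne
  -- transitivity
  have htrans : ∀ {A B : Submodule F Vec}, Pair q k M A B → ∀ w ∈ B, w ≠ 0 → w ∈ Unitary.centres q M →
      ∀ w' ∈ B, w' ∈ Unitary.centres q M := by
    intro A B hAB w hw hw0 hwc w' hw'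
    have step : ∀ p ∈ B, ∀ p' ∈ B, p ∉ Submodule.span F {p'} → p' ∉ Submodule.span F {p} →
        p ∈ Unitary.centres q M → p' ∈ Unitary.centres q M := by
      intro p hp p' hp' h1 h2 hpc
      obtain ⟨z₁, hz₁, hz₁', hz₁p⟩ := hAB.exists_dual hp hp' h1
      obtain ⟨z₂, hz₂, hz₂p, hz₂'⟩ := hAB.exists_dual hp' hp h2
      set b := (H z₁ p)⁻¹ • z₁ + (H z₂ p')⁻¹ • z₂ with hb
      have hbp : H b p = 1 := by
        rw [hb, H_add_left, H_smul_left, H_smul_left, inv_mul_cancel₀ hz₁p, hz₂p, mul_zero, add_zero]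
      have hbp' : H b p' = 1 := by
        rw [hb, H_add_left, H_smul_left, H_smul_left, hz₁', inv_mul_cancel₀ hz₂', mul_zero, zero_add]
      have hpb : H p b = 1 := by rw [← H_conj hF, hbp, one_pow]
      have hp'b : H p' b = 1 := by rw [← H_conj hF, hbp', one_pow]
      obtain ⟨-, -, s, hs, hsx⟩ := hAB.hSg b (A.add_mem (A.smul_mem _ hz₁) (A.smul_mem _ hz₂)) (p' - p)
        (B.sub_mem hp' hp) (by rw [H_sub_left, hp'b, hpb, sub_self])
      have e : (s : Matrix Idx Idx F) *ᵥ p = p' := by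
        rw [hsx, hpb, hAB.hUU p hp _ (B.sub_mem hp' hp), one_smul, neg_zero, zero_smul, add_zero, add_sub_cancel]
      exact e ▸ Unitary.centres_map hF hMK hs hpc
    by_cases hdep : w' ∈ Submodule.span F {w}
    · obtain ⟨t, rfl⟩ := Submodule.mem_span_singleton.1 hdep
      exact Unitary.centres_smul hF t hwc
    refine step w hw w' hw' (fun hm => hdep ?_) hdep hwc
    obtain ⟨t, ht⟩ := Submodule.mem_span_singleton.1 hm
    rcases eq_or_ne t 0 with rfl | ht0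
    · exact absurd (by rw [← ht, zero_smul]) hw0
    · exact Submodule.mem_span_singleton.2 ⟨t⁻¹, by rw [← ht, inv_smul_smul₀ ht0]⟩
  -- the swap
  obtain ⟨sw, hswG, hswW, hswU⟩ : ∃ s ∈ M, Max.img s W = U ∧ Max.img s U = W := by
    let b : Module.Basis (Fin k) F W := Module.finBasisOfFinrankEq F W hfW
    let L : U →ₗ[F] (Fin k → F) := (LinearMap.pi fun i => hlin q ((b i : W) : Vec)).domRestrict U
    have hL : Function.Injective L := by
      rw [injective_iff_map_eq_zero]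
      intro u hu
      refine Subtype.ext (hP.eq_zero u.2 fun w hw => (H_eq_zero_comm hF).1 ?_)
      have e : w = ((∑ i, (b.repr ⟨w, hw⟩) i • b i : W) : Vec) := by rw [b.sum_repr]
      rw [e, Submodule.coe_sum, H_sum_right hF]
      exact Finset.sum_eq_zero fun i _ => by
        rw [Submodule.coe_smul, H_smul_right, show H (u : Vec) (b i : Vec) = 0 from congrFun hu i, mul_zero]
    have hL' : Function.Surjective L := (LinearMap.injective_iff_surjective_of_finrank_eq_finrank (by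
      rw [hfU, Module.finrank_fintype_fun_eq_card, Fintype.card_fin])).1 hL
    choose c hc using fun i => hL' (Pi.single i 1)
    set β : Fin k → Vec := fun i => (b i : Vec) with hβ
    set γ : Fin k → Vec := fun i => (c i : Vec) with hγ
    have hγβ : ∀ i j, H (γ i) (β j) = (Pi.single i 1 : Fin k → F) j := fun i j => congrFun (hc i) j
    have hβγ : ∀ i j, H (β j) (γ i) = (Pi.single i 1 : Fin k → F) j := fun i j => by
      rw [← H_conj hF, hγβ]
      rcases eq_or_ne j i with rfl | hne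
      · simp
      · simp [hne, zero_pow (q_ne_zero hF)]
    have hββ : ∀ i j, H (β i) (β j) = 0 := fun i j => hWW _ (b i).2 _ (b j).2
    have hγγ : ∀ i j, H (γ i) (γ j) = 0 := fun i j => hUU _ (c i).2 _ (c j).2
    have hη : -ζ⁻¹ + (-ζ⁻¹) ^ q = 0 := by
      rw [← HermStd.qHom_apply hF, map_neg, map_inv₀, HermStd.qHom_apply, eq_neg_of_add_eq_zero_right hζ, inv_neg,
        neg_neg, neg_add_cancel]
    have key : ∀ S : Finset (Fin k), ∃ s ∈ SUn, ∀ i,
        (i ∈ S → (∃ l : F, (s : Matrix Idx Idx F) *ᵥ β i = l • γ i) ∧ ∃ l : F, (s : Matrix Idx Idx F) *ᵥ γ i = l • β i) ∧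
        (i ∉ S → (s : Matrix Idx Idx F) *ᵥ β i = β i ∧ (s : Matrix Idx Idx F) *ᵥ γ i = γ i) := by
      intro S
      induction S using Finset.induction with
      | empty => exact ⟨1, one_mem _, fun i => ⟨fun h => absurd h (Finset.notMem_empty i), fun _ => by simp⟩⟩
      | @insert j S hj ih =>
        obtain ⟨s, hs, hsi⟩ := ih
        obtain ⟨t, ht, htx⟩ := Unitary.exists_tv hF (hββ j j) hζ
        obtain ⟨t', ht', htx'⟩ := Unitary.exists_tv hF (hγγ j j) hη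
        have hb : ∀ i, (i = j → ((t * t' * t : GLn) : Matrix Idx Idx F) *ᵥ β i = -ζ⁻¹ • γ i ∧
              ((t * t' * t : GLn) : Matrix Idx Idx F) *ᵥ γ i = ζ • β i) ∧
            (i ≠ j → ((t * t' * t : GLn) : Matrix Idx Idx F) *ᵥ β i = β i ∧
              ((t * t' * t : GLn) : Matrix Idx Idx F) *ᵥ γ i = γ i) := by
          intro i
          constructor
          · rintro rfl
            constructor <;>
              simp only [Max.mulVec_mul_GL, htx, htx', H_add_left, H_smul_left, hββ, hγγ, hγβ, hβγ, Pi.single_eq_same,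
                mul_zero, mul_one, zero_smul, add_zero, zero_add] <;>
              match_scalars <;> field_simp <;> ring
          · intro hne
            simp only [Max.mulVec_mul_GL, htx, htx', hββ, hγγ, hγβ, hβγ, Pi.single_eq_of_ne hne, Pi.single_eq_of_ne hne.symm,
              mul_zero, zero_smul, add_zero, and_self]
        refine ⟨t * t' * t * s, mul_mem (mul_mem (mul_mem ht ht') ht) hs, fun i => ⟨fun hi => ?_, fun hi => ?_⟩⟩
        · rcases Finset.mem_insert.1 hi with rfl | hi'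
          · obtain ⟨h1, h2⟩ := (hsi i).2 hj
            rw [Max.mulVec_mul_GL, Max.mulVec_mul_GL (g := t * t' * t), h1, h2]
            exact ⟨⟨_, ((hb i).1 rfl).1⟩, ⟨_, ((hb i).1 rfl).2⟩⟩
          · obtain ⟨⟨l, h1⟩, ⟨l', h2⟩⟩ := (hsi i).1 hi'
            have hne : i ≠ j := fun e => hj (e ▸ hi')
            rw [Max.mulVec_mul_GL, Max.mulVec_mul_GL (g := t * t' * t), h1, h2, mulVec_smul, mulVec_smul,
              ((hb i).2 hne).1, ((hb i).2 hne).2]
            exact ⟨⟨l, rfl⟩, ⟨l', rfl⟩⟩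
        · rw [Finset.mem_insert, not_or] at hi
          obtain ⟨h1, h2⟩ := (hsi i).2 hi.2
          rw [Max.mulVec_mul_GL, Max.mulVec_mul_GL (g := t * t' * t), h1, h2]
          exact (hb i).2 hi.1
    obtain ⟨s, hs, hsi⟩ := key Finset.univ
    have hWU : Max.img s W = U := himg s (by rw [hfU, hfW]) fun w hw => by
      have e : w = ((∑ i, (b.repr ⟨w, hw⟩) i • b i : W) : Vec) := by rw [b.sum_repr]
      rw [e, Submodule.coe_sum, mulVec_sum]
      refine U.sum_mem fun i _ => ?_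
      rw [Submodule.coe_smul, mulVec_smul]
      obtain ⟨l, hl⟩ := ((hsi i).1 (Finset.mem_univ i)).1
      rw [show ((b i : W) : Vec) = β i from rfl, hl]
      exact U.smul_mem _ (U.smul_mem _ (c i).2)
    have hUW : Max.img s U = W := himg s (by rw [hfU, hfW]) fun u hu => by
      have e : u = ∑ i, L ⟨u, hu⟩ i • γ i := by
        have h1 : (⟨u, hu⟩ : U) = ∑ i, L ⟨u, hu⟩ i • c i := hL (by
          simp only [map_sum, map_smul, hc]
          exact pi_eq_sum_univ' _)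
        have h2 := congrArg Subtype.val h1
        simpa [hγ] using h2
      rw [e, mulVec_sum]
      refine W.sum_mem fun i _ => ?_
      rw [mulVec_smul]
      obtain ⟨l, hl⟩ := ((hsi i).1 (Finset.mem_univ i)).2
      rw [hl]
      exact W.smul_mem _ (W.smul_mem _ (b i).2)
    exact ⟨s, hM (hlow s hs (Or.inr ⟨hWU, hUW⟩)), hWU, hUW⟩
  have hboth : (∀ w ∈ W, w ∈ Unitary.centres q M) ∧ ∀ w ∈ U, w ∈ Unitary.centres q M := by
    have hmove : ∀ {A B : Submodule F Vec}, Max.img sw A = B → (∀ w ∈ A, w ∈ Unitary.centres q M) →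
        ∀ w ∈ B, w ∈ Unitary.centres q M := fun {A B} e h w hw => by
      rw [← e] at hw
      obtain ⟨a, ha, rfl⟩ := Max.mem_img.1 hw
      exact Unitary.centres_map hF hMK hswG (h a ha)
    rcases hw₀ with h | h
    · exact ⟨htrans hP.symm w₀ h hw₀0 hw₀c, hmove hswW (htrans hP.symm w₀ h hw₀0 hw₀c)⟩
    · exact ⟨hmove hswU (htrans hP w₀ h hw₀0 hw₀c), htrans hP w₀ h hw₀0 hw₀c⟩
  -- every isotropic vector
  refine Unitary.SUn_le_of_centres hF (by omega) fun v hv => ?_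
  obtain ⟨x, hx, y, hy, rfl⟩ := Submodule.mem_sup.1 (hC.sup_eq_top ▸ Submodule.mem_top : v ∈ W ⊔ U)
  have key : ∀ y ∈ U, ∀ z : Vec, z ∈ Unitary.centres q M → ∀ η : F, η + η ^ q = 0 →
      z + (η * H z y) • y ∈ Unitary.centres q M := fun y hy z hz η hη => by
    obtain ⟨t, -, htx⟩ := Unitary.exists_tv hF (hUU y hy y hy) hη
    have := Unitary.centres_map hF hMK ((hboth.2 y hy).2 t η hη htx) hz
    rwa [htx] at this
  have hsk : ∀ y ∈ U, H x y + H y x = 0 → H x y ≠ 0 → x + y ∈ Unitary.centres q M := fun y hy hs hne => by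
    have := key y hy x (hboth.1 x hx) (H x y)⁻¹ (by
      rw [inv_pow, H_conj hF, eq_neg_of_add_eq_zero_right hs, inv_neg, add_neg_cancel])
    rwa [inv_mul_cancel₀ hne, one_smul] at this
  have hc : H x y + H y x = 0 := by
    simpa [H_add_left, H_add_right hF, hWW x hx x hx, hUU y hy y hy, add_comm] using hv
  by_cases hxy : H x y = 0
  swap
  · exact hsk y hy hc hxy
  rcases eq_or_ne x 0 with rfl | hx0
  · rw [zero_add]; exact hboth.2 y hy
  obtain ⟨e, he, hxe, hex⟩ := hP.exists_pairing hx hx0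
  set y₁ := ζ ^ q • e with hy₁
  have h1 : H x y₁ = ζ := by rw [hy₁, H_smul_right, pow_qq hF, hxe, mul_one]
  have h2 : H y₁ x = ζ ^ q := by rw [hy₁, H_smul_left, hex, mul_one]
  have hz := hsk y₁ (U.smul_mem _ he) (by rw [h1, h2]; exact hζ) (by rw [h1]; exact hζ0)
  have := key (y - y₁) (U.sub_mem hy (U.smul_mem _ he)) _ hz (-ζ⁻¹) (by
    rw [← HermStd.qHom_apply hF, map_neg, map_inv₀, HermStd.qHom_apply, eq_neg_of_add_eq_zero_right hζ, inv_neg,
      neg_neg, neg_add_cancel])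
  have hy₁U : y₁ ∈ U := U.smul_mem _ he
  rw [H_add_left, H_sub_right hF, H_sub_right hF, hxy, h1, hUU y₁ hy₁U y hy, hUU y₁ hy₁U y₁ hy₁U] at this
  simp only [sub_self, add_zero, zero_sub, neg_mul_neg, inv_mul_cancel₀ hζ0, one_smul] at this
  rwa [add_add_sub_cancel] at this

/-- stabilisers of pairs of totally isotropic subspaces are maximal, dimension at least six -/
theorem pair_maximal (hF : Fintype.card F = q ^ 2) (hn : 6 ≤ n) (hk : 2 * k = n) (hfW : Module.finrank F W = k)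
    (hfU : Module.finrank F U = k) (hC : IsCompl W U)
    (hWW : ∀ x ∈ W, ∀ y ∈ W, H x y = 0) (hUU : ∀ x ∈ U, ∀ y ∈ U, H x y = 0)
    (G : Subgroup GLn) (hG : G ≤ SUn)
    (hlow : ∀ g ∈ SUn, ((Max.img g W = W ∧ Max.img g U = U) ∨ (Max.img g W = U ∧ Max.img g U = W)) → g ∈ G)
    (hhigh : ∀ g ∈ G, (Max.img g W = W ∧ Max.img g U = U) ∨ (Max.img g W = U ∧ Max.img g U = W)) :
    Cfsg.Geo.IsMaximalIn SUn G :=
  pair_maximal_of hF (by omega) (Or.inl (by omega)) hk hfW hfU hC hWW hUU G hG hlow hhigh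

end Cfsg.Agent.Forms.Max.UnitaryPair
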